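import Groth.Prelude.Def_SixF2
import Groth.Agent.H88.Hom.ExtCompare
import Mathlib.RingTheory.Flat.TorsionFree
import Mathlib.RingTheory.Flat.Equalizer
import Mathlib.RingTheory.TensorProduct.Maps
import Mathlib.Algebra.FreeAbelianGroup.Finsupp
import Mathlib.Algebra.Category.Grp.Adjunctions
import Mathlib.CategoryTheory.Sites.Adjunction

/-!
# Sheaves of modules and their underlying abelian sheaves: comparison of cohomology
-/

set_option autoImplicit false
set_option linter.style.haveILetI false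

universe u

open CategoryTheory CategoryTheory.Limits AlgebraicGeometry Opposite TensorProduct

noncomputable section

namespace Groth.Agent.H88.EtMod.AbCompare

/-- Torsion free modules over `ℤ` after base change: left exactness. -/
theorem lTensor_injective {M N P : Type*} [AddCommGroup M] [AddCommGroup N] [AddCommGroup P]
    (T : Type*) [AddCommGroup T] (f : M →ₗ[ℤ] N) (g : N →ₗ[ℤ] P) (hf : Function.Injective f)
    (H : Function.Exact f g) (htf : ∀ k : ℤ, k ≠ 0 → Function.Injective fun x : P => k • x) :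
    Function.Injective (f.lTensor T) := by
  haveI : Module.IsTorsionFree ℤ (LinearMap.range g) :=
    ⟨fun k hk x y h => Subtype.ext (htf k (isRegular_iff_ne_zero.1 hk)
      (congrArg Subtype.val h))⟩
  exact LinearMap.lTensor_injective_of_exact_of_flat g.rangeRestrict g.surjective_rangeRestrict f hf
    (fun y => by rw [← H y]; exact Subtype.ext_iff) T

variable (Λ : Type (u + 1)) [CommRing Λ]

/-- `G ↦ Λ ⊗ G`. -/
def extend : AddCommGrpCat.{u + 1} ⥤ ModuleCat.{u + 1} Λ where
  obj G := ModuleCat.of Λ (Λ ⊗[ℤ] G)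
  map φ := ModuleCat.ofHom (φ.hom.toIntLinearMap.baseChange Λ)
  map_id G := by
    ext : 1
    exact LinearMap.baseChange_id
  map_comp φ ψ := by
    ext : 1
    exact LinearMap.baseChange_comp (f := φ.hom.toIntLinearMap) ψ.hom.toIntLinearMap

/-- `Λ ⊗ -` is left adjoint to the forgetful functor. -/
def extendAdj : extend Λ ⊣ forget₂ (ModuleCat.{u + 1} Λ) AddCommGrpCat.{u + 1} :=
  Adjunction.mkOfHomEquiv
    { homEquiv := fun G M =>
        { toFun := fun φ => AddCommGrpCat.ofHom
            (φ.hom.toAddMonoidHom.comp ((TensorProduct.mk ℤ Λ G 1).toAddMonoidHom))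
          invFun := fun ψ => ModuleCat.ofHom
            (LinearMap.liftBaseChange Λ (N := M) ψ.hom.toIntLinearMap)
          left_inv := fun φ => by
            ext : 1
            refine TensorProduct.AlgebraTensorModule.ext fun a x => ?_
            let φ' : Λ ⊗[ℤ] G →ₗ[Λ] M := φ.hom
            refine (φ'.map_smul a ((1 : Λ) ⊗ₜ[ℤ] x)).symm.trans (congrArg φ' ?_)
            rw [TensorProduct.smul_tmul', smul_eq_mul, mul_one]
          right_inv := fun ψ => by
            ext x
            exact one_smul Λ _ }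
      homEquiv_naturality_left_symm := fun φ ψ => by
        ext : 1
        refine TensorProduct.AlgebraTensorModule.ext fun a x => ?_
        rfl
      homEquiv_naturality_right := fun φ ψ => by
        ext x
        rfl }

variable {X : Scheme.{u}}

/-- Torsion free abelian sheaves. -/
def TF (F : EtCoh.Ab X) : Prop :=
  ∀ (U : X.Etaleᵒᵖ) (k : ℤ), k ≠ 0 → Function.Injective fun x : F.obj.obj U => k • x

theorem tf_of_mono {F G : EtCoh.Ab X} (i : F ⟶ G) [Mono i] (hG : TF G) : TF F := by
  intro U k hk x y h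
  haveI : Mono (i.hom.app U) :=
    inferInstanceAs (Mono ((sheafToPresheaf _ _ ⋙ (evaluation _ _).obj U).map i))
  have hinj := (AddCommGrpCat.mono_iff_injective (i.hom.app U)).1 inferInstance
  apply hinj
  apply hG U k hk
  change k • (i.hom.app U).hom x = k • (i.hom.app U).hom y
  rw [← map_zsmul, ← map_zsmul]
  exact congrArg _ h

theorem tf_presheafToSheaf (P : X.Etaleᵒᵖ ⥤ AddCommGrpCat.{u + 1})
    (hP : ∀ (U : X.Etaleᵒᵖ) (k : ℤ), k ≠ 0 → Function.Injective fun x : P.obj U => k • x) :
    TF ((presheafToSheaf X.smallEtaleTopology AddCommGrpCat.{u + 1}).obj P) := by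
  intro U k hk
  haveI : ∀ V, Mono ((k • 𝟙 P : P ⟶ P).app V) := fun V => by
    rw [AddCommGrpCat.mono_iff_injective]
    exact hP V k hk
  haveI : Mono (k • 𝟙 P) := NatTrans.mono_of_mono_app _
  let S := presheafToSheaf X.smallEtaleTopology AddCommGrpCat.{u + 1}
  haveI : Mono (S.map (k • 𝟙 P)) := inferInstance
  rw [S.map_zsmul, S.map_id] at *
  haveI : Mono ((k • 𝟙 (S.obj P) : S.obj P ⟶ S.obj P).hom.app U) :=
    inferInstanceAs (Mono ((sheafToPresheaf _ _ ⋙ (evaluation _ _).obj U).map (k • 𝟙 (S.obj P))))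
  exact (AddCommGrpCat.mono_iff_injective ((k • 𝟙 (S.obj P) : S.obj P ⟶ S.obj P).hom.app U)).1
    inferInstance

theorem exists_tf_epi (G : EtCoh.Ab X) : ∃ (P : EtCoh.Ab X) (p : P ⟶ G), Epi p ∧ TF P := by
  let J := X.smallEtaleTopology
  let ψ : G.obj ⋙ forget AddCommGrpCat.{u + 1} ⋙ AddCommGrpCat.free ⟶ G.obj :=
    Functor.whiskerLeft G.obj AddCommGrpCat.adj.counit ≫ G.obj.rightUnitor.hom
  have hψ : Epi ψ := by
    haveI : ∀ V, Epi (ψ.app V) := fun V => by
      rw [AddCommGrpCat.epi_iff_surjective]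
      intro x
      refine ⟨FreeAbelianGroup.of x, ?_⟩
      change FreeAbelianGroup.lift id (FreeAbelianGroup.of x) = x
      exact FreeAbelianGroup.lift_apply_of id x
    exact NatTrans.epi_of_epi_app _
  haveI : Epi ((presheafToSheaf J AddCommGrpCat.{u + 1}).map ψ) := Functor.map_epi _ _
  haveI : IsIso ((sheafificationAdjunction J AddCommGrpCat.{u + 1}).counit.app G) := inferInstance
  refine ⟨(presheafToSheaf J _).obj _, (presheafToSheaf J AddCommGrpCat.{u + 1}).map ψ ≫
    (sheafificationAdjunction J _).counit.app G, @epi_comp _ _ _ _ _ _ inferInstance _ inferInstance, tf_presheafToSheaf _ ?_⟩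
  intro U k hk x y h
  apply (FreeAbelianGroup.equivFinsupp _).injective
  refine smul_right_injective _ hk ?_
  exact ((map_zsmul (FreeAbelianGroup.equivFinsupp _) k x).symm.trans
    (congrArg (FreeAbelianGroup.equivFinsupp _) h)).trans
    (map_zsmul (FreeAbelianGroup.equivFinsupp _) k y)

theorem mono_extend_map (S : ShortComplex (EtCoh.Ab X)) (hS : S.ShortExact) (h3 : TF S.X₃) :
    Mono ((Sheaf.composeAndSheafify X.smallEtaleTopology (extend Λ)).map S.f) := by
  let J := X.smallEtaleTopology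
  haveI : ∀ U, Mono ((Functor.whiskerRight S.f.hom (extend Λ)).app U) := fun U => by
    rw [ModuleCat.mono_iff_injective]
    have hS' := ((hS.exact.map_of_mono_of_preservesKernel
      (sheafToPresheaf J _ ⋙ (evaluation _ _).obj U) hS.mono_f inferInstance))
    rw [ShortComplex.ab_exact_iff_function_exact] at hS'
    haveI := hS.mono_f
    haveI : Mono (S.f.hom.app U) :=
      inferInstanceAs (Mono ((sheafToPresheaf J _ ⋙ (evaluation _ _).obj U).map S.f))
    exact lTensor_injective Λ (S.f.hom.app U).hom.toIntLinearMap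
      (S.g.hom.app U).hom.toIntLinearMap
      ((AddCommGrpCat.mono_iff_injective (S.f.hom.app U)).1 inferInstance) hS' (h3 U)
  haveI : Mono (Functor.whiskerRight S.f.hom (extend Λ)) := NatTrans.mono_of_mono_app _
  exact inferInstanceAs (Mono ((presheafToSheaf J (ModuleCat.{u + 1} Λ)).map
    (Functor.whiskerRight S.f.hom (extend Λ))))

theorem bijective_intToConstΛ (M : EtModW.Mod Λ X) :
    Function.Bijective fun g : EtSix.constΛ Λ X ⟶ M =>
      EtSix.intToConstΛ Λ X ≫ (EtModD.forgetToAb Λ X).map g := by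
  let e₁ := (EtSix.constModAdj Λ X).homEquiv (ModuleCat.of Λ Λ) M
  let e₂ := (EtCore.constAdj X).homEquiv (AddCommGrpCat.of (ULift.{u + 1} ℤ))
    ((EtModD.forgetToAb Λ X).obj M)
  let ev : (ModuleCat.of Λ Λ ⟶ (EtSix.gsecMod Λ X).obj M) ≃
      (AddCommGrpCat.of (ULift.{u + 1} ℤ) ⟶ (EtCore.gsec X).obj ((EtModD.forgetToAb Λ X).obj M)) :=
    { toFun := fun ψ => AddCommGrpCat.ofHom
        ((zmultiplesHom _ (ψ.hom (1 : Λ))).comp (AddEquiv.ulift (α := ℤ)).toAddMonoidHom)
      invFun := fun φ => ModuleCat.ofHom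
        (LinearMap.toSpanSingleton Λ ((EtSix.gsecMod Λ X).obj M) (φ.hom ⟨1⟩))
      left_inv := fun ψ => by
        ext
        change (1 : Λ) • ((1 : ℤ) • ψ.hom (1 : Λ)) = ψ.hom (1 : Λ)
        rw [one_smul, one_zsmul]
      right_inv := fun φ => by
        ext ⟨k⟩
        refine (congrArg (fun z => k • z)
          (one_smul Λ (show ↥((EtSix.gsecMod Λ X).obj M) from φ.hom ⟨1⟩))).trans ?_
        refine (map_zsmul φ.hom k (⟨1⟩ : ULift.{u + 1} ℤ)).symm.trans ?_
        congr 1
        ext
        simp }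
  suffices h : (fun g : EtSix.constΛ Λ X ⟶ M =>
      EtSix.intToConstΛ Λ X ≫ (EtModD.forgetToAb Λ X).map g) = e₂.symm ∘ ev ∘ e₁ by
    rw [h]
    exact e₂.symm.bijective.comp (ev.bijective.comp e₁.bijective)
  funext g
  apply e₂.injective
  simp only [Function.comp_apply, Equiv.apply_symm_apply]
  unfold EtSix.intToConstΛ
  rw [show e₂ (((EtCore.constAdj X).homEquiv _ _).symm (EtSix.oneSection Λ X) ≫
      (EtModD.forgetToAb Λ X).map g) =
      EtSix.oneSection Λ X ≫ (EtCore.gsec X).map ((EtModD.forgetToAb Λ X).map g) by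
    simp [e₂, Adjunction.homEquiv_naturality_right]]
  ext ⟨k⟩
  change (g.hom.app _).hom (k • ((EtSix.constModAdj Λ X).unit.app (ModuleCat.of Λ Λ)).hom (1 : Λ)) =
    k • (e₁ g).hom (1 : Λ)
  rw [map_zsmul]
  rfl

theorem tf_int : TF ((constantSheaf X.smallEtaleTopology AddCommGrpCat.{u + 1}).obj
    (AddCommGrpCat.of (ULift.{u + 1} ℤ))) :=
  tf_presheafToSheaf _ fun _ k hk x y h => ULift.ext _ _
    (mul_left_cancel₀ hk (congrArg ULift.down h))

theorem HModToH_bijective [PreservesFiniteLimits (EtModD.forgetToAb Λ X)]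
    [PreservesFiniteColimits (EtModD.forgetToAb Λ X)] [(EtModD.forgetToAb Λ X).Additive]
    (F : EtModW.Mod Λ X) (n : ℕ) : Function.Bijective (EtSix.HModToH Λ F n) :=
  Groth.Agent.H88.Hom.ExtCompare.bijective_comparison
    (Sheaf.adjunction X.smallEtaleTopology (extendAdj Λ)) TF exists_tf_epi
    (fun i _ h => tf_of_mono i h) (mono_extend_map Λ) tf_int (EtSix.intToConstΛ Λ X)
    (bijective_intToConstΛ Λ) n F

end Groth.Agent.H88.EtMod.AbCompare
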