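import Groth.Agent.H88.EtMod.Tensor
import Mathlib.CategoryTheory.Adjunction.Whiskering
import Mathlib.Algebra.Category.ModuleCat.Adjunctions
import Mathlib.Algebra.Category.ModuleCat.Monoidal.Basic
import Mathlib.Algebra.Category.ModuleCat.EpiMono
import Mathlib.Algebra.Homology.ShortComplex.ExactFunctor
import Mathlib.LinearAlgebra.FreeModule.Basic
import Mathlib.RingTheory.Flat.Basic

/-!
Free sheaves of `Λ`-modules on the objects of a small étale site: they represent sections,
separate, and are flat for the tensor product.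
-/

universe u

open CategoryTheory CategoryTheory.Limits MonoidalCategory AlgebraicGeometry Opposite

namespace Groth.Agent.H88.EtMod.Free

variable (Λ : Type (u + 1)) [CommRing Λ] {X : Scheme.{u}}

/-- The free presheaf of modules on an object. -/
noncomputable def freePre (U : X.Etale) : X.Etaleᵒᵖ ⥤ ModuleCat.{u + 1} Λ :=
  uliftYoneda.{u + 1}.obj U ⋙ ModuleCat.free Λ

/-- The free sheaf of modules on an object. -/
noncomputable def free (U : X.Etale) : EtModW.Mod Λ X :=
  (presheafToSheaf X.smallEtaleTopology (ModuleCat.{u + 1} Λ)).obj (freePre Λ U)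

variable {Λ}

/-- Maps out of the free presheaf are sections. -/
noncomputable def evPre {U : X.Etale} {P : X.Etaleᵒᵖ ⥤ ModuleCat.{u + 1} Λ} :
    (freePre Λ U ⟶ P) ≃ P.obj (op U) :=
  (((ModuleCat.adj Λ).whiskerRight X.Etaleᵒᵖ).homEquiv
      (uliftYoneda.{u + 1}.obj U) P).trans uliftYonedaEquiv

lemma evPre_comp {U : X.Etale} {P Q : X.Etaleᵒᵖ ⥤ ModuleCat.{u + 1} Λ} (φ : freePre Λ U ⟶ P)
    (ψ : P ⟶ Q) : evPre (φ ≫ ψ) = ψ.app (op U) (evPre φ) := by
  change uliftYonedaEquiv (((ModuleCat.adj Λ).whiskerRight X.Etaleᵒᵖ).homEquiv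
    (uliftYoneda.{u + 1}.obj U) Q (φ ≫ ψ)) = _
  erw [Adjunction.homEquiv_naturality_right, uliftYonedaEquiv_comp]

/-- Maps out of the free sheaf are sections. -/
noncomputable def ev {U : X.Etale} {F : EtModW.Mod Λ X} :
    (free Λ U ⟶ F) ≃ F.obj.obj (op U) :=
  ((sheafificationAdjunction X.smallEtaleTopology (ModuleCat.{u + 1} Λ)).homEquiv _ F).trans evPre

lemma ev_comp {U : X.Etale} {F G : EtModW.Mod Λ X} (φ : free Λ U ⟶ F) (ψ : F ⟶ G) :
    ev (φ ≫ ψ) = ψ.hom.app (op U) (ev φ) := by
  refine Eq.trans (b := evPre (((sheafificationAdjunction X.smallEtaleTopology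
    (ModuleCat.{u + 1} Λ)).homEquiv (freePre Λ U) F φ) ≫ ψ.hom)) ?_ (evPre_comp _ _)
  exact congrArg evPre
    ((sheafificationAdjunction X.smallEtaleTopology _).homEquiv_naturality_right φ ψ)

lemma ev_zero {U : X.Etale} {F : EtModW.Mod Λ X} : ev (0 : free Λ U ⟶ F) = 0 := by
  have h := ev_comp (𝟙 (free Λ U)) (0 : free Λ U ⟶ F)
  rw [Category.id_comp] at h
  rw [h]
  rfl

/-- Functoriality of free presheaves. -/
noncomputable def freePreMap {V U : X.Etale} (g : V ⟶ U) : freePre Λ V ⟶ freePre Λ U :=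
  Functor.whiskerRight (uliftYoneda.{u + 1}.map g) (ModuleCat.free Λ)

/-- Functoriality of free sheaves. -/
noncomputable def freeMap {V U : X.Etale} (g : V ⟶ U) : free Λ V ⟶ free Λ U :=
  (presheafToSheaf X.smallEtaleTopology (ModuleCat.{u + 1} Λ)).map (freePreMap g)

lemma evPre_freePreMap {V U : X.Etale} (g : V ⟶ U) {P : X.Etaleᵒᵖ ⥤ ModuleCat.{u + 1} Λ}
    (φ : freePre Λ U ⟶ P) : evPre (freePreMap g ≫ φ) = P.map g.op (evPre φ) := by
  change uliftYonedaEquiv (((ModuleCat.adj Λ).whiskerRight X.Etaleᵒᵖ).homEquiv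
    (uliftYoneda.{u + 1}.obj V) P (freePreMap g ≫ φ)) = _
  erw [Adjunction.homEquiv_naturality_left]
  exact (uliftYonedaEquiv_naturality (X := op U) (Y := op V) _ g.op).symm

lemma ev_freeMap {V U : X.Etale} (g : V ⟶ U) {F : EtModW.Mod Λ X} (φ : free Λ U ⟶ F) :
    ev (freeMap g ≫ φ) = F.obj.map g.op (ev φ) := by
  refine Eq.trans (b := evPre (freePreMap g ≫ (sheafificationAdjunction X.smallEtaleTopology
    (ModuleCat.{u + 1} Λ)).homEquiv (freePre Λ U) F φ)) ?_ (evPre_freePreMap g _)
  exact congrArg evPre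
    ((sheafificationAdjunction X.smallEtaleTopology _).homEquiv_naturality_left (freePreMap g) φ)

lemma isSeparating : ObjectProperty.IsSeparating
    (ObjectProperty.ofObj fun U : X.Etale => free Λ U) := by
  intro F G φ ψ h
  apply Sheaf.hom_ext
  apply NatTrans.ext
  funext U
  apply ModuleCat.hom_ext
  apply LinearMap.ext
  intro s
  obtain ⟨U⟩ := U
  obtain ⟨θ, rfl⟩ := (ev (U := U) (F := F)).surjective s
  change φ.hom.app (op U) (ev θ) = ψ.hom.app (op U) (ev θ)
  rw [← ev_comp, ← ev_comp, h _ ⟨U⟩ θ]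

instance free_preE_flat (U : X.Etale) (V : X.Etaleᵒᵖ) :
    Module.Flat Λ ((freePre Λ U).obj V) := by
  change Module.Flat Λ ((uliftYoneda.{u + 1}.obj U).obj V →₀ Λ)
  infer_instance

/-- Tensoring with a sectionwise flat presheaf preserves finite limits. -/
lemma preservesFiniteLimits_tensorLeft (P : X.Etaleᵒᵖ ⥤ ModuleCat.{u + 1} Λ)
    [∀ V, Module.Flat Λ (P.obj V)] : PreservesFiniteLimits (tensorLeft P) := by
  haveI : (tensorLeft P).Additive :=
    ⟨fun {Q Q' f g} => by ext V : 2; exact MonoidalPreadditive.whiskerLeft_add _ _⟩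
  haveI : (tensorLeft P).IsLeftAdjoint :=
    (MonoidalClosed.FunctorCategory.adj P).isLeftAdjoint
  have this : PreservesFiniteColimits (tensorLeft P) := inferInstance
  rw [Functor.preservesFiniteLimits_iff_forall_exact_map_and_mono]
  intro S hS
  have hc : ∀ T : ShortComplex (X.Etaleᵒᵖ ⥤ ModuleCat.{u + 1} Λ), T.ShortExact →
      (T.map (tensorLeft P)).Exact ∧ Epi ((tensorLeft P).map T.g) :=
    ((Functor.preservesFiniteColimits_tfae (tensorLeft P)).out 3 0).1 this
  refine ⟨(hc S hS).1, ?_⟩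
  haveI := hS.mono_f
  haveI : ∀ V, Mono (((tensorLeft P).map S.f).app V) := fun V => by
    rw [ModuleCat.mono_iff_injective]
    exact Module.Flat.lTensor_preserves_injective_linearMap (M := P.obj V) (S.f.app V).hom
      ((ModuleCat.mono_iff_injective _).1 inferInstance)
  exact NatTrans.mono_of_mono_app _

instance preservesFiniteLimits_tensor_free (U : X.Etale) :
    PreservesFiniteLimits ((EtModD.tensorBi Λ X).obj (free Λ U)) := by
  haveI := preservesFiniteLimits_tensorLeft (freePre Λ U)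
  haveI : PreservesFiniteLimits (sheafToPresheaf X.smallEtaleTopology (ModuleCat.{u + 1} Λ) ⋙
      tensorLeft (freePre Λ U) ⋙ presheafToSheaf X.smallEtaleTopology (ModuleCat.{u + 1} Λ)) := by
    haveI := comp_preservesFiniteLimits (tensorLeft (freePre Λ U))
      (presheafToSheaf X.smallEtaleTopology (ModuleCat.{u + 1} Λ))
    exact comp_preservesFiniteLimits _ _
  exact preservesFiniteLimits_of_natIso (Tensor.tensorSheafifyNatIso (freePre Λ U)).symm

instance preservesFiniteColimits_tensor (F : EtModW.Mod Λ X) :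
    PreservesFiniteColimits ((EtModD.tensorBi Λ X).obj F) := inferInstance

instance preservesFiniteLimits_tensor_free_flip (U : X.Etale) :
    PreservesFiniteLimits ((EtModD.tensorBi Λ X).flip.obj (free Λ U)) :=
  preservesFiniteLimits_of_natIso (Tensor.flipIso.app (free Λ U)).symm

end Groth.Agent.H88.EtMod.Free
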