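import Groth.Agent.H88.EtMod.LocConst
import Groth.Agent.H88.EtMod.Free
import Groth.Agent.Lib.Spectral.Basic
import Mathlib.CategoryTheory.Sites.EpiMono

/-!
A constructible sheaf of modules is generated by finitely many sections over affine étale schemes.
-/

set_option autoImplicit false
set_option linter.style.haveILetI false

universe u

open CategoryTheory CategoryTheory.Limits AlgebraicGeometry Opposite Topology

noncomputable section

namespace Groth.Agent.H88.EtMod.FiniteGen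

open Groth.Agent.Lib.EtSite Groth.Agent.Lib.EtSite.Basic

variable {Λ : Type (u + 1)} [CommRing Λ] {X : Scheme.{u}}

/-- A section of a sheaf over an affine étale scheme. -/
structure Gen (F : EtModW.Mod Λ X) where
  /-- The étale scheme. -/
  V : X.Etale
  isAffine : IsAffine V.left
  /-- The section, as a map out of the free sheaf. -/
  θ : Free.free Λ V ⟶ F

variable {F : EtModW.Mod Λ X}

/-- The map from the sum of free sheaves given by a finite family of sections. -/
def desc {m : ℕ} (L : Fin m → Gen F) : (∐ fun k => Free.free Λ (L k).V) ⟶ F :=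
  Sigma.desc fun k => (L k).θ

/-- The sections generate a stalk over `x`. -/
def Good {m : ℕ} (L : Fin m → Gen F) (x : X) : Prop :=
  ∃ (Ω : Type u) (_ : Field Ω) (_ : IsSepClosed Ω) (ξ : Spec (CommRingCat.of Ω) ⟶ X),
    ξ.base default = x ∧ LocConst.SurjAt (desc L) ξ

theorem good_comp {m n : ℕ} {L : Fin m → Gen F} (f : Fin n → Fin m) {x : X}
    (h : Good (L ∘ f) x) : Good L x := by
  obtain ⟨Ω, hΩ, hΩ', ξ, hξ, h⟩ := h
  refine ⟨Ω, hΩ, hΩ', ξ, hξ, LocConst.surjAt_of_comp
    (Sigma.desc fun k => Sigma.ι (fun k => Free.free Λ (L k).V) (f k)) (desc L) ?_⟩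
  have : (Sigma.desc fun k => Sigma.ι (fun k => Free.free Λ (L k).V) (f k)) ≫ desc L = desc (L ∘ f) :=
    Sigma.hom_ext _ _ fun k => by simp [desc]
  exact this.symm ▸ h

/-- An affine open neighbourhood of a point of an étale scheme, as an étale scheme. -/
theorem exists_affine_nhd (V : X.Etale) (v : V.left) :
    ∃ (W : X.Etale) (g : W ⟶ V) (w : W.left), g.left.base w = v ∧ IsAffine W.left := by
  obtain ⟨_, ⟨(O : V.left.Opens), hO, rfl⟩, hv, -⟩ :=
    V.left.isBasis_affineOpens.exists_subset_of_mem_open (Set.mem_univ v) isOpen_univ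
  haveI : Etale V.hom := V.prop
  refine ⟨Scheme.Etale.mk (O.ι ≫ V.hom), MorphismProperty.Over.homMk O.ι rfl, ⟨v, hv⟩, rfl, ?_⟩
  exact hO

/-- The germ of the section is in the image of the stalk map. -/
theorem germ_eq {V : X.Etale} (θ : Free.free Λ V ⟶ F) {Ω : Type u} [Field Ω] [IsSepClosed Ω]
    (ξ : Spec (CommRingCat.of Ω) ⟶ X) (p : (Scheme.pointSmallEtale ξ).fiber.obj V) :
    (Scheme.pointSmallEtale ξ).sheafFiber.map θ
        ((Scheme.pointSmallEtale ξ).toPresheafFiber V p (Free.free Λ V).obj (Free.ev (𝟙 _))) =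
      (Scheme.pointSmallEtale ξ).toPresheafFiber V p F.obj (Free.ev θ) := by
  refine ((Scheme.pointSmallEtale ξ).toPresheafFiber_naturality_apply θ.hom V p _).trans ?_
  refine congrArg _ ?_
  exact (Free.ev_comp (𝟙 _) θ).symm.trans (by rw [Category.id_comp])

/-- Finitely generated stalks are generated by sections over affine étale schemes. -/
theorem exists_surjAt {Ω : Type u} [Field Ω] [IsSepClosed Ω] (ξ : Spec (CommRingCat.of Ω) ⟶ X)
    {r : ℕ} (z : Fin r → ↥((Scheme.pointSmallEtale ξ).sheafFiber.obj F))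
    (hz : Submodule.span Λ (Set.range z) = ⊤) :
    ∃ L : Fin r → Gen F, LocConst.SurjAt (desc L) ξ := by
  have key : ∀ j, ∃ (L : Gen F) (p : (Scheme.pointSmallEtale ξ).fiber.obj L.V),
      (Scheme.pointSmallEtale ξ).toPresheafFiber L.V p F.obj (Free.ev L.θ) = z j := by
    intro j
    obtain ⟨V, q, s, hs⟩ := (Scheme.pointSmallEtale ξ).toPresheafFiber_jointly_surjective (z j)
    obtain ⟨W, g, w, hw, hW⟩ := exists_affine_nhd V (fiberPt q)
    obtain ⟨p, hp, -⟩ := Fiber.exists_fiber_map ξ g q w hw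
    refine ⟨⟨W, hW, Free.ev.symm (F.obj.map g.op s)⟩, p, ?_⟩
    rw [Equiv.apply_symm_apply, ← hs, ← hp]
    exact GrothendieckTopology.Point.toPresheafFiber_w_apply _ g p F.obj s
  choose L p hp using key
  refine ⟨L, ?_⟩
  let ψ := ((Scheme.pointSmallEtale ξ).sheafFiber.map (desc L)).hom
  intro y
  change y ∈ LinearMap.range ψ
  have hy : y ∈ Submodule.span Λ (Set.range z) := hz.symm ▸ Submodule.mem_top
  refine Submodule.span_le.2 ?_ hy
  rintro _ ⟨j, rfl⟩
  refine ⟨(Scheme.pointSmallEtale ξ).sheafFiber.map (Sigma.ι (fun k => Free.free Λ (L k).V) j)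
    ((Scheme.pointSmallEtale ξ).toPresheafFiber (L j).V (p j) (Free.free Λ (L j).V).obj (Free.ev (𝟙 _))), ?_⟩
  refine Eq.trans ?_ (hp j)
  refine Eq.trans ?_ (germ_eq (L j).θ ξ (p j))
  change (Scheme.pointSmallEtale ξ).sheafFiber.map (desc L) _ = _
  rw [← ConcreteCategory.comp_apply, ← Functor.map_comp]
  simp only [desc, Sigma.ι_desc]

/-- Around a point of a stratum on which the sheaf is locally constant of finite type. -/
theorem exists_good_nhd {T : Scheme.{u}} (g : T ⟶ X)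
    (hT : EtModW.IsFTLocConst Λ ((EtModW.pull Λ g).obj F)) (t : T) :
    ∃ (m : ℕ) (L : Fin m → Gen F) (W : Set T), IsOpen W ∧ t ∈ W ∧ ∀ s ∈ W, Good L (g.base s) := by
  let ξ := geomPoint T t
  obtain ⟨r, z, hz⟩ := LocConst.exists_generators g F hT ξ
  obtain ⟨L, hL⟩ := exists_surjAt (ξ ≫ g) z hz
  haveI : HasLimitsOfSize.{u, u} (ModuleCat.{u + 1} Λ) := hasLimitsOfSizeShrink.{u, u, u + 1, u + 1} _
  haveI : HasColimitsOfSize.{u, u} (ModuleCat.{u + 1} Λ) :=
    hasColimitsOfSizeShrink.{u, u, u + 1, u + 1} _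
  have hiff : ∀ {Ω : Type u} [Field Ω] [IsSepClosed Ω] (η : Spec (CommRingCat.of Ω) ⟶ T),
      LocConst.SurjAt ((EtModW.pull Λ g).map (desc L)) η ↔ LocConst.SurjAt (desc L) (η ≫ g) := by
    intro Ω _ _ η
    unfold LocConst.SurjAt
    rw [← ModuleCat.epi_iff_surjective, ← ModuleCat.epi_iff_surjective]
    exact (MorphismProperty.epimorphisms _).arrow_mk_iso_iff
      (Arrow.isoMk ((Pull.stalkPullIso.{u} g η (ModuleCat.{u + 1} Λ)).app _)
        ((Pull.stalkPullIso.{u} g η (ModuleCat.{u + 1} Λ)).app _)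
        ((Pull.stalkPullIso.{u} g η (ModuleCat.{u + 1} Λ)).hom.naturality (desc L)).symm)
  obtain ⟨W, hW, htW, hgood⟩ := LocConst.exists_open_surjAt hT _ ξ ((hiff ξ).2 hL)
  refine ⟨r, L, W, hW, by simpa [ξ, geomPoint_apply] using htW, fun s hs => ?_⟩
  refine ⟨_, inferInstance, inferInstance, geomPoint T s ≫ g, ?_, (hiff _).1 (hgood _ _ ?_)⟩
  · exact congrArg g.base (geomPoint_apply s default)
  · rw [geomPoint_apply]; exact hs

/-- Finitely many families may be combined. -/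
theorem exists_combine {ι : Type*} [Finite ι] {m : ι → ℕ} (L : ∀ i, Fin (m i) → Gen F) :
    ∃ (n : ℕ) (L' : Fin n → Gen F), ∀ i x, Good (L i) x → Good L' x := by
  obtain ⟨_⟩ := nonempty_fintype ι
  let e := Fintype.equivFin (Σ i, Fin (m i))
  refine ⟨_, fun k => L (e.symm k).1 (e.symm k).2, fun i x h => good_comp (fun k => e ⟨i, k⟩) ?_⟩
  have heq : (fun k => L (e.symm k).1 (e.symm k).2) ∘ (fun k => e ⟨i, k⟩) = L i := by
    funext k
    simp only [Function.comp_apply]
    rw [Equiv.symm_apply_apply]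
  exact heq.symm ▸ h

/-- On an affine open. -/
theorem exists_gen_affine (hF : EtModW.IsConstructible Λ F) (U : X.Opens) (hU : IsAffineOpen U) :
    ∃ (m : ℕ) (L : Fin m → Gen F), ∀ x ∈ U, Good L x := by
  classical
  obtain ⟨n, T, g, hg, hc, -, hun, hlc⟩ := hF U hU
  haveI : IsAffine (U : Scheme.{u}) := hU
  haveI : CompactSpace ↥(U : Set X) := inferInstanceAs (CompactSpace (U : Scheme.{u}))
  haveI : QuasiSober ↥(U : Set X) := inferInstanceAs (QuasiSober (U : Scheme.{u}))
  haveI : PrespectralSpace ↥(U : Set X) := inferInstanceAs (PrespectralSpace (U : Scheme.{u}))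
  haveI : QuasiSeparatedSpace ↥(U : Set X) := inferInstanceAs (QuasiSeparatedSpace (U : Scheme.{u}))
  haveI : SpectralSpace ↥(U : Set X) := {}
  have key : ∀ y : ↥(U : Set X), ∃ (m : ℕ) (L : Fin m → Gen F) (C : Set ↥(U : Set X)),
      IsOpen[constructibleTopology ↥(U : Set X)] C ∧ y ∈ C ∧ ∀ x ∈ C, Good L x.1 := by
    intro y
    have hy : y.1 ∈ ⋃ i, Set.range (g i) := hun.symm ▸ y.2
    obtain ⟨i, t, ht⟩ := Set.mem_iUnion.1 hy
    obtain ⟨m, L, W, hW, htW, hgood⟩ := exists_good_nhd (g i) (hlc i) t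
    haveI := hg i
    obtain ⟨O, hO, hOW⟩ := (g i).isEmbedding.isInducing.isOpen_iff.1 hW
    refine ⟨m, L, (Subtype.val ⁻¹' Set.range (g i)) ∩ (Subtype.val ⁻¹' O), ?_,
      ⟨⟨t, ht⟩, ?_⟩, ?_⟩
    · exact @IsOpen.inter _ (constructibleTopology _) _ _
        (Lib.Spectral.Basic.isClopen_cons_of_isConstructible (hc i)).2
        (Lib.Spectral.Basic.isOpen_cons_of_isOpen (hO.preimage continuous_subtype_val))
    · change y.1 ∈ O
      rw [← ht]
      exact (Set.ext_iff.1 hOW t).2 htW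
    · rintro x ⟨⟨s, hs⟩, hx⟩
      rw [← hs]
      refine hgood s ((Set.ext_iff.1 hOW s).1 ?_)
      change g i s ∈ O
      rw [hs]
      exact hx
  choose m L C hC hyC hgood using key
  obtain ⟨t, ht⟩ := @IsCompact.elim_finite_subcover ↥(U : Set X) (constructibleTopology _) Set.univ _
    (@isCompact_univ _ (constructibleTopology _) Lib.Spectral.Basic.compactSpace_cons)
    C hC (fun y _ => Set.mem_iUnion.2 ⟨y, hyC y⟩)
  obtain ⟨n, L', hL'⟩ := exists_combine (fun y : t => L y.1)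
  refine ⟨n, L', fun x hx => ?_⟩
  obtain ⟨y, hyt, hxy⟩ := Set.mem_iUnion₂.1 (ht (Set.mem_univ ⟨x, hx⟩))
  exact hL' ⟨y, hyt⟩ x (hgood y ⟨x, hx⟩ hxy)

/-- A constructible sheaf on a quasi-compact scheme is generated by finitely many sections over affine
étale schemes. -/
theorem exists_gen [CompactSpace X] (hF : EtModW.IsConstructible Λ F) :
    ∃ (m : ℕ) (L : Fin m → Gen F), Epi (desc L) := by
  let c := X.affineCover.finiteSubcover
  have hrange : ∀ i, IsAffineOpen (c.f i).opensRange := fun i => isAffineOpen_opensRange (c.f i)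
  choose m L hL using fun i => exists_gen_affine hF _ (hrange i)
  haveI : Finite c.I₀ := inferInstance
  obtain ⟨n, L', hL'⟩ := exists_combine L
  refine ⟨n, L', ?_⟩
  haveI : HasColimitsOfSize.{u, u} (ModuleCat.{u + 1} Λ) :=
    hasColimitsOfSizeShrink.{u, u, u + 1, u + 1} _
  refine Stalk.epi_of_stalks _ fun x => ?_
  obtain ⟨Ω, hΩ, hΩ', ξ, hξ, h⟩ := hL' _ x (hL _ x (c.covers x))
  exact ⟨Ω, hΩ, hΩ', ξ, hξ, h⟩

/-- Sections of a quotient lift on finitely many affine pieces. -/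
theorem exists_lift {G : EtModW.Mod Λ X} (π : G ⟶ F) [Epi π] {m : ℕ} (L : Fin m → Gen F) :
    ∃ (n : ℕ) (L' : Fin n → Gen G), ∀ {Z : EtModW.Mod Λ X} (a : F ⟶ Z),
      (∀ l, (L' l).θ ≫ π ≫ a = 0) → ∀ k, (L k).θ ≫ a = 0 := by
  classical
  haveI : Sheaf.IsLocallySurjective π :=
    (Sheaf.isLocallySurjective_iff_epi' (A := ModuleCat.{u + 1} Λ) π).2 inferInstance
  have key : ∀ (k : Fin m) (v : (L k).V.left), ∃ (L' : Gen G) (g : L'.V ⟶ (L k).V),
      Free.ev (L'.θ ≫ π) = F.obj.map g.op (Free.ev (L k).θ) ∧ v ∈ Set.range g.left.base := by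
    intro k v
    have hS := Presheaf.imageSieve_mem X.smallEtaleTopology π.hom (U := op (L k).V)
      (Free.ev (L k).θ)
    obtain ⟨W, g, hg, w, hw⟩ := (mem_topology_iff _).1 hS v
    obtain ⟨W', g', w', hw', hW'⟩ := exists_affine_nhd W w
    obtain ⟨t, ht⟩ := Sieve.downward_closed _ hg g'
    refine ⟨⟨W', hW', Free.ev.symm t⟩, g' ≫ g, ?_, w', ?_⟩
    · rw [Free.ev_comp, Equiv.apply_symm_apply]
      exact ht
    · rw [← hw, ← hw']
      rfl
  choose L' g hg hv using key
  have hcov : ∀ k, ∃ t : Finset (L k).V.left, Set.univ ⊆ ⋃ v ∈ t, Set.range (g k v).left.base := by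
    intro k
    haveI := (L k).isAffine
    exact isCompact_univ.elim_finite_subcover _ (fun v => Fiber.isOpen_range_left (g k v))
      (fun v _ => Set.mem_iUnion.2 ⟨v, hv k v⟩)
  choose t ht using hcov
  let e := Fintype.equivFin (Σ k, t k)
  refine ⟨_, fun l => L' (e.symm l).1 (e.symm l).2.1, fun {Z} a h k => ?_⟩
  apply Free.ev.injective
  rw [Free.ev_zero]
  haveI : HasColimitsOfSize.{u, u} (ModuleCat.{u + 1} Λ) :=
    hasColimitsOfSizeShrink.{u, u, u + 1, u + 1} _
  refine Stalk.sections_ext Z _ _ fun u => ?_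
  obtain ⟨v, hvt, w, hw⟩ := Set.mem_iUnion₂.1 (ht k (Set.mem_univ u))
  refine ⟨_, g k v, ?_, w, hw⟩
  have h1 : (L' k v).θ ≫ π ≫ a = 0 :=
    Eq.mp (congrArg (fun p : Σ k, t k => (L' p.1 p.2.1).θ ≫ π ≫ a = 0)
      (e.symm_apply_apply ⟨k, ⟨v, hvt⟩⟩)) (h (e ⟨k, ⟨v, hvt⟩⟩))
  have h2 : a.hom.app _ (F.obj.map (g k v).op (Free.ev (L k).θ)) = 0 := by
    rw [← hg k v, ← Free.ev_comp, Category.assoc, h1, Free.ev_zero]
  rw [map_zero, Free.ev_comp]
  exact (NatTrans.naturality_apply a.hom (g k v).op _).symm.trans h2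

end Groth.Agent.H88.EtMod.FiniteGen
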