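import Groth.Agent.H88.EtMod.LCOps
import Groth.Agent.H88.EtMod.Free
import Mathlib.LinearAlgebra.Finsupp.LinearCombination

/-!
Stalks of free sheaves of modules, inverse images of free sheaves, and gluing of free sheaves.
-/

set_option autoImplicit false
set_option linter.style.haveILetI false

universe u

open CategoryTheory CategoryTheory.Limits AlgebraicGeometry Opposite

noncomputable section

namespace Groth.Agent.H88.EtMod.FreeStalk

open Groth.Agent.Lib.EtSite Groth.Agent.Lib.EtSite.Basic LCChart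

variable (Λ : Type (u + 1)) [CommRing Λ] {X : Scheme.{u}}

/-- The tautological section. -/
abbrev gen (V : X.Etale) : (Free.free Λ V).obj.obj (op V) := Free.ev (𝟙 (Free.free Λ V))

variable {Λ}

theorem ev_eq {V : X.Etale} {G : EtModW.Mod Λ X} (φ : Free.free Λ V ⟶ G) :
    Free.ev φ = φ.hom.app (op V) (gen Λ V) := by
  rw [← Free.ev_comp, Category.id_comp]

theorem map_gen {W V : X.Etale} (a : W ⟶ V) :
    (Free.free Λ V).obj.map a.op (gen Λ V) = Free.ev (Free.freeMap (Λ := Λ) a) :=
  (Free.ev_freeMap a (𝟙 _)).symm.trans (congrArg Free.ev (Category.comp_id _))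

/-- The germs of the tautological section form a basis of the stalk. -/
theorem bijective_germ_gen (V : X.Etale) {Ω : Type u} [Field Ω] [IsSepClosed Ω]
    (ξ : Spec (CommRingCat.of Ω) ⟶ X) :
    Function.Bijective (Finsupp.linearCombination Λ
      fun q : (Scheme.pointSmallEtale ξ).fiber.obj V => germ (Free.free Λ V) V ξ q (gen Λ V)) := by
  classical
  haveI : HasLimitsOfSize.{u, u} (ModuleCat.{u + 1} Λ) :=
    hasLimitsOfSizeShrink.{u, u, u + 1, u + 1} _
  haveI : HasColimitsOfSize.{u, u} (ModuleCat.{u + 1} Λ) :=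
    hasColimitsOfSizeShrink.{u, u, u + 1, u + 1} _
  let Φ := Scheme.pointSmallEtale ξ
  have key : ∀ {M : ModuleCat.{u + 1} Λ} (φ : Φ.sheafFiber.obj (Free.free Λ V) ⟶ M)
      (q : Φ.fiber.obj V),
      Pi.π (fun _ : Φ.fiber.obj V => M) q (Free.ev (Φ.skyscraperSheafAdjunction.homEquiv _ M φ)) =
        φ (germ (Free.free Λ V) V ξ q (gen Λ V)) := by
    intro M φ q
    rw [ev_eq]
    erw [GrothendieckTopology.Point.skyscraperSheafAdjunction_homEquiv_apply_hom]
    exact ConcreteCategory.congr_hom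
      (GrothendieckTopology.Point.skyscraperPresheafHomEquiv_app_π (Φ := Φ) φ V q) (gen Λ V)
  let b := fun q : Φ.fiber.obj V => germ (Free.free Λ V) V ξ q (gen Λ V)
  let ψ : Φ.sheafFiber.obj (Free.free Λ V) ⟶ ModuleCat.of Λ (Φ.fiber.obj V →₀ Λ) :=
    (Φ.skyscraperSheafAdjunction.homEquiv _ _).symm (Free.ev.symm
      ((Pi.lift fun q : Φ.fiber.obj V => ModuleCat.ofHom
        (LinearMap.toSpanSingleton Λ (Φ.fiber.obj V →₀ Λ) (Finsupp.single q 1))) (1 : Λ)))
  have hψ : ∀ q, ψ (b q) = Finsupp.single q 1 := fun q => by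
    rw [← key ψ q, Equiv.apply_symm_apply, Equiv.apply_symm_apply]
    refine (ConcreteCategory.congr_hom (Pi.lift_π (fun q : Φ.fiber.obj V => ModuleCat.ofHom
        (LinearMap.toSpanSingleton Λ (Φ.fiber.obj V →₀ Λ) (Finsupp.single q 1))) q) (1 : Λ)).trans ?_
    exact one_smul Λ _
  refine ⟨?_, ?_⟩
  · refine Function.LeftInverse.injective (g := ψ.hom) fun c => ?_
    refine LinearMap.congr_fun (f := ψ.hom ∘ₗ Finsupp.linearCombination Λ b) (g := LinearMap.id) ?_ c
    ext q : 2
    simp only [LinearMap.coe_comp, Function.comp_apply, Finsupp.lsingle_apply, LinearMap.id_coe, id_eq]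
    change ψ.hom (Finsupp.linearCombination Λ b (Finsupp.single q 1)) = Finsupp.single q 1
    rw [Finsupp.linearCombination_single, one_smul]
    exact hψ q
  · intro z
    let L := Finsupp.linearCombination Λ b
    have hz : (ModuleCat.ofHom (LinearMap.range L).mkQ : Φ.sheafFiber.obj (Free.free Λ V) ⟶ _) = 0 := by
      apply (Φ.skyscraperSheafAdjunction.homEquiv _ _).injective
      apply Free.ev.injective
      refine Concrete.limit_ext _ _ _ ?_
      rintro ⟨q⟩
      refine (key _ q).trans (Eq.trans ?_ (key _ q).symm)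
      refine (Submodule.Quotient.mk_eq_zero _).2 ?_
      exact ⟨Finsupp.single q 1, by simp [L, b]⟩
    exact (Submodule.Quotient.mk_eq_zero _).1 (ConcreteCategory.congr_hom hz z)

/-- A free sheaf is locally constant of finite type where the étale scheme splits. -/
theorem isChart_free {W V : X.Etale} {n : ℕ} (a : Fin n → (W ⟶ V))
    (h : ∀ (Ω : Type u) [Field Ω] [IsSepClosed Ω] (ξ : Spec (CommRingCat.of Ω) ⟶ X)
        (p : (Scheme.pointSmallEtale ξ).fiber.obj W),
        Function.Bijective fun i => (Scheme.pointSmallEtale ξ).fiber.map (a i) p) :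
    IsChart (Free.free Λ V) W (M := Fin n → Λ)
      (Fintype.linearCombination Λ (M := (Free.free Λ V).obj.obj (op W))
        fun i => (Free.free Λ V).obj.map (a i).op (gen Λ V)) := by
  intro Ω _ _ ξ p
  let e := Equiv.ofBijective _ (h Ω ξ p)
  let b := fun q => germ (Free.free Λ V) V ξ q (gen Λ V)
  have : (fun m => germ (Free.free Λ V) W ξ p
      (Fintype.linearCombination Λ (fun i => (Free.free Λ V).obj.map (a i).op (gen Λ V)) m)) =
      (Finsupp.linearCombination Λ b) ∘ (Finsupp.domLCongr (M := Λ) (R := Λ) e).toLinearMap ∘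
        (Finsupp.linearEquivFunOnFinite Λ Λ (Fin n)).symm := by
    funext m
    have hlin : germ (Free.free Λ V) W ξ p ∘ₗ
        Fintype.linearCombination Λ (fun i => (Free.free Λ V).obj.map (a i).op (gen Λ V)) =
        Finsupp.linearCombination Λ b ∘ₗ (Finsupp.domLCongr (M := Λ) (R := Λ) e).toLinearMap ∘ₗ
          (Finsupp.linearEquivFunOnFinite Λ Λ (Fin n)).symm.toLinearMap := by
      refine (Pi.basisFun Λ (Fin n)).ext fun i => ?_
      have h1 : (Finsupp.linearEquivFunOnFinite Λ Λ (Fin n)).symm (Pi.single i 1) =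
          Finsupp.single i 1 := Finsupp.linearEquivFunOnFinite_symm_single _ _ _ _ _
      rw [Pi.basisFun_apply, LinearMap.comp_apply, LinearMap.comp_apply, LinearMap.comp_apply,
        LinearEquiv.coe_coe, LinearEquiv.coe_coe, h1, Finsupp.domLCongr_single,
        Finsupp.linearCombination_single, one_smul, Fintype.linearCombination_apply_single, one_smul]
      exact germ_map _ (a i) ξ p _
    exact LinearMap.congr_fun hlin m
  rw [this]
  exact (bijective_germ_gen V ξ).comp ((Finsupp.domLCongr (M := Λ) (R := Λ) e).bijective.comp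
    (LinearEquiv.bijective _))

/-- Inverse images of free sheaves are free. -/
def pullFreeIso {T : Scheme.{u}} (g : T ⟶ X) (V : X.Etale) :
    (EtModW.pull Λ g).obj (Free.free Λ V) ≅ Free.free Λ ((EtCoh.bc g).obj V) where
  hom := ((EtSix.pullPushModAdj Λ g).homEquiv _ _).symm (Free.ev.symm (gen Λ ((EtCoh.bc g).obj V)))
  inv := Free.ev.symm (((EtSix.pullPushModAdj Λ g).unit.app (Free.free Λ V)).hom.app (op V) (gen Λ V))
  hom_inv_id := by
    apply ((EtSix.pullPushModAdj Λ g).homEquiv _ _).injective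
    apply Free.ev.injective
    rw [Adjunction.homEquiv_naturality_right, Equiv.apply_symm_apply, Free.ev_comp,
      Equiv.apply_symm_apply]
    change (Free.ev.symm _).hom.app (op ((EtCoh.bc g).obj V)) (gen Λ ((EtCoh.bc g).obj V)) = _
    rw [← ev_eq, Equiv.apply_symm_apply, Adjunction.homEquiv_id, ev_eq]
  inv_hom_id := by
    apply Free.ev.injective
    rw [Free.ev_comp, Equiv.apply_symm_apply]
    let x : ((EtModW.push Λ g).obj (Free.free Λ ((EtCoh.bc g).obj V))).obj.obj (op V) :=
      gen Λ ((EtCoh.bc g).obj V)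
    have := congrArg Free.ev ((Adjunction.homEquiv_unit _ _ _ _).symm.trans
      (((EtSix.pullPushModAdj Λ g).homEquiv (Free.free Λ V) _).apply_symm_apply (Free.ev.symm x)))
    rw [Free.ev_comp, ev_eq, Equiv.apply_symm_apply] at this
    exact this

theorem comp_eq_zero_iff {V : X.Etale} {G : EtModW.Mod Λ X} (φ : Free.free Λ V ⟶ G) :
    φ = 0 ↔ φ.hom.app (op V) (gen Λ V) = 0 := by
  rw [← ev_eq]
  exact ⟨fun h => by rw [h, Free.ev_zero], fun h => Free.ev.injective (h.trans Free.ev_zero.symm)⟩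

variable {V : X.Etale} {ι : Type} [Finite ι] {W : ι → X.Etale} {Z : ι → ι → X.Etale}
  (f : ∀ i, W i ⟶ V) (p : ∀ i j, Z i j ⟶ W i) (q : ∀ i j, Z i j ⟶ W j)

/-- The Čech differential on free sheaves. -/
def cechD : (∐ fun k : ι × ι => Free.free Λ (Z k.1 k.2)) ⟶ ∐ fun i => Free.free Λ (W i) :=
  Sigma.desc fun k => Free.freeMap (p k.1 k.2) ≫ Sigma.ι (fun i => Free.free Λ (W i)) k.1 -
    Free.freeMap (q k.1 k.2) ≫ Sigma.ι (fun i => Free.free Λ (W i)) k.2

theorem ι_cechD (k : ι × ι) :
    Sigma.ι (fun k : ι × ι => Free.free Λ (Z k.1 k.2)) k ≫ cechD (Λ := Λ) p q =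
      Free.freeMap (p k.1 k.2) ≫ Sigma.ι (fun i => Free.free Λ (W i)) k.1 -
        Free.freeMap (q k.1 k.2) ≫ Sigma.ι (fun i => Free.free Λ (W i)) k.2 :=
  Sigma.ι_desc _ _

/-- A free sheaf is glued from the free sheaves on a finite covering. -/
theorem nonempty_cokernel_cechD_iso (hcomm : ∀ i j, p i j ≫ f i = q i j ≫ f j)
    (hcov : ∀ v : V.left, ∃ (i : ι) (w : (W i).left), (f i).left.base w = v)
    (hfac : ∀ (i j : ι) (S : X.Etale) (a : S ⟶ W i) (b : S ⟶ W j), a ≫ f i = b ≫ f j →
      ∃ c : S ⟶ Z i j, c ≫ p i j = a ∧ c ≫ q i j = b) :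
    Nonempty (cokernel (cechD (Λ := Λ) p q) ≅ Free.free Λ V) := by
  let C := cokernel (cechD (Λ := Λ) p q)
  let π := cokernel.π (cechD (Λ := Λ) p q)
  let s : ∀ i, C.obj.obj (op (W i)) := fun i => Free.ev (Sigma.ι (fun i => Free.free Λ (W i)) i ≫ π)
  have hs : ∀ i j, C.obj.map (p i j).op (s i) = C.obj.map (q i j).op (s j) := by
    intro i j
    rw [← Free.ev_freeMap, ← Free.ev_freeMap]
    have h : Sigma.ι (fun k : ι × ι => Free.free Λ (Z k.1 k.2)) (i, j) ≫ cechD p q ≫ π = 0 := by
      rw [cokernel.condition, comp_zero]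
    rw [← Category.assoc, ι_cechD, Preadditive.sub_comp, sub_eq_zero] at h
    simpa using congrArg Free.ev h
  have hS : Presieve.IsSheafFor (C.obj ⋙ forget (ModuleCat.{u + 1} Λ)) (Presieve.ofArrows W f) := by
    have hF : Presieve.IsSheaf X.smallEtaleTopology (C.obj ⋙ forget (ModuleCat.{u + 1} Λ)) :=
      (isSheaf_iff_isSheaf_of_type _ _).1
        ((sheafCompose X.smallEtaleTopology (forget (ModuleCat.{u + 1} Λ))).obj C).2
    rw [Presieve.isSheafFor_iff_generate]
    exact hF _ (ofArrows_mem W f hcov)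
  obtain ⟨t, ht, -⟩ := Presieve.isSheafFor_arrows_iff _ _ |>.1 hS s (fun i j S a b hab => by
    obtain ⟨c, rfl, rfl⟩ := hfac i j S a b hab
    change C.obj.map (c ≫ p i j).op (s i) = C.obj.map (c ≫ q i j).op (s j)
    rw [op_comp, op_comp, Functor.map_comp, Functor.map_comp, ConcreteCategory.comp_apply,
      ConcreteCategory.comp_apply, hs])
  let τ : C ⟶ Free.free Λ V := cokernel.desc _ (Sigma.desc fun i => Free.freeMap (f i)) (by
    refine Sigma.hom_ext _ _ fun k => ?_
    rw [← Category.assoc, ι_cechD, Preadditive.sub_comp, Category.assoc, Category.assoc,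
      Sigma.ι_desc, Sigma.ι_desc, comp_zero, sub_eq_zero]
    apply Free.ev.injective
    rw [Free.ev_freeMap, Free.ev_freeMap, ← map_gen, ← map_gen, ← ConcreteCategory.comp_apply,
      ← ConcreteCategory.comp_apply, ← Functor.map_comp, ← Functor.map_comp, ← op_comp, ← op_comp, hcomm])
  refine ⟨⟨τ, Free.ev.symm t, ?_, ?_⟩⟩
  · apply (cancel_epi π).1
    refine Sigma.hom_ext _ _ fun i => ?_
    rw [cokernel.π_desc_assoc, Sigma.ι_desc_assoc, Category.comp_id]
    apply Free.ev.injective
    rw [Free.ev_freeMap, Equiv.apply_symm_apply]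
    exact ht i
  · apply Free.ev.injective
    rw [Free.ev_comp, Equiv.apply_symm_apply]
    haveI : HasColimitsOfSize.{u, u} (ModuleCat.{u + 1} Λ) :=
      hasColimitsOfSizeShrink.{u, u, u + 1, u + 1} _
    refine Stalk.sections_ext (Free.free Λ V) _ _ fun v => ?_
    obtain ⟨i, w, hw⟩ := hcov v
    refine ⟨W i, f i, ?_, w, hw⟩
    refine (NatTrans.naturality_apply τ.hom (f i).op t).symm.trans ?_
    rw [map_gen]
    refine (congrArg _ (ht i)).trans ?_
    change τ.hom.app _ (s i) = _
    rw [← Free.ev_comp, Category.assoc, cokernel.π_desc, Sigma.ι_desc]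

end Groth.Agent.H88.EtMod.FreeStalk
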