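import Groth.Prelude.Def_EtMod2
import Mathlib.CategoryTheory.Sites.Over
import Mathlib.Algebra.Category.ModuleCat.Basic
import Mathlib.CategoryTheory.Adjunction.Additive

/-!
Constructibility of étale sheaves of modules: invariance under isomorphisms, the zero sheaf.
-/

universe u

open CategoryTheory CategoryTheory.Limits AlgebraicGeometry Opposite

namespace Groth.Agent.H88.EtMod.Constructible

variable {Λ : Type (u + 1)} [CommRing Λ] {X : Scheme.{u}}

theorem isFTLocConst_of_iso {F G : EtModW.Mod Λ X} (e : F ≅ G) (h : EtModW.IsFTLocConst Λ F) :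
    EtModW.IsFTLocConst Λ G := by
  obtain ⟨ι, U, hU, h⟩ := h
  refine ⟨ι, U, hU, fun i => ?_⟩
  obtain ⟨M, hM₁, hM₂, hM₃, ⟨f⟩⟩ := h i
  exact ⟨M, hM₁, hM₂, hM₃, ⟨((X.smallEtaleTopology.overPullback _ (U i)).mapIso e).symm ≪≫ f⟩⟩

theorem isFTLocConst_of_isZero {F : EtModW.Mod Λ X} (hF : IsZero F) :
    EtModW.IsFTLocConst Λ F := by
  refine ⟨PUnit.{u + 1}, fun _ => EtCoh.top X, fun x => ⟨PUnit.unit, x, rfl⟩, fun i => ?_⟩
  refine ⟨PUnit.{u + 2}, inferInstance, inferInstance, inferInstance, ⟨?_⟩⟩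
  refine IsZero.iso ?_ ?_
  · exact (X.smallEtaleTopology.overPullback (ModuleCat.{u + 1} Λ) (EtCoh.top X)).map_isZero hF
  · haveI : (constantSheaf (X.smallEtaleTopology.over (EtCoh.top X))
        (ModuleCat.{u + 1} Λ)).PreservesZeroMorphisms :=
      (constantSheafAdj (X.smallEtaleTopology.over (EtCoh.top X)) (ModuleCat.{u + 1} Λ)
        (CategoryTheory.Over.mkIdTerminal)).isLeftAdjoint.casesOn fun _ => inferInstance
    exact Functor.map_isZero _ (ModuleCat.isZero_of_subsingleton _)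

theorem isConstructible_of_iso {F G : EtModW.Mod Λ X} (e : F ≅ G) (h : EtModW.IsConstructible Λ F) :
    EtModW.IsConstructible Λ G := by
  intro U hU
  obtain ⟨n, T, g, h1, h2, h3, h4, h5⟩ := h U hU
  exact ⟨n, T, g, h1, h2, h3, h4,
    fun i => isFTLocConst_of_iso ((EtModW.pull Λ (g i)).mapIso e) (h5 i)⟩

theorem isConstructible_of_isZero {F : EtModW.Mod Λ X} (hF : IsZero F) :
    EtModW.IsConstructible Λ F := by
  intro U _
  have hr : Set.range (U.ι : (U : Scheme.{u}) ⟶ X) = (U : Set X) := U.range_ι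
  refine ⟨1, fun _ => (U : Scheme.{u}), fun _ => U.ι, fun _ => inferInstance, fun _ => ?_,
    fun i j hij => absurd (Subsingleton.elim i j) hij, (Set.iUnion_const _).trans hr, fun _ => ?_⟩
  · rw [hr, Subtype.coe_preimage_self]
    exact Topology.IsConstructible.univ
  · refine isFTLocConst_of_isZero ?_
    haveI : (EtModW.pull Λ U.ι).IsLeftAdjoint :=
      ((EtCoh.bc U.ι).sheafAdjunctionContinuous (ModuleCat.{u + 1} Λ) X.smallEtaleTopology
        (U : Scheme.{u}).smallEtaleTopology).isLeftAdjoint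
    exact Functor.map_isZero _ hF

end Groth.Agent.H88.EtMod.Constructible
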