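import Groth.Agent.H88.EtMod.LCOps
import Groth.Agent.H88.EtMod.Constructible
import Groth.Agent.H88.Strata.Basic

/-!
Constructible sheaves of modules: pointwise criterion, inverse images, locality, kernels, cokernels and
extensions.
-/

set_option autoImplicit false
set_option linter.style.haveILetI false

universe u

open CategoryTheory CategoryTheory.Limits AlgebraicGeometry Topology

noncomputable section

namespace Groth.Agent.H88.EtMod.Constr

variable {Λ : Type (u + 1)} [CommRing Λ] {X Y : Scheme.{u}}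

/-- A point of an open has a constructible neighbourhood in a locally constant stratum. -/
def PointGood (F : EtModW.Mod Λ X) (S : X.Opens) (y : ↥(S : Set X)) : Prop :=
  ∃ (C : Set ↥(S : Set X)) (T : Scheme.{u}) (g : T ⟶ X),
    Topology.IsConstructible C ∧ y ∈ C ∧ IsImmersion g ∧ Subtype.val '' C ⊆ Set.range g ∧
      EtModW.IsFTLocConst Λ ((EtModW.pull Λ g).obj F)

theorem isFTLocConst_pull_comp {F : EtModW.Mod Λ X} {T T' : Scheme.{u}} (h : T' ⟶ T) (g : T ⟶ X)
    (hg : EtModW.IsFTLocConst Λ ((EtModW.pull Λ g).obj F)) :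
    EtModW.IsFTLocConst Λ ((EtModW.pull Λ (h ≫ g)).obj F) :=
  Constructible.isFTLocConst_of_iso ((LCOps.pullComp h g).app F).symm (LCOps.isFTLocConst_pull h hg)

/-- A partition adapted to the sheaf exists as soon as all points are good. -/
theorem adaptedStrata (F : EtModW.Mod Λ X) (S : X.Opens) [CompactSpace (S : Scheme.{u})]
    [QuasiSeparatedSpace (S : Scheme.{u})] (h : ∀ y, PointGood F S y) :
    EtModW.AdaptedStrata Λ F (S : Set X) :=
  Strata.exists_partition S (fun {_} g => EtModW.IsFTLocConst Λ ((EtModW.pull Λ g).obj F))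
    (fun k g _ hg => isFTLocConst_pull_comp k g hg) h

/-- An adapted partition makes all points good. -/
theorem pointGood_of_adaptedStrata {F : EtModW.Mod Λ X} {S : X.Opens}
    (h : EtModW.AdaptedStrata Λ F (S : Set X)) (y : ↥(S : Set X)) : PointGood F S y := by
  obtain ⟨n, T, g, h1, h2, -, h4, h5⟩ := h
  obtain ⟨i, hi⟩ := Set.mem_iUnion.1 (h4.symm ▸ y.2 : y.1 ∈ ⋃ i, Set.range (g i))
  exact ⟨_, T i, g i, h2 i, hi, h1 i, Set.image_preimage_subset _ _, h5 i⟩

theorem isConstructible_iff {F : EtModW.Mod Λ X} :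
    EtModW.IsConstructible Λ F ↔ ∀ U : X.Opens, IsAffineOpen U → ∀ y, PointGood F U y := by
  refine ⟨fun h U hU => pointGood_of_adaptedStrata (h U hU), fun h U hU => ?_⟩
  haveI : IsAffine (U : Scheme.{u}) := hU
  exact adaptedStrata F U (h U hU)

/-- Inverse images preserve constructibility. -/
theorem isConstructible_pull (f : X ⟶ Y) {F : EtModW.Mod Λ Y} (hF : EtModW.IsConstructible Λ F) :
    EtModW.IsConstructible Λ ((EtModW.pull Λ f).obj F) := by
  refine isConstructible_iff.2 fun U hU y => ?_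
  obtain ⟨_, ⟨(V : Y.Opens), hV, rfl⟩, hyV, -⟩ :=
    Y.isBasis_affineOpens.exists_subset_of_mem_open (Set.mem_univ (f.base y.1)) isOpen_univ
  obtain ⟨C₀, T, g, hC₀, hyC₀, hg, hCg, hlc⟩ := isConstructible_iff.1 hF V hV ⟨_, hyV⟩
  obtain ⟨C, hC, hyC, hCA⟩ := Strata.exists_constructible_nhd f hU hV (A := Subtype.val '' C₀)
    (by rwa [Set.preimage_image_eq _ Subtype.val_injective]) y hyV ⟨_, hyC₀, rfl⟩
  refine ⟨C, pullback f g, pullback.fst f g, hC, hyC, inferInstance, ?_, ?_⟩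
  · rintro _ ⟨z, hz, rfl⟩
    rw [Scheme.Pullback.range_fst]
    exact hCg (hCA z hz)
  · refine Constructible.isFTLocConst_of_iso ?_
      (LCOps.isFTLocConst_pull (pullback.snd f g) hlc)
    exact ((LCOps.pullComp (pullback.snd f g) g).app F).symm ≪≫
      (eqToIso (by rw [pullback.condition])) ≪≫
        (LCOps.pullComp (pullback.fst f g) f).app F

/-- Constructibility is local. -/
theorem isConstructible_of_open_cover {F : EtModW.Mod Λ X} {ι : Type*} (U : ι → X.Opens)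
    (hU : ∀ x, ∃ i, x ∈ U i) (h : ∀ i, EtModW.IsConstructible Λ ((EtModW.pull Λ (U i).ι).obj F)) :
    EtModW.IsConstructible Λ F := by
  refine isConstructible_iff.2 fun W hW y => ?_
  obtain ⟨i, hi⟩ := hU y.1
  obtain ⟨_, ⟨(W' : X.Opens), hW', rfl⟩, hyW', hle⟩ :=
    X.isBasis_affineOpens.exists_subset_of_mem_open (show y.1 ∈ ((W ⊓ U i : X.Opens) : Set X)
      from ⟨y.2, hi⟩) (W ⊓ U i).2
  let W'' : (U i : Scheme.{u}).Opens := (U i).ι ⁻¹ᵁ W'
  have hle' : W' ≤ (U i).ι.opensRange := by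
    rw [Scheme.Opens.opensRange_ι]; exact fun z hz => (hle hz).2
  have hW'' : IsAffineOpen W'' := hW'.preimage_of_isOpenImmersion (U i).ι hle'
  obtain ⟨C₀, T, g, hC₀, hyC₀, hg, hCg, hlc⟩ :=
    isConstructible_iff.1 (h i) W'' hW'' ⟨⟨y.1, hi⟩, hyW'⟩
  let e : ↥(W'' : Set (U i : Scheme.{u})) ≃ₜ ↥(W' : Set X) :=
    { toFun := fun z => ⟨z.1.1, z.2⟩
      invFun := fun z => ⟨⟨z.1, (hle z.2).2⟩, z.2⟩
      left_inv := fun _ => rfl
      right_inv := fun _ => rfl
      continuous_toFun := ((continuous_subtype_val (p := fun x => x ∈ U i)).comp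
        continuous_subtype_val).subtype_mk _
      continuous_invFun := (continuous_subtype_val.subtype_mk _).subtype_mk _ }
  obtain ⟨C, hC, hyC, hCA⟩ := Strata.exists_constructible_nhd (𝟙 X) hW hW'
    (A := Subtype.val '' (e.symm ⁻¹' C₀))
    (by rw [Set.preimage_image_eq _ Subtype.val_injective]
        exact hC₀.preimage_of_isOpenEmbedding e.symm.isOpenEmbedding)
    y hyW' ⟨e ⟨⟨y.1, hi⟩, hyW'⟩, by simpa using hyC₀, rfl⟩
  refine ⟨C, T, g ≫ (U i).ι, hC, hyC, inferInstance, ?_, ?_⟩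
  · rintro _ ⟨z, hz, rfl⟩
    obtain ⟨w, hw, hwz⟩ := hCA z hz
    obtain ⟨t, ht⟩ := hCg ⟨_, hw, rfl⟩
    refine ⟨t, ?_⟩
    rw [Scheme.Hom.comp_apply, ht]
    exact hwz
  · exact Constructible.isFTLocConst_of_iso ((LCOps.pullComp g (U i).ι).app F).symm hlc

/-- Two stratifications have a common refinement around each point. -/
theorem exists_common {F G : EtModW.Mod Λ X} (hF : EtModW.IsConstructible Λ F)
    (hG : EtModW.IsConstructible Λ G) {U : X.Opens} (hU : IsAffineOpen U) (y : ↥(U : Set X)) :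
    ∃ (C : Set ↥(U : Set X)) (T : Scheme.{u}) (g : T ⟶ X), Topology.IsConstructible C ∧ y ∈ C ∧
      IsImmersion g ∧ Subtype.val '' C ⊆ Set.range g ∧
      EtModW.IsFTLocConst Λ ((EtModW.pull Λ g).obj F) ∧ EtModW.IsFTLocConst Λ ((EtModW.pull Λ g).obj G) := by
  obtain ⟨C₁, T₁, g₁, hC₁, hy₁, hg₁, hr₁, hl₁⟩ := isConstructible_iff.1 hF U hU y
  obtain ⟨C₂, T₂, g₂, hC₂, hy₂, hg₂, hr₂, hl₂⟩ := isConstructible_iff.1 hG U hU y
  refine ⟨C₁ ∩ C₂, pullback g₁ g₂, pullback.fst g₁ g₂ ≫ g₁, hC₁.inter hC₂, ⟨hy₁, hy₂⟩,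
    inferInstance, ?_, isFTLocConst_pull_comp _ _ hl₁, ?_⟩
  · rintro _ ⟨z, hz, rfl⟩
    rw [Scheme.Pullback.range_fst_comp]
    exact ⟨hr₁ ⟨z, hz.1, rfl⟩, hr₂ ⟨z, hz.2, rfl⟩⟩
  · rw [pullback.condition]
    exact isFTLocConst_pull_comp _ _ hl₂

variable [IsNoetherianRing Λ]

theorem isConstructible_kernel {F G : EtModW.Mod Λ X} (hF : EtModW.IsConstructible Λ F)
    (hG : EtModW.IsConstructible Λ G) (α : F ⟶ G) : EtModW.IsConstructible Λ (kernel α) := by
  refine isConstructible_iff.2 fun U hU y => ?_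
  obtain ⟨C, T, g, hC, hy, hg, hr, hl₁, hl₂⟩ := exists_common hF hG hU y
  exact ⟨C, T, g, hC, hy, hg, hr, Constructible.isFTLocConst_of_iso
    (PreservesKernel.iso (EtModW.pull Λ g) α).symm
    (LCOps.isFTLocConst_kernel hl₁ hl₂ ((EtModW.pull Λ g).map α))⟩

theorem isConstructible_cokernel {F G : EtModW.Mod Λ X} (hF : EtModW.IsConstructible Λ F)
    (hG : EtModW.IsConstructible Λ G) (α : F ⟶ G) : EtModW.IsConstructible Λ (cokernel α) := by
  refine isConstructible_iff.2 fun U hU y => ?_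
  obtain ⟨C, T, g, hC, hy, hg, hr, hl₁, hl₂⟩ := exists_common hF hG hU y
  exact ⟨C, T, g, hC, hy, hg, hr, Constructible.isFTLocConst_of_iso
    (PreservesCokernel.iso (EtModW.pull Λ g) α).symm
    (LCOps.isFTLocConst_cokernel hl₁ hl₂ ((EtModW.pull Λ g).map α))⟩

theorem isConstructible_ext {S : ShortComplex (EtModW.Mod Λ X)} (hS : S.ShortExact)
    (h₁ : EtModW.IsConstructible Λ S.X₁) (h₃ : EtModW.IsConstructible Λ S.X₃) :
    EtModW.IsConstructible Λ S.X₂ := by
  refine isConstructible_iff.2 fun U hU y => ?_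
  obtain ⟨C, T, g, hC, hy, hg, hr, hl₁, hl₂⟩ := exists_common h₁ h₃ hU y
  exact ⟨C, T, g, hC, hy, hg, hr,
    LCOps.isFTLocConst_ext (hS.map_of_exact (EtModW.pull Λ g)) hl₁ hl₂⟩

end Groth.Agent.H88.EtMod.Constr
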