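import Groth.Prelude.Def_WeakSerre
import Groth.Agent.H88.EtMod.Constr

/-!
Constructible sheaves of modules form a weak Serre subcategory.
-/

set_option autoImplicit false

universe u

open CategoryTheory CategoryTheory.Limits AlgebraicGeometry

namespace Groth.Agent.H88.EtMod.WeakSerre

/-- The constructible sheaves. -/
abbrev constrProp (Λ : Type (u + 1)) [CommRing Λ] (X : Scheme.{u}) : ObjectProperty (EtModW.Mod Λ X) :=
  fun F => EtModW.IsConstructible Λ F

variable (Λ : Type (u + 1)) [CommRing Λ] [IsNoetherianRing Λ] (X : Scheme.{u})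

instance isClosedUnderIsomorphisms : (constrProp Λ X).IsClosedUnderIsomorphisms :=
  ⟨fun e h => Constructible.isConstructible_of_iso e h⟩

instance isWeakSerre : WSerre.IsWeakSerre (constrProp Λ X) where
  exists_zero := ⟨_, isZero_zero _, Constructible.isConstructible_of_isZero (isZero_zero _)⟩
  kernels_le := by
    rintro Y ⟨f, k, hk, ⟨hA, hB⟩⟩
    exact Constructible.isConstructible_of_iso
      ((limit.isLimit _).conePointUniqueUpToIso hk) (Constr.isConstructible_kernel hA hB f)
  cokernels_le := by
    rintro Y ⟨f, k, hk, ⟨hA, hB⟩⟩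
    exact Constructible.isConstructible_of_iso
      ((colimit.isColimit _).coconePointUniqueUpToIso hk) (Constr.isConstructible_cokernel hA hB f)
  prop_X₂_of_shortExact hS h₁ h₃ := Constr.isConstructible_ext hS h₁ h₃

end Groth.Agent.H88.EtMod.WeakSerre
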