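import Groth.Agent.H88.Strata.Split
import Groth.Agent.H88.EtMod.FreeStalk
import Groth.Agent.H88.EtMod.WeakSerre
import Mathlib.CategoryTheory.Limits.Shapes.BinaryBiproducts

/-!
Free sheaves on quasi-compact quasi-separated étale schemes are constructible.
-/

set_option autoImplicit false
set_option linter.style.haveILetI false

universe u

open CategoryTheory CategoryTheory.Limits AlgebraicGeometry Opposite

noncomputable section

namespace Groth.Agent.H88.EtMod.FreeConstr

open Groth.Agent.Lib.EtSite Groth.Agent.Lib.EtSite.Basic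

variable {Λ : Type (u + 1)} [CommRing Λ] {X : Scheme.{u}}

theorem isFTLocConst_free {T : Scheme.{u}} (V : T.Etale) [IsSeparated V.hom] {n : ℕ}
    (h : Strata.Split.FibCard V Set.univ n) : EtModW.IsFTLocConst Λ (Free.free Λ V) :=
  LCChart.isFTLocConst_iff.2 fun t => by
    obtain ⟨W, hW, a, ha⟩ := Strata.Split.exists_split V h t
    exact ⟨W, hW, Fin n → Λ, inferInstance, inferInstance, inferInstance, _,
      FreeStalk.isChart_free a ha⟩

theorem isConstructible_free_of_separated (V : X.Etale) [IsSeparated V.hom] [QuasiCompact V.hom] :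
    EtModW.IsConstructible Λ (Free.free Λ V) :=
  Constr.isConstructible_iff.2 fun U hU y => by
    obtain ⟨C, T, g, n, hC, hy, hg, hr, hn⟩ := Strata.Split.exists_stratum V hU y
    haveI : IsSeparated ((EtCoh.bc g).obj V).hom := MorphismProperty.pullback_snd _ _ ‹_›
    exact ⟨C, T, g, hC, hy, hg, hr,
      Constructible.isFTLocConst_of_iso (FreeStalk.pullFreeIso g V).symm (isFTLocConst_free _ hn)⟩

variable [IsNoetherianRing Λ]

theorem isConstructible_sigma {ι : Type} [Finite ι] (F : ι → EtModW.Mod Λ X)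
    (h : ∀ i, EtModW.IsConstructible Λ (F i)) : EtModW.IsConstructible Λ (∐ F) := by
  obtain ⟨_⟩ := nonempty_fintype ι
  haveI : HasFiniteBiproducts (EtModW.Mod Λ X) := Abelian.hasFiniteBiproducts
  exact Constructible.isConstructible_of_iso ((biproduct.isoProduct F).symm ≪≫ biproduct.isoCoproduct F)
    ((WeakSerre.constrProp Λ X).prop_of_isLimit (limit.isLimit (Discrete.functor F)) (fun ⟨i⟩ => h i))

theorem isConstructible_free_open [IsAffine X] (V : X.Etale) (U : V.left.Opens) (hUc : IsCompact (U : Set V.left))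
    {O : V.left.Opens} (hO : IsAffineOpen O) (hle : U ≤ O) (hU : Etale (U.ι ≫ V.hom)) :
    EtModW.IsConstructible Λ (Free.free Λ (Scheme.Etale.mk (U.ι ≫ V.hom))) := by
  haveI : IsAffine ((Functor.fromPUnit X).obj V.right) := ‹IsAffine X›
  haveI : IsAffine (O : Scheme.{u}) := hO
  haveI : CompactSpace ↥(U : Scheme.{u}) := isCompact_iff_compactSpace.1 hUc
  haveI : IsAffineHom (O.ι ≫ V.hom) := inferInstance
  haveI : IsSeparated (Scheme.Etale.mk (U.ι ≫ V.hom)).hom := by
    change IsSeparated (U.ι ≫ V.hom)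
    rw [← V.left.homOfLE_ι hle, Category.assoc]
    infer_instance
  haveI : QuasiCompact (Scheme.Etale.mk (U.ι ≫ V.hom)).hom :=
    (quasiCompact_iff_compactSpace (U.ι ≫ V.hom)).mpr inferInstance
  exact isConstructible_free_of_separated _

theorem isConstructible_of_cover {V : X.Etale} {ι : Type} [Finite ι] {W : ι → X.Etale} {Z : ι → ι → X.Etale}
    (f : ∀ i, W i ⟶ V) (p : ∀ i j, Z i j ⟶ W i) (q : ∀ i j, Z i j ⟶ W j)
    (hcomm : ∀ i j, p i j ≫ f i = q i j ≫ f j)
    (hcov : ∀ v : V.left, ∃ (i : ι) (w : (W i).left), (f i).left.base w = v)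
    (hfac : ∀ (i j : ι) (S : X.Etale) (a : S ⟶ W i) (b : S ⟶ W j), a ≫ f i = b ≫ f j →
      ∃ c : S ⟶ Z i j, c ≫ p i j = a ∧ c ≫ q i j = b)
    (hW : ∀ i, EtModW.IsConstructible Λ (Free.free Λ (W i)))
    (hZ : ∀ i j, EtModW.IsConstructible Λ (Free.free Λ (Z i j))) :
    EtModW.IsConstructible Λ (Free.free Λ V) := by
  obtain ⟨iso⟩ := FreeStalk.nonempty_cokernel_cechD_iso (Λ := Λ) f p q hcomm hcov hfac
  have h1 := isConstructible_sigma (ι := ι × ι) (fun k => Free.free Λ (Z k.1 k.2)) fun k => hZ k.1 k.2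
  have h2 := isConstructible_sigma (fun i => Free.free Λ (W i)) hW
  have h3 := Constr.isConstructible_cokernel h1 h2 (FreeStalk.cechD (Λ := Λ) p q)
  exact Constructible.isConstructible_of_iso iso h3

/-- An open of an étale scheme, as an étale scheme. -/
abbrev openEt (V : X.Etale) (U : V.left.Opens) : X.Etale :=
  haveI : Etale V.hom := V.prop
  Scheme.Etale.mk (U.ι ≫ V.hom)

/-- The inclusion of an open. -/
abbrev openEtι (V : X.Etale) (U : V.left.Opens) : openEt V U ⟶ V :=
  MorphismProperty.Over.homMk U.ι rfl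

/-- The inclusion of opens. -/
abbrev openEtMap (V : X.Etale) {U U' : V.left.Opens} (h : U ≤ U') : openEt V U ⟶ openEt V U' :=
  MorphismProperty.Over.homMk (V.left.homOfLE h) (V.left.homOfLE_ι_assoc h _)

theorem openEtMap_ι (V : X.Etale) {U U' : V.left.Opens} (h : U ≤ U') :
    openEtMap V h ≫ openEtι V U' = openEtι V U :=
  MorphismProperty.Over.Hom.ext (V.left.homOfLE_ι h)

theorem exists_factor (V : X.Etale) (O O' : V.left.Opens) (S : X.Etale) (a : S ⟶ openEt V O)
    (b : S ⟶ openEt V O') (hab : a ≫ openEtι V O = b ≫ openEtι V O') :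
    ∃ c : S ⟶ openEt V (O ⊓ O'), c ≫ openEtMap V inf_le_left = a ∧ c ≫ openEtMap V inf_le_right = b := by
  have hab' : a.left ≫ O.ι = b.left ≫ O'.ι := congrArg (fun k => k.left) hab
  have hr : Set.range (a.left ≫ O.ι).base ⊆ Set.range (O ⊓ O').ι.base := by
    rw [Scheme.Opens.range_ι]
    rintro _ ⟨s, rfl⟩
    refine ⟨?_, ?_⟩
    · rw [Scheme.Hom.comp_apply]; exact (a.left.base s).2
    · rw [hab', Scheme.Hom.comp_apply]; exact (b.left.base s).2
  let l := IsOpenImmersion.lift (O ⊓ O').ι (a.left ≫ O.ι) hr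
  have hl : l ≫ (O ⊓ O').ι = a.left ≫ O.ι := IsOpenImmersion.lift_fac _ _ _
  refine ⟨MorphismProperty.Over.homMk l ?_, ?_, ?_⟩
  · change l ≫ (O ⊓ O').ι ≫ V.hom = S.hom
    rw [reassoc_of% hl]
    exact Over.w a.hom
  · apply MorphismProperty.Over.Hom.ext
    apply (cancel_mono O.ι).1
    refine (Category.assoc _ _ _).trans ?_
    exact (congrArg (l ≫ ·) (V.left.homOfLE_ι (inf_le_left : O ⊓ O' ≤ O))).trans hl
  · apply MorphismProperty.Over.Hom.ext
    apply (cancel_mono O'.ι).1
    refine (Category.assoc _ _ _).trans ?_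
    exact ((congrArg (l ≫ ·) (V.left.homOfLE_ι (inf_le_right : O ⊓ O' ≤ O'))).trans hl).trans hab'

theorem isConstructible_free_of_isAffine [IsAffine X] (V : X.Etale) [CompactSpace V.left]
    [QuasiSeparatedSpace V.left] : EtModW.IsConstructible Λ (Free.free Λ V) := by
  classical
  haveI : Etale V.hom := V.prop
  obtain ⟨S, hS, hfin, hcov⟩ : ∃ S : Set V.left.Opens, (∀ U ∈ S, IsAffineOpen U) ∧ S.Finite ∧
      ∀ v : V.left, ∃ U ∈ S, v ∈ U := by
    let c := V.left.affineCover.finiteSubcover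
    exact ⟨Set.range fun i => (c.f i).opensRange,
      by rintro _ ⟨i, rfl⟩; exact isAffineOpen_opensRange (c.f i), Set.finite_range _,
      fun v => ⟨_, ⟨c.idx v, rfl⟩, c.covers v⟩⟩
  haveI : Finite S := hfin.to_subtype
  obtain ⟨n, ⟨e⟩⟩ := Finite.exists_equiv_fin S
  let O : Fin n → V.left.Opens := fun i => (e.symm i).1
  have hO : ∀ i, IsAffineOpen (O i) := fun i => hS _ (e.symm i).2
  refine isConstructible_of_cover (Λ := Λ) (ι := Fin n) (fun i => openEtι V (O i))
    (fun i j => openEtMap V (inf_le_left : O i ⊓ O j ≤ O i))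
    (fun i j => openEtMap V (inf_le_right : O i ⊓ O j ≤ O j))
    (fun i j => (openEtMap_ι V _).trans (openEtMap_ι V _).symm)
    (fun v => by
      obtain ⟨U, hU, hv⟩ := hcov v
      have hv' : v ∈ O (e ⟨U, hU⟩) := by
        change v ∈ (e.symm (e ⟨U, hU⟩)).1
        rwa [e.symm_apply_apply]
      exact ⟨e ⟨U, hU⟩, ⟨v, hv'⟩, rfl⟩)
    (fun i j S a b hab => exists_factor V (O i) (O j) S a b hab) (fun i => ?_) (fun i j => ?_)
  · exact isConstructible_free_open V (O i) (hO i).isCompact (hO i) le_rfl _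
  · exact isConstructible_free_open V (O i ⊓ O j) (QuasiSeparatedSpace.inter_isCompact _ _ (O i).2
      (hO i).isCompact (O j).2 (hO j).isCompact) (hO i) inf_le_left _

theorem isConstructible_free (V : X.Etale) [QuasiCompact V.hom] [QuasiSeparated V.hom] :
    EtModW.IsConstructible Λ (Free.free Λ V) := by
  refine Constr.isConstructible_of_open_cover (fun U : X.affineOpens => U.1) (fun x => ?_) fun U => ?_
  · obtain ⟨_, ⟨U, hU, rfl⟩, hx, -⟩ :=
      X.isBasis_affineOpens.exists_subset_of_mem_open (Set.mem_univ x) isOpen_univ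
    exact ⟨⟨U, hU⟩, hx⟩
  · haveI : IsAffine (U.1 : Scheme.{u}) := U.2
    haveI : CompactSpace ↥(((EtCoh.bc U.1.ι).obj V).left) :=
      (quasiCompact_iff_compactSpace (pullback.snd V.hom U.1.ι)).mp inferInstance
    haveI hqs : QuasiSeparated (pullback.snd V.hom U.1.ι) :=
      MorphismProperty.pullback_snd (P := @QuasiSeparated) V.hom U.1.ι inferInstance
    haveI : QuasiSeparatedSpace ↥(((EtCoh.bc U.1.ι).obj V).left) :=
      @quasiSeparatedSpace_of_quasiSeparated _ _ (pullback.snd V.hom U.1.ι) inferInstance hqs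
    exact Constructible.isConstructible_of_iso (FreeStalk.pullFreeIso U.1.ι V).symm
      (isConstructible_free_of_isAffine _)

end Groth.Agent.H88.EtMod.FreeConstr
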