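import Groth.Prelude.Def_SixF2
import Groth.Agent.Lib.EtJ.Basic
import Groth.Agent.H88.EtMod.FreeConstr
import Groth.Agent.H88.EtMod.FiniteGen

/-!
Extension by zero of sheaves of modules along étale morphisms: free sheaves, base change,
preservation of constructibility.
-/

set_option autoImplicit false
set_option linter.style.haveILetI false

universe u

open CategoryTheory CategoryTheory.Limits AlgebraicGeometry Opposite

noncomputable section

namespace Groth.Agent.H88.EtMod.ExtZero

variable {Λ : Type (u + 1)} [CommRing Λ] {U X : Scheme.{u}}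

/-- An object corepresenting sections over `V` is the free sheaf. -/
def freeIso {A : EtModW.Mod Λ X} (V : X.Etale) (s : A.obj.obj (op V))
    (hs : ∀ G : EtModW.Mod Λ X, Function.Bijective fun φ : A ⟶ G => φ.hom.app (op V) s) :
    A ≅ Free.free Λ V where
  hom := (Equiv.ofBijective _ (hs (Free.free Λ V))).symm (FreeStalk.gen Λ V)
  inv := Free.ev.symm s
  hom_inv_id := by
    apply (hs A).1
    change ((Equiv.ofBijective _ (hs (Free.free Λ V))).symm (FreeStalk.gen Λ V) ≫ Free.ev.symm s).hom.app
      (op V) s = s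
    refine (ConcreteCategory.comp_apply _ _ s).trans ?_
    refine (congrArg _ ((Equiv.ofBijective _ (hs (Free.free Λ V))).apply_symm_apply
      (FreeStalk.gen Λ V))).trans ?_
    rw [← FreeStalk.ev_eq, Equiv.apply_symm_apply]
  inv_hom_id := by
    apply Free.ev.injective
    rw [Free.ev_comp, Equiv.apply_symm_apply]
    exact (Equiv.ofBijective _ (hs (Free.free Λ V))).apply_symm_apply (FreeStalk.gen Λ V)

variable (j : U ⟶ X) [Etale j] [EtShriek.JCont j]

/-- The section of an extension by zero given by a section downstairs. -/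
abbrev shriekSec (F : EtModW.Mod Λ U) (V : U.Etale) (s : F.obj.obj (op V)) :
    ((EtSix.extZeroMod Λ j).obj F).obj.obj (op ((EtShriek.compEtale j).obj V)) :=
  ((EtSix.extZeroModAdj Λ j).unit.app F).hom.app (op V) s

/-- Extensions by zero of free sheaves are free. -/
def extZeroFreeIso (V : U.Etale) :
    (EtSix.extZeroMod Λ j).obj (Free.free Λ V) ≅ Free.free Λ ((EtShriek.compEtale j).obj V) :=
  freeIso ((EtShriek.compEtale j).obj V) (shriekSec j (Free.free Λ V) V (FreeStalk.gen Λ V)) fun G => by
    have : (fun φ : (EtSix.extZeroMod Λ j).obj (Free.free Λ V) ⟶ G =>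
        φ.hom.app (op ((EtShriek.compEtale j).obj V)) (shriekSec j (Free.free Λ V) V (FreeStalk.gen Λ V))) =
        fun φ => Free.ev ((EtSix.extZeroModAdj Λ j).homEquiv _ G φ) := by
      funext φ
      rw [FreeStalk.ev_eq, Adjunction.homEquiv_unit]
      rfl
    rw [this]
    exact (Free.ev (F := (EtSix.restrMod Λ j).obj G)).bijective.comp
      ((EtSix.extZeroModAdj Λ j).homEquiv _ G).bijective

/-- `j_! Λ` is the free sheaf on `U`. -/
def extZeroConstIso :
    (EtSix.extZeroMod Λ j).obj (EtSix.constΛ Λ U) ≅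
      Free.free Λ ((EtShriek.compEtale j).obj (EtCoh.top U)) :=
  let c := constantSheafAdj U.smallEtaleTopology (ModuleCat.{u + 1} Λ) (EtCore.topIsTerminal U)
  freeIso _ (shriekSec j (EtSix.constΛ Λ U) (EtCoh.top U)
      (c.unit.app (ModuleCat.of Λ Λ) (1 : Λ))) fun G => by
    have : (fun φ : (EtSix.extZeroMod Λ j).obj (EtSix.constΛ Λ U) ⟶ G =>
        φ.hom.app (op ((EtShriek.compEtale j).obj (EtCoh.top U)))
          (shriekSec j (EtSix.constΛ Λ U) (EtCoh.top U) (c.unit.app (ModuleCat.of Λ Λ) (1 : Λ)))) =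
        fun φ => (c.homEquiv (ModuleCat.of Λ Λ) _ ((EtSix.extZeroModAdj Λ j).homEquiv _ G φ)).hom (1 : Λ) := by
      funext φ
      rw [Adjunction.homEquiv_unit, Adjunction.homEquiv_unit]
      rfl
    rw [this]
    refine Function.Bijective.comp (g := fun φ => (c.homEquiv (ModuleCat.of Λ Λ) _ φ).hom (1 : Λ)) ?_
      ((EtSix.extZeroModAdj Λ j).homEquiv _ G).bijective
    refine Function.Bijective.comp (g := fun φ : ModuleCat.of Λ Λ ⟶ _ => φ.hom (1 : Λ)) ?_ (c.homEquiv _ _).bijective
    exact ⟨fun a b h => ModuleCat.hom_ext (LinearMap.ext_ring h),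
      fun m => ⟨ModuleCat.ofHom (LinearMap.toSpanSingleton Λ _ m), one_smul Λ m⟩⟩

variable {X' : Scheme.{u}} (g : X' ⟶ X)

theorem bcCompEtale_aux {U X X' : Scheme.{u}} {j : U ⟶ X} {g : X' ⟶ X} {A B : Scheme.{u}} {v : A ⟶ U} {w : B ⟶ U}
    (eV : pullback v (pullback.fst j g) ≅ pullback (v ≫ j) g)
    (eW : pullback w (pullback.fst j g) ≅ pullback (w ≫ j) g)
    (eVf : eV.hom ≫ pullback.fst (v ≫ j) g = pullback.fst v (pullback.fst j g))
    (eVs : eV.hom ≫ pullback.snd (v ≫ j) g = pullback.snd v (pullback.fst j g) ≫ pullback.snd j g)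
    (eWf : eW.hom ≫ pullback.fst (w ≫ j) g = pullback.fst w (pullback.fst j g))
    (eWs : eW.hom ≫ pullback.snd (w ≫ j) g = pullback.snd w (pullback.fst j g) ≫ pullback.snd j g)
    (a : A ⟶ B) (L : pullback (v ≫ j) g ⟶ pullback (w ≫ j) g)
    (hLf : L ≫ pullback.fst (w ≫ j) g = pullback.fst (v ≫ j) g ≫ a)
    (hLs : L ≫ pullback.snd (w ≫ j) g = pullback.snd (v ≫ j) g)
    (R : pullback v (pullback.fst j g) ⟶ pullback w (pullback.fst j g))
    (hRf : R ≫ pullback.fst w (pullback.fst j g) = pullback.fst v (pullback.fst j g) ≫ a)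
    (hRs : R ≫ pullback.snd w (pullback.fst j g) = pullback.snd v (pullback.fst j g)) :
    L ≫ eW.inv = eV.inv ≫ R := by
  rw [Iso.comp_inv_eq, Category.assoc, Iso.eq_inv_comp]
  apply pullback.hom_ext
  · rw [Category.assoc, hLf, reassoc_of% eVf, Category.assoc, eWf, hRf]
  · rw [Category.assoc, hLs, eVs, Category.assoc, eWs, reassoc_of% hRs]

/-- Base change of `compEtale`. -/
def bcCompEtaleIso :
    EtShriek.compEtale j ⋙ EtCoh.bc g ≅
      EtCoh.bc (pullback.fst j g) ⋙ EtShriek.compEtale (pullback.snd j g) :=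
  NatIso.ofComponents (fun V => MorphismProperty.Over.isoMk
    (pullbackRightPullbackFstIso j g V.hom).symm (by
      rw [Iso.symm_hom, Iso.inv_comp_eq]
      change pullback.snd V.hom (pullback.fst j g) ≫ pullback.snd j g = _
      exact (pullbackRightPullbackFstIso_hom_snd j g V.hom).symm))
    (fun {V W} a => MorphismProperty.Over.Hom.ext (bcCompEtale_aux
      (pullbackRightPullbackFstIso j g V.hom) (pullbackRightPullbackFstIso j g W.hom)
      (pullbackRightPullbackFstIso_hom_fst j g V.hom) (pullbackRightPullbackFstIso_hom_snd j g V.hom)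
      (pullbackRightPullbackFstIso_hom_fst j g W.hom) (pullbackRightPullbackFstIso_hom_snd j g W.hom)
      a.left ((EtCoh.bc g).map ((EtShriek.compEtale j).map a)).left
      (EtCoh.isPullback_bc_map g ((EtShriek.compEtale j).map a)).w
      (Over.w ((EtCoh.bc g).map ((EtShriek.compEtale j).map a)).hom)
      ((EtCoh.bc (pullback.fst j g)).map a).left
      (EtCoh.isPullback_bc_map (pullback.fst j g) a).w
      (Over.w ((EtCoh.bc (pullback.fst j g)).map a).hom)))

/-- Extension by zero commutes with inverse images. -/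
def baseChangeIso [EtShriek.JCont (pullback.snd j g)] :
    EtSix.extZeroMod Λ j ⋙ EtModW.pull Λ g ≅
      EtModW.pull Λ (pullback.fst j g) ⋙ EtSix.extZeroMod Λ (pullback.snd j g) :=
  haveI : (EtShriek.compEtale j ⋙ EtCoh.bc g).IsContinuous U.smallEtaleTopology X'.smallEtaleTopology :=
    Functor.isContinuous_comp (EtShriek.compEtale j) (EtCoh.bc g) U.smallEtaleTopology
      X.smallEtaleTopology X'.smallEtaleTopology
  Adjunction.leftAdjointUniq
    (((EtSix.extZeroModAdj Λ j).comp (EtSix.pullPushModAdj Λ g)).ofNatIsoRight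
      (Functor.sheafPushforwardContinuousComp' (F := EtShriek.compEtale j) (G := EtCoh.bc g)
        (FG := EtShriek.compEtale j ⋙ EtCoh.bc g) (Iso.refl _) (ModuleCat.{u + 1} Λ)
        U.smallEtaleTopology X.smallEtaleTopology X'.smallEtaleTopology))
    (((EtSix.pullPushModAdj Λ (pullback.fst j g)).comp
      (EtSix.extZeroModAdj Λ (pullback.snd j g))).ofNatIsoRight
      (Functor.sheafPushforwardContinuousComp' (F := EtCoh.bc (pullback.fst j g))
        (G := EtShriek.compEtale (pullback.snd j g)) (FG := EtShriek.compEtale j ⋙ EtCoh.bc g)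
        (bcCompEtaleIso j g).symm (ModuleCat.{u + 1} Λ)
        U.smallEtaleTopology (pullback j g).smallEtaleTopology X'.smallEtaleTopology))

theorem quasiSeparated_hom [QuasiSeparatedSpace U] (V : U.Etale) [IsAffine V.left] :
    QuasiSeparated V.hom := by
  haveI : IsAffine ((𝟭 Scheme).obj V.left) := ‹_›
  let f : (𝟭 Scheme).obj V.left ⟶ U := V.hom
  haveI : IsAffineHom (f ≫ U.toSpecΓ) := inferInstance
  exact QuasiSeparated.of_comp f U.toSpecΓ

theorem isConstructible_extZero_of_compact [IsNoetherianRing Λ] [CompactSpace U] [QuasiSeparatedSpace U]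
    [QuasiCompact j] [QuasiSeparated j] {F : EtModW.Mod Λ U} (hF : EtModW.IsConstructible Λ F) :
    EtModW.IsConstructible Λ ((EtSix.extZeroMod Λ j).obj F) := by
  have hfree : ∀ G : FiniteGen.Gen F,
      EtModW.IsConstructible Λ (Free.free Λ G.V) := fun G => by
    haveI := G.isAffine
    haveI : IsAffine ((𝟭 Scheme).obj G.V.left) := G.isAffine
    haveI : QuasiSeparatedSpace ↥((Functor.fromPUnit U).obj G.V.right) := ‹QuasiSeparatedSpace U›
    haveI : QuasiCompact G.V.hom := quasiCompact_of_compactSpace _
    haveI : QuasiSeparated G.V.hom := quasiSeparated_hom G.V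
    exact FreeConstr.isConstructible_free G.V
  obtain ⟨m, L, hL⟩ := FiniteGen.exists_gen hF
  have hP := FreeConstr.isConstructible_sigma (fun k => Free.free Λ (L k).V) fun k => hfree (L k)
  have hK : EtModW.IsConstructible Λ (kernel (FiniteGen.desc L)) :=
    Constr.isConstructible_kernel hP hF _
  obtain ⟨m', L', hL'⟩ := FiniteGen.exists_gen hK
  haveI : PreservesFiniteColimits (EtSix.extZeroMod Λ j) := inferInstance
  have hgen : ∀ {G : EtModW.Mod Λ U} {n : ℕ} (M : Fin n → FiniteGen.Gen G),
      EtModW.IsConstructible Λ ((EtSix.extZeroMod Λ j).obj (∐ fun k => Free.free Λ (M k).V)) := by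
    intro G n M
    refine Constructible.isConstructible_of_iso (PreservesCoproduct.iso (EtSix.extZeroMod Λ j) _).symm
      (FreeConstr.isConstructible_sigma _ fun k => ?_)
    haveI := (M k).isAffine
    haveI : IsAffine ((𝟭 Scheme).obj (M k).V.left) := (M k).isAffine
    haveI : QuasiSeparatedSpace ↥((Functor.fromPUnit U).obj (M k).V.right) := ‹QuasiSeparatedSpace U›
    haveI : QuasiCompact (M k).V.hom := quasiCompact_of_compactSpace _
    haveI : QuasiSeparated (M k).V.hom := quasiSeparated_hom (M k).V
    haveI : QuasiCompact ((EtShriek.compEtale j).obj (M k).V).hom :=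
      inferInstanceAs (QuasiCompact ((M k).V.hom ≫ j))
    haveI : QuasiSeparated ((EtShriek.compEtale j).obj (M k).V).hom :=
      inferInstanceAs (QuasiSeparated ((M k).V.hom ≫ j))
    exact Constructible.isConstructible_of_iso (extZeroFreeIso j (M k).V).symm
      (FreeConstr.isConstructible_free _)
  let S := ShortComplex.mk (FiniteGen.desc L' ≫ kernel.ι (FiniteGen.desc L)) (FiniteGen.desc L)
    (by rw [Category.assoc, kernel.condition, comp_zero])
  have hS : S.Exact := by
    refine (ShortComplex.exact_iff_epi_kernel_lift S).2 ?_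
    have : kernel.lift S.g S.f S.zero = FiniteGen.desc L' := by
      apply (cancel_mono (kernel.ι (FiniteGen.desc L))).1
      exact kernel.lift_ι _ _ _
    rw [this]
    exact hL'
  haveI : Epi S.g := hL
  have hc : IsColimit (CokernelCofork.ofπ S.g S.zero) := hS.gIsCokernel
  have hc' := CokernelCofork.mapIsColimit _ hc (EtSix.extZeroMod Λ j)
  exact Constructible.isConstructible_of_iso
    ((colimit.isColimit _).coconePointUniqueUpToIso hc')
    (Constr.isConstructible_cokernel (hgen L') (hgen L) _)

/-- Extension by zero along a quasi-compact quasi-separated étale morphism preserves constructibility. -/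
theorem isConstructible_extZero [IsNoetherianRing Λ] [QuasiCompact j] [QuasiSeparated j]
    {F : EtModW.Mod Λ U} (hF : EtModW.IsConstructible Λ F) :
    EtModW.IsConstructible Λ ((EtSix.extZeroMod Λ j).obj F) := by
  refine Constr.isConstructible_of_open_cover (fun W : X.affineOpens => W.1) (fun x => ?_) fun W => ?_
  · obtain ⟨_, ⟨W, hW, rfl⟩, hx, -⟩ :=
      X.isBasis_affineOpens.exists_subset_of_mem_open (Set.mem_univ x) isOpen_univ
    exact ⟨⟨W, hW⟩, hx⟩
  · haveI : IsAffine (W.1 : Scheme.{u}) := W.2
    let j' := pullback.snd j W.1.ι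
    haveI : QuasiCompact j' := MorphismProperty.pullback_snd (P := @QuasiCompact) _ _ inferInstance
    haveI : QuasiSeparated j' := MorphismProperty.pullback_snd (P := @QuasiSeparated) _ _ inferInstance
    haveI : Etale j' := MorphismProperty.pullback_snd (P := @Etale) _ _ inferInstance
    haveI : CompactSpace ↥(pullback j W.1.ι) := (quasiCompact_iff_compactSpace j').mp inferInstance
    haveI : QuasiSeparatedSpace ↥(pullback j W.1.ι) := quasiSeparatedSpace_of_quasiSeparated j'
    exact Constructible.isConstructible_of_iso ((baseChangeIso j W.1.ι).app F).symm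
      (isConstructible_extZero_of_compact j' (Constr.isConstructible_pull _ hF))

end Groth.Agent.H88.EtMod.ExtZero
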