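import Groth.Agent.H88.EtMod.FreeConstr
import Groth.Agent.H88.EtMod.FiniteGen
import Groth.Agent.Lib.DerivedOX.FlatResolve
import Groth.Agent.Lib.DerCat29.CohIn
import Groth.Prelude.Def_EtModD2
import Mathlib.Algebra.Category.ModuleCat.Biproducts

/-!
Resolutions of complexes with constructible cohomology by finite sums of free sheaves.
-/

set_option autoImplicit false
set_option linter.style.haveILetI false

universe u

open CategoryTheory CategoryTheory.Limits AlgebraicGeometry Opposite

attribute [local instance] HasDerivedCategory.standard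

noncomputable section

namespace Groth.Agent.H88.EtMod.FreeResolve

variable {Λ : Type (u + 1)} [CommRing Λ] {X : Scheme.{u}}

/-- Finite sums of free sheaves on affine étale schemes. -/
def FreeSum (Λ : Type (u + 1)) [CommRing Λ] (X : Scheme.{u}) : ObjectProperty (EtModW.Mod Λ X) := fun F =>
  ∃ (m : ℕ) (W : Fin m → X.Etale) (_ : ∀ k, IsAffine (W k).left),
    Nonempty (F ≅ ∐ fun k => Free.free Λ (W k))

theorem isConstructible_free_of_affine [IsNoetherianRing Λ] [QuasiSeparatedSpace X] (W : X.Etale)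
    (hW : IsAffine W.left) : EtModW.IsConstructible Λ (Free.free Λ W) := by
  haveI : IsAffine ((𝟭 Scheme).obj W.left) := hW
  let f : (𝟭 Scheme).obj W.left ⟶ X := W.hom
  haveI : IsAffineHom (f ≫ X.toSpecΓ) := inferInstance
  haveI : QuasiSeparated W.hom := QuasiSeparated.of_comp f X.toSpecΓ
  haveI : QuasiSeparatedSpace ↥((Functor.fromPUnit X).obj W.right) := ‹QuasiSeparatedSpace X›
  haveI : QuasiCompact W.hom := quasiCompact_of_compactSpace f
  exact FreeConstr.isConstructible_free W

theorem freeSum_sigma {n : ℕ} (L : Fin n → X.Etale) (h : ∀ k, IsAffine (L k).left) :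
    FreeSum Λ X (∐ fun k => Free.free Λ (L k)) :=
  ⟨n, L, h, ⟨Iso.refl _⟩⟩

theorem good_freeSum : Groth.Agent.Lib.DR.FiniteComplex.Good (FreeSum Λ X) where
  zero {F} hF := by
    refine ⟨0, Fin.elim0, fun k => k.elim0, ⟨hF.iso ?_⟩⟩
    rw [IsZero.iff_id_eq_zero]
    exact Sigma.hom_ext _ _ fun k => k.elim0
  biprod := by
    rintro F G ⟨m, W, hW, ⟨e⟩⟩ ⟨m', W', hW', ⟨e'⟩⟩
    refine ⟨m + m', Fin.append W W', Fin.addCases (by simpa using hW) (by simpa using hW'), ⟨?_⟩⟩
    let c : Fin (m + m') → EtModW.Mod Λ X := fun k => Free.free Λ (Fin.append W W' k)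
    let iL : ∀ a, Free.free Λ (W a) ⟶ ∐ c := fun a =>
      eqToHom (by simp [c]) ≫ Sigma.ι c (Fin.castAdd m' a)
    let iR : ∀ a, Free.free Λ (W' a) ⟶ ∐ c := fun a =>
      eqToHom (by simp [c]) ≫ Sigma.ι c (Fin.natAdd m a)
    let h : ((∐ fun k => Free.free Λ (W k)) ⊞ ∐ fun k => Free.free Λ (W' k)) ≅ ∐ c :=
      { hom := biprod.desc (Sigma.desc iL) (Sigma.desc iR)
        inv := Sigma.desc (Fin.addCases
          (fun a => eqToHom (by simp [c]) ≫ Sigma.ι (fun k => Free.free Λ (W k)) a ≫ biprod.inl)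
          (fun a => eqToHom (by simp [c]) ≫ Sigma.ι (fun k => Free.free Λ (W' k)) a ≫ biprod.inr))
        hom_inv_id := by
          apply biprod.hom_ext' <;> refine Sigma.hom_ext _ _ fun a => ?_ <;> simp [iL, iR]
        inv_hom_id := by
          refine Sigma.hom_ext _ _ fun k => ?_
          induction k using Fin.addCases <;> simp [iL, iR, c] }
    exact biprod.mapIso e e' ≪≫ h
  iso := by
    rintro F G ε ⟨m, W, hW, ⟨e⟩⟩
    exact ⟨m, W, hW, ⟨ε.symm ≪≫ e⟩⟩

variable [IsNoetherianRing Λ] [QuasiSeparatedSpace X]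

theorem isConstructible_of_freeSum {F : EtModW.Mod Λ X} (h : FreeSum Λ X F) :
    EtModW.IsConstructible Λ F := by
  obtain ⟨m, W, hW, ⟨e⟩⟩ := h
  exact Constructible.isConstructible_of_iso e.symm
    (FreeConstr.isConstructible_sigma _ fun k => isConstructible_free_of_affine (W k) (hW k))

omit [IsNoetherianRing Λ] [QuasiSeparatedSpace X] in
/-- A constructible quotient is covered by a finite sum of free sheaves. -/
theorem exists_lift_freeSum [CompactSpace X] {A B : EtModW.Mod Λ X} (v : A ⟶ B) [Epi v]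
    (hB : EtModW.IsConstructible Λ B) : ∃ (K : EtModW.Mod Λ X) (w : K ⟶ A), FreeSum Λ X K ∧ Epi (w ≫ v) := by
  obtain ⟨m, L, hL⟩ := FiniteGen.exists_gen hB
  obtain ⟨n, L', hL'⟩ := FiniteGen.exists_lift v L
  refine ⟨_, FiniteGen.desc L', freeSum_sigma (fun k => (L' k).V) (fun k => (L' k).isAffine), ?_⟩
  refine Preadditive.epi_of_cancel_zero _ fun {Z} a ha => ?_
  have h : FiniteGen.desc L ≫ a = 0 := Sigma.hom_ext _ _ fun k => by
    simpa [FiniteGen.desc] using hL' a (fun l => by
      simpa [FiniteGen.desc] using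
        (congrArg (fun g => Sigma.ι (fun k => Free.free Λ (L' k).V) l ≫ g) ha)) k
  exact (cancel_epi (FiniteGen.desc L)).1 (h.trans comp_zero.symm)

omit [QuasiSeparatedSpace X] in
theorem isConstructible_homology {E : CochainComplex (EtModW.Mod Λ X) ℤ}
    (h : ∀ i, EtModW.IsConstructible Λ (E.X i)) (i : ℤ) : EtModW.IsConstructible Λ (E.homology i) :=
  (WeakSerre.constrProp Λ X).prop_of_isColimit_cokernelCofork (E.sc i).homologyIsCokernel
    (h _) ((WeakSerre.constrProp Λ X).prop_of_isLimit_kernelFork (E.sc i).cyclesIsKernel (h _) (h _))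

omit [QuasiSeparatedSpace X] in
theorem isConstructible_cone {E K : CochainComplex (EtModW.Mod Λ X) ℤ} (φ : E ⟶ K)
    (hE : ∀ i, EtModW.IsConstructible Λ (E.homology i)) (hK : ∀ i, EtModW.IsConstructible Λ (K.homology i))
    (n : ℤ) : EtModW.IsConstructible Λ ((CochainComplex.mappingCone φ).homology n) := by
  let T := DerivedCategory.Q.mapTriangle.obj (CochainComplex.mappingCone.triangle φ)
  have hT : T ∈ Pretriangulated.distinguishedTriangles := DerivedCategory.mappingCone_triangle_distinguished φ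
  have tr : ∀ (L : CochainComplex (EtModW.Mod Λ X) ℤ) (i : ℤ), EtModW.IsConstructible Λ (L.homology i) →
      EtModW.IsConstructible Λ ((DerivedCategory.homologyFunctor _ i).obj (DerivedCategory.Q.obj L)) :=
    fun L i h => Constructible.isConstructible_of_iso
      ((DerivedCategory.homologyFunctorFactors _ i).app L).symm h
  exact Constructible.isConstructible_of_iso ((DerivedCategory.homologyFunctorFactors _ n).app _)
    (Groth.Agent.Lib.DerCat29.CohIn.prop_of_five (WeakSerre.constrProp Λ X)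
      (DerivedCategory.HomologySequence.exact₂ T hT n)
      (DerivedCategory.HomologySequence.exact₃ T hT n (n + 1) rfl)
      (DerivedCategory.HomologySequence.exact₁ T hT n (n + 1) rfl)
      (tr E n (hE n)) (tr K n (hK n)) (tr E (n + 1) (hE _)) (tr K (n + 1) (hK _)))

/-- Resolutions by finite sums of free sheaves. -/
theorem exists_resolution [CompactSpace X] (K : CochainComplex (EtModW.Mod Λ X) ℤ) (b : ℤ)
    (hb : ∀ i, b < i → K.ExactAt i) (hK : ∀ i, EtModW.IsConstructible Λ (K.homology i)) :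
    ∃ (G : CochainComplex (EtModW.Mod Λ X) ℤ) (s : G ⟶ K), (∀ i, b < i → IsZero (G.X i)) ∧
      (∀ i, FreeSum Λ X (G.X i)) ∧ QuasiIso s := by
  haveI : HasColimitsOfShape ℕ (EtModW.Mod Λ X) :=
    EtModD.hasColimitsOfSize0.has_colimits_of_shape ℕ
  refine Groth.Agent.Lib.DerivedOX.FlatResolve.exists_resolution good_freeSum (fun E F u _ hF => ?_) hb
    fun n E φ _ _ hE _ => ?_
  · exact exists_lift_freeSum u (isConstructible_of_freeSum hF)
  · obtain ⟨L, w, hL, hw⟩ := exists_lift_freeSum (𝟙 ((CochainComplex.mappingCone φ).homology n))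
      (isConstructible_cone φ (isConstructible_homology fun i => isConstructible_of_freeSum (hE i)) hK n)
    exact ⟨L, w ≫ 𝟙 _, hL, hw⟩

omit [IsNoetherianRing Λ] [QuasiSeparatedSpace X] in
/-- The stalks of finite sums of free sheaves are flat. -/
theorem flat_stalk_of_freeSum {F : EtModW.Mod Λ X} (h : FreeSum Λ X F) {Ω : Type u} [Field Ω]
    [IsSepClosed Ω] (ξ : Spec (CommRingCat.of Ω) ⟶ X) :
    Module.Flat Λ ((EtModW.stalk Λ ξ).obj F) := by
  classical
  obtain ⟨m, W, -, ⟨e⟩⟩ := h
  haveI : HasLimitsOfSize.{u, u} (ModuleCat.{u + 1} Λ) := hasLimitsOfSizeShrink.{u, u, u + 1, u + 1} _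
  haveI : HasColimitsOfSize.{u, u} (ModuleCat.{u + 1} Λ) :=
    hasColimitsOfSizeShrink.{u, u, u + 1, u + 1} _
  let S : EtModW.Mod Λ X ⥤ ModuleCat.{u + 1} Λ := EtModW.stalk Λ ξ
  haveI : ∀ k, Module.Flat Λ ↥(S.obj (Free.free Λ (W k))) := fun k =>
    Module.Flat.of_linearEquiv (LinearEquiv.ofBijective _ (FreeStalk.bijective_germ_gen (Λ := Λ) (W k) ξ)).symm
  let c := S.mapIso e ≪≫ PreservesCoproduct.iso S (fun k => Free.free Λ (W k)) ≪≫
    ModuleCat.coprodIsoDirectSum (fun k => S.obj (Free.free Λ (W k)))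
  exact Module.Flat.of_linearEquiv c.toLinearEquiv

end Groth.Agent.H88.EtMod.FreeResolve
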