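import Groth.Agent.H88.EtMod.Constr
import Groth.Agent.Lib.Spectral.Noetherian
import Mathlib.Topology.NoetherianSpace
import Mathlib.AlgebraicGeometry.Noetherian
import Mathlib.AlgebraicGeometry.Morphisms.Etale

/-!
On locally noetherian schemes quotients and subsheaves of constructible sheaves of modules are
constructible.
-/

set_option autoImplicit false
set_option linter.style.haveILetI false

universe u

open CategoryTheory CategoryTheory.Limits AlgebraicGeometry Opposite Topology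

noncomputable section

namespace Groth.Agent.H88.EtMod.Quotient

open Groth.Agent.Lib.EtSite Groth.Agent.Lib.EtSite.Basic LCChart

variable {Λ : Type (u + 1)} [CommRing Λ] {X : Scheme.{u}}

/-- An open of an étale scheme as an étale scheme. -/
def openSub (U : X.Etale) (O : U.left.Opens) : X.Etale :=
  MorphismProperty.Over.mk ⊤ (O.ι ≫ U.hom)
    (show Etale (O.ι ≫ U.hom) from
      haveI : Etale U.hom := U.prop
      inferInstance)

/-- The inclusion of an open. -/
def openSubHom (U : X.Etale) (O : U.left.Opens) : openSub U O ⟶ U :=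
  MorphismProperty.Over.homMk O.ι rfl

/-- A quotient of a locally constant sheaf is locally constant over an étale scheme which is
nonempty. -/
theorem exists_chart_quotient [IsNoetherianRing Λ] [IsLocallyNoetherian X] {F Q : EtModW.Mod Λ X}
    (π : F ⟶ Q) [Epi π] {U : X.Etale} (u : U.left) {M : Type (u + 1)} [AddCommGroup M] [Module Λ M]
    [Module.Finite Λ M] {φ : M →ₗ[Λ] F.obj.obj (op U)} (hφ : IsChart F U φ) :
    ∃ (V : X.Etale) (_ : Nonempty V.left) (M' : Type (u + 1)) (_ : AddCommGroup M') (_ : Module Λ M')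
      (_ : Module.Finite Λ M') (ψ : M' →ₗ[Λ] Q.obj.obj (op V)), IsChart Q V ψ := by
  classical
  haveI : Etale U.hom := U.prop
  haveI : IsLocallyNoetherian ((𝟭 Scheme).obj U.left) :=
    LocallyOfFiniteType.isLocallyNoetherian (show (𝟭 Scheme).obj U.left ⟶ X from U.hom)
  haveI : IsLocallyNoetherian U.left := ‹IsLocallyNoetherian ((𝟭 Scheme).obj U.left)›
  obtain ⟨_, ⟨(A : U.left.Opens), hA, rfl⟩, hu, -⟩ :=
    U.left.isBasis_affineOpens.exists_subset_of_mem_open (Set.mem_univ u) isOpen_univ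
  haveI : IsAffine (A : Scheme.{u}) := hA
  haveI : IsLocallyNoetherian (A : Scheme.{u}) := LocallyOfFiniteType.isLocallyNoetherian A.ι
  haveI : IsNoetherian (A : Scheme.{u}) := {}
  obtain ⟨Z, hZ, -⟩ := exists_mem_irreducibleComponents_subset_of_isIrreducible
    ({(⟨u, hu⟩ : (A : Scheme.{u}))} : Set (A : Scheme.{u})) isIrreducible_singleton
  obtain ⟨o, ho, hone, hoZ⟩ :=
    TopologicalSpace.NoetherianSpace.exists_isOpen_nonempty_subset_irreducibleComponent Z hZ
  have hoirr : IsPreirreducible o := hZ.1.isPreirreducible.open_subset ho hoZ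
  let W : Set U.left := A.ι.base '' o
  have hWo : IsOpen W := A.ι.isOpenEmbedding.isOpenMap _ ho
  have hWi : IsPreirreducible W := hoirr.image _ A.ι.continuous.continuousOn
  have hWne : W.Nonempty := hone.image _
  let πφ : M →ₗ[Λ] Q.obj.obj (op U) := (π.hom.app (op U)).hom ∘ₗ φ
  -- elements killed on some nonempty open piece of `W`
  let P : Set U.left → M → Prop := fun O m => ∀ (Ω : Type u) (_ : Field Ω) (_ : IsSepClosed Ω)
    (ξ : Spec (CommRingCat.of Ω) ⟶ X) (p : (Scheme.pointSmallEtale ξ).fiber.obj U),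
      fiberPt p ∈ O → germ Q U ξ p (πφ m) = 0
  let Good : M → Prop := fun m => ∃ O : Set U.left, IsOpen O ∧ (W ∩ O).Nonempty ∧ P O m
  let N : Submodule Λ M :=
    { carrier := {m | Good m}
      zero_mem' := ⟨Set.univ, isOpen_univ, by simpa using hWne, fun _ _ _ _ _ _ => by simp⟩
      add_mem' := by
        rintro a b ⟨O, hO, hne, ha⟩ ⟨O', hO', hne', hb⟩
        refine ⟨O ∩ O', hO.inter hO', hWi O O' hO hO' hne hne', fun Ω i₁ i₂ ξ p hp => ?_⟩
        rw [map_add, map_add, ha Ω i₁ i₂ ξ p hp.1, hb Ω i₁ i₂ ξ p hp.2, add_zero]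
      smul_mem' := by
        rintro c a ⟨O, hO, hne, ha⟩
        exact ⟨O, hO, hne, fun Ω i₁ i₂ ξ p hp => by
          rw [map_smul, map_smul, ha Ω i₁ i₂ ξ p hp, smul_zero]⟩ }
  -- one open piece for all of `N`
  obtain ⟨s, hs⟩ := IsNoetherian.noetherian N
  have key : ∀ t : Finset M, (∀ m ∈ t, Good m) →
      ∃ O : Set U.left, IsOpen O ∧ (W ∩ O).Nonempty ∧ ∀ m ∈ t, P O m := by
    intro t
    induction t using Finset.induction with
    | empty => exact fun _ => ⟨Set.univ, isOpen_univ, by simpa using hWne, by simp⟩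
    | insert a t _ ih =>
      intro h
      obtain ⟨O, hO, hne, hP⟩ := h a (Finset.mem_insert_self _ _)
      obtain ⟨O', hO', hne', hP'⟩ := ih fun m hm => h m (Finset.mem_insert_of_mem hm)
      refine ⟨O ∩ O', hO.inter hO', hWi O O' hO hO' hne hne', fun m hm => ?_⟩
      rcases Finset.mem_insert.1 hm with rfl | hm
      · exact fun Ω i₁ i₂ ξ p hp => hP Ω i₁ i₂ ξ p hp.1
      · exact fun Ω i₁ i₂ ξ p hp => hP' m hm Ω i₁ i₂ ξ p hp.2
  obtain ⟨O, hO, hne, hP⟩ := key s fun m hm => by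
    have : m ∈ N := hs ▸ Submodule.subset_span hm
    exact this
  let V := openSub U ⟨W ∩ O, hWo.inter hO⟩
  let g : V ⟶ U := openSubHom U ⟨W ∩ O, hWo.inter hO⟩
  refine ⟨V, ?_, ?_⟩
  · obtain ⟨x, hx⟩ := hne
    exact ⟨⟨x, hx⟩⟩
  let L : M →ₗ[Λ] Q.obj.obj (op V) := (Q.obj.map g.op).hom ∘ₗ πφ
  -- membership in `N` at a point of the piece
  have hker : ∀ (Ω : Type u) [Field Ω] [IsSepClosed Ω] (ξ : Spec (CommRingCat.of Ω) ⟶ X)
      (q : (Scheme.pointSmallEtale ξ).fiber.obj V) (m : M), germ Q V ξ q (L m) = 0 ↔ m ∈ N := by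
    intro Ω iF iS ξ q m
    have hq : fiberPt ((Scheme.pointSmallEtale ξ).fiber.map g q) ∈ W ∩ O := by
      rw [fiberPt_map]
      exact (fiberPt q).2
    change germ Q V ξ q (Q.obj.map g.op (πφ m)) = 0 ↔ _
    rw [germ_map]
    generalize (Scheme.pointSmallEtale ξ).fiber.map g q = p at hq
    constructor
    · intro h0
      obtain ⟨V', g', q', hq', h'⟩ := ((Scheme.pointSmallEtale ξ).toPresheafFiber_eq_iff' U p
        (πφ m) 0).1 (h0.trans (map_zero _).symm)
      refine ⟨Set.range g'.left.base, ?_, ⟨fiberPt p, hq.1, fiberPt q', ?_⟩, fun Ω' i₁ i₂ ξ' p' hp' => ?_⟩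
      · haveI : Etale g'.left := Groth.Agent.Lib.EtSite.Fiber.etale_left g'
        exact g'.left.isOpenMap.isOpen_range
      · rw [← hq', fiberPt_map]
      · obtain ⟨v, hv⟩ := hp'
        obtain ⟨r, hr, -⟩ := Fiber.exists_fiber_map ξ' g' p' v hv
        have := congrArg (germ Q V' ξ' r) h'
        rw [map_zero, map_zero, germ_map, hr] at this
        exact this
    · intro hm
      have h1 : N ≤ LinearMap.ker (germ Q U ξ p ∘ₗ πφ) := by
        rw [← hs, Submodule.span_le]
        exact fun x hx => hP x hx Ω iF iS ξ p hq.2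
      exact h1 hm
  refine ⟨M ⧸ N, inferInstance, inferInstance, inferInstance,
    N.liftQ L (fun m hm => ?_), fun Ω _ _ ξ q => ⟨?_, fun z => ?_⟩⟩
  · rw [LinearMap.mem_ker]
    refine Stalk.sections_ext_of_germ Q (U := V) (L m) 0 (Stalk.enoughPts_pt fun x q => ?_)
    exact ((hker _ _ q m).2 hm).trans (map_zero _).symm
  · change Function.Injective ⇑(germ Q V ξ q ∘ₗ N.liftQ L _)
    rw [← LinearMap.ker_eq_bot]
    refine (Submodule.eq_bot_iff _).2 fun c hc => ?_
    obtain ⟨m, rfl⟩ := Submodule.Quotient.mk_surjective _ c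
    exact (Submodule.Quotient.mk_eq_zero _).2 ((hker Ω ξ q m).1 hc)
  · obtain ⟨y, rfl⟩ := LCOps.stalk_map_surjective ξ π z
    obtain ⟨m, hm⟩ := (hφ Ω ξ ((Scheme.pointSmallEtale ξ).fiber.map g q)).2 y
    refine ⟨Submodule.Quotient.mk m, ?_⟩
    change germ Q V ξ q (Q.obj.map g.op (π.hom.app (op U) (φ m))) = _
    rw [germ_map, ← germ_naturality]
    exact congrArg _ hm

/-- Quotients of constructible sheaves are constructible. -/
theorem isConstructible_of_epi [IsNoetherianRing Λ] [IsLocallyNoetherian X] {F Q : EtModW.Mod Λ X}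
    (π : F ⟶ Q) [Epi π] (hF : EtModW.IsConstructible Λ F) : EtModW.IsConstructible Λ Q := by
  refine Constr.isConstructible_iff.2 fun U hU y => ?_
  obtain ⟨C, T, g, -, hyC, hg, hCg, hlc⟩ := Constr.isConstructible_iff.1 hF U hU y
  obtain ⟨t, ht⟩ := hCg ⟨y, hyC, rfl⟩
  obtain ⟨T₁, h₁, hh₁, hr₁⟩ :=
    Strata.exists_immersion_range ((isClosed_closure (s := ({t} : Set T))).isLocallyClosed)
  haveI := hg
  haveI := hh₁
  haveI : IsLocallyNoetherian T := LocallyOfFiniteType.isLocallyNoetherian g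
  haveI : IsLocallyNoetherian T₁ := LocallyOfFiniteType.isLocallyNoetherian h₁
  obtain ⟨t₁, ht₁⟩ : ∃ t₁, h₁.base t₁ = t := by
    have : t ∈ Set.range h₁.base := by
      rw [hr₁]
      exact subset_closure (Set.mem_singleton t)
    exact this
  have hgen : ∀ o : Set T₁, IsOpen o → o.Nonempty → t₁ ∈ o := by
    intro o ho hne
    obtain ⟨z, hz⟩ := hne
    obtain ⟨o', ho', rfl⟩ := h₁.isEmbedding.isInducing.isOpen_iff.1 ho
    have hz' : h₁.base z ∈ closure {t} := hr₁ ▸ Set.mem_range_self z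
    obtain ⟨w, hw, hwt⟩ := mem_closure_iff.1 hz' o' ho' hz
    rw [Set.mem_singleton_iff] at hwt
    change h₁.base t₁ ∈ o'
    rw [ht₁, ← hwt]
    exact hw
  let k := h₁ ≫ g
  let F₁ := (EtModW.pull Λ k).obj F
  haveI : Epi ((EtModW.pull Λ k).map π) := inferInstance
  obtain ⟨V₀, ⟨v₀, -⟩, M, _, _, _, φ, hφ⟩ :=
    isFTLocConst_iff.1 (Constr.isFTLocConst_pull_comp h₁ g hlc) t₁
  obtain ⟨V, ⟨v⟩, M', _, _, _, ψ, hψ⟩ :=
    exists_chart_quotient ((EtModW.pull Λ k).map π) v₀ hφ
  haveI : Etale V.hom := V.prop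
  let O : T₁.Opens := ⟨Set.range V.hom.base, V.hom.isOpenMap.isOpen_range⟩
  have ht₁O : t₁ ∈ O := hgen O.1 O.2 ⟨_, v, rfl⟩
  have hlcO : EtModW.IsFTLocConst Λ ((EtModW.pull Λ (O.ι ≫ k)).obj Q) := by
    refine Constructible.isFTLocConst_of_iso ((LCOps.pullComp O.ι k).app Q).symm ?_
    refine isFTLocConst_iff.2 fun x => ?_
    exact ⟨_, LCOps.exists_pt_bc O.ι x x.2, M', inferInstance, inferInstance, inferInstance, _,
      LCOps.isChart_pull O.ι hψ⟩
  haveI : IsAffine (U : Scheme.{u}) := hU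
  haveI : IsLocallyNoetherian (U : Scheme.{u}) := LocallyOfFiniteType.isLocallyNoetherian U.ι
  haveI : IsNoetherian (U : Scheme.{u}) := {}
  haveI : TopologicalSpace.NoetherianSpace ↥(U : Set X) :=
    inferInstanceAs (TopologicalSpace.NoetherianSpace (U : Scheme.{u}))
  refine ⟨Subtype.val ⁻¹' Set.range (O.ι ≫ k).base, _, O.ι ≫ k,
    Lib.Spectral.Noetherian.isConstructible_of_isLocallyClosed
      ((O.ι ≫ k).isLocallyClosed_range.preimage continuous_subtype_val),
    ⟨⟨t₁, ht₁O⟩, ?_⟩, inferInstance, Set.image_preimage_subset _ _, hlcO⟩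
  rw [Scheme.Hom.comp_apply, Scheme.Hom.comp_apply]
  change g.base (h₁.base t₁) = _
  rw [ht₁, ht]

/-- Subsheaves of constructible sheaves are constructible. -/
theorem isConstructible_of_mono [IsNoetherianRing Λ] [IsLocallyNoetherian X] {F G : EtModW.Mod Λ X}
    (ι : G ⟶ F) [Mono ι] (hF : EtModW.IsConstructible Λ F) : EtModW.IsConstructible Λ G :=
  Constructible.isConstructible_of_iso
    ((limit.isLimit _).conePointUniqueUpToIso (Abelian.monoIsKernelOfCokernel _ (cokernelIsCokernel ι)))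
    (Constr.isConstructible_kernel hF (isConstructible_of_epi (cokernel.π ι) hF) (cokernel.π ι))

end Groth.Agent.H88.EtMod.Quotient
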