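import Groth.Agent.H88.EtMod.PBCOps
import Groth.Prelude.Def_EtRestW

/-!
Finite locally constant and locally constant abelian sheaves: inverse images, kernels, cokernels,
extensions.
-/

set_option autoImplicit false
set_option linter.style.haveILetI false

universe u

open CategoryTheory CategoryTheory.Limits AlgebraicGeometry Opposite

noncomputable section

namespace Groth.Agent.H88.EtMod.LCAb

open AbBridge

variable {X Y : Scheme.{u}}

theorem finStalks_kernel {F G : EtModW.Mod Zl.{u} X} (φ : F ⟶ G) (hF : FinStalks F) :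
    FinStalks (kernel φ) := fun Ω _ _ ξ =>
  haveI := hF Ω ξ
  Finite.of_injective _ (LCOps.stalk_map_injective ξ (kernel.ι φ))

theorem finStalks_cokernel {F G : EtModW.Mod Zl.{u} X} (φ : F ⟶ G) (hG : FinStalks G) :
    FinStalks (cokernel φ) := fun Ω _ _ ξ =>
  haveI := hG Ω ξ
  Finite.of_surjective _ (LCOps.stalk_map_surjective ξ (cokernel.π φ))

theorem finStalks_ext {S : ShortComplex (EtModW.Mod Zl.{u} X)} (hS : S.ShortExact)
    (h₁ : FinStalks S.X₁) (h₃ : FinStalks S.X₃) : FinStalks S.X₂ := by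
  intro Ω _ _ ξ
  haveI : Finite ↥((Scheme.pointSmallEtale ξ).sheafFiber.obj S.X₁) := h₁ Ω ξ
  haveI : Finite ↥((Scheme.pointSmallEtale ξ).sheafFiber.obj S.X₃) := h₃ Ω ξ
  let f := ((Scheme.pointSmallEtale ξ).sheafFiber.map S.f).hom
  let g := ((Scheme.pointSmallEtale ξ).sheafFiber.map S.g).hom
  haveI : Finite (LinearMap.ker g) := by
    have hle : ∀ z : LinearMap.ker g, ∃ y, f y = z.1 := fun z =>
      LCOps.stalk_exact ξ hS.exact z.1 z.2
    choose k hk using hle
    exact Finite.of_injective k fun a b h =>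
      Subtype.ext ((hk a).symm.trans ((congrArg f h).trans (hk b)))
  haveI : Finite (_ ⧸ LinearMap.ker g) := Finite.of_equiv _ g.quotKerEquivRange.symm.toEquiv
  haveI : Finite (LinearMap.ker g).toAddSubgroup := ‹Finite (LinearMap.ker g)›
  haveI : Finite (_ ⧸ (LinearMap.ker g).toAddSubgroup) := ‹Finite (_ ⧸ LinearMap.ker g)›
  exact Finite.of_equiv _ (AddSubgroup.addGroupEquivQuotientProdAddSubgroup
    (s := (LinearMap.ker g).toAddSubgroup)).symm

/-- Inverse images preserve finite local constancy. -/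
theorem isFiniteLC_pull (f : X ⟶ Y) {F : EtCoh.Ab Y} (hF : EtCoh.IsFiniteLocallyConstant F) :
    EtCoh.IsFiniteLocallyConstant ((EtCoh.pull f).obj F) := by
  obtain ⟨F', ⟨e⟩⟩ := exists_lift F
  obtain ⟨h1, h2⟩ := (isFiniteLocallyConstant_iff' F').1 (isFiniteLC_of_iso e.symm hF)
  exact isFiniteLC_of_iso ((pullIso f).app F' ≪≫ (EtCoh.pull f).mapIso e)
    ((isFiniteLocallyConstant_iff' _).2 ⟨LCOps.isFTLocConst_pull f h1, PBCOps.finStalks_pull f h2⟩)

theorem isFiniteLC_kernel_cokernel {F G : EtCoh.Ab X} (φ : F ⟶ G)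
    (hF : EtCoh.IsFiniteLocallyConstant F) (hG : EtCoh.IsFiniteLocallyConstant G) :
    EtCoh.IsFiniteLocallyConstant (kernel φ) ∧ EtCoh.IsFiniteLocallyConstant (cokernel φ) := by
  obtain ⟨F', G', φ', e, e', hφ'⟩ := PBCOps.exists_hom_lift φ
  obtain ⟨hF1, hF2⟩ := (isFiniteLocallyConstant_iff' F').1 (isFiniteLC_of_iso e.symm hF)
  obtain ⟨hG1, hG2⟩ := (isFiniteLocallyConstant_iff' G').1 (isFiniteLC_of_iso e'.symm hG)
  constructor
  · exact isFiniteLC_of_iso (PreservesKernel.iso (fg X) φ' ≪≫ kernel.mapIso _ _ e e' (by simp [hφ']))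
      ((isFiniteLocallyConstant_iff' _).2
        ⟨LCOps.isFTLocConst_kernel hF1 hG1 φ', finStalks_kernel φ' hF2⟩)
  · exact isFiniteLC_of_iso (PreservesCokernel.iso (fg X) φ' ≪≫ cokernel.mapIso _ _ e e' (by simp [hφ']))
      ((isFiniteLocallyConstant_iff' _).2
        ⟨LCOps.isFTLocConst_cokernel hF1 hG1 φ', finStalks_cokernel φ' hG2⟩)

theorem isFiniteLC_ext {S : ShortComplex (EtCoh.Ab X)} (hS : S.ShortExact)
    (h₁ : EtCoh.IsFiniteLocallyConstant S.X₁) (h₃ : EtCoh.IsFiniteLocallyConstant S.X₃) :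
    EtCoh.IsFiniteLocallyConstant S.X₂ := by
  let E := (fg X).asEquivalence
  have hS' : (S.map (fg X).inv).ShortExact := hS.map_of_exact _
  obtain ⟨a1, a2⟩ := (isFiniteLocallyConstant_iff' _).1 (isFiniteLC_of_iso (E.counitIso.app S.X₁).symm h₁)
  obtain ⟨c1, c2⟩ := (isFiniteLocallyConstant_iff' _).1 (isFiniteLC_of_iso (E.counitIso.app S.X₃).symm h₃)
  exact isFiniteLC_of_iso (E.counitIso.app S.X₂) ((isFiniteLocallyConstant_iff' _).2
    ⟨LCOps.isFTLocConst_ext hS' a1 c1, finStalks_ext hS' a2 c2⟩)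

/-- Local constancy, for modules over the integers. -/
theorem isLocallyConstant_iff (F : EtModW.Mod Zl.{u} X) :
    EtRest.IsLocallyConstant ((fg X).obj F) ↔ ∀ x : X, ∃ (U : X.Etale)
      (_ : ∃ u : U.left, U.hom.base u = x) (M : Type (u + 1)) (_ : AddCommGroup M) (_ : Module Zl.{u} M)
      (φ : M →ₗ[Zl.{u}] F.obj.obj (op U)), LCChart.IsChart F U φ := by
  constructor
  · rintro ⟨ι, V, hV, hc⟩ x
    obtain ⟨i, v, hv⟩ := hV x
    obtain ⟨M, _, ⟨e⟩⟩ := hc i
    obtain ⟨A, ⟨ε⟩⟩ := fgt_essSurj.{u}.mem_essImage (AddCommGrpCat.of M)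
    let e' : (sheafCompose (X.smallEtaleTopology.over (V i)) fgt.{u}).obj (EtModW.restr Zl.{u} F (V i)) ≅
        (sheafCompose (X.smallEtaleTopology.over (V i)) fgt.{u}).obj
          ((constantSheaf (X.smallEtaleTopology.over (V i)) (ModuleCat.{u + 1} Zl.{u})).obj A) :=
      e ≪≫ (constantSheaf _ _).mapIso ε.symm ≪≫ (constIso (V i) A).symm
    haveI : (sheafCompose (X.smallEtaleTopology.over (V i)) fgt.{u}).Faithful :=
      ⟨fun {P Q a b} h => Sheaf.hom_ext (by
        ext W : 2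
        exact fgt.{u}.map_injective (congrArg (fun k => k.hom.app W) h))⟩
    obtain ⟨φ, hφ⟩ := LCChart.exists_isChart
      ((Functor.FullyFaithful.ofFullyFaithful _).preimageIso e')
    exact ⟨V i, ⟨v, hv⟩, A, inferInstance, inferInstance, φ, hφ⟩
  · intro h
    choose V hV N i1 i2 φ hφ using h
    refine ⟨X, V, fun x => ?_, fun x => ?_⟩
    · obtain ⟨v, hv⟩ := hV x
      exact ⟨x, v, hv⟩
    · letI := i1 x
      letI := i2 x
      obtain ⟨e⟩ := (hφ x).nonempty_iso
      exact ⟨N x, inferInstance,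
        ⟨(sheafCompose (X.smallEtaleTopology.over (V x)) fgt.{u}).mapIso e ≪≫ constIso (V x) _⟩⟩

theorem isLC_of_iso {F G : EtCoh.Ab X} (e : F ≅ G) (h : EtRest.IsLocallyConstant F) :
    EtRest.IsLocallyConstant G := by
  obtain ⟨ι, U, hU, h⟩ := h
  refine ⟨ι, U, hU, fun i => ?_⟩
  obtain ⟨M, hM, ⟨f⟩⟩ := h i
  exact ⟨M, hM, ⟨((X.smallEtaleTopology.overPullback _ (U i)).mapIso e).symm ≪≫ f⟩⟩

/-- Inverse images preserve local constancy. -/
theorem isLC_pull (f : X ⟶ Y) {F : EtCoh.Ab Y} (hF : EtRest.IsLocallyConstant F) :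
    EtRest.IsLocallyConstant ((EtCoh.pull f).obj F) := by
  obtain ⟨F', ⟨e⟩⟩ := exists_lift F
  refine isLC_of_iso ((pullIso f).app F' ≪≫ (EtCoh.pull f).mapIso e) ((isLocallyConstant_iff _).2 ?_)
  intro x
  obtain ⟨U, hU, M, _, _, φ, hφ⟩ := (isLocallyConstant_iff F').1 (isLC_of_iso e.symm hF) (f.base x)
  exact ⟨(EtCoh.bc f).obj U, LCOps.exists_pt_bc f x hU, M, inferInstance, inferInstance, _,
    LCOps.isChart_pull f hφ⟩

end Groth.Agent.H88.EtMod.LCAb
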