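import Groth.Agent.H88.EtMod.PBCExtZero
import Groth.Agent.Lib.EtJ.Basic
import Mathlib.Data.ZMod.QuotientGroup
import Mathlib.Algebra.Category.ModuleCat.Products

/-!
Constructible abelian sheaves killed by `n` have presentations by sums of `j_! ℤ/n`.
-/

set_option autoImplicit false
set_option linter.style.haveILetI false

universe u

open CategoryTheory CategoryTheory.Limits AlgebraicGeometry Opposite

noncomputable section

namespace Groth.Agent.H88.EtMod.PBCPresent

open AbBridge

variable {X : Scheme.{u}}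

/-- Constant sheaf followed by extension by zero. -/
abbrev L (V : X.Etale) : AddCommGrpCat.{u + 1} ⥤ EtCoh.Ab X :=
  constantSheaf (X.smallEtaleTopology.over V) AddCommGrpCat.{u + 1} ⋙ EtPBC.extZero V

/-- Maps out of `j_! A` are maps from `A` to sections. -/
abbrev adjL (V : X.Etale) :=
  (constantSheafAdj (X.smallEtaleTopology.over V) AddCommGrpCat.{u + 1} Over.mkIdTerminal).comp
    (EtPBC.extZeroAdj V)

theorem killedBy_iff (n : ℕ) (F : EtCoh.Ab X) : EtCoh.KilledBy n F ↔ n • 𝟙 F = 0 := by
  have hsmul : ∀ (U : X.Etale) (s : EtCoh.sect F U), (n • 𝟙 F : F ⟶ F).hom.app (op U) s = n • s := by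
    intro U s
    induction n with
    | zero => simp
    | succ k ih =>
      rw [succ_nsmul, succ_nsmul, ← ih]
      rfl
  constructor
  · intro h
    apply Sheaf.hom_ext
    ext U s
    exact (hsmul U.unop s).trans (h U.unop s)
  · intro h U s
    rw [← hsmul U s, h]
    rfl

theorem isConstructible_biproduct [CompactSpace X] [QuasiSeparatedSpace X] :
    ∀ {m : ℕ} (G : Fin m → EtCoh.Ab X), (∀ k, EtPBC.IsConstructible (G k)) →
      EtPBC.IsConstructible (⨁ G) := by
  intro m G hG
  choose G' e using fun k => exists_lift (G k)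
  have h' := fun k => (isConstructible_iff (G' k)).1 (PBCOps.isConstructible_of_iso (e k).some.symm (hG k))
  haveI : PreservesColimit (Discrete.functor G') (fg X) := inferInstance
  refine PBCOps.isConstructible_of_iso
    (PreservesCoproduct.iso (fg X) G' ≪≫ (Sigma.mapIso fun k => (e k).some) ≪≫
      (biproduct.isoCoproduct G).symm)
    ((isConstructible_iff _).2 ⟨FreeConstr.isConstructible_sigma G' fun k => (h' k).1,
      fun Ω _ _ ξ => ?_⟩)
  haveI := LCOps.hasLimits_small (Λ := Zl.{u})
  haveI : HasColimitsOfSize.{u, u} (ModuleCat.{u + 1} Zl.{u}) :=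
    hasColimitsOfSizeShrink.{u, u, u + 1, u + 1} _
  let S : EtModW.Mod Zl.{u} X ⥤ ModuleCat.{u + 1} Zl.{u} := (Scheme.pointSmallEtale ξ).sheafFiber
  haveI : PreservesColimitsOfSize.{0, 0} S :=
    haveI : PreservesColimitsOfSize.{u, u} S := inferInstance
    preservesColimitsOfSize_shrink.{0, u, 0, u} _
  haveI : ∀ k, Finite ↥(S.obj (G' k)) := fun k => (h' k).2 Ω ξ
  classical
  exact Finite.of_equiv _ ((PreservesCoproduct.iso S G' ≪≫
    ModuleCat.coprodIsoDirectSum.{u + 1, 0, u + 1} _).toLinearEquiv.trans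
      (DirectSum.linearEquivFunOnFintype Zl.{u} (Fin m) fun k => ↥(S.obj (G' k)))).symm.toEquiv

/-- A constructible sheaf killed by `n` is covered by a sum of `j_! ℤ/n`. -/
theorem exists_cover [CompactSpace X] [QuasiSeparatedSpace X] (n : ℕ) {F : EtCoh.Ab X}
    (hF : EtPBC.IsConstructible F) (hFn : EtCoh.KilledBy n F) :
    ∃ (b : ℕ) (U : Fin b → X.Etale) (_ : ∀ i, IsAffine (U i).left)
      (ψ : (⨁ fun i => EtPBC.extZeroConst (U i) (ZMod n)) ⟶ F), Epi ψ := by
  obtain ⟨F', ⟨e⟩⟩ := exists_lift F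
  obtain ⟨h1, -⟩ := (isConstructible_iff F').1 (PBCOps.isConstructible_of_iso e.symm hF)
  obtain ⟨m, G, hG⟩ := FiniteGen.exists_gen h1
  let s : ∀ k, F.obj.obj (op (G k).V) := fun k =>
    e.hom.hom.app (op (G k).V) (Free.ev (G k).θ)
  let f : ∀ k, AddCommGrpCat.of (ULift.{u + 1} (ZMod n)) ⟶ F.obj.obj (op (G k).V) := fun k =>
    AddCommGrpCat.ofHom ((ZMod.lift n ⟨zmultiplesHom _ (s k), by
      rw [zmultiplesHom_apply, natCast_zsmul]
      exact hFn _ (s k)⟩).comp AddEquiv.ulift.toAddMonoidHom)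
  let h : ∀ k, EtPBC.extZeroConst (G k).V (ZMod n) ⟶ F := fun k =>
    ((adjL (G k).V).homEquiv _ F).symm (f k)
  refine ⟨m, fun k => (G k).V, fun k => (G k).isAffine, biproduct.desc h, ?_⟩
  refine Preadditive.epi_of_cancel_zero _ fun {Z} a ha => ?_
  obtain ⟨Z', ⟨eZ⟩⟩ := exists_lift Z
  obtain ⟨a', ha'⟩ := (fg X).map_surjective (e.hom ≫ a ≫ eZ.inv)
  have hθ : ∀ k, (G k).θ ≫ a' = 0 := by
    intro k
    have h0 : h k ≫ a = 0 := by
      have := congrArg (fun t => biproduct.ι _ k ≫ t) ha
      simpa using this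
    have h1 : f k ≫ a.hom.app (op (G k).V) = 0 := by
      have := (adjL (G k).V).homEquiv_naturality_right (h k) a
      rw [h0] at this
      simp only [h, Equiv.apply_symm_apply] at this
      have hz := (adjL (G k).V).homEquiv_naturality_right (h k) (0 : F ⟶ Z)
      rw [comp_zero] at hz
      refine this.symm.trans (hz.trans ?_)
      exact comp_zero
    have h2 : a.hom.app (op (G k).V) (s k) = 0 := by
      have := ConcreteCategory.congr_hom h1 (ULift.up (1 : ZMod n))
      rw [ConcreteCategory.comp_apply] at this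
      have hf : f k (ULift.up (1 : ZMod n)) = s k := by
        simp only [f, AddCommGrpCat.hom_ofHom, AddMonoidHom.comp_apply]
        change (ZMod.lift n _) (1 : ZMod n) = s k
        rw [show (1 : ZMod n) = ((1 : ℤ) : ZMod n) by simp, ZMod.lift_coe]
        simp
      rw [hf] at this
      exact this
    apply Free.ev.injective
    rw [Free.ev_comp, Free.ev_zero]
    have h3 : ((fg X).map a').hom.app (op (G k).V) (Free.ev (G k).θ) = 0 := by
      rw [ha']
      change eZ.inv.hom.app (op (G k).V) (a.hom.app (op (G k).V) (s k)) = 0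
      rw [h2, map_zero]
    exact h3
  have ha0 : a' = 0 := by
    haveI := hG
    rw [← cancel_epi (FiniteGen.desc G), comp_zero]
    exact Sigma.hom_ext _ _ fun k => by
      rw [comp_zero, FiniteGen.desc, Sigma.ι_desc_assoc]
      exact hθ k
  rw [ha0, Functor.map_zero] at ha'
  have : a ≫ eZ.inv = 0 := (cancel_epi e.hom).1 (ha'.symm.trans comp_zero.symm)
  exact zero_of_comp_mono eZ.inv this

/-- Presentation by sums of `j_! ℤ/n`. -/
theorem exists_presentation [CompactSpace X] [QuasiSeparatedSpace X] (n : ℕ) [NeZero n]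
    {F : EtCoh.Ab X} (hF : EtPBC.IsConstructible F) (hFn : EtCoh.KilledBy n F) :
    ∃ (a b : ℕ) (V : Fin a → X.Etale) (U : Fin b → X.Etale) (_ : ∀ j, IsAffine (V j).left)
      (_ : ∀ i, IsAffine (U i).left)
      (φ : (⨁ fun j => EtPBC.extZeroConst (V j) (ZMod n)) ⟶
        ⨁ fun i => EtPBC.extZeroConst (U i) (ZMod n)),
      Nonempty (F ≅ cokernel φ) := by
  obtain ⟨b, U, hU, ψ, hψ⟩ := exists_cover n hF hFn
  have hP : EtPBC.IsConstructible (⨁ fun i => EtPBC.extZeroConst (U i) (ZMod n)) :=
    isConstructible_biproduct _ fun i => by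
      haveI := hU i
      haveI : Etale (U i).hom := (U i).prop
      exact PBCExtZero.isConstructible_extZeroConst (U i) (ZMod n)
  have hk : EtCoh.KilledBy n (kernel ψ) := by
    rw [killedBy_iff, ← cancel_mono (kernel.ι ψ), zero_comp]
    have h0 : n • 𝟙 (⨁ fun i => EtPBC.extZeroConst (U i) (ZMod n)) = 0 := by
      refine biproduct.hom_ext' _ _ fun i => ?_
      rw [comp_zero, Preadditive.comp_nsmul, Category.comp_id]
      haveI : (L (U i)).IsLeftAdjoint := (adjL (U i)).isLeftAdjoint
      haveI : (L (U i)).Additive :=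
        haveI : PreservesBinaryBiproducts (L (U i)) := preservesBinaryBiproducts_of_preservesBinaryCoproducts _
        Functor.additive_of_preservesBinaryBiproducts _
      have hA : n • 𝟙 (AddCommGrpCat.of (ULift.{u + 1} (ZMod n))) = 0 := by
        ext ⟨x⟩
        simp
      have hL : n • 𝟙 ((L (U i)).obj (AddCommGrpCat.of (ULift.{u + 1} (ZMod n)))) = 0 := by
        rw [← CategoryTheory.Functor.map_id, ← Functor.map_nsmul, hA, Functor.map_zero]
      have := congrArg (fun t => t ≫ biproduct.ι (fun i => EtPBC.extZeroConst (U i) (ZMod n)) i) hL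
      simpa [Preadditive.nsmul_comp] using this
    rw [Preadditive.nsmul_comp, Category.id_comp]
    have := congrArg (fun t => kernel.ι ψ ≫ t) h0
    simpa [Preadditive.comp_nsmul] using this
  obtain ⟨a, V, hV, ψ', hψ'⟩ := exists_cover n (PBCOps.isConstructible_kernel_cokernel ψ hP hF).1 hk
  refine ⟨a, b, V, U, hV, hU, ψ' ≫ kernel.ι ψ, ⟨?_⟩⟩
  haveI := hψ
  haveI := hψ'
  have hS : (ShortComplex.mk (ψ' ≫ kernel.ι ψ) ψ (by simp)).Exact := by
    refine (ShortComplex.exact_iff_epi_kernel_lift _).2 ?_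
    have : kernel.lift ψ (ψ' ≫ kernel.ι ψ) (by simp) = ψ' := by
      rw [← cancel_mono (kernel.ι ψ), kernel.lift_ι]
    simpa [this] using hψ'
  exact (hS.gIsCokernel).coconePointUniqueUpToIso (colimit.isColimit _)

end Groth.Agent.H88.EtMod.PBCPresent
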