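import Groth.Prelude.Def_EtModD2
import Groth.Prelude.Def_SixF2
import Groth.Prelude.Def_PBC
import Groth.Agent.H88.EtMod.WeakSerre
import Groth.Agent.Lib.ActSep.Criterion
import Mathlib.CategoryTheory.Sites.Adjunction
import Mathlib.CategoryTheory.Sites.ConstantSheaf

/-!
Abelian sheaves as sheaves of modules over the integers; the two notions of constructibility.
-/

set_option autoImplicit false
set_option linter.style.haveILetI false

universe u

open CategoryTheory CategoryTheory.Limits AlgebraicGeometry Opposite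

noncomputable section

namespace Groth.Agent.H88.EtMod.AbBridge

/-- The integers, lifted. -/
abbrev Zl : Type (u + 1) := ULift.{u + 1} ℤ

/-- Abelian groups as modules over the lifted integers. -/
abbrev fgt : ModuleCat.{u + 1} Zl.{u} ⥤ AddCommGrpCat.{u + 1} :=
  forget₂ (ModuleCat.{u + 1} Zl.{u}) AddCommGrpCat.{u + 1}

instance fgt_full : fgt.{u}.Full where
  map_surjective {A B} f := ⟨ModuleCat.ofHom
    { toFun := fun a => f a
      map_add' := fun a b => map_add f.hom a b
      map_smul' := fun c a => by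
        obtain ⟨n, rfl⟩ : ∃ n : ℤ, (n : Zl.{u}) = c := ⟨c.down, ULift.ext _ _ (by simp)⟩
        let φ : ↑A →+ ↑B := f.hom
        have hA := @Int.cast_smul_eq_zsmul Zl.{u} ↑A _ _ A.isModule n a
        have hB := @Int.cast_smul_eq_zsmul Zl.{u} ↑B _ _ B.isModule n (φ a)
        exact (congrArg φ hA).trans ((map_zsmul φ n a).trans hB.symm) }, rfl⟩

instance fgt_essSurj : fgt.{u}.EssSurj where
  mem_essImage A :=
    letI : Module Zl.{u} A := Module.compHom A (ULift.ringEquiv (R := ℤ)).toRingHom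
    ⟨ModuleCat.of Zl.{u} A, ⟨Iso.refl _⟩⟩

instance fgt_isEquivalence : fgt.{u}.IsEquivalence where

variable {X Y : Scheme.{u}}

/-- The forgetful functor on sheaves. -/
abbrev fg (X : Scheme.{u}) : EtModW.Mod Zl.{u} X ⥤ EtCoh.Ab X := EtModD.forgetToAb Zl.{u} X

instance fg_faithful : (fg X).Faithful where
  map_injective {F G a b} h := by
    apply Sheaf.hom_ext
    ext U : 2
    exact fgt.{u}.map_injective (congrArg (fun k => k.hom.app U) h)

instance fg_full : (fg X).Full where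
  map_surjective {F G} a := ⟨⟨((Functor.FullyFaithful.ofFullyFaithful fgt.{u}).whiskeringRight _).preimage
    a.hom⟩, Sheaf.hom_ext (((Functor.FullyFaithful.ofFullyFaithful fgt.{u}).whiskeringRight _).map_preimage
      a.hom)⟩

instance fg_essSurj : (fg X).EssSurj where
  mem_essImage F :=
    ⟨(sheafCompose X.smallEtaleTopology fgt.{u}.inv).obj F,
      ⟨(fullyFaithfulSheafToPresheaf _ _).preimageIso
        (Functor.associator F.obj fgt.{u}.inv fgt.{u} ≪≫
          Functor.isoWhiskerLeft F.obj fgt.{u}.asEquivalence.counitIso ≪≫ F.obj.rightUnitor)⟩⟩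

instance fg_isEquivalence : (fg X).IsEquivalence where

/-- Every abelian sheaf is a sheaf of modules over the integers. -/
theorem exists_lift (F : EtCoh.Ab X) : ∃ F' : EtModW.Mod Zl.{u} X, Nonempty ((fg X).obj F' ≅ F) :=
  (fg_essSurj (X := X)).mem_essImage F

/-- Inverse images commute with forgetting. -/
def pullIso (f : X ⟶ Y) :
    EtModW.pull Zl.{u} f ⋙ fg X ≅ fg Y ⋙ EtCoh.pull f :=
  let adj : (fg Y).inv ⋙ EtModW.pull Zl.{u} f ⋙ fg X ⊣ EtCoh.push f :=
    ((fg Y).asEquivalence.symm.toAdjunction.comp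
      ((EtSix.pullPushModAdj Zl.{u} f).comp (fg X).asEquivalence.toAdjunction)).ofNatIsoRight
      (Functor.associator _ _ _ ≪≫ Functor.isoWhiskerLeft (fg X).inv
        (NatIso.ofComponents (fun _ => Iso.refl _) : EtModW.push Zl.{u} f ⋙ fg Y ≅ fg X ⋙ EtCoh.push f) ≪≫
        (Functor.associator _ _ _).symm ≪≫
        Functor.isoWhiskerRight (fg X).asEquivalence.counitIso _ ≪≫ Functor.leftUnitor _)
  (Functor.leftUnitor _).symm ≪≫
    Functor.isoWhiskerRight (fg Y).asEquivalence.unitIso _ ≪≫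
    Functor.associator _ _ _ ≪≫
    Functor.isoWhiskerLeft (fg Y) (Adjunction.leftAdjointUniq adj (EtCoh.pullPushAdj f))

instance fgt_preservesSheafification {C : Type (u + 1)} [SmallCategory C] (J : GrothendieckTopology C) :
    J.PreservesSheafification fgt.{u} :=
  Sheaf.preservesSheafification_of_adjunction J fgt.{u}.asEquivalence.toAdjunction

/-- The constant sheaves correspond. -/
def constIso (U : X.Etale) (M : ModuleCat.{u + 1} Zl.{u}) :
    (sheafCompose (X.smallEtaleTopology.over U) fgt.{u}).obj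
        ((constantSheaf (X.smallEtaleTopology.over U) (ModuleCat.{u + 1} Zl.{u})).obj M) ≅
      (constantSheaf (X.smallEtaleTopology.over U) AddCommGrpCat.{u + 1}).obj (fgt.{u}.obj M) :=
  (constantCommuteCompose (X.smallEtaleTopology.over U) fgt.{u}).app M

instance sheafCompose_fullyFaithful (U : X.Etale) :
    (sheafCompose (X.smallEtaleTopology.over U) fgt.{u}).Full :=
  ⟨fun {F G} a => ⟨⟨((Functor.FullyFaithful.ofFullyFaithful fgt.{u}).whiskeringRight _).preimage
    a.hom⟩, Sheaf.hom_ext (((Functor.FullyFaithful.ofFullyFaithful fgt.{u}).whiskeringRight _).map_preimage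
      a.hom)⟩⟩

/-- Finite local constancy, for modules over the integers. -/
theorem isFiniteLocallyConstant_iff (F : EtModW.Mod Zl.{u} X) :
    EtCoh.IsFiniteLocallyConstant ((fg X).obj F) ↔ ∀ x : X, ∃ (U : X.Etale)
      (_ : ∃ u : U.left, U.hom.base u = x) (M : Type (u + 1)) (_ : AddCommGroup M) (_ : Module Zl.{u} M)
      (_ : Finite M) (φ : M →ₗ[Zl.{u}] F.obj.obj (op U)), LCChart.IsChart F U φ := by
  constructor
  · rintro ⟨ι, V, hV, hc⟩ x
    obtain ⟨i, v, hv⟩ := hV x
    obtain ⟨M, _, _, ⟨e⟩⟩ := hc i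
    obtain ⟨A, ⟨ε⟩⟩ := fgt_essSurj.{u}.mem_essImage (AddCommGrpCat.of (ULift.{u + 1} M))
    haveI : Finite A := Finite.of_equiv _ ε.addCommGroupIsoToAddEquiv.symm.toEquiv
    haveI : Module.Finite Zl.{u} A := @Module.Finite.of_finite _ _ _ _ _ _
    let e' : (sheafCompose (X.smallEtaleTopology.over (V i)) fgt.{u}).obj (EtModW.restr Zl.{u} F (V i)) ≅
        (sheafCompose (X.smallEtaleTopology.over (V i)) fgt.{u}).obj
          ((constantSheaf (X.smallEtaleTopology.over (V i)) (ModuleCat.{u + 1} Zl.{u})).obj A) :=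
      e ≪≫ (constantSheaf _ _).mapIso ε.symm ≪≫ (constIso (V i) A).symm
    haveI : (sheafCompose (X.smallEtaleTopology.over (V i)) fgt.{u}).Faithful :=
      ⟨fun {P Q a b} h => Sheaf.hom_ext (by
        ext W : 2
        exact fgt.{u}.map_injective (congrArg (fun k => k.hom.app W) h))⟩
    obtain ⟨φ, hφ⟩ := LCChart.exists_isChart
      ((Functor.FullyFaithful.ofFullyFaithful _).preimageIso e')
    exact ⟨V i, ⟨v, hv⟩, A, inferInstance, inferInstance, inferInstance, φ, hφ⟩
  · intro h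
    choose V hV N i1 i2 i3 φ hφ using h
    refine ⟨X, V, fun x => ?_, fun x => ?_⟩
    · obtain ⟨v, hv⟩ := hV x
      exact ⟨x, v, hv⟩
    · letI := i1 x
      letI := i2 x
      haveI := i3 x
      obtain ⟨_⟩ := nonempty_fintype (N x)
      haveI : Module.Finite Zl.{u} (N x) := Module.Finite.of_finite
      haveI : Small.{0} (N x) := Countable.toSmall _
      obtain ⟨e⟩ := (hφ x).nonempty_iso
      refine ⟨Shrink.{0} (N x), inferInstance, Finite.of_equiv _ (equivShrink.{0} (N x)), ⟨?_⟩⟩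
      exact (sheafCompose (X.smallEtaleTopology.over (V x)) fgt.{u}).mapIso e ≪≫ constIso (V x) _ ≪≫
        (constantSheaf _ _).mapIso (AddEquiv.toAddCommGrpIso
          ((Shrink.addEquiv.{0} (α := N x)).symm.trans AddEquiv.ulift.symm))

/-- Finite local constancy is local constancy of finite type with finite stalks. -/
theorem isFiniteLocallyConstant_iff' (F : EtModW.Mod Zl.{u} X) :
    EtCoh.IsFiniteLocallyConstant ((fg X).obj F) ↔ EtModW.IsFTLocConst Zl.{u} F ∧
      ∀ (Ω : Type u) [Field Ω] [IsSepClosed Ω] (ξ : Spec (CommRingCat.of Ω) ⟶ X),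
        Finite ↥((Scheme.pointSmallEtale ξ).sheafFiber.obj F) := by
  rw [isFiniteLocallyConstant_iff, LCChart.isFTLocConst_iff]
  constructor
  · intro h
    refine ⟨fun x => ?_, fun Ω _ _ ξ => ?_⟩
    · obtain ⟨U, hU, M, _, _, _, φ, hφ⟩ := h x
      exact ⟨U, hU, M, inferInstance, inferInstance, Module.Finite.of_finite, φ, hφ⟩
    · obtain ⟨U, ⟨v, hv⟩, M, _, _, _, φ, hφ⟩ := h (ξ.base default)
      obtain ⟨p, -⟩ := Groth.Agent.Lib.EtSite.Basic.exists_fiber ξ U v hv
      exact Finite.of_surjective _ (hφ Ω ξ p).2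
  · rintro ⟨h, hfin⟩ x
    obtain ⟨U, ⟨v, hv⟩, M, _, _, _, φ, hφ⟩ := h x
    obtain ⟨p, -⟩ := Groth.Agent.Lib.EtSite.Basic.exists_fiber (Groth.Agent.Lib.EtSite.Basic.geomPoint X x)
      U v (hv.trans (Groth.Agent.Lib.EtSite.Basic.geomPoint_apply x default).symm)
    haveI := hfin _ (Groth.Agent.Lib.EtSite.Basic.geomPoint X x)
    exact ⟨U, ⟨v, hv⟩, M, inferInstance, inferInstance, Finite.of_injective _ (hφ _ _ p).1, φ, hφ⟩

theorem isFiniteLC_of_iso {F G : EtCoh.Ab X} (e : F ≅ G) (h : EtCoh.IsFiniteLocallyConstant F) :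
    EtCoh.IsFiniteLocallyConstant G := by
  obtain ⟨ι, U, hU, h⟩ := h
  refine ⟨ι, U, hU, fun i => ?_⟩
  obtain ⟨M, hM₁, hM₂, ⟨f⟩⟩ := h i
  exact ⟨M, hM₁, hM₂, ⟨((X.smallEtaleTopology.overPullback _ (U i)).mapIso e).symm ≪≫ f⟩⟩

/-- Finite stalks at all geometric points. -/
def FinStalks (F : EtModW.Mod Zl.{u} X) : Prop :=
  ∀ (Ω : Type u) [Field Ω] [IsSepClosed Ω] (ξ : Spec (CommRingCat.of Ω) ⟶ X),
    Finite ↥((Scheme.pointSmallEtale ξ).sheafFiber.obj F)

theorem finite_stalk_of_range {T : Scheme.{u}} (g : T ⟶ X) [IsImmersion g] {F : EtModW.Mod Zl.{u} X}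
    {Ω : Type u} [Field Ω] [IsSepClosed Ω] (ξ : Spec (CommRingCat.of Ω) ⟶ X)
    (h : ξ.base default ∈ Set.range g.base) (hF : FinStalks ((EtModW.pull Zl.{u} g).obj F)) :
    Finite ↥((Scheme.pointSmallEtale ξ).sheafFiber.obj F) := by
  obtain ⟨η, rfl⟩ : ∃ η, η ≫ g = ξ :=
    Groth.Agent.Lib.ActSep.Criterion.exists_lift_of_isImmersion ξ g (by
      rintro _ ⟨p, rfl⟩
      rwa [Subsingleton.elim p default])
  haveI := hF Ω η
  exact @Finite.of_equiv _ _ (hF Ω η) ((Groth.Agent.Lib.EtSite.Pull.stalkPullIso.{u} g η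
    (ModuleCat.{u + 1} Zl.{u})).app F).toLinearEquiv.toEquiv

/-- Constructibility of an abelian sheaf, for modules over the integers. -/
theorem isConstructible_iff (F : EtModW.Mod Zl.{u} X) :
    EtPBC.IsConstructible ((fg X).obj F) ↔ EtModW.IsConstructible Zl.{u} F ∧ FinStalks F := by
  constructor
  · intro h
    have key : ∀ (U : X.Opens), IsAffineOpen U → ∃ (n : ℕ) (T : Fin n → Scheme.{u}) (g : ∀ i, T i ⟶ X),
        (∀ i, IsImmersion (g i)) ∧
        (∀ i, Topology.IsConstructible ((Subtype.val : ↥(U : Set X) → X) ⁻¹' Set.range (g i))) ∧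
        Pairwise (fun i j => Disjoint (Set.range (g i)) (Set.range (g j))) ∧
        (⋃ i, Set.range (g i)) = (U : Set X) ∧
        ∀ i, EtModW.IsFTLocConst Zl.{u} ((EtModW.pull Zl.{u} (g i)).obj F) ∧
          FinStalks ((EtModW.pull Zl.{u} (g i)).obj F) := by
      intro U hU
      obtain ⟨n, T, g, h1, h2, h3, h4, h5⟩ := h U hU
      refine ⟨n, T, g, h1, h2, h3, h4, fun i => (isFiniteLocallyConstant_iff' _).1 ?_⟩
      exact isFiniteLC_of_iso ((pullIso (g i)).app F).symm (h5 i)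
    refine ⟨fun U hU => ?_, fun Ω _ _ ξ => ?_⟩
    · obtain ⟨n, T, g, h1, h2, h3, h4, h5⟩ := key U hU
      exact ⟨n, T, g, h1, h2, h3, h4, fun i => (h5 i).1⟩
    · obtain ⟨_, ⟨(U : X.Opens), hU, rfl⟩, hx, -⟩ :=
        X.isBasis_affineOpens.exists_subset_of_mem_open (Set.mem_univ (ξ.base default)) isOpen_univ
      obtain ⟨n, T, g, h1, -, -, h4, h5⟩ := key U hU
      obtain ⟨i, t, ht⟩ := Set.mem_iUnion.1 (h4.symm ▸ hx : ξ.base default ∈ ⋃ i, Set.range (g i))
      haveI := h1 i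
      exact finite_stalk_of_range (g i) ξ ⟨t, ht⟩ (h5 i).2
  · rintro ⟨h, hfin⟩ U hU
    obtain ⟨n, T, g, h1, h2, h3, h4, h5⟩ := h U hU
    refine ⟨n, T, g, h1, h2, h3, h4, fun i => ?_⟩
    intro _
    refine isFiniteLC_of_iso ((pullIso (g i)).app F) ((isFiniteLocallyConstant_iff' _).2 ⟨h5 i, ?_⟩)
    intro Ω _ _ ξ
    haveI := hfin Ω (ξ ≫ g i)
    exact Finite.of_equiv _ ((Groth.Agent.Lib.EtSite.Pull.stalkPullIso.{u} (g i) ξ
      (ModuleCat.{u + 1} Zl.{u})).app F).toLinearEquiv.symm.toEquiv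

end Groth.Agent.H88.EtMod.AbBridge
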