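import Groth.Agent.H88.EtMod.PBCExtZero
import Groth.Agent.Lib.Spectral.Basic

/-!
The support of a constructible abelian sheaf is locally constructible.
-/

set_option autoImplicit false
set_option linter.style.haveILetI false

universe u

open CategoryTheory CategoryTheory.Limits AlgebraicGeometry Opposite Topology

noncomputable section

namespace Groth.Agent.H88.EtMod.Support

open AbBridge Groth.Agent.Lib.EtSite Groth.Agent.Lib.EtSite.Basic

variable {X : Scheme.{u}}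

/-- A point where some stalk is nonzero. -/
def Nz (F : EtModW.Mod Zl.{u} X) : Set X :=
  {x | ∃ (Ω : Type u) (_ : Field Ω) (_ : IsSepClosed Ω) (ξ : Spec (CommRingCat.of Ω) ⟶ X),
    Set.range ξ.base = {x} ∧ Nontrivial ↥((Scheme.pointSmallEtale ξ).sheafFiber.obj F)}

theorem supp_fg (F : EtModW.Mod Zl.{u} X) : EtPBC.supp ((fg X).obj F) = Nz F := by
  have key : ∀ (Ω : Type u) [Field Ω] [IsSepClosed Ω] (ξ : Spec (CommRingCat.of Ω) ⟶ X),
      ¬ IsZero ((EtCoh.stalk ξ).obj ((fg X).obj F)) ↔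
        Nontrivial ↥((Scheme.pointSmallEtale ξ).sheafFiber.obj F) := fun Ω _ _ ξ => by
    let e := (PBCExtZero.stalkFgIso F ξ).addCommGroupIsoToAddEquiv.toEquiv
    rw [← not_subsingleton_iff_nontrivial]
    refine not_congr ⟨fun h => ?_, fun h => ?_⟩
    · haveI := AddCommGrpCat.subsingleton_of_isZero h
      exact e.symm.subsingleton
    · haveI : Subsingleton ↥((EtCoh.stalk ξ).obj ((fg X).obj F)) :=
        @Equiv.subsingleton _ _ e h
      exact AddCommGrpCat.isZero_of_subsingleton _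
  ext x
  exact exists_congr fun Ω => exists_congr fun i₁ => exists_congr fun i₂ => exists_congr fun ξ =>
    and_congr_right fun _ => @key Ω i₁ i₂ ξ

theorem mem_Nz_iff_of_chart {F : EtModW.Mod Zl.{u} X} {U : X.Etale} (v : U.left)
    {M : Type (u + 1)} [AddCommGroup M] [Module Zl.{u} M] {φ : M →ₗ[Zl.{u}] F.obj.obj (op U)}
    (hφ : LCChart.IsChart F U φ) : U.hom.base v ∈ Nz F ↔ Nontrivial M := by
  constructor
  · rintro ⟨Ω, _, _, ξ, hξ, hnt⟩
    have hx : ξ.base default = U.hom.base v := by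
      have : ξ.base default ∈ Set.range ξ.base := ⟨default, rfl⟩
      rwa [hξ] at this
    obtain ⟨p, -⟩ := exists_fiber ξ U v hx.symm
    exact (Equiv.ofBijective _ (hφ Ω ξ p)).nontrivial
  · intro hM
    let ξ := geomPoint X (U.hom.base v)
    obtain ⟨p, -⟩ := exists_fiber ξ U v (geomPoint_apply _ default).symm
    refine ⟨_, inferInstance, inferInstance, ξ, ?_, (Equiv.ofBijective _ (hφ _ ξ p)).symm.nontrivial⟩
    ext y
    constructor
    · rintro ⟨z, rfl⟩
      exact geomPoint_apply _ z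
    · rintro rfl
      exact ⟨default, geomPoint_apply _ default⟩

theorem isClopen_Nz {F : EtModW.Mod Zl.{u} X} (hF : EtModW.IsFTLocConst Zl.{u} F) :
    IsClopen (Nz F) := by
  have key : ∀ x : X, ∃ O : Set X, IsOpen O ∧ x ∈ O ∧ ∀ y ∈ O, (y ∈ Nz F ↔ x ∈ Nz F) := by
    intro x
    obtain ⟨U, ⟨v, hv⟩, M, _, _, _, φ, hφ⟩ := LCChart.isFTLocConst_iff.1 hF x
    haveI : Etale U.hom := U.prop
    refine ⟨Set.range U.hom.base, U.hom.isOpenMap.isOpen_range, ⟨v, hv⟩, ?_⟩
    rintro _ ⟨w, rfl⟩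
    rw [← hv, mem_Nz_iff_of_chart w hφ, mem_Nz_iff_of_chart v hφ]
  constructor
  · refine isOpen_compl_iff.1 (isOpen_iff_forall_mem_open.2 fun x hx => ?_)
    obtain ⟨O, hO, hxO, h⟩ := key x
    exact ⟨O, fun y hy hy' => hx ((h y hy).1 hy'), hO, hxO⟩
  · refine isOpen_iff_forall_mem_open.2 fun x hx => ?_
    obtain ⟨O, hO, hxO, h⟩ := key x
    exact ⟨O, fun y hy => (h y hy).2 hx, hO, hxO⟩

theorem mem_Nz_pull {T : Scheme.{u}} (g : T ⟶ X) [IsImmersion g] (F : EtModW.Mod Zl.{u} X) (t : T) :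
    t ∈ Nz ((EtModW.pull Zl.{u} g).obj F) ↔ g.base t ∈ Nz F := by
  haveI := LCOps.hasLimits_small (Λ := Zl.{u})
  constructor
  · rintro ⟨Ω, i₁, i₂, ξ, hξ, hnt⟩
    refine ⟨Ω, i₁, i₂, ξ ≫ g, ?_, @Equiv.nontrivial _ _ ((Pull.stalkPullIso.{u} g ξ
      (ModuleCat.{u + 1} Zl.{u})).app F).toLinearEquiv.symm.toEquiv hnt⟩
    rw [Scheme.Hom.comp_base, TopCat.coe_comp, Set.range_comp, hξ, Set.image_singleton]
  · rintro ⟨Ω, i₁, i₂, ξ, hξ, hnt⟩
    have hsub : ∀ z, ξ.base z ∈ Set.range g.base := fun z => by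
      have : ξ.base z ∈ Set.range ξ.base := ⟨z, rfl⟩
      rw [hξ] at this
      exact ⟨t, this.symm⟩
    obtain ⟨η, hη⟩ : ∃ η, η ≫ g = ξ :=
      Groth.Agent.Lib.ActSep.Criterion.exists_lift_of_isImmersion ξ g (by
        rintro _ ⟨p, rfl⟩
        exact hsub p)
    subst hη
    refine ⟨Ω, i₁, i₂, η, ?_, @Equiv.nontrivial _ _ ((Pull.stalkPullIso.{u} g η
      (ModuleCat.{u + 1} Zl.{u})).app F).toLinearEquiv.toEquiv hnt⟩
    ext s
    constructor
    · rintro ⟨z, rfl⟩
      apply g.isEmbedding.injective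
      have : (η ≫ g).base z ∈ Set.range (η ≫ g).base := ⟨z, rfl⟩
      rw [hξ] at this
      exact this
    · rintro rfl
      have : g.base s ∈ Set.range (η ≫ g).base := by rw [hξ]; rfl
      obtain ⟨z, hz⟩ := this
      exact ⟨z, g.isEmbedding.injective hz⟩

/-- The support of a constructible abelian sheaf is locally constructible. -/
theorem isLocallyConstructible_supp {F : EtCoh.Ab X} (hF : EtPBC.IsConstructible F) :
    IsLocallyConstructible (EtPBC.supp F) := by
  obtain ⟨F', ⟨e⟩⟩ := exists_lift F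
  have hsupp : EtPBC.supp F = Nz F' := by
    rw [← supp_fg]
    ext x
    refine exists_congr fun Ω => exists_congr fun i₁ => exists_congr fun i₂ => exists_congr fun ξ =>
      and_congr_right fun _ => not_congr ?_
    exact ((EtCoh.stalk ξ).mapIso e).symm.isZero_iff
  rw [hsupp]
  obtain ⟨h1, -⟩ := (isConstructible_iff F').1 (PBCOps.isConstructible_of_iso e.symm hF)
  intro x
  obtain ⟨_, ⟨(U : X.Opens), hU, rfl⟩, hx, -⟩ :=
    X.isBasis_affineOpens.exists_subset_of_mem_open (Set.mem_univ x) isOpen_univ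
  refine ⟨U, U.2.mem_nhds hx, U.2, ?_⟩
  obtain ⟨n, T, g, hg, hc, -, hcov, hlc⟩ := h1 U hU
  haveI : IsAffine (U : Scheme.{u}) := hU
  haveI : CompactSpace ↥(U : Set X) := inferInstanceAs (CompactSpace (U : Scheme.{u}))
  haveI : QuasiSober ↥(U : Set X) := inferInstanceAs (QuasiSober (U : Scheme.{u}))
  haveI : PrespectralSpace ↥(U : Set X) := inferInstanceAs (PrespectralSpace (U : Scheme.{u}))
  haveI : QuasiSeparatedSpace ↥(U : Set X) := inferInstanceAs (QuasiSeparatedSpace (U : Scheme.{u}))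
  haveI : SpectralSpace ↥(U : Set X) := {}
  have hrange : ∀ i, Set.range (g i).base ⊆ (U : Set X) := fun i =>
    hcov ▸ Set.subset_iUnion (fun i => Set.range (g i).base) i
  have piece : ∀ i, IsConstructible ((Subtype.val : ↥(U : Set X) → X) ⁻¹'
      ((g i).base '' Nz ((EtModW.pull Zl.{u} (g i)).obj F'))) := by
    intro i
    haveI := hg i
    let k : T i → ↥(U : Set X) := fun t => ⟨(g i).base t, hrange i ⟨t, rfl⟩⟩
    have hk : IsEmbedding k := (g i).isEmbedding.codRestrict _ _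
    obtain ⟨hclosed, hopen⟩ := isClopen_Nz (hlc i)
    obtain ⟨O, hO, hOk⟩ := hk.isInducing.isOpen_iff.1 hopen
    have hR : (Subtype.val : ↥(U : Set X) → X) ⁻¹' Set.range (g i).base = Set.range k := by
      ext z
      exact ⟨fun ⟨t, ht⟩ => ⟨t, Subtype.ext ht⟩, fun ⟨t, ht⟩ => ⟨t, congrArg Subtype.val ht⟩⟩
    have hTc : CompactSpace ↥(T i) := by
      rw [← isCompact_univ_iff, hk.isCompact_iff, Set.image_univ, ← hR]
      exact Lib.Spectral.Basic.isCompact_of_isConstructible (hc i)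
    have hN : IsCompact (k '' Nz ((EtModW.pull Zl.{u} (g i)).obj F')) :=
      hclosed.isCompact.image hk.continuous
    obtain ⟨V, hVo, hVc, hNV, hVO⟩ : ∃ V : Set ↥(U : Set X), IsOpen V ∧ IsCompact V ∧
        k '' Nz ((EtModW.pull Zl.{u} (g i)).obj F') ⊆ V ∧ V ⊆ O := by
      have hcover : ∀ z ∈ k '' Nz ((EtModW.pull Zl.{u} (g i)).obj F'),
          ∃ W : Set ↥(U : Set X), IsOpen W ∧ IsCompact W ∧ z ∈ W ∧ W ⊆ O := by
        rintro z ⟨t, ht, rfl⟩
        have hz : k t ∈ O := by rw [← hOk] at ht; exact ht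
        obtain ⟨W, ⟨hWo, hWc⟩, hzW, hWO⟩ := PrespectralSpace.isTopologicalBasis.exists_subset_of_mem_open hz hO
        exact ⟨W, hWo, hWc, hzW, hWO⟩
      choose W hWo hWc hzW hWO using hcover
      obtain ⟨s, hs⟩ := hN.elim_finite_subcover (fun z : ↥(k '' Nz ((EtModW.pull Zl.{u} (g i)).obj F')) =>
        W z.1 z.2) (fun z => hWo _ z.2) fun z hz => Set.mem_iUnion.2 ⟨⟨z, hz⟩, hzW z hz⟩
      refine ⟨⋃ z ∈ s, W z.1 z.2, isOpen_biUnion fun z _ => hWo _ z.2,
        s.isCompact_biUnion fun z _ => hWc _ z.2, hs, Set.iUnion₂_subset fun z _ => hWO _ z.2⟩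
    have heq : (Subtype.val : ↥(U : Set X) → X) ⁻¹'
        ((g i).base '' Nz ((EtModW.pull Zl.{u} (g i)).obj F')) = Set.range k ∩ V := by
      ext z
      constructor
      · rintro ⟨t, ht, htz⟩
        have : k t = z := Subtype.ext htz
        exact ⟨⟨t, this⟩, this ▸ hNV ⟨t, ht, rfl⟩⟩
      · rintro ⟨⟨t, rfl⟩, hV⟩
        exact ⟨t, by rw [← hOk]; exact hVO hV, rfl⟩
    rw [heq, ← hR]
    exact (hc i).inter ((hVc.isRetrocompact hVo).isConstructible hVo)
  have : ((Subtype.val : ↥(U : Set X) → X) ⁻¹' Nz F') = ⋃ i, (Subtype.val : ↥(U : Set X) → X) ⁻¹'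
      ((g i).base '' Nz ((EtModW.pull Zl.{u} (g i)).obj F')) := by
    ext z
    simp only [Set.mem_iUnion, Set.mem_preimage]
    constructor
    · intro hz
      obtain ⟨i, t, ht⟩ := Set.mem_iUnion.1 (hcov.symm ▸ z.2 : (z : X) ∈ ⋃ i, Set.range (g i))
      haveI := hg i
      exact ⟨i, t, (mem_Nz_pull (g i) F' t).2 (ht.symm ▸ hz), ht⟩
    · rintro ⟨i, t, ht, htz⟩
      haveI := hg i
      exact htz ▸ (mem_Nz_pull (g i) F' t).1 ht
  rw [this]
  exact IsConstructible.iUnion piece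

end Groth.Agent.H88.EtMod.Support
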