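import Groth.Prelude.Def_Pi1
import Groth.Agent.H88.EtMod.Support
import Groth.Agent.Lib.EtJ.Supp
import Groth.Agent.Lib.EtSite.UnitStalk
import Groth.Agent.Lib.EtSite.StalkNormal
import Groth.Agent.Lib.SchTopo.Closure
import Mathlib.AlgebraicGeometry.Morphisms.Flat

/-!
Constant sheaves on normal schemes and pushforwards from sets containing the maximal points.
-/

set_option autoImplicit false
set_option linter.style.haveILetI false

universe u

open CategoryTheory CategoryTheory.Limits AlgebraicGeometry Opposite Topology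

noncomputable section

namespace Groth.Agent.H88.EtMod.ConstNormal

open Groth.Agent.Lib.EtSite Groth.Agent.Lib.EtSite.Basic

abbrev germ {X : Scheme.{u}} (F : EtCoh.Ab X) (U : X.Etale) {Ω : Type u} [Field Ω] [IsSepClosed Ω]
    (ξ : Spec (CommRingCat.of Ω) ⟶ X) (p : (Scheme.pointSmallEtale ξ).fiber.obj U) :
    F.obj.obj (op U) ⟶ (EtCoh.stalk ξ).obj F :=
  (Scheme.pointSmallEtale ξ).toPresheafFiber U p F.obj

variable {X T : Scheme.{u}} (M : Type) [AddCommGroup M]

/-- Constant sections. -/
abbrev sec (U : X.Etale) : AddCommGrpCat.of (ULift.{u + 1} M) ⟶ (EtCoh.const X M).obj.obj (op U) :=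
  (toSheafify X.smallEtaleTopology
    ((Functor.const X.Etaleᵒᵖ).obj (AddCommGrpCat.of (ULift.{u + 1} M)))).app (op U)

theorem map_sec {U V : X.Etale} (g : V ⟶ U) (m : ULift.{u + 1} M) :
    (EtCoh.const X M).obj.map g.op (sec M U m) = sec M V m :=
  (NatTrans.naturality_apply (toSheafify X.smallEtaleTopology
    ((Functor.const X.Etaleᵒᵖ).obj (AddCommGrpCat.of (ULift.{u + 1} M)))) g.op m).symm

theorem bijective_germ_sec {U : X.Etale} {Ω : Type u} [Field Ω] [IsSepClosed Ω]
    (ξ : Spec (CommRingCat.of Ω) ⟶ X) (p : (Scheme.pointSmallEtale ξ).fiber.obj U) :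
    Function.Bijective fun m => germ (EtCoh.const X M) U ξ p (sec M U m) := by
  let P := (Functor.const X.Etaleᵒᵖ).obj (AddCommGrpCat.of (ULift.{u + 1} M))
  let τ := toSheafify X.smallEtaleTopology P
  have hb : Function.Bijective ((Scheme.pointSmallEtale ξ).presheafFiber.map τ) :=
    (Scheme.pointSmallEtale ξ).toPresheafFiber_map_bijective _
  have hg : ∀ {V : X.Etale} (q : (Scheme.pointSmallEtale ξ).fiber.obj V) (m : ULift.{u + 1} M),
      germ (EtCoh.const X M) V ξ q (sec M V m) =
        (Scheme.pointSmallEtale ξ).presheafFiber.map τ ((Scheme.pointSmallEtale ξ).toPresheafFiber V q P m) :=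
    fun q m => ((Scheme.pointSmallEtale ξ).toPresheafFiber_naturality_apply τ _ q m).symm
  constructor
  · intro m m' h
    simp only [hg] at h
    obtain ⟨W, g, q, -, he⟩ := ((Scheme.pointSmallEtale ξ).toPresheafFiber_eq_iff' (P := P) U p m m').1 (hb.1 h)
    exact he
  · intro z
    obtain ⟨y, rfl⟩ := hb.2 z
    obtain ⟨W, q, m, rfl⟩ := (Scheme.pointSmallEtale ξ).toPresheafFiber_jointly_surjective (P := P) y
    obtain ⟨W', a, b, w, hw, hw'⟩ := LocConst.exists_min p q
    refine ⟨m, ?_⟩
    simp only [hg, ← hw, ← hw']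
    congr 1
    exact ((GrothendieckTopology.Point.toPresheafFiber_w_apply _ a w P m).symm).trans
      (GrothendieckTopology.Point.toPresheafFiber_w_apply _ b w P m)

variable (g : T ⟶ X)

/-- Constant sections of the inverse image. -/
abbrev secPull (U : X.Etale) :
    AddCommGrpCat.of (ULift.{u + 1} M) ⟶ ((EtCoh.pull g).obj (EtCoh.const X M)).obj.obj (op ((EtCoh.bc g).obj U)) :=
  sec M U ≫ ((EtCoh.pullPushAdj g).unit.app (EtCoh.const X M)).hom.app (op U)

theorem bijective_germ_secPull {U : X.Etale} {Ω : Type u} [Field Ω] [IsSepClosed Ω]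
    (η : Spec (CommRingCat.of Ω) ⟶ T) (p' : (Scheme.pointSmallEtale η).fiber.obj ((EtCoh.bc g).obj U)) :
    Function.Bijective fun m => germ _ _ η p' (secPull M g U m) := by
  obtain ⟨p, rfl⟩ : ∃ p, PushStalk.liftPt g (rfl : η ≫ g = η ≫ g) U p = p' := by
    refine ⟨mkFiber (η ≫ g) U (fiberHom p' ≫ pullback.fst U.hom g)
      ((Category.assoc _ _ _).trans ((_ ≫= pullback.condition).trans
        ((Category.assoc _ _ _).symm.trans (congrArg (· ≫ g) (fiberHom_comp p'))))), ?_⟩
    apply Over.OverMorphism.ext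
    apply pullback.hom_ext
    · exact pullback.lift_fst _ _ _
    · exact (pullback.lift_snd _ _ _).trans (fiberHom_comp p').symm
  let k := UnitStalk.unitStalk.{u} g η AddCommGrpCat.{u + 1} (EtCoh.const X M)
  haveI : IsIso k := UnitStalk.isIso_unitStalk.{u} g η AddCommGrpCat.{u + 1} (EtCoh.const X M)
  have hb := ((ConcreteCategory.isIso_iff_bijective k).1 inferInstance).comp (bijective_germ_sec M (η ≫ g) p)
  convert hb using 1
  funext m
  refine Eq.symm ((ConcreteCategory.comp_apply _ _ _).trans ?_)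
  refine (congrArg _ ((Scheme.pointSmallEtale (η ≫ g)).toPresheafFiber_naturality_apply
    ((EtCoh.pullPushAdj g).unit.app (EtCoh.const X M)).hom U p (sec M U m))).trans ?_
  exact PushStalk.germTo_toPresheafFiber g (rfl : η ≫ g = η ≫ g)
    ((EtCoh.pull g).obj (EtCoh.const X M)) U p (secPull M g U m)

/-- A section of the inverse image is constant near each point. -/
theorem exists_value {U : X.Etale} (s : ((EtCoh.pull g).obj (EtCoh.const X M)).obj.obj (op ((EtCoh.bc g).obj U)))
    (t : ((EtCoh.bc g).obj U).left) :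
    ∃ (O : Set ((EtCoh.bc g).obj U).left) (m : ULift.{u + 1} M), IsOpen O ∧ t ∈ O ∧
      ∀ (Ω : Type u) [Field Ω] [IsSepClosed Ω] (η : Spec (CommRingCat.of Ω) ⟶ T)
        (p : (Scheme.pointSmallEtale η).fiber.obj ((EtCoh.bc g).obj U)), fiberPt p ∈ O →
        germ _ _ η p s = germ _ _ η p (secPull M g U m) := by
  obtain ⟨p, hp⟩ := exists_fiber_geomPoint ((EtCoh.bc g).obj U) t
  obtain ⟨m, hm⟩ := (bijective_germ_secPull M g _ p).2 (germ _ _ _ p s)
  obtain ⟨W, a, q, hq, he⟩ := ((Scheme.pointSmallEtale _).toPresheafFiber_eq_iff'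
    (P := ((EtCoh.pull g).obj (EtCoh.const X M)).obj) _ p _ _).1 hm
  refine ⟨Set.range a.left.base, m, (Lib.EtJ.Supp.isOpenMap_left a).isOpen_range,
    ⟨fiberPt q, (fiberPt_map a q).symm.trans ((congrArg fiberPt hq).trans hp)⟩, fun Ω _ _ η r ⟨w, hw⟩ => ?_⟩
  obtain ⟨r', hr', -⟩ := Fiber.exists_fiber_map η a r w hw
  rw [← hr']
  exact (GrothendieckTopology.Point.toPresheafFiber_w_apply _ a r' _ s).symm.trans
    ((congrArg _ he.symm).trans (GrothendieckTopology.Point.toPresheafFiber_w_apply _ a r' _ _))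

/-- The local rings of a scheme étale over a normal scheme are domains, so every point has a unique
maximal generization. -/
theorem exists_generic (hX : Pi1.IsNormalScheme X) (V : X.Etale) (v : V.left) :
    ∃ w : V.left, w ⤳ v ∧ ∀ z : V.left, z ⤳ v → w ⤳ z := by
  haveI : Etale V.hom := V.prop
  haveI : IsDomain (V.left.presheaf.stalk v) := ((StalkNormal.normal_iff V.hom v).2 (hX _)).1
  let b : Spec (V.left.presheaf.stalk v) := ⟨⊥, Ideal.isPrime_bot⟩
  refine ⟨(V.left.fromSpecStalk v).base b, ?_, fun z hz => ?_⟩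
  · have : (V.left.fromSpecStalk v).base b ∈ Set.range (V.left.fromSpecStalk v).base := ⟨b, rfl⟩
    rwa [Scheme.range_fromSpecStalk] at this
  · obtain ⟨a, rfl⟩ : z ∈ Set.range (V.left.fromSpecStalk v).base := by rwa [Scheme.range_fromSpecStalk]
    exact ((PrimeSpectrum.le_iff_specializes b a).1 bot_le).map (V.left.fromSpecStalk v).continuous

/-- A point whose local ring has a prime nilradical has a unique maximal generization. -/
theorem exists_generic_of_isPrime {Y : Scheme.{u}} (v : Y) (hv : (nilradical (Y.presheaf.stalk v)).IsPrime) :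
    ∃ w : Y, w ⤳ v ∧ ∀ z : Y, z ⤳ v → w ⤳ z := by
  let b : Spec (Y.presheaf.stalk v) := ⟨nilradical (Y.presheaf.stalk v), hv⟩
  refine ⟨(Y.fromSpecStalk v).base b, ?_, fun z hz => ?_⟩
  · have : (Y.fromSpecStalk v).base b ∈ Set.range (Y.fromSpecStalk v).base := ⟨b, rfl⟩
    rwa [Scheme.range_fromSpecStalk] at this
  · obtain ⟨a, rfl⟩ : z ∈ Set.range (Y.fromSpecStalk v).base := by rwa [Scheme.range_fromSpecStalk]
    exact ((PrimeSpectrum.le_iff_specializes b a).1 (nilradical_le_prime _)).map (Y.fromSpecStalk v).continuous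

/-- Maximal points of étale schemes lie over maximal points. -/
theorem exists_point_over (hmax : ∀ y : X, (∀ z, z ⤳ y → z = y) → y ∈ Set.range g.base) (V : X.Etale)
    (w : V.left) (hw : ∀ z, z ⤳ w → z = w) :
    ∃ t, (pullback.fst V.hom g).base t = w := by
  haveI : Etale V.hom := V.prop
  obtain ⟨t₀, ht₀⟩ := hmax (V.hom.base w) fun z hz => by
    obtain ⟨w', hw', rfl⟩ := Flat.generalizingMap V.hom hz
    rw [hw w' hw']
  obtain ⟨t, ht, -⟩ := Scheme.Pullback.exists_preimage_pullback (f := V.hom) (g := g) w t₀ ht₀.symm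
  exact ⟨t, ht⟩

variable [IsPreimmersion g] [QuasiCompact g]

theorem isIso_unit_of_generic
    (hX : ∀ (V : X.Etale) (v : V.left), ∃ w : V.left, w ⤳ v ∧ ∀ z : V.left, z ⤳ v → w ⤳ z)
    (hmax : ∀ y : X, (∀ z, z ⤳ y → z = y) → y ∈ Set.range g.base) :
    IsIso ((EtCoh.pullPushAdj g).unit.app (EtCoh.const X M)) := by
  let G := (EtCoh.pull g).obj (EtCoh.const X M)
  let u := (EtCoh.pullPushAdj g).unit.app (EtCoh.const X M)
  have hgen : ∀ (V : X.Etale) (v : V.left), ∃ t, (pullback.fst V.hom g).base t ⤳ v ∧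
      ∀ z : V.left, z ⤳ v → (pullback.fst V.hom g).base t ⤳ z := by
    intro V v
    obtain ⟨w, hw, hw'⟩ := hX V v
    obtain ⟨t, rfl⟩ := exists_point_over g hmax V w fun z hz => (hz.antisymm (hw' z (hz.trans hw))).eq
    exact ⟨t, hw, hw'⟩
  refine Stalk.isIso_of_stalks u (Stalk.enoughPts_pt fun x => ⟨?_, ?_⟩)
  · let ξ := geomPoint X x
    refine (injective_iff_map_eq_zero ((Scheme.pointSmallEtale ξ).sheafFiber.map u).hom).2 fun z hz => ?_
    obtain ⟨p, -⟩ := exists_fiber ξ (EtCoh.top X) (ξ.base default) rfl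
    obtain ⟨m, rfl⟩ := (bijective_germ_sec M ξ p).2 z
    have hz' : germ ((EtCoh.push g).obj G) (EtCoh.top X) ξ p (secPull M g (EtCoh.top X) m) = 0 :=
      ((Scheme.pointSmallEtale ξ).toPresheafFiber_naturality_apply u.hom (EtCoh.top X) p
        (sec M (EtCoh.top X) m)).symm.trans hz
    obtain ⟨W, a, q, -, hs⟩ := (Lib.EtJ.Supp.germ_eq_zero_iff ((EtCoh.push g).obj G) _ p _).1 hz'
    have hs' : secPull M g W m = 0 := by
      refine Eq.trans ?_ hs
      refine Eq.trans ?_ (NatTrans.naturality_apply u.hom a.op (sec M (EtCoh.top X) m))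
      exact congrArg (u.hom.app (op W)) (map_sec M a m).symm
    obtain ⟨t, -, -⟩ := hgen W (fiberPt q)
    obtain ⟨r, -⟩ := exists_fiber_geomPoint ((EtCoh.bc g).obj W) t
    have : m = 0 := (bijective_germ_secPull M g _ r).1 (by simp only [hs', map_zero])
    simp [this]
  · intro z
    let ξ := geomPoint X x
    obtain ⟨V₀, p₀, s₀, rfl⟩ := (Scheme.pointSmallEtale ξ).toPresheafFiber_jointly_surjective z
    obtain ⟨V, a, v, hv, hV⟩ := FiniteGen.exists_affine_nhd V₀ (fiberPt p₀)
    obtain ⟨p, hp, -⟩ := Fiber.exists_fiber_map ξ a p₀ v hv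
    haveI : IsAffine V.left := hV
    haveI : IsAffine ((𝟭 Scheme).obj V.left) := hV
    let b := pullback.fst V.hom g
    haveI : CompactSpace ↥(pullback V.hom g) := QuasiCompact.compactSpace_of_compactSpace b
    let s : G.obj.obj (op ((EtCoh.bc g).obj V)) := ((EtCoh.push g).obj G).obj.map a.op s₀
    choose O f hO htO hf using exists_value M g s
    have huniq : ∀ t t', t' ∈ O t → f t' = f t := fun t t' ht' => by
      obtain ⟨r, hr⟩ := exists_fiber_geomPoint ((EtCoh.bc g).obj V) t'
      exact (bijective_germ_secPull M g _ r).1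
        ((hf t' _ _ r (hr.symm ▸ htO t')).symm.trans (hf t _ _ r (hr.symm ▸ ht')))
    haveI : CompactSpace ↥((EtCoh.bc g).obj V).left := ‹CompactSpace ↥(pullback V.hom g)›
    obtain ⟨S, hS⟩ := isCompact_univ.elim_finite_subcover O hO fun t _ => Set.mem_iUnion.2 ⟨t, htO t⟩
    let lev : ULift.{u + 1} M → Set (pullback V.hom g : Scheme.{u}) := fun m => {t | f t = m}
    have hlev : ∀ m, IsOpen (lev m) := fun m => isOpen_iff_forall_mem_open.2 fun t ht =>
      ⟨O t, fun t' ht' => (huniq t t' ht').trans ht, hO t, htO t⟩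
    have hlevc : ∀ m, IsClosed (lev m) := fun m => by
      rw [← isOpen_compl_iff, isOpen_iff_forall_mem_open]
      exact fun t ht => ⟨O t, fun t' ht' h => ht ((huniq t t' ht').symm.trans h), hO t, htO t⟩
    obtain ⟨t₁, ht₁, ht₁'⟩ := hgen V (fiberPt p)
    -- the other values stay away from the point
    have haway : ∀ m, m ≠ f t₁ → fiberPt p ∉ closure (b.base '' lev m) := by
      intro m hm hmem
      have hc : IsCompact (lev m) := (hlevc m).isCompact
      let L : (pullback V.hom g).Opens := ⟨lev m, hlev m⟩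
      haveI : CompactSpace ↥(L : Scheme.{u}) := isCompact_iff_compactSpace.1 hc
      haveI : QuasiSeparatedSpace ↥((𝟭 Scheme).obj V.left) := inferInstance
      haveI : QuasiCompact (L.ι ≫ b) := quasiCompact_of_compactSpace _
      obtain ⟨l, hl⟩ := Lib.SchTopo.Closure.exists_specializes_of_mem_closure_range (L.ι ≫ b) (y := fiberPt p) (by
        rw [Scheme.Hom.comp_base, TopCat.coe_comp, Set.range_comp, Scheme.Opens.range_ι]
        exact hmem)
      have hsp := ht₁' _ hl
      refine hm ?_
      rw [Scheme.Hom.comp_apply] at hsp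
      have := (b.isEmbedding.isInducing.specializes_iff.1 hsp).mem_open (hlev m) (l : ↥(L : Scheme.{u})).2
      exact this.symm
    let C : Set V.left := ⋃ m ∈ {m | (∃ t ∈ S, f t = m) ∧ m ≠ f t₁}, closure (b.base '' lev m)
    have hC : IsClosed C := by
      refine Set.Finite.isClosed_biUnion (((S.finite_toSet.image f)).subset ?_) fun _ _ => isClosed_closure
      rintro m ⟨⟨t, ht, rfl⟩, -⟩
      exact ⟨t, ht, rfl⟩
    let O' : V.left.Opens := ⟨Cᶜ, hC.isOpen_compl⟩
    have hpO : fiberPt p ∈ O' := by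
      simp only [O', C, TopologicalSpace.Opens.mem_mk, Set.mem_compl_iff, Set.mem_iUnion, not_exists]
      exact fun m hm => haway m hm.2
    haveI : Etale V.hom := V.prop
    let W : X.Etale := Scheme.Etale.mk (O'.ι ≫ V.hom)
    let r : W ⟶ V := MorphismProperty.Over.homMk O'.ι rfl
    obtain ⟨q, hq, -⟩ := Fiber.exists_fiber_map ξ r p ⟨fiberPt p, hpO⟩ rfl
    refine ⟨germ (EtCoh.const X M) W ξ q (sec M W (f t₁)), ?_⟩
    refine ((Scheme.pointSmallEtale ξ).toPresheafFiber_naturality_apply u.hom W q _).trans ?_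
    have hsW : G.obj.map ((EtCoh.bc g).map r).op s = secPull M g W (f t₁) := by
      refine Stalk.sections_ext_of_germ G (U := (EtCoh.bc g).obj W) _ _ (Stalk.enoughPts_pt fun y l => ?_)
      have h1 : secPull M g W (f t₁) = G.obj.map ((EtCoh.bc g).map r).op (secPull M g V (f t₁)) := by
        refine Eq.trans ?_ (NatTrans.naturality_apply u.hom r.op (sec M V (f t₁)))
        exact congrArg (u.hom.app (op W)) (map_sec M r _).symm
      rw [h1]
      refine (GrothendieckTopology.Point.toPresheafFiber_w_apply _ _ l G.obj s).trans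
        (Eq.trans ?_ (GrothendieckTopology.Point.toPresheafFiber_w_apply _ _ l G.obj _).symm)
      generalize hl : (Scheme.pointSmallEtale (geomPoint T y)).fiber.map ((EtCoh.bc g).map r) l = l'
      have hbl : b.base (fiberPt l') ∈ O' := by
        rw [← hl, fiberPt_map]
        erw [← Scheme.Hom.comp_apply]
        have hfst : ((EtCoh.bc g).map r).left ≫ b = pullback.fst W.hom g ≫ O'.ι := pullback.lift_fst _ _ _
        erw [hfst, Scheme.Hom.comp_apply]
        exact ((pullback.fst W.hom g).base (fiberPt l) : ↥(O' : Scheme.{u})).2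
      have hval : f (fiberPt l') = f t₁ := by
        by_contra hne
        refine hbl (Set.mem_iUnion₂.2 ⟨_, ⟨?_, hne⟩, subset_closure ⟨_, rfl, rfl⟩⟩)
        obtain ⟨t, ht, htt⟩ := Set.mem_iUnion₂.1 (hS (Set.mem_univ (fiberPt l')))
        exact ⟨t, ht, (huniq t _ htt).symm⟩
      rw [← hval]
      exact hf (fiberPt l') _ _ l' (htO _)
    rw [← hq] at hp
    rw [← hp]
    refine Eq.trans ?_ ((GrothendieckTopology.Point.toPresheafFiber_w_apply _ a _ ((EtCoh.push g).obj G).obj s₀))
    refine Eq.trans ?_ ((GrothendieckTopology.Point.toPresheafFiber_w_apply _ r q ((EtCoh.push g).obj G).obj s))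
    exact congrArg _ hsW.symm

theorem isIso_unit (hX : Pi1.IsNormalScheme X)
    (hmax : ∀ y : X, (∀ z, z ⤳ y → z = y) → y ∈ Set.range g.base) :
    IsIso ((EtCoh.pullPushAdj g).unit.app (EtCoh.const X M)) :=
  isIso_unit_of_generic M g (exists_generic hX) hmax

end Groth.Agent.H88.EtMod.ConstNormal
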