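import Groth.Agent.H88.EtMod.DimTorsion

/-!
Zero-dimensional schemes of finite type over a separably closed field are acyclic.
-/

set_option autoImplicit false
set_option linter.style.haveILetI false

universe u

open CategoryTheory CategoryTheory.Limits AlgebraicGeometry Opposite Abelian

noncomputable section

namespace Groth.Agent.H88.EtMod.DimZero

open Groth.Agent.H61 FieldCoh Groth.Agent.Lib.EtSite DivBasic ExtColim

/-- Positive degree cohomology of an algebraic extension of a separably closed field vanishes. -/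
theorem subsingleton_H_field (k : Type u) [Field k] [IsSepClosed k] (L : Type u) [Field L] [Algebra k L]
    [Algebra.IsAlgebraic k L] (G : EtCoh.Ab (S L)) (n : ℕ) (hn : 0 < n) :
    Subsingleton (EtCoh.H (S L) G n) := by
  refine subsingleton_of_forall_eq 0 fun e => ?_
  obtain ⟨m, rfl⟩ : ∃ m, n = m + 1 := ⟨n - 1, by omega⟩
  obtain ⟨M, _, _, _, _, _, hM⟩ := exists_kill m G e
  have h1 : Module.finrank L M = 1 := by
    letI : Algebra k M := ((algebraMap L M).comp (algebraMap k L)).toAlgebra
    haveI : IsScalarTower k L M := IsScalarTower.of_algebraMap_eq fun _ => rfl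
    haveI : Algebra.IsAlgebraic k M := Algebra.IsAlgebraic.trans k L M
    haveI : IsPurelyInseparable k M := separableClosure.eq_bot_iff.1
      (IntermediateField.eq_bot_of_isSepClosed_of_isSeparable (separableClosure k M))
    haveI : IsPurelyInseparable L M := IsPurelyInseparable.tower_top k L M
    rw [← IntermediateField.bot_eq_top_iff_finrank_eq_one]
    refine eq_top_iff.2 fun x _ => ?_
    obtain ⟨y, rfl⟩ := IsPurelyInseparable.surjective_algebraMap_of_isSeparable L M x
    exact IntermediateField.algebraMap_mem _ _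
  have := finrank_nsmul_eq_zero L M hM
  rwa [h1, one_nsmul] at this

/-- A zero-dimensional reduced scheme of finite type over a separably closed field is acyclic. -/
theorem subsingleton_H (k : Type u) [Field k] [IsSepClosed k] (Z : Scheme.{u})
    (f : Z ⟶ Spec (CommRingCat.of k)) [LocallyOfFiniteType f] [QuasiCompact f] [IsReduced Z]
    (hd : topologicalKrullDim ↥Z ≤ ((0 : ℕ) : WithBot ℕ∞)) (G : EtCoh.Ab Z) (n : ℕ) (hn : 0 < n) :
    Subsingleton (EtCoh.H Z G n) := by
  haveI : IsLocallyNoetherian Z := LocallyOfFiniteType.isLocallyNoetherian f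
  haveI : CompactSpace ↥Z := QuasiCompact.compactSpace_of_compactSpace f
  haveI : IsNoetherian Z := {}
  have hmax : ∀ z : Z, closure {z} ∈ irreducibleComponents ↥Z := fun z => by
    obtain ⟨η, hη, hsp⟩ := Lib.SchTopo.Closure.exists_maximal_specializes Z z
    by_cases hne : η = z
    · exact hne ▸ hη
    · exact absurd ((dim_pos hne hsp).trans hd) (by decide)
  have hclosed : ∀ z : Z, closure {z} = ({z} : Set Z) := fun z => by
    refine Set.Subset.antisymm (fun y hy => ?_) subset_closure
    exact (Lib.SchTopo.Closure.eq_of_specializes_of_closure_mem (hmax y) (specializes_iff_mem_closure.2 hy)).symm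
  have hfin : (Set.univ : Set Z).Finite := Set.Finite.of_finite_image
    (TopologicalSpace.NoetherianSpace.finite_irreducibleComponents.subset
      (by rintro _ ⟨η, -, rfl⟩; exact hmax η))
    (fun a _ b _ h => ((specializes_iff_closure_subset.2 h.ge).antisymm (specializes_iff_closure_subset.2 h.le)).eq)
  haveI : Finite ↥Z := Set.finite_univ_iff.1 hfin
  haveI : DiscreteTopology ↥Z := by
    haveI : T1Space ↥Z := ⟨fun z => by rw [← hclosed z]; exact isClosed_closure⟩
    exact Finite.instDiscreteTopology
  haveI : Fintype ↥Z := Fintype.ofFinite _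
  have haff : ∀ z : Z, IsAffineOpen (⟨{z}, isOpen_discrete _⟩ : Z.Opens) := fun z => by
    obtain ⟨_, ⟨W, (hW : IsAffineOpen W), rfl⟩, hzW, hsub⟩ :=
      Z.isBasis_affineOpens.exists_subset_of_mem_open (Set.mem_singleton z) (isOpen_discrete ({z} : Set Z))
    have : W = ⟨{z}, isOpen_discrete _⟩ := TopologicalSpace.Opens.ext
      (Set.Subset.antisymm hsub (Set.singleton_subset_iff.2 hzW))
    exact this ▸ hW
  let j : ∀ z : Z, Spec Γ(Z, ⟨{z}, isOpen_discrete _⟩) ⟶ Z := fun z => (haff z).fromSpec
  let o : ∀ z : Z, obj (j z) ⟶ EtCoh.top Z := fun z => (EtCore.topIsTerminal Z).from _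
  have he : ∀ z, (o z).left = 𝟙 _ ≫ j z := fun z =>
    (Category.comp_id _).symm.trans (MorphismProperty.Over.w (o z))
  have hD : DisjointCover.IsDisjointCover (fun z => obj (j z)) o :=
    { isOpenImmersion := fun z => by rw [he]; exact inferInstanceAs (IsOpenImmersion (𝟙 _ ≫ (haff z).fromSpec))
      exists_eq := fun x => by
        obtain ⟨d, hd⟩ : x ∈ Set.range (j x).base := by rw [(haff x).range_fromSpec]; exact rfl
        refine ⟨x, d, ?_⟩
        rw [he, Category.id_comp]
        exact hd
      disjoint := fun a b x y h => by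
        rw [he, he, Category.id_comp, Category.id_comp] at h
        have hx : (j a).base x ∈ ({a} : Set Z) := (haff a).range_fromSpec.le (Set.mem_range_self x)
        have hy : (j b).base y ∈ ({b} : Set Z) := (haff b).range_fromSpec.le (Set.mem_range_self y)
        exact hx.symm.trans (h.trans hy) }
  refine subsingleton_of_forall_eq 0 fun e =>
    PointCohTorsion.eq_zero_of_disjointCover j o hD global e fun z => ?_
  let C := Γ(Z, ⟨{z}, isOpen_discrete _⟩)
  haveI : _root_.IsReduced C := IsReduced.component_reduced _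
  haveI hs : Subsingleton ↥(Spec C) := ⟨fun a b => (j z).isOpenEmbedding.injective
    (((haff z).range_fromSpec.le (Set.mem_range_self a) : (j z).base a ∈ ({z} : Set Z)).trans
      ((haff z).range_fromSpec.le (Set.mem_range_self b) : (j z).base b ∈ ({z} : Set Z)).symm)⟩
  obtain ⟨p, -⟩ : z ∈ Set.range (j z).base := by rw [(haff z).range_fromSpec]; exact rfl
  haveI : Nontrivial C := PrimeSpectrum.nonempty_iff_nontrivial.1 ⟨p⟩
  have hfield : IsField C := by
    refine ⟨⟨0, 1, zero_ne_one⟩, mul_comm, fun {a} ha => ?_⟩
    by_contra hc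
    have hu : ¬ IsUnit a := fun ⟨u, hu⟩ => hc ⟨↑u⁻¹, hu ▸ u.mul_inv⟩
    obtain ⟨M, hM, haM⟩ := exists_max_ideal_of_mem_nonunits hu
    refine ha (IsReduced.eq_zero a ?_)
    rw [nilpotent_iff_mem_prime]
    intro P hP
    have : (⟨P, hP⟩ : PrimeSpectrum C) = ⟨M, hM.isPrime⟩ := @Subsingleton.elim _ hs _ _
    rw [show P = M from congrArg PrimeSpectrum.asIdeal this]
    exact haM
  letI : Field C := hfield.toField
  obtain ⟨φ, hφ⟩ := Spec.map_surjective ((haff z).fromSpec ≫ f)
  letI : Algebra k C := φ.hom.toAlgebra
  haveI : Algebra.FiniteType k C :=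
    (HasRingHomProperty.Spec_iff (P := @LocallyOfFiniteType)).1
      (show LocallyOfFiniteType (Spec.map φ) by rw [hφ]; infer_instance)
  haveI : FiniteDimensional k C := finite_of_finite_type_of_isJacobsonRing k C
  exact subsingleton_H_field k C _ n hn

end Groth.Agent.H88.EtMod.DimZero
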