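import Groth.Prelude.Def_SixF2
import Groth.Agent.Lib.EtJ.ExtZero
import Groth.Agent.Lib.EtJ.PullExact
import Mathlib.CategoryTheory.Functor.Flat
import Mathlib.CategoryTheory.Filtered.Final
import Mathlib.Algebra.Category.ModuleCat.AB

/-!
# Exactness of inverse image and of extension by zero for sheaves of modules on small etale sites
-/

universe u

open CategoryTheory CategoryTheory.Limits AlgebraicGeometry Opposite

noncomputable section

namespace Groth.Agent.H88.EtMod.PullExact

open Groth.Agent.Lib.EtJ

variable (Λ : Type (u + 1)) [CommRing Λ] {X Y : Scheme.{u}}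

instance hasExactColimits_costructuredArrow_bc (f : X ⟶ Y) (W : X.Etaleᵒᵖ) :
    HasExactColimitsOfShape (CostructuredArrow (EtCoh.bc f).op W) (ModuleCat.{u + 1} Λ) := by
  have : IsFiltered (CostructuredArrow (EtCoh.bc f).op W) :=
    IsFiltered.of_equivalence (structuredArrowOpEquivalence (EtCoh.bc f) W.unop)
  have : AB5OfSize.{u, u + 1} (ModuleCat.{u + 1} Λ) := AB5OfSize_of_univLE.{u, u + 1, u + 1, u + 1} _
  exact AB5OfSize.ofShape _

/-- `f^*` of sheaves of modules is left exact. -/
instance pull_preservesFiniteLimits (f : X ⟶ Y) : PreservesFiniteLimits (EtModW.pull Λ f) := by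
  have : PreservesFiniteLimits ((EtCoh.bc f).op.lan :
      (_ ⥤ ModuleCat.{u + 1} Λ) ⥤ _) := ExtZero.lan_preservesFiniteLimits_of_exact _
  have : PreservesFiniteLimits
      (Functor.sheafPullbackConstruction.sheafPullback (EtCoh.bc f)
        (ModuleCat.{u + 1} Λ) Y.smallEtaleTopology X.smallEtaleTopology) := by
    have : PreservesFiniteLimits ((EtCoh.bc f).op.lan ⋙
        presheafToSheaf X.smallEtaleTopology (ModuleCat.{u + 1} Λ)) :=
      comp_preservesFiniteLimits _ _
    exact comp_preservesFiniteLimits _ _
  exact preservesFiniteLimits_of_natIso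
    (Functor.sheafPullbackConstruction.sheafPullbackIso (EtCoh.bc f)
      (ModuleCat.{u + 1} Λ) Y.smallEtaleTopology X.smallEtaleTopology).symm

instance pull_preservesFiniteColimits (f : X ⟶ Y) : PreservesFiniteColimits (EtModW.pull Λ f) :=
  have : PreservesColimitsOfSize.{0, 0} (EtModW.pull Λ f) :=
    (EtSix.pullPushModAdj Λ f).leftAdjoint_preservesColimits
  PreservesColimitsOfSize.preservesFiniteColimits _

instance pull_preservesHomology (f : X ⟶ Y) : (EtModW.pull Λ f).PreservesHomology :=
  inferInstance

end Groth.Agent.H88.EtMod.PullExact
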