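import Groth.Prelude.Def_ARSys
import Groth.Agent.H88.EtMod.Constr
import Groth.Agent.Lib.ActSep.Criterion
import Groth.Agent.H88.EtMod.PullExact
import Mathlib.CategoryTheory.Adjunction.Limits
import Mathlib.CategoryTheory.Linear.FunctorCategory
import Mathlib.CategoryTheory.Linear.LinearFunctor
import Mathlib.CategoryTheory.Limits.Preserves.Shapes.Kernels
import Mathlib.CategoryTheory.Limits.Preserves.FunctorCategory

/-!
Transport of adic systems along exact linear left adjoints.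
-/

set_option autoImplicit false
set_option linter.style.haveILetI false

universe w v v' u u'

open CategoryTheory CategoryTheory.Limits Opposite

noncomputable section

namespace Groth.Agent.H88.EtMod.ARTransport

section General

variable {Λ : Type w} [CommRing Λ] {C : Type u} [Category.{v} C] [Abelian C] [Linear Λ C]
  {D : Type u'} [Category.{v'} D] [Abelian D] [Linear Λ D] (L : C ⥤ D)

theorem killedBy_map [L.Additive] [L.Linear Λ] {I : Ideal Λ} {X : C} (h : ARSys.KilledBy I X) :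
    ARSys.KilledBy I (L.obj X) := fun a ha => by
  rw [← CategoryTheory.Functor.map_id, ← Functor.map_smul, h a ha, L.map_zero]

theorem isQuot_map [L.Additive] [L.Linear Λ] {R : D ⥤ C} (adj : L ⊣ R) {I : Ideal Λ} {X Q : C}
    {p : X ⟶ Q} (hp : ARSys.IsQuot I p) : ARSys.IsQuot I (L.map p) := by
  refine ⟨killedBy_map L hp.1, fun Y φ hφ => ?_⟩
  have hsmul : ∀ a : Λ, adj.homEquiv X Y (a • φ) = a • adj.homEquiv X Y φ := fun a => by
    have : a • φ = L.map (a • 𝟙 X) ≫ φ := by
      rw [Functor.map_smul, CategoryTheory.Functor.map_id, Linear.smul_comp, Category.id_comp]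
    rw [this, Adjunction.homEquiv_naturality_left, Linear.smul_comp, Category.id_comp]
  have hzero : adj.homEquiv X Y 0 = 0 := by
    have h := hsmul 0
    rwa [zero_smul, zero_smul] at h
  obtain ⟨ψ, hψ, huniq⟩ := hp.2 (R.obj Y) (adj.homEquiv X Y φ) fun a ha => by
    rw [← hsmul, hφ a ha, hzero]
  refine ⟨(adj.homEquiv Q Y).symm ψ, ?_, fun ψ' hψ' => ?_⟩
  · change L.map p ≫ (adj.homEquiv Q Y).symm ψ = φ
    rw [← Adjunction.homEquiv_naturality_left_symm, hψ, Equiv.symm_apply_apply]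
  · refine (Equiv.eq_symm_apply _).2 (huniq _ ?_)
    change p ≫ adj.homEquiv Q Y ψ' = _
    rw [← Adjunction.homEquiv_naturality_left]
    exact congrArg _ hψ'

theorem isAdic_map [L.Additive] [L.Linear Λ] {R : D ⥤ C} (adj : L ⊣ R) {I : Ideal Λ}
    {X : ARSys.PS C} (h : ARSys.IsAdic I X) : ARSys.IsAdic I (X ⋙ L) :=
  ⟨fun n => killedBy_map L (h.1 n), fun n m hnm => isQuot_map L adj (h.2 n m hnm)⟩

omit [Linear Λ D] in
theorem isARNull_of_iso {X Y : ARSys.PS D} (e : X ≅ Y) (h : ARSys.IsARNull X) : ARSys.IsARNull Y := by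
  obtain ⟨r, hr⟩ := h
  refine ⟨r, fun n => ?_⟩
  have hn := e.inv.naturality (homOfLE (Nat.le_add_right n r)).op
  have : ARSys.shiftMap Y r n ≫ e.inv.app (op n) = 0 := by
    change Y.map (homOfLE (Nat.le_add_right n r)).op ≫ _ = _
    rw [hn]
    change e.inv.app _ ≫ ARSys.shiftMap X r n = 0
    exact (congrArg _ (hr n)).trans comp_zero
  exact zero_of_comp_mono (e.inv.app (op n)) this

omit [Linear Λ C] [Linear Λ D] in
theorem isARNull_map [L.Additive] {X : ARSys.PS C} (h : ARSys.IsARNull X) : ARSys.IsARNull (X ⋙ L) := by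
  obtain ⟨r, hr⟩ := h
  refine ⟨r, fun n => ?_⟩
  change L.map (ARSys.shiftMap X r n) = 0
  rw [hr, L.map_zero]

omit [Linear Λ C] [Linear Λ D] in
theorem isARIso_map [L.Additive] [PreservesFiniteLimits L] [PreservesFiniteColimits L]
    {X Y : ARSys.PS C} {v : X ⟶ Y} (h : ARSys.IsARIso v) :
    ARSys.IsARIso (Functor.whiskerRight v L) := by
  let W := (Functor.whiskeringRight ℕᵒᵖ C D).obj L
  haveI : W.Additive := ⟨fun {_ _} {f g} => by
    ext n
    exact L.map_add⟩
  exact ⟨isARNull_of_iso (PreservesKernel.iso W v) (isARNull_map L h.1),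
    isARNull_of_iso (PreservesCokernel.iso W v) (isARNull_map L h.2)⟩

theorem arAdic_map [L.Additive] [L.Linear Λ] [PreservesFiniteLimits L] [PreservesFiniteColimits L]
    {R : D ⥤ C} (adj : L ⊣ R) {I : Ideal Λ} {P : C → Prop} {P' : D → Prop}
    (hP : ∀ {Z : C}, P Z → P' (L.obj Z)) {F : ARSys.PS C}
    (h : ARSys.TermKilled I F ∧ ∃ (Y : ARSys.PS C) (v : Y ⟶ F), ARSys.IsAdic I Y ∧
      (∀ n : ℕ, P (Y.obj (op n))) ∧ ARSys.IsARIso v) :
    ARSys.TermKilled I (F ⋙ L) ∧ ∃ (Y : ARSys.PS D) (v : Y ⟶ F ⋙ L), ARSys.IsAdic I Y ∧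
      (∀ n : ℕ, P' (Y.obj (op n))) ∧ ARSys.IsARIso v := by
  obtain ⟨hk, Y, v, hY, hYP, hv⟩ := h
  exact ⟨fun n => killedBy_map L (hk n), Y ⋙ L, Functor.whiskerRight v L, isAdic_map L adj hY,
    fun n => hP (hYP n), isARIso_map L hv⟩

end General

open AlgebraicGeometry

variable {Λ : Type (u + 1)} [CommRing Λ] {X Y : Scheme.{u}}

instance additive_pull (f : X ⟶ Y) : (EtModW.pull Λ f).Additive :=
  Functor.additive_of_preserves_binary_products _

instance linear_pull (f : X ⟶ Y) : (EtModW.pull Λ f).Linear Λ where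
  map_smul {F G} g a := by
    apply ((EtSix.pullPushModAdj Λ f).homEquiv _ _).injective
    have h : ∀ {H : EtModW.Mod Λ X} (φ : (EtModW.pull Λ f).obj F ⟶ H),
        (EtSix.pullPushModAdj Λ f).homEquiv _ _ (a • φ) =
          a • (EtSix.pullPushModAdj Λ f).homEquiv _ _ φ := fun φ => by
      rw [Adjunction.homEquiv_unit, Adjunction.homEquiv_unit, ← Linear.comp_smul]
      rfl
    rw [h]
    refine Eq.trans ?_ (congrArg (a • ·) (((EtSix.pullPushModAdj Λ f).homEquiv_unit _ _ _).trans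
      ((EtSix.pullPushModAdj Λ f).unit.naturality g).symm)).symm
    refine ((EtSix.pullPushModAdj Λ f).homEquiv_unit _ _ _).trans
      (((EtSix.pullPushModAdj Λ f).unit.naturality _).symm.trans ?_)
    exact Linear.smul_comp _ _ _ a g _

variable {Ω : Type u} [Field Ω] [IsSepClosed Ω] (ξ : Spec (CommRingCat.of Ω) ⟶ X)

theorem linear_stalk [(EtModW.stalk Λ ξ).Additive] : (EtModW.stalk Λ ξ).Linear Λ where
  map_smul {F G} g a := by
    ext z
    obtain ⟨U, p, s, rfl⟩ := (Scheme.pointSmallEtale ξ).toPresheafFiber_jointly_surjective z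
    change (EtModW.stalk Λ ξ).map (a • g) (LCChart.germ F U ξ p s) =
      a • (EtModW.stalk Λ ξ).map g (LCChart.germ F U ξ p s)
    refine (LCChart.germ_naturality _ U ξ p s).trans ?_
    refine Eq.trans ?_ (congrArg (a • ·) (LCChart.germ_naturality g U ξ p s)).symm
    exact map_smul (LCChart.germ G U ξ p) a (g.hom.app (op U) s)

/-- Stalks of constructible sheaves are finitely generated. -/
theorem finite_stalk {F : EtModW.Mod Λ X} (hF : EtModW.IsConstructible Λ F) :
    Module.Finite Λ ↥((EtModW.stalk Λ ξ).obj F) := by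
  haveI := LCOps.hasLimits_small (Λ := Λ)
  obtain ⟨_, ⟨(U : X.Opens), hU, rfl⟩, hx, -⟩ :=
    X.isBasis_affineOpens.exists_subset_of_mem_open (Set.mem_univ (ξ.base default)) isOpen_univ
  obtain ⟨C, T, g, -, hyC, hg, hCg, hlc⟩ := Constr.isConstructible_iff.1 hF U hU ⟨_, hx⟩
  haveI := hg
  obtain ⟨η, rfl⟩ : ∃ η, η ≫ g = ξ :=
    Groth.Agent.Lib.ActSep.Criterion.exists_lift_of_isImmersion ξ g (by
      rintro _ ⟨p, rfl⟩
      rw [Subsingleton.elim p default]
      exact hCg ⟨⟨_, hx⟩, hyC, rfl⟩)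
  obtain ⟨V, ⟨v, hv⟩, M, _, _, _, φ, hφ⟩ := LCChart.isFTLocConst_iff.1 hlc (η.base default)
  obtain ⟨p, -⟩ := Groth.Agent.Lib.EtSite.Basic.exists_fiber η V v hv
  have hfin : Module.Finite Λ
      ↥((Scheme.pointSmallEtale η).sheafFiber.obj ((EtModW.pull Λ g).obj F)) :=
    Module.Finite.of_surjective (LCChart.germ _ V η p ∘ₗ φ) (hφ Ω η p).2
  exact @Module.Finite.equiv _ _ _ _ _ _ _ _ hfin
    ((Groth.Agent.Lib.EtSite.Pull.stalkPullIso.{u} g η (ModuleCat.{u + 1} Λ)).app F).toLinearEquiv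

end Groth.Agent.H88.EtMod.ARTransport
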