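import Groth.Agent.H88.EtMod.FilteredSections
import Groth.Agent.Lib.Tor.HomologyColim
import Groth.Prelude.Def_EtCech
import Mathlib.Algebra.Category.Grp.AB
import Mathlib.Algebra.Category.Grp.FilteredColimits
import Mathlib.CategoryTheory.Limits.Constructions.FiniteProductsOfBinaryProducts

/-!
Čech cohomology of finite families commutes with filtered colimits.
-/

set_option autoImplicit false
set_option linter.style.haveILetI false

universe u

open CategoryTheory CategoryTheory.Limits AlgebraicGeometry Opposite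

noncomputable section

namespace Groth.Agent.H88.EtMod.CechColim

open FilteredSections

variable {X : Scheme.{u}} {U : X.Etale}

/-- Objects over `U` with quasi-compact quasi-separated source. -/
def Qcqs (A : Over U) : Prop :=
  CompactSpace A.left.left ∧ QuasiSeparatedSpace A.left.left

theorem qcqs_of_iso {A B : Over U} (e : A ≅ B) (h : Qcqs A) : Qcqs B := by
  let h' := (Over.forget U ⋙ Scheme.Etale.forget X ⋙ Over.forget X ⋙ Scheme.forgetToTop).mapIso e
  haveI : CompactSpace ↥((Over.forget U ⋙ Scheme.Etale.forget X ⋙ Over.forget X ⋙ Scheme.forgetToTop).obj A) :=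
    h.1
  haveI : QuasiSeparatedSpace
      ↥((Over.forget U ⋙ Scheme.Etale.forget X ⋙ Over.forget X ⋙ Scheme.forgetToTop).obj A) := h.2
  exact ⟨(TopCat.homeoOfIso h').compactSpace,
    (TopCat.homeoOfIso h').symm.isOpenEmbedding.quasiSeparatedSpace⟩

/-- The product of two objects over `U`. -/
def binFan (A B : Over U) : BinaryFan A B :=
  BinaryFan.mk (P := Over.mk (interFst A.hom B.hom ≫ A.hom)) (Over.homMk (interFst A.hom B.hom) rfl)
    (Over.homMk (interSnd A.hom B.hom) (inter_condition A.hom B.hom).symm)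

def isLimitBinFan (A B : Over U) : IsLimit (binFan A B) :=
  BinaryFan.isLimitMk
    (fun s => Over.homMk (interLift A.hom B.hom s.fst.left s.snd.left ((Over.w s.fst).trans (Over.w s.snd).symm))
      (by
        change interLift A.hom B.hom _ _ _ ≫ interFst A.hom B.hom ≫ A.hom = _
        have : interLift A.hom B.hom s.fst.left s.snd.left ((Over.w s.fst).trans (Over.w s.snd).symm) ≫
            interFst A.hom B.hom = s.fst.left := MorphismProperty.Over.Hom.ext (pullback.lift_fst _ _ _)
        exact (Category.assoc _ _ _).symm.trans ((congrArg (· ≫ A.hom) this).trans (Over.w s.fst))))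
    (fun s => Over.OverMorphism.ext (MorphismProperty.Over.Hom.ext (pullback.lift_fst _ _ _)))
    (fun s => Over.OverMorphism.ext (MorphismProperty.Over.Hom.ext (pullback.lift_snd _ _ _)))
    fun s m h₁ h₂ => Over.OverMorphism.ext (MorphismProperty.Over.Hom.ext (pullback.hom_ext
      ((congrArg (fun f => f.left.left) h₁).trans (pullback.lift_fst _ _ _).symm)
      ((congrArg (fun f => f.left.left) h₂).trans (pullback.lift_snd _ _ _).symm)))

variable [CompactSpace U.left] [QuasiSeparatedSpace U.left]

theorem qcqs_binFan {A B : Over U} (hA : Qcqs A) (hB : Qcqs B) : Qcqs (binFan A B).pt := by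
  haveI := hA.1
  haveI := hA.2
  haveI := hB.1
  haveI := hB.2
  let a : A.left.left ⟶ U.left := A.hom.left
  let b : B.left.left ⟶ U.left := B.hom.left
  haveI : QuasiCompact b := quasiCompact_of_compactSpace b
  haveI : QuasiSeparated b := QuasiSeparated.of_quasiSeparatedSpace b
  have h₁ := MorphismProperty.pullback_fst (P := @QuasiCompact) a b ‹QuasiCompact b›
  have h₂ := MorphismProperty.pullback_fst (P := @QuasiSeparated) a b ‹QuasiSeparated b›
  exact ⟨@QuasiCompact.compactSpace_of_compactSpace _ _ (pullback.fst a b) h₁ ‹_›,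
    @quasiSeparatedSpace_of_quasiSeparated _ _ (pullback.fst a b) ‹_› h₂⟩

theorem qcqs_fan : ∀ (n : ℕ) (f : Fin n → Over U), (∀ k, Qcqs (f k)) →
    ∃ (c : Fan f) (_ : IsLimit c), Qcqs c.pt := by
  intro n
  induction n with
  | zero =>
    intro f _
    refine ⟨Fan.mk (Over.mk (𝟙 U)) (fun k => k.elim0), Fan.IsLimit.mk _
      (fun s => Over.homMk s.pt.hom (Category.comp_id _)) (fun s k => k.elim0) (fun s m _ => ?_), ?_⟩
    · exact Over.OverMorphism.ext (by simpa using Over.w m)
    · exact ⟨inferInstanceAs (CompactSpace U.left), inferInstanceAs (QuasiSeparatedSpace U.left)⟩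
  | succ n ih =>
    intro f hf
    obtain ⟨c, hc, hq⟩ := ih (fun i => f i.succ) fun i => hf _
    exact ⟨extendFan c (binFan (f 0) c.pt), extendFanIsLimit f hc (isLimitBinFan _ _),
      qcqs_binFan (hf 0) hq⟩

theorem qcqs_pi [HasFiniteProducts (Over U)] {α : Type} [Finite α] (f : α → Over U)
    (hf : ∀ k, Qcqs (f k)) : Qcqs (∏ᶜ f) := by
  obtain ⟨n, ⟨e⟩⟩ := Finite.exists_equiv_fin α
  obtain ⟨c, hc, hq⟩ := qcqs_fan n (f ∘ e.symm) fun k => hf _
  exact qcqs_of_iso (hc.conePointUniqueUpToIso (limit.isLimit _) ≪≫ Pi.whiskerEquiv e.symm (fun _ => Iso.refl _)) hq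

section

variable [HasFiniteProducts (Over U)] {ι : Type (u + 1)} [Finite ι] (Uf : ι → Over U)
  (hUf : ∀ i, Qcqs (Uf i)) (I : Type (u + 1)) [SmallCategory I] [IsFiltered I]

include hUf

theorem preservesColimits_eval (n : ℕ) :
    PreservesColimitsOfShape I (sheafToPresheaf X.smallEtaleTopology AddCommGrpCat.{u + 1} ⋙
      (Functor.whiskeringLeft (Over U)ᵒᵖ X.Etaleᵒᵖ AddCommGrpCat.{u + 1}).obj (Over.forget U).op ⋙
        cechComplexFunctor Uf ⋙ HomologicalComplex.eval _ _ n) := by
  let E := (FormalCoproduct.mk _ Uf).cech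
  let K := (E.obj (op (SimplexCategory.mk n))).I
  let Z : K → X.Etale := fun k => ((E.obj (op (SimplexCategory.mk n))).obj k).left
  haveI : Finite K := inferInstanceAs (Finite (Fin (n + 1) → ι))
  have hG : ∀ k : K, PreservesColimitsOfShape I
      (sheafToPresheaf X.smallEtaleTopology AddCommGrpCat.{u + 1} ⋙ (evaluation _ _).obj (op (Z k))) := fun k => by
    obtain ⟨_, _⟩ : Qcqs ((E.obj (op (SimplexCategory.mk n))).obj k) := qcqs_pi _ fun a => hUf (k a)
    exact FilteredSections.preservesColimits (Z k)
  let H : Sheaf X.smallEtaleTopology AddCommGrpCat.{u + 1} ⥤ Discrete K ⥤ AddCommGrpCat.{u + 1} :=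
    { obj := fun F => Discrete.functor fun k => F.obj.obj (op (Z k))
      map := fun α => Discrete.natTrans fun k => α.hom.app (op (Z k.as))
      map_id := fun F => by ext; rfl
      map_comp := fun α β => by ext; rfl }
  haveI : PreservesColimitsOfShape I H :=
    preservesColimitsOfShape_of_evaluation H I fun k => hG k.as
  haveI : HasBiproductsOfShape K AddCommGrpCat.{u + 1} := inferInstance
  haveI : PreservesColimitsOfShape I (lim : (Discrete K ⥤ AddCommGrpCat.{u + 1}) ⥤ _) :=
    preservesColimitsOfShape_of_natIso (HasBiproductsOfShape.colimIsoLim (J := K))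
  exact preservesColimitsOfShape_of_natIso (F := H ⋙ lim) (NatIso.ofComponents (fun F => Iso.refl _)
    fun {F G} α => (Category.comp_id _).trans (Category.id_comp _).symm)

theorem preservesColimits_cech (q : ℕ) :
    PreservesColimitsOfShape I
      (sheafToPresheaf X.smallEtaleTopology AddCommGrpCat.{u + 1} ⋙ EtCech.cechHFunctor Uf q) := by
  haveI : PreservesColimitsOfShape I (sheafToPresheaf X.smallEtaleTopology AddCommGrpCat.{u + 1} ⋙
      (Functor.whiskeringLeft (Over U)ᵒᵖ X.Etaleᵒᵖ AddCommGrpCat.{u + 1}).obj (Over.forget U).op ⋙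
        cechComplexFunctor Uf) :=
    HomologicalComplex.preservesColimitsOfShape_of_eval _ fun n => preservesColimits_eval Uf hUf I n
  exact comp_preservesColimitsOfShape (sheafToPresheaf X.smallEtaleTopology AddCommGrpCat.{u + 1} ⋙
      (Functor.whiskeringLeft (Over U)ᵒᵖ X.Etaleᵒᵖ AddCommGrpCat.{u + 1}).obj (Over.forget U).op ⋙
        cechComplexFunctor Uf) (HomologicalComplex.homologyFunctor AddCommGrpCat.{u + 1} _ q)

end

end Groth.Agent.H88.EtMod.CechColim
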