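import Groth.Prelude.Def_EtModD2
import Groth.Prelude.Def_SixF2
import Groth.Prelude.Def_EtCore
import Groth.Agent.H88.EtMod.FiniteGen
import Mathlib.Algebra.Homology.DerivedCategory.HomologySequence
import Mathlib.Algebra.Homology.SingleHomology

/-!
Sums of extensions by zero mapping to a complex, surjectively on a constructible cohomology sheaf.
-/

set_option autoImplicit false
set_option linter.style.haveILetI false

universe u

open CategoryTheory CategoryTheory.Limits AlgebraicGeometry Opposite

attribute [local instance] HasDerivedCategory.standard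

noncomputable section

namespace Groth.Agent.H88.EtMod.FiniteGenD

variable {Λ : Type (u + 1)} [CommRing Λ] {X : Scheme.{u}}

/-- Maps out of `j_! Λ` are sections over the étale scheme. -/
def extZeroHomEquiv (W : X.Etale) [Etale W.hom] [EtShriek.JCont W.hom] (G : EtModW.Mod Λ X) :
    ((EtSix.extZeroMod Λ W.hom).obj (EtSix.constΛ Λ W.left) ⟶ G) ≃
      (ModuleCat.of Λ Λ ⟶ G.obj.obj (op ((EtShriek.compEtale W.hom).obj (EtCoh.top W.left)))) :=
  ((EtSix.extZeroModAdj Λ W.hom).homEquiv _ G).trans
    ((constantSheafAdj W.left.smallEtaleTopology (ModuleCat.{u + 1} Λ)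
      (EtCore.topIsTerminal W.left)).homEquiv (ModuleCat.of Λ Λ) _)

/-- The object `U → U → X` is `U → X`. -/
def topIso (W : X.Etale) [Etale W.hom] : (EtShriek.compEtale W.hom).obj (EtCoh.top W.left) ≅ W :=
  MorphismProperty.Over.isoMk (Iso.refl _)

/-- The map given by a section. -/
def ofSection (W : X.Etale) [Etale W.hom] [EtShriek.JCont W.hom] {G : EtModW.Mod Λ X}
    (s : G.obj.obj (op W)) : (EtSix.extZeroMod Λ W.hom).obj (EtSix.constΛ Λ W.left) ⟶ G :=
  (extZeroHomEquiv W G).symm
    (ModuleCat.ofHom (LinearMap.toSpanSingleton Λ _ (G.obj.map (topIso W).hom.op s)))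

theorem extZeroHomEquiv_comp (W : X.Etale) [Etale W.hom] [EtShriek.JCont W.hom]
    {G H : EtModW.Mod Λ X} (φ : (EtSix.extZeroMod Λ W.hom).obj (EtSix.constΛ Λ W.left) ⟶ G)
    (a : G ⟶ H) :
    extZeroHomEquiv W H (φ ≫ a) =
      extZeroHomEquiv W G φ ≫ a.hom.app (op ((EtShriek.compEtale W.hom).obj (EtCoh.top W.left))) :=
  (congrArg _ ((EtSix.extZeroModAdj Λ W.hom).homEquiv_naturality_right φ a)).trans
    ((constantSheafAdj W.left.smallEtaleTopology (ModuleCat.{u + 1} Λ)
      (EtCore.topIsTerminal W.left)).homEquiv_naturality_right _ _)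

theorem ofSection_comp_eq_zero (W : X.Etale) [Etale W.hom] [EtShriek.JCont W.hom]
    {G H : EtModW.Mod Λ X} (s : G.obj.obj (op W)) (a : G ⟶ H) (h : ofSection W s ≫ a = 0) :
    a.hom.app (op W) s = 0 := by
  let e := (EtShriek.compEtale W.hom).obj (EtCoh.top W.left)
  have hn := extZeroHomEquiv_comp W (ofSection W s) a
  have hz : extZeroHomEquiv (Λ := Λ) W H 0 = 0 := by
    have := extZeroHomEquiv_comp W (ofSection W s) (0 : G ⟶ H)
    rw [comp_zero] at this
    exact this.trans comp_zero
  rw [h, hz, ofSection, Equiv.apply_symm_apply] at hn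
  have h1 : a.hom.app (op e) (G.obj.map (topIso W).hom.op s) = 0 := by
    have := congrArg (fun f => f.hom (1 : Λ)) hn
    simpa using this.symm
  have h2 : H.obj.map (topIso W).hom.op (a.hom.app (op W) s) = 0 :=
    (NatTrans.naturality_apply a.hom _ s).symm.trans h1
  exact ((ModuleCat.mono_iff_injective _).1 inferInstance) (h2.trans (map_zero _).symm)

/-- On a quasi-compact scheme a complex with constructible `b`-th cohomology sheaf receives a finite sum
of extensions by zero in degree `b`, surjectively on the cohomology sheaf. -/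
theorem exists_epi [CompactSpace X] (K : EtModD.D Λ X) (b : ℤ)
    (hK : EtModW.IsConstructible Λ (EtModD.HD K b)) :
    ∃ (m : ℕ) (W : Fin m → X.Etale) (_ : ∀ k, IsAffine (W k).left),
      ∀ [∀ k, Etale (W k).hom] [∀ k, EtShriek.JCont (W k).hom],
        ∃ φ : (DerivedCategory.singleFunctor (EtModW.Mod Λ X) b).obj
              (∐ fun k => (EtSix.extZeroMod Λ (W k).hom).obj (EtSix.constΛ Λ (W k).left)) ⟶ K,
          Epi ((DerivedCategory.homologyFunctor (EtModW.Mod Λ X) b).map φ) := by
  obtain ⟨L, ⟨e⟩⟩ : ∃ L, Nonempty (DerivedCategory.Q.obj L ≅ K) :=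
    ⟨_, ⟨DerivedCategory.Q.objObjPreimageIso K⟩⟩
  let ε : L.homology b ≅ EtModD.HD K b :=
    ((DerivedCategory.homologyFunctorFactors (EtModW.Mod Λ X) b).app L).symm ≪≫
      (DerivedCategory.homologyFunctor (EtModW.Mod Λ X) b).mapIso e
  obtain ⟨m₀, G₀, hG₀⟩ := FiniteGen.exists_gen hK
  let π : L.cycles b ⟶ EtModD.HD K b := L.homologyπ b ≫ ε.hom
  haveI : Epi π := epi_comp _ _
  obtain ⟨m, G, hG⟩ := FiniteGen.exists_lift π G₀
  refine ⟨m, fun k => (G k).V, fun k => (G k).isAffine, ?_⟩
  intro _ _
  let ψ : (∐ fun k => (EtSix.extZeroMod Λ (G k).V.hom).obj (EtSix.constΛ Λ (G k).V.left)) ⟶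
      L.cycles b :=
    Sigma.desc fun k => ofSection (G k).V (Free.ev (G k).θ)
  haveI hψ : Epi (ψ ≫ π) := by
    refine Preadditive.epi_of_cancel_zero _ fun {Z} a ha => ?_
    have hl : ∀ l, (G l).θ ≫ π ≫ a = 0 := fun l => by
      apply Free.ev.injective
      rw [Free.ev_comp, Free.ev_zero]
      apply ofSection_comp_eq_zero
      have := congrArg (fun g : (∐ fun k => (EtSix.extZeroMod Λ (G k).V.hom).obj
        (EtSix.constΛ Λ (G k).V.left)) ⟶ Z => Sigma.ι _ l ≫ g) ha
      simpa [ψ] using this
    have h0 : FiniteGen.desc G₀ ≫ a = 0 :=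
      Sigma.hom_ext _ _ fun k => by simpa [FiniteGen.desc] using hG a hl k
    exact (cancel_epi (FiniteGen.desc G₀)).1 (h0.trans comp_zero.symm)
  let f := HomologicalComplex.mkHomFromSingle (ψ ≫ L.iCycles b) (fun k _ => by simp)
  refine ⟨(DerivedCategory.singleFunctorIsoCompQ _ b).hom.app _ ≫ DerivedCategory.Q.map f ≫ e.hom, ?_⟩
  have hcyc : HomologicalComplex.cyclesMap f b =
      (HomologicalComplex.singleObjCyclesSelfIso _ b _).hom ≫ ψ := by
    rw [← cancel_mono (L.iCycles b), HomologicalComplex.cyclesMap_i,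
      HomologicalComplex.mkHomFromSingle_f, HomologicalComplex.singleObjCyclesSelfIso_hom]
    simp [f]
  haveI hf : Epi (HomologicalComplex.homologyMap f b ≫ ε.hom) := by
    haveI : Epi (((HomologicalComplex.single _ _ b).obj _).homologyπ b ≫
        HomologicalComplex.homologyMap f b ≫ ε.hom) := by
      rw [HomologicalComplex.homologyπ_naturality_assoc, hcyc, Category.assoc]
      exact epi_comp _ _
    exact epi_of_epi (((HomologicalComplex.single _ _ b).obj _).homologyπ b) _
  haveI hQ : Epi ((DerivedCategory.homologyFunctor (EtModW.Mod Λ X) b).map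
      (DerivedCategory.Q.map f ≫ e.hom)) := by
    have h : (DerivedCategory.homologyFunctor (EtModW.Mod Λ X) b).map
        (DerivedCategory.Q.map f ≫ e.hom) =
        (DerivedCategory.homologyFunctorFactors (EtModW.Mod Λ X) b).hom.app _ ≫
          HomologicalComplex.homologyMap f b ≫ ε.hom := by
      simp only [ε, Functor.map_comp, Iso.trans_hom, Iso.symm_hom, Iso.app_inv, Functor.mapIso_hom]
      erw [← DerivedCategory.homologyFunctorFactors_hom_naturality_assoc]
      exact congrArg _ (Iso.hom_inv_id_app_assoc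
        (DerivedCategory.homologyFunctorFactors (EtModW.Mod Λ X) b) L _).symm
    rw [h]
    exact @epi_comp _ _ _ _ _ _ inferInstance _ hf
  rw [Functor.map_comp]
  exact @epi_comp _ _ _ _ _ _ inferInstance _ hQ

end Groth.Agent.H88.EtMod.FiniteGenD
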