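import Groth.Agent.H88.EtMod.PBCOps
import Groth.Agent.H88.EtMod.ExtZero
import Groth.Agent.H88.EtMod.FiniteGenD
import Groth.Agent.H88.Strata.Split
import Groth.Agent.Lib.EtJ.ExtStalk
import Mathlib.AlgebraicGeometry.Morphisms.Flat
import Mathlib.Algebra.Category.Grp.Biproducts

/-!
Extension by zero of constructible abelian sheaves along étale morphisms.
-/

set_option autoImplicit false
set_option linter.style.haveILetI false

universe u

open CategoryTheory CategoryTheory.Limits AlgebraicGeometry Opposite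

noncomputable section

namespace Groth.Agent.H88.EtMod.PBCExtZero

open AbBridge

variable {U X : Scheme.{u}} (j : U ⟶ X) [Etale j] [EtShriek.JCont j]

/-- Extension by zero commutes with forgetting. -/
def extZeroIso : EtSix.extZeroMod Zl.{u} j ⋙ fg X ≅ fg U ⋙ EtShriek.extZero j :=
  let adj : (fg U).inv ⋙ EtSix.extZeroMod Zl.{u} j ⋙ fg X ⊣ EtShriek.restrAlong j :=
    ((fg U).asEquivalence.symm.toAdjunction.comp
      ((EtSix.extZeroModAdj Zl.{u} j).comp (fg X).asEquivalence.toAdjunction)).ofNatIsoRight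
      (Functor.associator _ _ _ ≪≫ Functor.isoWhiskerLeft (fg X).inv
        (NatIso.ofComponents (fun _ => Iso.refl _) :
          EtSix.restrMod Zl.{u} j ⋙ fg U ≅ fg X ⋙ EtShriek.restrAlong j) ≪≫
        (Functor.associator _ _ _).symm ≪≫
        Functor.isoWhiskerRight (fg X).asEquivalence.counitIso _ ≪≫ Functor.leftUnitor _)
  (Functor.leftUnitor _).symm ≪≫
    Functor.isoWhiskerRight (fg U).asEquivalence.unitIso _ ≪≫
    Functor.associator _ _ _ ≪≫
    Functor.isoWhiskerLeft (fg U) (Adjunction.leftAdjointUniq adj (EtShriek.extZeroAdj j))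

/-- A finite coproduct of finite abelian groups is finite. -/
theorem finite_sigma {ι : Type u} [Finite ι] (A : ι → AddCommGrpCat.{u + 1})
    (h : ∀ i, Finite (A i)) : Finite ↥(∐ A) := by
  obtain ⟨n, ⟨e⟩⟩ := Finite.exists_equiv_fin ι
  let i := (Sigma.whiskerEquiv (f := fun k : Fin n => A (e.symm k)) (g := A) e.symm
      (fun k => Iso.refl _)).symm ≪≫
    (biproduct.isoCoproduct fun k : Fin n => A (e.symm k)).symm ≪≫
    AddCommGrpCat.biproductIsoPi _
  haveI : ∀ k : Fin n, Finite ↥(A (e.symm k)) := fun k => h _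
  exact Finite.of_equiv _ i.addCommGroupIsoToAddEquiv.symm.toEquiv

omit [EtShriek.JCont j] in
/-- Lifts of a geometric point along a quasi-compact étale morphism form a finite set. -/
theorem finite_lifts [QuasiCompact j] {Ω : Type u} [Field Ω] [IsSepClosed Ω]
    (ξ : Spec (CommRingCat.of Ω) ⟶ X) : Finite (Groth.Agent.Lib.EtJ.ExtStalk.Lifts j ξ) := by
  let π : Spec (CommRingCat.of (AlgebraicClosure Ω)) ⟶ Spec (CommRingCat.of Ω) :=
    Spec.map (CommRingCat.ofHom (algebraMap Ω (AlgebraicClosure Ω)))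
  haveI : Flat π := by
    refine (HasRingHomProperty.Spec_iff (P := @Flat)).2 ?_
    exact RingHom.flat_algebraMap_iff.2 inferInstance
  haveI : Surjective π :=
    ⟨fun x => ⟨default, Subsingleton.elim _ _⟩⟩
  haveI : Epi π := Flat.epi_of_flat_of_surjective π
  haveI : LocallyQuasiFinite j :=
    Groth.Agent.H54.EtaleSep.locallyQuasiFinite_of_formallyUnramified j
  haveI : Finite (Groth.Agent.H54.GeomLift.Lift j (π ≫ ξ)) :=
    Groth.Agent.H54.GeomLift.finite_lift j (π ≫ ξ) (j.finite_preimage_singleton _)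
  let f : Groth.Agent.Lib.EtJ.ExtStalk.Lifts j ξ → Groth.Agent.H54.GeomLift.Lift j (π ≫ ξ) :=
    fun s => ⟨π ≫ s.1, (Category.assoc _ _ _).trans (congrArg (π ≫ ·) s.2)⟩
  exact Finite.of_injective f fun s s' h => Subtype.ext ((cancel_epi π).1 (congrArg Subtype.val h))

/-- The stalk of the underlying abelian sheaf. -/
def stalkFgIso (F : EtModW.Mod Zl.{u} X) {Ω : Type u} [Field Ω] [IsSepClosed Ω]
    (ξ : Spec (CommRingCat.of Ω) ⟶ X) :
    (EtCoh.stalk ξ).obj ((fg X).obj F) ≅ fgt.{u}.obj ((Scheme.pointSmallEtale ξ).sheafFiber.obj F) :=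
  haveI : PreservesColimitsOfSize.{u, u} fgt.{u} :=
    fgt.{u}.asEquivalence.toAdjunction.leftAdjoint_preservesColimits
  haveI : PreservesFilteredColimitsOfSize.{u, u} fgt.{u} := ⟨fun _ _ _ => inferInstance⟩
  ((Scheme.pointSmallEtale ξ).sheafFiberCompIso fgt.{u}).app F

theorem finite_stalk_iff (F : EtModW.Mod Zl.{u} X) {Ω : Type u} [Field Ω] [IsSepClosed Ω]
    (ξ : Spec (CommRingCat.of Ω) ⟶ X) :
    Finite ↥((EtCoh.stalk ξ).obj ((fg X).obj F)) ↔
      Finite ↥((Scheme.pointSmallEtale ξ).sheafFiber.obj F) :=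
  (stalkFgIso F ξ).addCommGroupIsoToAddEquiv.toEquiv.finite_iff

theorem finStalks_extZero [QuasiCompact j] {F : EtModW.Mod Zl.{u} U} (hF : FinStalks F) :
    FinStalks ((EtSix.extZeroMod Zl.{u} j).obj F) := by
  intro Ω _ _ ξ
  haveI := finite_lifts j ξ
  rw [← finite_stalk_iff]
  haveI := finite_sigma (fun u : Groth.Agent.Lib.EtJ.ExtStalk.Lifts j ξ =>
    (EtCoh.stalk u.1).obj ((fg U).obj F)) fun u => (finite_stalk_iff F u.1).2 (hF Ω u.1)
  exact Finite.of_equiv _ ((EtCoh.stalk ξ).mapIso ((extZeroIso j).app F) ≪≫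
    Groth.Agent.Lib.EtJ.ExtStalk.stalkExtZeroIso j ξ _).addCommGroupIsoToAddEquiv.symm.toEquiv

/-- Extension by zero along a quasi-compact quasi-separated étale morphism preserves
constructibility. -/
theorem isConstructible_extZero [QuasiCompact j] [QuasiSeparated j] {F : EtCoh.Ab U}
    (hF : EtPBC.IsConstructible F) : EtPBC.IsConstructible ((EtShriek.extZero j).obj F) := by
  obtain ⟨F', ⟨e⟩⟩ := exists_lift F
  obtain ⟨h1, h2⟩ := (isConstructible_iff F').1 (PBCOps.isConstructible_of_iso e.symm hF)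
  exact PBCOps.isConstructible_of_iso ((extZeroIso j).app F' ≪≫ (EtShriek.extZero j).mapIso e)
    ((isConstructible_iff _).2 ⟨ExtZero.isConstructible_extZero j h1, finStalks_extZero j h2⟩)

omit [Etale j] in
theorem quasiSeparated_of_spaces [QuasiSeparatedSpace U] [QuasiSeparatedSpace X] :
    QuasiSeparated j := by
  infer_instance

/-- Finite locally constant sheaves are constructible. -/
theorem isConstructible_of_isFiniteLC {F : EtCoh.Ab X} (hF : EtCoh.IsFiniteLocallyConstant F) :
    EtPBC.IsConstructible F := by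
  obtain ⟨F', ⟨e⟩⟩ := exists_lift F
  obtain ⟨h1, h2⟩ := (isFiniteLocallyConstant_iff' F').1 (isFiniteLC_of_iso e.symm hF)
  refine PBCOps.isConstructible_of_iso e ((isConstructible_iff F').2 ⟨fun W _ => ?_, h2⟩)
  have hr : Set.range (W.ι : (W : Scheme.{u}) ⟶ X) = (W : Set X) := W.range_ι
  refine ⟨1, fun _ => (W : Scheme.{u}), fun _ => W.ι, fun _ => inferInstance, fun _ => ?_,
    fun i j hij => absurd (Subsingleton.elim i j) hij, (Set.iUnion_const _).trans hr,
    fun _ => LCOps.isFTLocConst_pull W.ι h1⟩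
  rw [hr, Subtype.coe_preimage_self]
  exact Topology.IsConstructible.univ

/-- Constant sheaves of finite groups are finite locally constant. -/
theorem isFiniteLC_const (X : Scheme.{u}) (M : Type) [AddCommGroup M] [Finite M] :
    EtCoh.IsFiniteLocallyConstant
      ((constantSheaf X.smallEtaleTopology AddCommGrpCat.{u + 1}).obj
        (AddCommGrpCat.of (ULift.{u + 1} M))) := by
  refine ⟨PUnit.{u + 1}, fun _ => EtCoh.top X, fun x => ⟨PUnit.unit, x, rfl⟩, fun _ =>
    ⟨M, inferInstance, inferInstance, ⟨?_⟩⟩⟩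
  exact (((Over.forget (EtCoh.top X)).pushforwardContinuousSheafificationCompatibility
    AddCommGrpCat.{u + 1} (X.smallEtaleTopology.over (EtCoh.top X)) X.smallEtaleTopology).app
      ((Functor.const X.Etaleᵒᵖ).obj (AddCommGrpCat.of (ULift.{u + 1} M)))).symm

/-- The two extensions by zero of constant sheaves agree. -/
def extZeroConstIso (W : X.Etale) [Etale W.hom] [EtShriek.JCont W.hom] :
    constantSheaf (X.smallEtaleTopology.over W) AddCommGrpCat.{u + 1} ⋙ EtPBC.extZero W ≅
      constantSheaf W.left.smallEtaleTopology AddCommGrpCat.{u + 1} ⋙ EtShriek.extZero W.hom :=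
  Adjunction.leftAdjointUniq
    (((constantSheafAdj (X.smallEtaleTopology.over W) AddCommGrpCat.{u + 1} Over.mkIdTerminal).comp
      (EtPBC.extZeroAdj W)).ofNatIsoRight
        (NatIso.ofComponents (fun G => G.obj.mapIso (FiniteGenD.topIso W).op)
          (fun α => α.hom.naturality _ |>.symm) :
          _ ≅ EtShriek.restrAlong W.hom ⋙
            (sheafSections W.left.smallEtaleTopology AddCommGrpCat.{u + 1}).obj (op (EtCoh.top W.left))))
    ((constantSheafAdj W.left.smallEtaleTopology AddCommGrpCat.{u + 1}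
      (EtCore.topIsTerminal W.left)).comp (EtShriek.extZeroAdj W.hom))

/-- `j_! M` is constructible. -/
theorem isConstructible_extZeroConst [QuasiSeparatedSpace X] (W : X.Etale)
    [CompactSpace W.left] [QuasiSeparatedSpace W.left] (M : Type) [AddCommGroup M] [Finite M] :
    EtPBC.IsConstructible (EtPBC.extZeroConst W M) := by
  haveI : CompactSpace ↥((𝟭 Scheme).obj W.left) := ‹_›
  haveI : QuasiSeparatedSpace ↥((𝟭 Scheme).obj W.left) := ‹_›
  haveI : QuasiSeparatedSpace ↥((Functor.fromPUnit X).obj W.right) := ‹QuasiSeparatedSpace X›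
  haveI : Etale W.hom := W.prop
  haveI : QuasiCompact W.hom := quasiCompact_of_compactSpace _
  haveI : QuasiSeparated W.hom := quasiSeparated_of_spaces W.hom
  exact PBCOps.isConstructible_of_iso
    ((extZeroConstIso W).app (AddCommGrpCat.of (ULift.{u + 1} M))).symm
    (isConstructible_extZero W.hom (isConstructible_of_isFiniteLC (isFiniteLC_const _ M)))

end Groth.Agent.H88.EtMod.PBCExtZero
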