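import Groth.Agent.H88.EtMod.PBCQuotient
import Groth.Agent.H88.EtMod.FreeResolve
import Groth.Agent.H88.EtMod.ARTransport
import Groth.Agent.H88.EtMod.PBCExtZero
import Mathlib.CategoryTheory.Subobject.NoetherianObject
import Mathlib.GroupTheory.FiniteAbelian.Basic

/-!
On noetherian schemes constructible sheaves satisfy the ascending chain condition.
-/

set_option autoImplicit false
set_option linter.style.haveILetI false

universe u

open CategoryTheory CategoryTheory.Limits AlgebraicGeometry Opposite Topology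

noncomputable section

namespace Groth.Agent.H88.EtMod.ChainCondition

open Groth.Agent.Lib.EtSite Groth.Agent.Lib.EtSite.Basic LCChart

variable {Λ : Type (u + 1)} [CommRing Λ] {X : Scheme.{u}}

/-- A morphism into a locally constant sheaf which vanishes on a stalk at a dense point vanishes on
all stalks. -/
theorem stalk_eq_zero_of_dense {T : Scheme.{u}} (t₁ : T) (hgen : ∀ o : Set T, IsOpen o → o.Nonempty → t₁ ∈ o)
    {P Q : EtModW.Mod Λ T} (hQ : EtModW.IsFTLocConst Λ Q) (α : P ⟶ Q) {Ω₁ : Type u} [Field Ω₁]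
    [IsSepClosed Ω₁] (ξ₁ : Spec (CommRingCat.of Ω₁) ⟶ T) (hξ₁ : ξ₁.base default = t₁)
    (h : ∀ y, (Scheme.pointSmallEtale ξ₁).sheafFiber.map α y = 0) {Ω : Type u} [Field Ω]
    [IsSepClosed Ω] (ξ : Spec (CommRingCat.of Ω) ⟶ T)
    (z : ↥((Scheme.pointSmallEtale ξ).sheafFiber.obj P)) :
    (Scheme.pointSmallEtale ξ).sheafFiber.map α z = 0 := by
  obtain ⟨V, ⟨v, hv⟩, M, _, _, _, φ, hφ⟩ := isFTLocConst_iff.1 hQ (ξ.base default)
  obtain ⟨p, -⟩ := exists_fiber ξ V v hv
  obtain ⟨W, g, q, s, hq, rfl⟩ := exists_germ_eq P V ξ p z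
  rw [germ_naturality]
  obtain ⟨m, hm⟩ := (hφ.restrict g Ω ξ q).2 (germ Q W ξ q (α.hom.app (op W) s))
  obtain ⟨W', g', q', hq', hW'⟩ := ((Scheme.pointSmallEtale ξ).toPresheafFiber_eq_iff' W q _ _).1 hm
  haveI : Etale W'.hom := W'.prop
  have hmem : t₁ ∈ Set.range W'.hom.base :=
    hgen _ W'.hom.isOpenMap.isOpen_range ⟨_, fiberPt q', rfl⟩
  obtain ⟨w, hw⟩ := hmem
  obtain ⟨r, -⟩ := exists_fiber ξ₁ W' w (hw.trans hξ₁.symm)
  have h1 : germ Q W' ξ₁ r (Q.obj.map g'.op (α.hom.app (op W) s)) = 0 := by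
    rw [germ_map, ← germ_naturality]
    exact h _
  rw [← hW'] at h1
  have hm0 : m = 0 := by
    refine ((hφ.restrict g).restrict g' Ω₁ ξ₁ r).1 ?_
    change germ Q W' ξ₁ r (Q.obj.map g'.op (Q.obj.map g.op (φ m))) =
      germ Q W' ξ₁ r (Q.obj.map g'.op (Q.obj.map g.op (φ 0)))
    rw [map_zero, map_zero, map_zero, map_zero]
    exact h1
  rw [← hm, hm0]
  simp

variable [IsNoetherianRing Λ] [IsNoetherian X]

/-- The stalks of the chain are stationary over `Z`. -/
def Stat (G : ℕ → EtModW.Mod Λ X) (w : ∀ k l : ℕ, k ≤ l → (G k ⟶ G l)) (Z : Set X) : Prop :=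
  ∃ N, ∀ (k : ℕ) (h : N ≤ k) (Ω : Type u) [Field Ω] [IsSepClosed Ω]
    (ξ : Spec (CommRingCat.of Ω) ⟶ X), ξ.base default ∈ Z →
      Function.Surjective ((Scheme.pointSmallEtale ξ).sheafFiber.map (w N k h))

/-- An increasing sequence of subsheaves of a constructible sheaf is stationary. -/
theorem exists_isIso {F : EtModW.Mod Λ X} (hF : EtModW.IsConstructible Λ F) (G : ℕ → EtModW.Mod Λ X)
    (ι : ∀ k, G k ⟶ F) [∀ k, Mono (ι k)] (w : ∀ k l : ℕ, k ≤ l → (G k ⟶ G l))
    (hw : ∀ k l h, w k l h ≫ ι l = ι k) : ∃ N, ∀ (k : ℕ) (h : N ≤ k), IsIso (w N k h) := by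
  haveI := LCOps.hasLimits_small (Λ := Λ)
  have hwc : ∀ (a b c : ℕ) (h : a ≤ b) (h' : b ≤ c), w a b h ≫ w b c h' = w a c (h.trans h') := by
    intro a b c h h'
    rw [← cancel_mono (ι c), Category.assoc, hw, hw, hw]
  suffices hstat : Stat G w Set.univ by
    obtain ⟨N, hN⟩ := hstat
    refine ⟨N, fun k h => (Stalk.isIso_iff_stalks _).2 fun x => ⟨?_, hN k h _ _ trivial⟩⟩
    haveI : Mono (w N k h) := by
      haveI : Mono (w N k h ≫ ι k) := by rw [hw]; infer_instance
      exact mono_of_mono (w N k h) (ι k)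
    exact LCOps.stalk_map_injective _ _
  haveI : TopologicalSpace.NoetherianSpace ↥X := inferInstance
  refine Lib.Spectral.Noetherian.closed_induction (P := Stat G w) ⟨0, fun _ _ _ _ _ _ h => h.elim⟩
    (fun Y Z _ _ hY hZ => ?_) (fun Y hY hYi ih => ?_) isClosed_univ
  · obtain ⟨N, hN⟩ := hY
    obtain ⟨M, hM⟩ := hZ
    refine ⟨max N M, fun k h Ω _ _ ξ hξ z => ?_⟩
    rcases hξ with hξ | hξ
    · obtain ⟨y, rfl⟩ := hN k ((le_max_left N M).trans h) Ω ξ hξ z
      refine ⟨(Scheme.pointSmallEtale ξ).sheafFiber.map (w N (max N M) (le_max_left _ _)) y, ?_⟩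
      rw [← ConcreteCategory.comp_apply, ← Functor.map_comp, hwc]
    · obtain ⟨y, rfl⟩ := hM k ((le_max_right N M).trans h) Ω ξ hξ z
      refine ⟨(Scheme.pointSmallEtale ξ).sheafFiber.map (w M (max N M) (le_max_right _ _)) y, ?_⟩
      rw [← ConcreteCategory.comp_apply, ← Functor.map_comp, hwc]
  obtain ⟨η, hη⟩ : ∃ η, IsGenericPoint η Y := QuasiSober.sober hYi hY
  have hηY : η ∈ Y := hη.mem
  obtain ⟨ξ₁, hξ₁⟩ : ∃ ξ : Spec (CommRingCat.of (SeparableClosure (X.residueField η))) ⟶ X,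
      ξ.base default = η := ⟨geomPoint X η, geomPoint_apply η default⟩
  haveI : IsNoetherian Λ ↥((Scheme.pointSmallEtale ξ₁).sheafFiber.obj F) :=
    haveI : Module.Finite Λ ↥((Scheme.pointSmallEtale ξ₁).sheafFiber.obj F) :=
      ARTransport.finite_stalk ξ₁ hF
    isNoetherian_of_isNoetherianRing_of_finite Λ _
  let R : ℕ →o Submodule Λ ↥((Scheme.pointSmallEtale ξ₁).sheafFiber.obj F) :=
    { toFun := fun k => LinearMap.range ((Scheme.pointSmallEtale ξ₁).sheafFiber.map (ι k)).hom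
      monotone' := fun a b hab => by
        rintro _ ⟨y, rfl⟩
        refine ⟨(Scheme.pointSmallEtale ξ₁).sheafFiber.map (w a b hab) y, ?_⟩
        change (Scheme.pointSmallEtale ξ₁).sheafFiber.map (ι b)
          ((Scheme.pointSmallEtale ξ₁).sheafFiber.map (w a b hab) y) = _
        rw [← ConcreteCategory.comp_apply, ← Functor.map_comp, hw] }
  obtain ⟨N₀, hN₀⟩ := monotone_stabilizes_iff_noetherian.2 ‹_› R
  let Q := cokernel (ι N₀)
  let π : F ⟶ Q := cokernel.π (ι N₀)
  obtain ⟨_, ⟨(U : X.Opens), hU, rfl⟩, hηU, -⟩ :=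
    X.isBasis_affineOpens.exists_subset_of_mem_open (Set.mem_univ η) isOpen_univ
  obtain ⟨C, T, g, -, hyC, hg, hCg, hlc⟩ :=
    Constr.isConstructible_iff.1 (Quotient.isConstructible_of_epi π hF) U hU ⟨η, hηU⟩
  obtain ⟨t₀, ht₀⟩ := hCg ⟨_, hyC, rfl⟩
  haveI := hg
  obtain ⟨O, Z', hO, hZ', hr⟩ := g.isLocallyClosed_range
  have ht₀' : η ∈ O ∩ Z' := hr ▸ ⟨t₀, ht₀⟩
  have hsub : O ∩ Y ⊆ Set.range g.base := fun x hx => by
    have : x ∈ O ∩ Z' := ⟨hx.1,
      closure_minimal (Set.singleton_subset_iff.2 ht₀'.2) hZ' (hη.symm ▸ hx.2 : x ∈ closure {η})⟩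
    exact hr.symm ▸ this
  obtain ⟨T', g', hg', hr'⟩ :=
    Strata.exists_immersion_range ((hO.isLocallyClosed.inter hY.isLocallyClosed).preimage g.continuous)
  haveI := hg'
  let k' := g' ≫ g
  have hrk : Set.range k'.base = O ∩ Y := by
    rw [Scheme.Hom.comp_base, TopCat.coe_comp, Set.range_comp, hr', Set.image_preimage_eq_inter_range]
    exact Set.inter_eq_left.2 hsub
  obtain ⟨t₁, ht₁⟩ : η ∈ Set.range k'.base := by rw [hrk]; exact ⟨ht₀'.1, hηY⟩
  have hgen : ∀ o : Set T', IsOpen o → o.Nonempty → t₁ ∈ o := by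
    intro o ho hne
    obtain ⟨a, ha⟩ := hne
    obtain ⟨o', ho', rfl⟩ := k'.isEmbedding.isInducing.isOpen_iff.1 ho
    have ha' : k'.base a ∈ Y := (hrk ▸ Set.mem_range_self a : k'.base a ∈ O ∩ Y).2
    change k'.base t₁ ∈ o'
    rw [ht₁]
    exact (hη.mem_open_set_iff ho').2 ⟨k'.base a, ha', ha⟩
  have hlc' : EtModW.IsFTLocConst Λ ((EtModW.pull Λ k').obj Q) := Constr.isFTLocConst_pull_comp g' g hlc
  have lift : ∀ (Ω : Type u) [Field Ω] [IsSepClosed Ω] (ξ : Spec (CommRingCat.of Ω) ⟶ X),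
      ξ.base default ∈ O ∩ Y → ∃ ζ, ζ ≫ k' = ξ := fun Ω _ _ ξ hξ =>
    Groth.Agent.Lib.ActSep.Criterion.exists_lift_of_isImmersion ξ k' (by
      rintro _ ⟨p, rfl⟩
      rw [hrk, Subsingleton.elim p default]
      exact hξ)
  obtain ⟨ζ₁, hζ₁⟩ := lift _ ξ₁ (by rw [hξ₁]; exact ⟨ht₀'.1, hηY⟩)
  subst hζ₁
  have hζ₁t : ζ₁.base default = t₁ := k'.isEmbedding.injective (hξ₁.trans ht₁.symm)
  have key : ∀ (k : ℕ) (h : N₀ ≤ k) (Ω : Type u) [Field Ω] [IsSepClosed Ω]
      (ξ : Spec (CommRingCat.of Ω) ⟶ X), ξ.base default ∈ O ∩ Y →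
      Function.Surjective ((Scheme.pointSmallEtale ξ).sheafFiber.map (w N₀ k h)) := by
    intro k hk Ω iF iS ξ hξ z
    obtain ⟨ζ, rfl⟩ := lift Ω ξ hξ
    let α := ι k ≫ π
    have nat : ∀ (Ω : Type u) [Field Ω] [IsSepClosed Ω] (ζ : Spec (CommRingCat.of Ω) ⟶ T')
        (y : ↥((Scheme.pointSmallEtale ζ).sheafFiber.obj ((EtModW.pull Λ k').obj (G k)))),
        ((Pull.stalkPullIso.{u} k' ζ (ModuleCat.{u + 1} Λ)).app Q).hom
            ((Scheme.pointSmallEtale ζ).sheafFiber.map ((EtModW.pull Λ k').map α) y) =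
          (Scheme.pointSmallEtale (ζ ≫ k')).sheafFiber.map α
            (((Pull.stalkPullIso.{u} k' ζ (ModuleCat.{u + 1} Λ)).app (G k)).hom y) := fun Ω _ _ ζ y =>
      ConcreteCategory.congr_hom ((Pull.stalkPullIso.{u} k' ζ (ModuleCat.{u + 1} Λ)).hom.naturality α) y
    have h₁ : ∀ y, (Scheme.pointSmallEtale ζ₁).sheafFiber.map ((EtModW.pull Λ k').map α) y = 0 := by
      intro y
      refine ((Pull.stalkPullIso.{u} k' ζ₁ (ModuleCat.{u + 1} Λ)).app Q).toLinearEquiv.injective ?_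
      rw [map_zero]
      refine (nat _ ζ₁ y).trans ?_
      generalize ((Pull.stalkPullIso.{u} k' ζ₁ (ModuleCat.{u + 1} Λ)).app (G k)).hom y = y'
      have hy : (Scheme.pointSmallEtale (ζ₁ ≫ k')).sheafFiber.map (ι k) y' ∈ R k := ⟨y', rfl⟩
      rw [← hN₀ k hk] at hy
      obtain ⟨y₀, hy₀⟩ := hy
      rw [Functor.map_comp, ConcreteCategory.comp_apply, ← hy₀]
      exact LCOps.stalk_comp_zero (ζ₁ ≫ k') (S := ShortComplex.mk _ _ (cokernel.condition (ι N₀))) y₀
    have hz : (Scheme.pointSmallEtale (ζ ≫ k')).sheafFiber.map α z = 0 := by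
      obtain ⟨y, rfl⟩ := ((Pull.stalkPullIso.{u} k' ζ (ModuleCat.{u + 1} Λ)).app (G k)).toLinearEquiv.surjective z
      refine (nat _ ζ y).symm.trans ?_
      rw [stalk_eq_zero_of_dense t₁ hgen hlc' _ ζ₁ hζ₁t h₁ ζ y]
      exact map_zero _
    rw [Functor.map_comp, ConcreteCategory.comp_apply] at hz
    obtain ⟨y₀, hy₀⟩ := LCOps.stalk_exact (ζ ≫ k') (ShortComplex.exact_of_g_is_cokernel
      (ShortComplex.mk _ _ (cokernel.condition (ι N₀))) (cokernelIsCokernel (ι N₀))) _ hz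
    refine ⟨y₀, LCOps.stalk_map_injective (ζ ≫ k') (ι k) ?_⟩
    rw [← ConcreteCategory.comp_apply, ← Functor.map_comp, hw]
    exact hy₀
  obtain ⟨N₁, hN₁⟩ := ih (Y \ O) (hY.sdiff hO)
    ⟨Set.sdiff_subset, fun h => (h hηY).2 ht₀'.1⟩
  refine ⟨max N₀ N₁, fun k h Ω _ _ ξ hξ z => ?_⟩
  by_cases hO' : ξ.base default ∈ O
  · obtain ⟨y, rfl⟩ := key k ((le_max_left _ _).trans h) Ω ξ ⟨hO', hξ⟩ z
    refine ⟨(Scheme.pointSmallEtale ξ).sheafFiber.map (w N₀ (max N₀ N₁) (le_max_left _ _)) y, ?_⟩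
    rw [← ConcreteCategory.comp_apply, ← Functor.map_comp, hwc]
  · obtain ⟨y, rfl⟩ := hN₁ k ((le_max_right _ _).trans h) Ω ξ ⟨hξ, hO'⟩ z
    refine ⟨(Scheme.pointSmallEtale ξ).sheafFiber.map (w N₁ (max N₀ N₁) (le_max_right _ _)) y, ?_⟩
    rw [← ConcreteCategory.comp_apply, ← Functor.map_comp, hwc]

omit [IsNoetherianRing Λ] in
/-- A sheaf with the ascending chain condition is generated by finitely many sections. -/
theorem exists_freeSum_epi (F : EtModW.Mod Λ X) [IsNoetherianObject F] :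
    ∃ (L : EtModW.Mod Λ X) (q : L ⟶ F), FreeResolve.FreeSum Λ X L ∧ Epi q := by
  classical
  let P : Subobject F → Prop := fun S => ∃ (m : ℕ) (G : Fin m → FiniteGen.Gen F),
    S = imageSubobject (FiniteGen.desc G)
  obtain ⟨S, ⟨m, G, rfl⟩, hmax⟩ := (wellFounded_gt (α := Subobject F)).has_min {S | P S}
    ⟨_, 0, Fin.elim0, rfl⟩
  refine ⟨_, FiniteGen.desc G, FreeResolve.freeSum_sigma (fun k => (G k).V) (fun k => (G k).isAffine), ?_⟩
  refine Preadditive.epi_of_cancel_zero _ fun {Z} a ha => ?_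
  apply Sheaf.hom_ext
  ext V s
  induction V using Opposite.rec with
  | op V =>
  have key : ∀ (W : X.Etale) (t : F.obj.obj (op W)), IsAffine W.left → a.hom.app (op W) t = 0 := by
    intro W t hW
    let c : FiniteGen.Gen F := ⟨W, hW, Free.ev.symm t⟩
    let G' : Fin (m + 1) → FiniteGen.Gen F := Fin.cons c G
    have hle : imageSubobject (FiniteGen.desc G) ≤ imageSubobject (FiniteGen.desc G') := by
      let u : ∀ k : Fin m, Free.free Λ (G k).V ⟶ ∐ fun k => Free.free Λ (G' k).V := fun k =>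
        Sigma.ι (fun k => Free.free Λ (G' k).V) k.succ
      have : FiniteGen.desc G = Sigma.desc u ≫ FiniteGen.desc G' := by
        refine Sigma.hom_ext _ _ fun k => ?_
        rw [Sigma.ι_desc_assoc]
        exact (Sigma.ι_desc (fun k => (G k).θ) k).trans (Sigma.ι_desc (fun k => (G' k).θ) k.succ).symm
      exact this ▸ imageSubobject_comp_le _ _
    have heq := eq_of_le_of_not_lt hle (hmax _ ⟨_, G', rfl⟩)
    have hc : (imageSubobject (FiniteGen.desc G)).Factors (Free.ev.symm t) := by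
      rw [heq]
      have : Free.ev.symm t = (Sigma.ι (fun k => Free.free Λ (G' k).V) 0 ≫
          factorThruImageSubobject (FiniteGen.desc G')) ≫
            (imageSubobject (FiniteGen.desc G')).arrow := by
        rw [Category.assoc, imageSubobject_arrow_comp]
        exact (Sigma.ι_desc (fun k => (G' k).θ) 0).symm
      rw [this]
      exact Subobject.factors_comp_arrow _
    have h0 : (imageSubobject (FiniteGen.desc G)).arrow ≫ a = 0 := by
      rw [← cancel_epi (factorThruImageSubobject (FiniteGen.desc G)), ← Category.assoc,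
        imageSubobject_arrow_comp, comp_zero]
      exact ha
    rw [← Free.ev.apply_symm_apply t, ← Free.ev_comp,
      ← Subobject.factorThru_arrow _ _ hc, Category.assoc, h0, comp_zero, Free.ev_zero]
  refine Stalk.sections_ext_of_germ Z (U := V) _ _ (Stalk.enoughPts_pt fun x p => ?_)
  obtain ⟨W, g, w, hw, hW⟩ := FiniteGen.exists_affine_nhd V (fiberPt p)
  obtain ⟨r, hr, -⟩ := Fiber.exists_fiber_map (geomPoint X x) g p w hw
  rw [← hr]
  refine (GrothendieckTopology.Point.toPresheafFiber_w_apply _ g r Z.obj _).symm.trans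
    (Eq.trans (congrArg _ ?_) (GrothendieckTopology.Point.toPresheafFiber_w_apply _ g r Z.obj _))
  change Z.obj.map g.op (a.hom.app (op V) s) = Z.obj.map g.op 0
  rw [map_zero, ← NatTrans.naturality_apply a.hom g.op s]
  exact key W _ hW

section Ab

open AbBridge

/-- The ascending chain condition for abelian sheaves. -/
theorem exists_eq {F : EtCoh.Ab X} (hF : EtPBC.IsConstructible F) (c : ℕ →o Subobject F) :
    ∃ N, ∀ m, N ≤ m → c m = c N := by
  obtain ⟨F', ⟨e⟩⟩ := exists_lift F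
  choose G hG using fun k => exists_lift ((c k : EtCoh.Ab X))
  let eG := fun k => (hG k).some
  let ι : ∀ k, G k ⟶ F' := fun k => (fg X).preimage ((eG k).hom ≫ (c k).arrow ≫ e.inv)
  have hι : ∀ k, (fg X).map (ι k) = (eG k).hom ≫ (c k).arrow ≫ e.inv := fun k => (fg X).map_preimage _
  haveI : ∀ k, Mono (ι k) := fun k => (fg X).mono_of_mono_map (by rw [hι]; infer_instance)
  obtain ⟨N, hN⟩ := exists_isIso ((isConstructible_iff F').1 (PBCOps.isConstructible_of_iso e.symm hF)).1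
    G ι (fun k l h => (fg X).preimage ((eG k).hom ≫ Subobject.ofLE _ _ (c.monotone h) ≫ (eG l).inv))
    (fun k l h => (fg X).map_injective (by simp [hι]))
  refine ⟨N, fun m hm => le_antisymm ?_ (c.monotone hm)⟩
  haveI : IsIso (Subobject.ofLE _ _ (c.monotone hm)) := by
    haveI := hN m hm
    have : IsIso ((fg X).map ((fg X).preimage
        ((eG N).hom ≫ Subobject.ofLE _ _ (c.monotone hm) ≫ (eG m).inv))) := inferInstance
    rw [Functor.map_preimage] at this
    have : IsIso (Subobject.ofLE _ _ (c.monotone hm) ≫ (eG m).inv) := IsIso.of_isIso_comp_left (eG N).hom _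
    exact IsIso.of_isIso_comp_right _ (eG m).inv
  exact Subobject.le_of_comm (inv (Subobject.ofLE _ _ (c.monotone hm))) (by simp)

/-- A noetherian object with torsion sections is constructible. -/
theorem isConstructible_of_isNoetherianObject {F : EtCoh.Ab X} (hF : EtCoh.IsTorsion F)
    [IsNoetherianObject F] : EtPBC.IsConstructible F := by
  obtain ⟨F', ⟨e⟩⟩ := exists_lift F
  haveI : IsNoetherianObject ((fg X).obj F') := isNoetherianObject_of_mono e.hom
  haveI : IsNoetherianObject F' := by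
    rw [isNoetherianObject_iff_monotone_chain_condition]
    intro f
    obtain ⟨n, hn⟩ := monotone_chain_condition_of_isNoetherianObject
      (⟨fun k => Subobject.mk ((fg X).map (f k).arrow), fun a b hab => Subobject.mk_le_mk_of_comm
        ((fg X).map (Subobject.ofLE _ _ (f.monotone hab)))
        (by rw [← Functor.map_comp, Subobject.ofLE_arrow])⟩ : ℕ →o Subobject ((fg X).obj F'))
    refine ⟨n, fun m hm => le_antisymm (f.monotone hm) ?_⟩
    exact Subobject.le_of_comm ((fg X).preimage (Subobject.ofMkLEMk _ _ (hn m hm).ge))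
      ((fg X).map_injective (by simp))
  haveI : IsLocallyNoetherian X := inferInstance
  obtain ⟨L, q, hL, hq⟩ := exists_freeSum_epi F'
  refine PBCOps.isConstructible_of_iso e ((isConstructible_iff F').2
    ⟨Quotient.isConstructible_of_epi q (FreeResolve.isConstructible_of_freeSum hL), fun Ω _ _ ξ => ?_⟩)
  have hc := Quotient.isConstructible_of_epi q (FreeResolve.isConstructible_of_freeSum hL)
  haveI := ARTransport.finite_stalk ξ hc
  rw [← PBCExtZero.finite_stalk_iff]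
  let A := (EtCoh.stalk ξ).obj ((fg X).obj F')
  haveI : AddGroup.FG A := by
    refine Module.Finite.iff_addGroup_fg.1 ?_
    haveI : Module.Finite ℤ Zl.{u} := Module.Finite.equiv (ULift.moduleEquiv (R := ℤ) (M := ℤ)).symm
    haveI : Module.Finite ℤ ↥((Scheme.pointSmallEtale ξ).sheafFiber.obj F') := Module.Finite.trans Zl.{u} _
    exact Module.Finite.equiv
      (PBCExtZero.stalkFgIso F' ξ).addCommGroupIsoToAddEquiv.symm.toIntLinearEquiv
  refine AddCommGroup.finite_of_fg_isAddTorsion A fun z => ?_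
  obtain ⟨U, p, s, rfl⟩ := (Scheme.pointSmallEtale ξ).toPresheafFiber_jointly_surjective z
  obtain ⟨V, g, ⟨v, hv⟩, hfin⟩ := hF U (e.hom.hom.app (op U) s) (fiberPt p)
  obtain ⟨r, hr, -⟩ := Fiber.exists_fiber_map ξ g p v hv
  have h0 : IsOfFinAddOrder (((fg X).obj F').obj.map g.op s) := by
    have := (e.inv.hom.app (op V)).hom.isOfFinAddOrder hfin
    rwa [← NatTrans.naturality_apply e.hom.hom g.op s, ← ConcreteCategory.comp_apply, ← NatTrans.comp_app,
      ← ObjectProperty.FullSubcategory.comp_hom, e.hom_inv_id] at this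
  rw [← hr]
  have := ((Scheme.pointSmallEtale ξ).toPresheafFiber V r ((fg X).obj F').obj).hom.isOfFinAddOrder h0
  exact (GrothendieckTopology.Point.toPresheafFiber_w_apply _ g r ((fg X).obj F').obj s) ▸ this

end Ab

end Groth.Agent.H88.EtMod.ChainCondition
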