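import Groth.Agent.H88.EtMod.TorsionColimit
import Groth.Agent.H88.EtMod.Support
import Groth.Agent.H88.EtMod.Quotient

/-!
Constructibility descends along surjective morphisms.
-/

set_option autoImplicit false
set_option linter.style.haveILetI false

universe u

open CategoryTheory CategoryTheory.Limits AlgebraicGeometry Opposite Topology ZeroObject

noncomputable section

namespace Groth.Agent.H88.EtMod.Descend

open Groth.Agent.Lib.EtSite Groth.Agent.Lib.EtSite.Basic LCChart AbBridge TorsionColimit Support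

variable {X Y : Scheme.{u}}

/-- Triviality of a stalk only depends on the underlying point. -/
theorem subsingleton_stalk_of_eq (Q : EtModW.Mod Zl.{u} X) {Ω Ω' : Type u} [Field Ω] [IsSepClosed Ω]
    [Field Ω'] [IsSepClosed Ω'] (ξ : Spec (CommRingCat.of Ω) ⟶ X) (ξ' : Spec (CommRingCat.of Ω') ⟶ X)
    (h : ξ.base default = ξ'.base default)
    (hξ : Subsingleton ↥((Scheme.pointSmallEtale ξ).sheafFiber.obj Q)) :
    Subsingleton ↥((Scheme.pointSmallEtale ξ').sheafFiber.obj Q) := by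
  refine subsingleton_of_forall_eq 0 fun z => ?_
  obtain ⟨U, p', s, rfl⟩ := (Scheme.pointSmallEtale ξ').toPresheafFiber_jointly_surjective z
  obtain ⟨p, hp⟩ := exists_fiber ξ U (fiberPt p') ((hom_fiberPt p').trans
    ((congrArg ξ'.base (Subsingleton.elim _ _)).trans h.symm))
  obtain ⟨V, g, q, hq, hs⟩ := LCOps.exists_nhd_eq ξ Q p (ι := Unit) (fun _ => s) (fun _ => 0)
    (fun _ => Subsingleton.elim _ _)
  obtain ⟨r, hr, -⟩ := Fiber.exists_fiber_map ξ' g p' (fiberPt q)
    ((fiberPt_map g q).symm.trans ((congrArg fiberPt hq).trans hp))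
  change germ Q U ξ' p' s = 0
  rw [← hr, ← germ_map, hs (), map_zero, map_zero]

theorem not_mem_Nz_iff (Q : EtModW.Mod Zl.{u} X) {Ω : Type u} [Field Ω] [IsSepClosed Ω]
    (ξ : Spec (CommRingCat.of Ω) ⟶ X) :
    ξ.base default ∉ Nz Q ↔ Subsingleton ↥((Scheme.pointSmallEtale ξ).sheafFiber.obj Q) := by
  constructor
  · intro h
    rw [← not_nontrivial_iff_subsingleton]
    refine fun hn => h ⟨Ω, inferInstance, inferInstance, ξ, ?_, hn⟩
    ext z
    exact ⟨fun ⟨a, ha⟩ => ha ▸ congrArg ξ.base (Subsingleton.elim _ _),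
      fun hz => ⟨default, hz.symm⟩⟩
  · rintro h ⟨Ω', _, _, ξ', hξ', hn⟩
    have : ξ'.base default = ξ.base default := by
      have : ξ'.base default ∈ Set.range ξ'.base := ⟨default, rfl⟩
      rwa [hξ'] at this
    exact not_nontrivial_iff_subsingleton.2 (subsingleton_stalk_of_eq Q ξ ξ' this.symm h) hn

/-- Finiteness of a stalk only depends on the underlying point. -/
theorem finite_stalk_of_eq (Q : EtModW.Mod Zl.{u} X) {Ω Ω' : Type u} [Field Ω] [IsSepClosed Ω]
    [Field Ω'] [IsSepClosed Ω'] (ξ : Spec (CommRingCat.of Ω) ⟶ X) (ξ' : Spec (CommRingCat.of Ω') ⟶ X)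
    (h : ξ.base default = ξ'.base default)
    (hξ : Finite ↥((Scheme.pointSmallEtale ξ).sheafFiber.obj Q)) :
    Finite ↥((Scheme.pointSmallEtale ξ').sheafFiber.obj Q) := by
  classical
  by_contra hinf
  rw [not_finite_iff_infinite] at hinf
  let N := Nat.card ↥((Scheme.pointSmallEtale ξ).sheafFiber.obj Q)
  let z : Fin (N + 1) → _ := fun i => Infinite.natEmbedding ↥((Scheme.pointSmallEtale ξ').sheafFiber.obj Q) i
  have hz : Function.Injective z :=
    (Infinite.natEmbedding _).injective.comp Fin.val_injective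
  have key : ∀ s : Finset (Fin (N + 1)), ∃ (U : X.Etale) (p : (Scheme.pointSmallEtale ξ').fiber.obj U),
      ∀ i ∈ s, ∃ t, germ Q U ξ' p t = z i := by
    intro s
    induction s using Finset.induction with
    | empty => exact ⟨EtCoh.top X, (exists_fiber ξ' (EtCoh.top X) (ξ'.base default) rfl).choose, by simp⟩
    | insert k s _ ih =>
      obtain ⟨U, p, hU⟩ := ih
      obtain ⟨V, g, q, t, hq, ht⟩ := exists_germ_eq Q U ξ' p (z k)
      refine ⟨V, q, fun i hi => ?_⟩
      rcases Finset.mem_insert.1 hi with rfl | hi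
      · exact ⟨t, ht⟩
      · obtain ⟨t', ht'⟩ := hU i hi
        exact ⟨Q.obj.map g.op t', by rw [germ_map, hq, ht']⟩
  obtain ⟨U, p', hU⟩ := key Finset.univ
  choose t ht using fun i => hU i (Finset.mem_univ i)
  obtain ⟨p, hp⟩ := exists_fiber ξ U (fiberPt p') ((hom_fiberPt p').trans
    ((congrArg ξ'.base (Subsingleton.elim _ _)).trans h.symm))
  obtain ⟨i, j, hij, he⟩ : ∃ i j, i ≠ j ∧ germ Q U ξ p (t i) = germ Q U ξ p (t j) := by
    by_contra hne
    push Not at hne
    have hle := Nat.card_le_card_of_injective (fun i => germ Q U ξ p (t i))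
      (fun i j hij => by_contra fun hn => hne i j hn hij)
    rw [Nat.card_fin] at hle
    omega
  obtain ⟨V, g, q, hq, hs⟩ := LCOps.exists_nhd_eq ξ Q p (ι := Unit) (fun _ => t i) (fun _ => t j)
    (fun _ => he)
  obtain ⟨r, hr, -⟩ := Fiber.exists_fiber_map ξ' g p' (fiberPt q)
    ((fiberPt_map g q).symm.trans ((congrArg fiberPt hq).trans hp))
  refine hij (hz ?_)
  rw [← ht i, ← ht j, ← hr, ← germ_map, ← germ_map, hs ()]

/-- A sheaf with finite stalks is torsion. -/
theorem isTorsion_of_finStalks {F : EtModW.Mod Zl.{u} X} (hF : FinStalks F) :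
    EtCoh.IsTorsion ((fg X).obj F) := by
  intro U s x
  let ξ := geomPoint X (U.hom.base x)
  obtain ⟨p, hp⟩ := exists_fiber ξ U x (geomPoint_apply _ default).symm
  haveI := hF _ ξ
  obtain ⟨n, hn, h0⟩ := (isOfFinAddOrder_of_finite (germ F U ξ p s)).exists_nsmul_eq_zero
  obtain ⟨V, g, q, hq, hs⟩ := LCOps.exists_nhd_eq ξ F p (ι := Unit) (fun _ => n • s) (fun _ => 0)
    (fun _ => (map_nsmul _ n _).trans (h0.trans (map_zero _).symm))
  refine ⟨V, g, ⟨fiberPt q, (fiberPt_map g q).symm.trans ((congrArg fiberPt hq).trans hp)⟩, ?_⟩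
  refine isOfFinAddOrder_iff_nsmul_eq_zero.2 ⟨n, hn, ?_⟩
  exact (map_nsmul (F.obj.map g.op).hom n _).symm.trans ((hs ()).trans (map_zero (F.obj.map g.op).hom))

variable [CompactSpace Y] [QuasiSeparatedSpace Y]

/-- Every element of a stalk of a torsion sheaf comes from a constructible sheaf. -/
theorem exists_lift_elem {F : EtModW.Mod Zl.{u} Y} (hF : EtCoh.IsTorsion ((fg Y).obj F)) {Ω : Type u}
    [Field Ω] [IsSepClosed Ω] (ξ : Spec (CommRingCat.of Ω) ⟶ Y)
    (z : ↥((Scheme.pointSmallEtale ξ).sheafFiber.obj F)) :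
    ∃ (G : EtModW.Mod Zl.{u} Y) (a : G ⟶ F), Cst G ∧
      z ∈ Set.range ((Scheme.pointSmallEtale ξ).sheafFiber.map a) := by
  obtain ⟨U, p, s, rfl⟩ := (Scheme.pointSmallEtale ξ).toPresheafFiber_jointly_surjective z
  obtain ⟨W, g, w, hw, hW⟩ := FiniteGen.exists_affine_nhd U (fiberPt p)
  obtain ⟨q, hq, -⟩ := Fiber.exists_fiber_map ξ g p w hw
  obtain ⟨n, hn, h0⟩ := exists_nsmul F hF W (F.obj.map g.op s)
  let f : Free.free Zl.{u} W ⟶ F := Free.ev.symm (F.obj.map g.op s)
  have hf : (n • 𝟙 _) ≫ f = 0 := by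
    refine Free.ev.injective ?_
    rw [Preadditive.nsmul_comp, Category.id_comp, Free.ev_zero, ← Category.comp_id f,
      ← Preadditive.comp_nsmul, Free.ev_comp]
    refine Eq.trans ?_ h0
    rw [show Free.ev f = F.obj.map g.op s from Equiv.apply_symm_apply _ _]
    change (((sheafToPresheaf Y.smallEtaleTopology _).map (n • 𝟙 F)).app (op W)) _ = _
    rw [Functor.map_nsmul, CategoryTheory.Functor.map_id]
    simp
  refine ⟨_, cokernel.desc _ f hf, cst_cokernel_nsmul W n hn, ?_⟩
  refine ⟨germ _ W ξ q (Free.ev (cokernel.π _)), ?_⟩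
  rw [germ_naturality, ← Free.ev_comp, cokernel.π_desc, Equiv.apply_symm_apply, germ_map, hq]
  rfl

theorem exists_lift_range {F : EtModW.Mod Zl.{u} Y} (hF : EtCoh.IsTorsion ((fg Y).obj F)) {Ω : Type u}
    [Field Ω] [IsSepClosed Ω] (ξ : Spec (CommRingCat.of Ω) ⟶ Y)
    [Finite ↥((Scheme.pointSmallEtale ξ).sheafFiber.obj F)] :
    ∃ (G : EtModW.Mod Zl.{u} Y) (a : G ⟶ F), Cst G ∧
      Function.Surjective ((Scheme.pointSmallEtale ξ).sheafFiber.map a) := by
  classical
  obtain ⟨_⟩ := nonempty_fintype ↥((Scheme.pointSmallEtale ξ).sheafFiber.obj F)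
  suffices key : ∀ s : Finset ↥((Scheme.pointSmallEtale ξ).sheafFiber.obj F),
      ∃ (G : EtModW.Mod Zl.{u} Y) (a : G ⟶ F), Cst G ∧
        ∀ z ∈ s, z ∈ Set.range ((Scheme.pointSmallEtale ξ).sheafFiber.map a) by
    obtain ⟨G, a, hG, h⟩ := key Finset.univ
    exact ⟨G, a, hG, fun z => h z (Finset.mem_univ z)⟩
  intro s
  induction s using Finset.induction with
  | empty => exact ⟨0, 0, cst_zero, by simp⟩
  | insert z s _ ih =>
    obtain ⟨G, a, hG, ha⟩ := ih
    obtain ⟨G', a', hG', ha'⟩ := exists_lift_elem hF ξ z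
    refine ⟨G ⊞ G', biprod.desc a a', cst_biprod hG hG', fun w hw => ?_⟩
    rcases Finset.mem_insert.1 hw with rfl | hw
    · obtain ⟨v, hv⟩ := ha'
      exact ⟨(Scheme.pointSmallEtale ξ).sheafFiber.map (biprod.inr : G' ⟶ G ⊞ G') v, by
        rw [← ConcreteCategory.comp_apply, ← Functor.map_comp, biprod.inr_desc, hv]⟩
    · obtain ⟨v, hv⟩ := ha w hw
      exact ⟨(Scheme.pointSmallEtale ξ).sheafFiber.map (biprod.inl : G ⟶ G ⊞ G') v, by
        rw [← ConcreteCategory.comp_apply, ← Functor.map_comp, biprod.inl_desc, hv]⟩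

theorem stalk_pull_surjective_iff (f : X ⟶ Y) {F G : EtModW.Mod Zl.{u} Y} (a : G ⟶ F) {Ω : Type u}
    [Field Ω] [IsSepClosed Ω] (η : Spec (CommRingCat.of Ω) ⟶ X) :
    Function.Surjective ((Scheme.pointSmallEtale η).sheafFiber.map ((EtModW.pull Zl.{u} f).map a)) ↔
      Function.Surjective ((Scheme.pointSmallEtale (η ≫ f)).sheafFiber.map a) := by
  haveI := LCOps.hasLimits_small (Λ := Zl.{u})
  let e := Pull.stalkPullIso.{u} f η (ModuleCat.{u + 1} Zl.{u})
  have := e.hom.naturality a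
  constructor
  · intro h z
    obtain ⟨w, hw⟩ := h ((e.app F).inv z)
    exact ⟨(e.app G).hom w, (ConcreteCategory.congr_hom this w).symm.trans
      ((congrArg (e.app F).hom hw).trans (Iso.inv_hom_id_apply (e.app F) z))⟩
  · intro h z
    obtain ⟨w, hw⟩ := h ((e.app F).hom z)
    refine ⟨(e.app G).inv w, (e.app F).toLinearEquiv.injective ?_⟩
    exact (ConcreteCategory.congr_hom this ((e.app G).inv w)).trans
      ((congrArg _ (Iso.inv_hom_id_apply (e.app G) w)).trans hw)

variable [CompactSpace X] [QuasiSeparatedSpace X]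

/-- If a pullback of a torsion sheaf is constructible, it is a quotient of the pullback of a
constructible sheaf. -/
theorem exists_cst_surjective (f : X ⟶ Y) {F : EtModW.Mod Zl.{u} Y}
    (hT : EtCoh.IsTorsion ((fg Y).obj F)) (hc : Cst ((EtModW.pull Zl.{u} f).obj F)) :
    ∃ (G : EtModW.Mod Zl.{u} Y) (a : G ⟶ F), Cst G ∧
      ∀ (Ω : Type u) [Field Ω] [IsSepClosed Ω] (η : Spec (CommRingCat.of Ω) ⟶ X),
        Function.Surjective ((Scheme.pointSmallEtale (η ≫ f)).sheafFiber.map a) := by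
  classical
  haveI := LCOps.hasLimits_small (Λ := Zl.{u})
  haveI : SpectralSpace ↥X := {}
  let bad : ∀ {G : EtModW.Mod Zl.{u} Y}, (G ⟶ F) → Set X :=
    fun a => Nz (cokernel ((EtModW.pull Zl.{u} f).map a))
  have hgood : ∀ {G : EtModW.Mod Zl.{u} Y} (a : G ⟶ F) {Ω : Type u} [Field Ω] [IsSepClosed Ω]
      (η : Spec (CommRingCat.of Ω) ⟶ X), η.base default ∉ bad a ↔
        Function.Surjective ((Scheme.pointSmallEtale (η ≫ f)).sheafFiber.map a) := by
    intro G a Ω _ _ η
    rw [← stalk_pull_surjective_iff, not_mem_Nz_iff]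
    constructor
    · intro h z
      have hex := LCOps.stalk_exact η (S := ShortComplex.mk _ _
        (cokernel.condition ((EtModW.pull Zl.{u} f).map a)))
        (ShortComplex.exact_of_g_is_cokernel _ (cokernelIsCokernel _))
      exact hex z (Subsingleton.elim _ _)
    · intro h
      refine subsingleton_of_forall_eq 0 fun y => ?_
      obtain ⟨z, rfl⟩ := LCOps.stalk_map_surjective η (cokernel.π _) y
      obtain ⟨w, rfl⟩ := h z
      exact LCOps.stalk_comp_zero (ξ := η) (S := ShortComplex.mk _ _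
        (cokernel.condition ((EtModW.pull Zl.{u} f).map a))) w
  have hcons : ∀ {G : EtModW.Mod Zl.{u} Y} (a : G ⟶ F), Cst G →
      IsOpen[constructibleTopology ↥X] (bad a)ᶜ := by
    intro G a hG
    have h : Cst (cokernel ((EtModW.pull Zl.{u} f).map a)) :=
      cst_cokernel _ (Constr.isConstructible_pull f hG.1) hc
    have := (isLocallyConstructible_supp ((cst_iff _).2 h)).isConstructible
    rw [supp_fg] at this
    exact (@isOpen_compl_iff _ _ (constructibleTopology _)).2
      ((@isOpen_compl_iff _ _ (constructibleTopology _)).1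
        (Lib.Spectral.Basic.isClopen_cons_of_isConstructible this.compl).2)
  have hpt : ∀ x : X, ∃ (G : EtModW.Mod Zl.{u} Y) (a : G ⟶ F), Cst G ∧ x ∉ bad a := by
    intro x
    let η := geomPoint X x
    haveI : Finite ↥((Scheme.pointSmallEtale (η ≫ f)).sheafFiber.obj F) :=
      @Finite.of_equiv _ _ (hc.2 _ η) ((Pull.stalkPullIso.{u} f η
        (ModuleCat.{u + 1} Zl.{u})).app F).toLinearEquiv.toEquiv
    obtain ⟨G, a, hG, ha⟩ := exists_lift_range hT (η ≫ f)
    refine ⟨G, a, hG, ?_⟩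
    rw [← geomPoint_apply x default]
    exact (hgood a η).2 ha
  choose G a hG ha using hpt
  obtain ⟨t, ht⟩ := @IsCompact.elim_finite_subcover ↥X (constructibleTopology _) Set.univ _
    (@isCompact_univ _ (constructibleTopology _) Lib.Spectral.Basic.compactSpace_cons)
    (fun x => (bad (a x))ᶜ) (fun x => hcons _ (hG x)) (fun x _ => Set.mem_iUnion.2 ⟨x, ha x⟩)
  suffices key : ∀ s : Finset X, ∃ (G' : EtModW.Mod Zl.{u} Y) (a' : G' ⟶ F), Cst G' ∧
      ∀ x ∈ s, ∃ b : G x ⟶ G', b ≫ a' = a x by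
    obtain ⟨G', a', hG', h⟩ := key t
    refine ⟨G', a', hG', fun Ω _ _ η z => ?_⟩
    obtain ⟨x, hx, hη⟩ := Set.mem_iUnion₂.1 (ht (Set.mem_univ (η.base default)))
    obtain ⟨b, hb⟩ := h x hx
    obtain ⟨w, hw⟩ := (hgood (a x) η).1 hη z
    exact ⟨(Scheme.pointSmallEtale (η ≫ f)).sheafFiber.map b w, by
      rw [← ConcreteCategory.comp_apply, ← Functor.map_comp, hb, hw]⟩
  intro s
  induction s using Finset.induction with
  | empty => exact ⟨0, 0, cst_zero, by simp⟩
  | insert k s _ ih =>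
    obtain ⟨G', a', hG', h⟩ := ih
    refine ⟨G' ⊞ G k, biprod.desc a' (a k), cst_biprod hG' (hG k), fun x hx => ?_⟩
    rcases Finset.mem_insert.1 hx with rfl | hx
    · exact ⟨biprod.inr, biprod.inr_desc _ _⟩
    · obtain ⟨b, hb⟩ := h x hx
      exact ⟨b ≫ biprod.inl, by rw [Category.assoc, biprod.inl_desc, hb]⟩

theorem cst_of_pull (f : X ⟶ Y) [Surjective f] {F : EtModW.Mod Zl.{u} Y}
    (hc : Cst ((EtModW.pull Zl.{u} f).obj F)) : Cst F := by
  haveI := LCOps.hasLimits_small (Λ := Zl.{u})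
  have hepi : ∀ {F : EtModW.Mod Zl.{u} Y}, Cst ((EtModW.pull Zl.{u} f).obj F) →
      FinStalks F → ∃ (G : EtModW.Mod Zl.{u} Y) (a : G ⟶ F), Cst G ∧ Epi a := by
    intro F hc hfin
    obtain ⟨G, a, hG, ha⟩ := exists_cst_surjective f (isTorsion_of_finStalks hfin) hc
    refine ⟨G, a, hG, Stalk.epi_of_stalks a fun y => ?_⟩
    obtain ⟨x, rfl⟩ := f.surjective y
    exact ⟨_, inferInstance, inferInstance, geomPoint X x ≫ f,
      (Scheme.Hom.comp_apply _ _ _).trans (congrArg f.base (geomPoint_apply _ default)), ha _ _⟩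
  have hfin : FinStalks F := fun Ω _ _ ξ => by
    obtain ⟨x, hx⟩ := f.surjective (ξ.base default)
    refine finite_stalk_of_eq F (geomPoint X x ≫ f) ξ
      (((Scheme.Hom.comp_apply _ _ _).trans (congrArg f.base (geomPoint_apply _ default))).trans hx) ?_
    exact @Finite.of_equiv _ _ (hc.2 _ (geomPoint X x)) ((Pull.stalkPullIso.{u} f (geomPoint X x)
      (ModuleCat.{u + 1} Zl.{u})).app F).toLinearEquiv.toEquiv
  obtain ⟨G, a, hG, ha⟩ := hepi hc hfin
  have hK : Cst ((EtModW.pull Zl.{u} f).obj (kernel a)) :=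
    cst_of_iso (PreservesKernel.iso _ a).symm ⟨Constr.isConstructible_kernel
      (Constr.isConstructible_pull f hG.1) hc.1 _, fun Ω _ _ η =>
        haveI := PBCOps.finStalks_pull f hG.2 Ω η
        Finite.of_injective _ (LCOps.stalk_map_injective η (kernel.ι ((EtModW.pull Zl.{u} f).map a)))⟩
  obtain ⟨G', b, hG', hb⟩ := hepi hK fun Ω _ _ ξ =>
    haveI := hG.2 Ω ξ
    Finite.of_injective _ (LCOps.stalk_map_injective ξ (kernel.ι a))
  exact cst_of_iso (cokernelEpiComp b (kernel.ι a) ≪≫ IsColimit.coconePointUniqueUpToIso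
    (cokernelIsCokernel _) (Abelian.epiIsCokernelOfKernel _ (kernelIsKernel a)))
    (cst_cokernel _ hG'.1 hG)

/-- A sheaf whose pullback along a surjection is constructible is constructible. -/
theorem isConstructible_of_pull (f : X ⟶ Y) [Surjective f] [EtCoh.BCCont f] {F : EtCoh.Ab Y}
    (h : EtPBC.IsConstructible ((EtCoh.pull f).obj F)) : EtPBC.IsConstructible F := by
  obtain ⟨F', ⟨e⟩⟩ := exists_lift F
  exact PBCOps.isConstructible_of_iso e ((cst_iff _).2 (cst_of_pull f
    ((cst_iff _).1 (PBCOps.isConstructible_of_iso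
      ((pullIso f).app F' ≪≫ (EtCoh.pull f).mapIso e).symm h))))

end Groth.Agent.H88.EtMod.Descend
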