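import Groth.Agent.H88.EtMod.PBCOps
import Groth.Agent.Lib.EtJ.OpenZero
import Groth.Agent.Lib.EtRad.Push

/-!
Filtrations of constructible sheaves by extensions by zero of locally constant sheaves.
-/

set_option autoImplicit false
set_option linter.style.haveILetI false

universe u

open CategoryTheory CategoryTheory.Limits AlgebraicGeometry Opposite Topology

noncomputable section

namespace Groth.Agent.H88.EtMod.Filtration

open Groth.Agent.Lib.EtSite Groth.Agent.Lib.EtSite.Basic Groth.Agent.Lib.EtJ AbBridge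

variable {X : Scheme.{u}}

theorem isFiniteLC_pull {T T' : Scheme.{u}} (h : T' ⟶ T) (g : T ⟶ X) {F : EtCoh.Ab X}
    (hg : EtCoh.IsFiniteLocallyConstant ((EtCoh.pull g).obj F)) :
    EtCoh.IsFiniteLocallyConstant ((EtCoh.pull (h ≫ g)).obj F) := by
  obtain ⟨G, ⟨e⟩⟩ := exists_lift ((EtCoh.pull g).obj F)
  obtain ⟨h1, h2⟩ := (isFiniteLocallyConstant_iff' G).1 (isFiniteLC_of_iso e.symm hg)
  exact isFiniteLC_of_iso ((pullIso h).app G ≪≫ (EtCoh.pull h).mapIso e ≪≫
      ((EtCore.pullComp h g).app F).symm)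
    ((isFiniteLocallyConstant_iff' _).2 ⟨LCOps.isFTLocConst_pull h h1, PBCOps.finStalks_pull h h2⟩)

/-- A chain of opens whose steps lie in strata where the sheaf is locally constant. -/
theorem exists_chain [CompactSpace X] [QuasiSeparatedSpace X] (F : EtCoh.Ab X)
    (hF : EtPBC.IsConstructible F) :
    ∃ (N : ℕ) (O : ℕ → X.Opens), O 0 = ⊥ ∧ O N = ⊤ ∧ ∀ k < N, O k ≤ O (k + 1) ∧
      IsConstructible ((O (k + 1) : Set X) \ (O k : Set X)) ∧
      ∃ (T : Scheme.{u}) (g : T ⟶ X), IsImmersion g ∧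
        (O (k + 1) : Set X) \ (O k : Set X) ⊆ Set.range g.base ∧
        EtCoh.IsFiniteLocallyConstant ((EtCoh.pull g).obj F) := by
  classical
  obtain ⟨n, T, g, hg, hc, -, hcov, hlc⟩ := (PBCOps.isConstructible_iff_strata_univ F).1 hF
  haveI : PrespectralSpace ↥X := inferInstance
  have hc' : ∀ i, IsConstructible (Set.range (g i).base) := fun i => by
    have := Lib.Spectral.Constructible.image_val (IsConstructible.univ (X := ↥X)) (hc i)
    rwa [Subtype.image_preimage_coe, Set.univ_inter] at this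
  choose t ht hsat using fun i => Strata.exists_saturating (hc' i)
  let 𝒰 : Finset (Set ↥X) := Finset.univ.biUnion t
  have h𝒰 : ∀ W ∈ 𝒰, IsOpen W ∧ IsRetrocompact W := fun W hW => by
    obtain ⟨y, -, hy⟩ := Finset.mem_biUnion.1 hW
    exact ht y W hy
  let U : {W // W ∈ 𝒰} → Set ↥X := Subtype.val
  let S : List (Finset {W // W ∈ 𝒰}) :=
    (Finset.univ : Finset (Finset {W // W ∈ 𝒰})).toList.mergeSort (fun a b => decide (b.card ≤ a.card))
  have hS : S.Pairwise fun a b => b.card ≤ a.card := by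
    have := List.pairwise_mergeSort (le := fun a b : Finset {W // W ∈ 𝒰} => decide (b.card ≤ a.card))
      (fun a b c h₁ h₂ => by simp only [decide_eq_true_eq] at *; omega)
      (fun a b => by simp only [Bool.or_eq_true, decide_eq_true_eq]; omega)
      (Finset.univ : Finset (Finset {W // W ∈ 𝒰})).toList
    exact this.imp fun h => by simpa using h
  have hmem : ∀ s, s ∈ S := fun s => List.mem_mergeSort.2 (Finset.mem_toList.2 (Finset.mem_univ s))
  let O : ℕ → X.Opens := fun k => ⟨⋃ j : {j : Fin S.length // j.1 < k}, ⋂ i ∈ S.get j.1, U i,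
    isOpen_iUnion fun j => (Set.toFinite _).isOpen_biInter fun i _ => (h𝒰 _ i.2).1⟩
  have hO : ∀ k x, x ∈ O k ↔ ∃ j : Fin S.length, j.1 < k ∧ ∀ i ∈ S.get j, x ∈ U i := fun k x => by
    change x ∈ (⋃ j : {j : Fin S.length // j.1 < k}, ⋂ i ∈ S.get j.1, U i) ↔ _
    simp only [Set.mem_iUnion, Set.mem_iInter, Subtype.exists, exists_prop]
  refine ⟨S.length, O, ?_, ?_, fun k hk => ⟨?_, ?_, ?_⟩⟩
  · ext x
    simp [hO]
  · ext x
    simp only [SetLike.mem_coe, TopologicalSpace.Opens.coe_top, Set.mem_univ, iff_true]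
    obtain ⟨j, hj⟩ := List.mem_iff_get.1 (hmem ∅)
    exact (hO _ x).2 ⟨j, j.2, fun i hi => absurd (hj ▸ hi) (Finset.notMem_empty i)⟩
  · intro x hx
    obtain ⟨j, hj, hx⟩ := (hO k x).1 hx
    exact (hO _ x).2 ⟨j, hj.trans_le k.le_succ, hx⟩
  · have hOc : ∀ m, IsConstructible (O m : Set X) := fun m => by
      refine IsConstructible.iUnion fun j => ?_
      exact IsConstructible.biInter (Set.toFinite _) fun i _ => (h𝒰 _ i.2).2.isConstructible (h𝒰 _ i.2).1
    exact (hOc _).sdiff (hOc _)
  · -- all points of the step have the same membership pattern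
    let s := S.get ⟨k, hk⟩
    have hpat : ∀ x ∈ (O (k + 1) : Set X) \ (O k : Set X), ∀ i, x ∈ U i ↔ i ∈ s := by
      rintro x ⟨hx₁, hx₂⟩
      obtain ⟨j, hj, hxj⟩ := (hO _ x).1 hx₁
      have hjk : j = ⟨k, hk⟩ := by
        refine Fin.ext (le_antisymm (Nat.le_of_lt_succ hj) ?_)
        by_contra hlt
        exact hx₂ ((hO k x).2 ⟨j, not_le.1 hlt, hxj⟩)
      subst hjk
      intro i
      refine ⟨fun hi => ?_, hxj i⟩
      by_contra his
      obtain ⟨j', hj'⟩ := List.mem_iff_get.1 (hmem (insert i s))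
      have hlt : j'.1 < k := by
        by_contra hle
        rcases (not_lt.1 hle).lt_or_eq with h | h
        · have := List.pairwise_iff_get.1 hS ⟨k, hk⟩ j' h
          rw [hj', show S.get ⟨k, hk⟩ = s from rfl, Finset.card_insert_of_notMem his] at this
          omega
        · rw [show j' = ⟨k, hk⟩ from Fin.ext h.symm] at hj'
          exact his (by rw [show s = insert i s from hj']; exact Finset.mem_insert_self i s)
      refine hx₂ ((hO k x).2 ⟨j', hlt, fun i' hi' => ?_⟩)
      rw [hj', Finset.mem_insert] at hi'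
      rcases hi' with rfl | hi'
      · exact hi
      · exact hxj i' hi'
    rcases Set.eq_empty_or_nonempty ((O (k + 1) : Set X) \ (O k : Set X)) with he | ⟨x, hx⟩
    · obtain ⟨T', h', hh', hr⟩ := Strata.exists_immersion_range (X := X) isOpen_empty.isLocallyClosed
      haveI : IsEmpty T' := ⟨fun a => by
        have : h'.base a ∈ Set.range h'.base := ⟨a, rfl⟩
        rw [hr] at this; exact this⟩
      exact ⟨T', h', hh', by rw [he]; exact Set.empty_subset _,
        ⟨PEmpty, PEmpty.elim, fun a => isEmptyElim a, fun i => i.elim⟩⟩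
    · obtain ⟨i, hi⟩ := Set.mem_iUnion.1 (hcov.symm ▸ Set.mem_univ x : x ∈ ⋃ i, Set.range (g i).base)
      refine ⟨T i, g i, hg i, fun y hy => ?_, hlc i⟩
      exact hsat i x y (fun W hW => (hpat x hx ⟨W, Finset.mem_biUnion.2 ⟨i, Finset.mem_univ i, hW⟩⟩).trans
        (hpat y hy ⟨W, _⟩).symm) hi

/-- The extension by zero of the restriction to an open. -/
abbrev cut (F : EtCoh.Ab X) (O : X.Opens) : EtCoh.Ab X :=
  (EtShriek.extZero O.ι).obj ((EtShriek.restrAlong O.ι).obj F)

/-- The tautological map. -/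
abbrev cutMap (F : EtCoh.Ab X) (O : X.Opens) : cut F O ⟶ F := (EtShriek.extZeroAdj O.ι).counit.app F

variable {Ω : Type u} [Field Ω] [IsSepClosed Ω] (ξ : Spec (CommRingCat.of Ω) ⟶ X)

theorem isIso_stalk_cutMap (F : EtCoh.Ab X) {O : X.Opens} (h : ξ.base default ∈ O) :
    IsIso ((EtCoh.stalk ξ).map (cutMap F O)) :=
  OpenZero.isIso_stalk_counit O.ι ξ (by rwa [Scheme.Opens.range_ι]) F

theorem isZero_stalk_cut (F : EtCoh.Ab X) {O : X.Opens} (h : ξ.base default ∉ O) :
    IsZero ((EtCoh.stalk ξ).obj (cut F O)) :=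
  OpenZero.isZero_stalk O.ι ξ (by rwa [Scheme.Opens.range_ι]) _

theorem isIso_cut_map {F G : EtCoh.Ab X} (a : F ⟶ G) (O : X.Opens)
    (ha : ∀ x ∈ O, IsIso ((EtCoh.stalk (geomPoint X x)).map a)) :
    IsIso ((EtShriek.extZero O.ι).map ((EtShriek.restrAlong O.ι).map a)) := by
  refine Stalk.isIso_of_stalks _ (Stalk.enoughPts_pt fun x => ?_)
  let η := geomPoint X x
  suffices IsIso ((EtCoh.stalk η).map ((EtShriek.extZero O.ι).map ((EtShriek.restrAlong O.ι).map a))) from
    (ConcreteCategory.isIso_iff_bijective _).1 this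
  by_cases hx : x ∈ O
  · have hη : η.base default ∈ O := by rwa [geomPoint_apply]
    haveI := isIso_stalk_cutMap η F hη
    haveI := isIso_stalk_cutMap η G hη
    haveI := ha x hx
    have h := congrArg (EtCoh.stalk η).map ((EtShriek.extZeroAdj O.ι).counit.naturality a)
    rw [Functor.map_comp, Functor.map_comp] at h
    simp only [Functor.comp_map, Functor.id_map] at h
    haveI : IsIso ((EtCoh.stalk η).map ((EtShriek.extZero O.ι).map ((EtShriek.restrAlong O.ι).map a)) ≫
        (EtCoh.stalk η).map (cutMap G O)) := by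
      erw [h]
      infer_instance
    exact IsIso.of_isIso_comp_right _ ((EtCoh.stalk η).map (cutMap G O))
  · have hη : η.base default ∉ O := by rwa [geomPoint_apply]
    exact ⟨⟨(isZero_stalk_cut η G hη).to_ _, (isZero_stalk_cut η F hη).eq_of_src _ _,
      (isZero_stalk_cut η G hη).eq_of_src _ _⟩⟩

/-- Maps between cuts. -/
theorem exists_incl (F : EtCoh.Ab X) {O O' : X.Opens} (h : O ≤ O') :
    ∃ ι : cut F O ⟶ cut F O', ι ≫ cutMap F O' = cutMap F O := by
  haveI := isIso_cut_map (cutMap F O') O fun x hx =>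
    isIso_stalk_cutMap (geomPoint X x) F (by rw [geomPoint_apply]; exact h hx)
  refine ⟨inv ((EtShriek.extZero O.ι).map ((EtShriek.restrAlong O.ι).map (cutMap F O'))) ≫
    (EtShriek.extZeroAdj O.ι).counit.app (cut F O'), ?_⟩
  rw [Category.assoc, IsIso.inv_comp_eq]
  exact ((EtShriek.extZeroAdj O.ι).counit.naturality (cutMap F O')).symm

theorem mono_incl (F : EtCoh.Ab X) {O O' : X.Opens} (ι : cut F O ⟶ cut F O')
    (hι : ι ≫ cutMap F O' = cutMap F O) : Mono ι := by
  refine Stalk.mono_of_stalks ι (Stalk.enoughPts_pt fun x => ?_)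
  let η := geomPoint X x
  by_cases hx : x ∈ O
  · have hη : η.base default ∈ O := by rwa [geomPoint_apply]
    haveI := isIso_stalk_cutMap η F hη
    haveI : Mono ((EtCoh.stalk η).map ι ≫ (EtCoh.stalk η).map (cutMap F O')) := by
      rw [← Functor.map_comp, hι]; infer_instance
    exact (AddCommGrpCat.mono_iff_injective _).1 (mono_of_mono _ ((EtCoh.stalk η).map (cutMap F O')))
  · haveI := AddCommGrpCat.subsingleton_of_isZero (isZero_stalk_cut η F (O := O) (by rwa [geomPoint_apply]))
    exact Function.injective_of_subsingleton _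

theorem isZero_cut_bot (F : EtCoh.Ab X) : IsZero (cut F ⊥) := by
  rw [IsZero.iff_id_eq_zero]
  haveI : Mono (0 : cut F ⊥ ⟶ cut F ⊥) := Stalk.mono_of_stalks _ (Stalk.enoughPts_pt fun x => by
    haveI := AddCommGrpCat.subsingleton_of_isZero (isZero_stalk_cut (geomPoint X x) F (O := ⊥) id)
    exact Function.injective_of_subsingleton _)
  exact (cancel_mono (0 : cut F ⊥ ⟶ cut F ⊥)).1 (comp_zero.trans comp_zero.symm)

theorem isIso_cutMap_top (F : EtCoh.Ab X) : IsIso (cutMap F ⊤) :=
  OpenZero.isIso_counit (⊤ : X.Opens).ι F fun x hx => absurd (by simp) hx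

/-- The quotient of consecutive cuts. -/
theorem exists_quotient (F : EtCoh.Ab X) {O O' : X.Opens} (ι : cut F O ⟶ cut F O')
    (hι : ι ≫ cutMap F O' = cutMap F O) (hle : O ≤ O')
    {T : Scheme.{u}} (g : T ⟶ X) [IsImmersion g]
    (hg : (O' : Set X) \ (O : Set X) ⊆ Set.range g.base)
    (hlc : EtCoh.IsFiniteLocallyConstant ((EtCoh.pull g).obj F)) :
    ∃ (W : Scheme.{u}) (c : W ⟶ O') (_ : IsClosedImmersion c) (G : EtCoh.Ab W)
      (π : cut F O' ⟶ (EtShriek.extZero O'.ι).obj ((EtCoh.push c).obj G)) (hz : ι ≫ π = 0),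
      Set.range (c ≫ O'.ι).base = (O' : Set X) \ (O : Set X) ∧ EtCoh.IsFiniteLocallyConstant G ∧
        (ShortComplex.mk ι π hz).ShortExact := by
  obtain ⟨W, h, hh, hr⟩ := Strata.exists_immersion_range (X := T) (L := g.base ⁻¹' ((O' : Set X) \ (O : Set X)))
    ((O'.2.isLocallyClosed.inter O.2.isClosed_compl.isLocallyClosed).preimage g.continuous)
  have hrange : Set.range (h ≫ g).base = (O' : Set X) \ (O : Set X) := by
    rw [Scheme.Hom.comp_base, TopCat.coe_comp, Set.range_comp, hr, Set.image_preimage_eq_inter_range]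
    exact Set.inter_eq_left.2 hg
  obtain ⟨c, hc⟩ : ∃ c : W ⟶ O', c ≫ O'.ι = h ≫ g :=
    ⟨IsOpenImmersion.lift O'.ι (h ≫ g) (by rw [hrange, Scheme.Opens.range_ι]; exact Set.sdiff_subset),
      IsOpenImmersion.lift_fac _ _ _⟩
  haveI : IsImmersion (c ≫ O'.ι) := by rw [hc]; infer_instance
  haveI : IsImmersion c := IsImmersion.of_comp c O'.ι
  have hrc : Set.range c.base = O'.ι.base ⁻¹' (O : Set X)ᶜ := by
    ext z
    constructor
    · rintro ⟨w, rfl⟩
      have : (c ≫ O'.ι).base w ∈ Set.range (h ≫ g).base := hc ▸ ⟨w, rfl⟩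
      rw [hrange] at this
      exact this.2
    · intro hz
      have : O'.ι.base z ∈ Set.range (c ≫ O'.ι).base := by
        rw [hc, hrange]; exact ⟨(z : ↥(O' : Scheme.{u})).2, hz⟩
      obtain ⟨w, hw⟩ := this
      exact ⟨w, O'.ι.isEmbedding.injective hw⟩
  haveI : IsClosedImmersion c := IsClosedImmersion.of_isPreimmersion c
    (hrc ▸ O.2.isClosed_compl.preimage O'.ι.continuous)
  let Q := cokernel ι
  haveI := mono_incl F ι hι
  have hS : (ShortComplex.mk ι (cokernel.π ι) (cokernel.condition ι)).ShortExact :=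
    { exact := ShortComplex.exact_of_g_is_cokernel _ (cokernelIsCokernel ι) }
  have hQO : ∀ {Ω : Type u} [Field Ω] [IsSepClosed Ω] (η : Spec (CommRingCat.of Ω) ⟶ X),
      η.base default ∉ ((O' : Set X) \ (O : Set X)) → IsZero ((EtCoh.stalk η).obj Q) := by
    intro Ω _ _ η hη
    have hepi : Epi ((EtCoh.stalk η).map (cokernel.π ι)) := inferInstance
    refine IsZero.of_epi_eq_zero ((EtCoh.stalk η).map (cokernel.π ι)) ?_
    by_cases h' : η.base default ∈ O'
    · have hO : η.base default ∈ O := not_not.1 fun hn => hη ⟨h', hn⟩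
      haveI := isIso_stalk_cutMap η F h'
      haveI := isIso_stalk_cutMap η F hO
      haveI : IsIso ((EtCoh.stalk η).map ι ≫ (EtCoh.stalk η).map (cutMap F O')) := by
        rw [← Functor.map_comp, hι]; infer_instance
      haveI := IsIso.of_isIso_comp_right ((EtCoh.stalk η).map ι) ((EtCoh.stalk η).map (cutMap F O'))
      refine (cancel_epi ((EtCoh.stalk η).map ι)).1 ?_
      rw [← Functor.map_comp, cokernel.condition, comp_zero, Functor.map_zero]
    · exact (isZero_stalk_cut η F h').eq_of_src _ _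
  -- the restriction of the quotient to the larger open lives on the closed piece
  let R := (EtShriek.restrAlong O'.ι).obj Q
  have hsupp : EtPBC.supp R ⊆ Set.range c.base := by
    rintro z ⟨Ω, _, _, ζ, hζ, hne⟩
    by_contra hz
    refine hne ((hQO (ζ ≫ O'.ι) fun hmem => hz ?_).of_iso
      ((EtCoh.stalk ζ).mapIso ((Basic.pullIsoRestr O'.ι).app Q).symm ≪≫
        (Pull.stalkPull O'.ι ζ).app Q))
    have hzz : ζ.base default = z := by
      have : ζ.base default ∈ Set.range ζ.base := ⟨default, rfl⟩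
      rwa [hζ] at this
    rw [hrc]
    rw [Scheme.Hom.comp_apply, hzz] at hmem
    exact hmem.2
  haveI := Groth.Agent.Lib.EtRad.Push.isIso_unit c R hsupp
  haveI := OpenZero.isIso_counit O'.ι Q fun x hx => hQO (geomPoint X x) (by
    rw [geomPoint_apply]
    rw [Scheme.Opens.range_ι] at hx
    exact fun h => hx h.1)
  let e : Q ≅ (EtShriek.extZero O'.ι).obj ((EtCoh.push c).obj ((EtCoh.pull c).obj R)) :=
    (asIso ((EtShriek.extZeroAdj O'.ι).counit.app Q)).symm ≪≫
      (EtShriek.extZero O'.ι).mapIso (asIso ((EtCoh.pullPushAdj c).unit.app R))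
  have hz : ι ≫ cokernel.π ι ≫ e.hom = 0 := by rw [cokernel.condition_assoc, zero_comp]
  refine ⟨W, c, inferInstance, (EtCoh.pull c).obj R, cokernel.π ι ≫ e.hom, hz, ?_, ?_,
    ShortComplex.shortExact_of_iso (S₁ := ShortComplex.mk ι (cokernel.π ι) (cokernel.condition ι))
      (ShortComplex.isoMk (Iso.refl _) (Iso.refl _) e) hS⟩
  · rw [hc, hrange]
  · let k := c ≫ O'.ι
    have hk : EtCoh.IsFiniteLocallyConstant ((EtCoh.pull k).obj F) := by
      change EtCoh.IsFiniteLocallyConstant ((EtCoh.pull (c ≫ O'.ι)).obj F)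
      rw [hc]
      exact isFiniteLC_pull h g hlc
    -- stalkwise on the piece, the quotient is the sheaf
    haveI : IsIso ((EtCoh.pull k).map (cokernel.π ι)) := by
      refine Stalk.isIso_of_stalks _ (Stalk.enoughPts_pt fun w => ?_)
      let ζ := geomPoint W w
      suffices IsIso ((EtCoh.stalk ζ).map ((EtCoh.pull k).map (cokernel.π ι))) from
        (ConcreteCategory.isIso_iff_bijective _).1 this
      refine (NatIso.isIso_map_iff (Pull.stalkPull k ζ) _).2 ?_
      have hnot : (ζ ≫ k).base default ∉ O := by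
        have : (c ≫ O'.ι).base (ζ.base default) ∈ Set.range (h ≫ g).base := hc ▸ ⟨_, rfl⟩
        rw [hrange] at this
        exact this.2
      haveI : Mono ((EtCoh.stalk (ζ ≫ k)).map (cokernel.π ι)) := by
        refine (hS.map_of_exact (EtCoh.stalk (ζ ≫ k))).exact.mono_g ?_
        exact (isZero_stalk_cut (ζ ≫ k) F hnot).eq_of_src _ _
      exact isIso_of_mono_of_epi _
    haveI : IsIso ((EtCoh.pull k).map (cutMap F O')) := by
      refine Stalk.isIso_of_stalks _ (Stalk.enoughPts_pt fun w => ?_)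
      let ζ := geomPoint W w
      suffices IsIso ((EtCoh.stalk ζ).map ((EtCoh.pull k).map (cutMap F O'))) from
        (ConcreteCategory.isIso_iff_bijective _).1 this
      exact (NatIso.isIso_map_iff (Pull.stalkPull k ζ) _).2
        (isIso_stalk_cutMap (ζ ≫ k) F (c.base (ζ.base default) : ↥(O' : Scheme.{u})).2)
    exact isFiniteLC_of_iso ((asIso ((EtCoh.pull k).map (cutMap F O'))).symm ≪≫
      asIso ((EtCoh.pull k).map (cokernel.π ι)) ≪≫ (EtCore.pullComp c O'.ι).app Q ≪≫
      (EtCoh.pull c).mapIso ((Basic.pullIsoRestr O'.ι).app Q)) hk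

end Groth.Agent.H88.EtMod.Filtration
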