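import Groth.Agent.H88.EtMod.SpecNhd
import Groth.Agent.H88.EtMod.Descend
import Groth.Agent.H88.EtMod.Filtration

/-!
Finite local constancy descends along universally closed surjections.
-/

set_option autoImplicit false
set_option linter.style.haveILetI false

universe u

open CategoryTheory CategoryTheory.Limits AlgebraicGeometry Opposite Topology

noncomputable section

namespace Groth.Agent.H88.EtMod.ClosedDescend

open Groth.Agent.Lib.EtSite Groth.Agent.Lib.EtSite.Basic LCChart AbBridge SpecCriteria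

variable {V Z : Scheme.{u}} [CompactSpace V] [QuasiSeparatedSpace V] [CompactSpace Z]
  [QuasiSeparatedSpace Z] (h : Z ⟶ V) [UniversallyClosed h] [Surjective h]

theorem isFiniteLC_of_pull (F₀ : EtCoh.Ab V) (hl : EtCoh.IsFiniteLocallyConstant ((EtCoh.pull h).obj F₀)) :
    EtCoh.IsFiniteLocallyConstant F₀ := by
  haveI := LCOps.hasLimits_small (Λ := Zl.{u})
  obtain ⟨F, ⟨e⟩⟩ := exists_lift F₀
  let ε : (fg Z).obj ((EtModW.pull Zl.{u} h).obj F) ≅ (EtCoh.pull h).obj F₀ :=
    (pullIso h).app F ≪≫ (EtCoh.pull h).mapIso e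
  obtain ⟨h1, -⟩ := (isFiniteLocallyConstant_iff' _).1 (isFiniteLC_of_iso ε.symm hl)
  have hcG : EtPBC.IsConstructible ((EtCoh.pull h).obj F₀) := by
    refine (PBCOps.isConstructible_iff_strata_univ _).2 ⟨1, fun _ => Z, fun _ => 𝟙 Z,
      fun _ => inferInstance, fun _ => ?_, fun a b hab => absurd (Subsingleton.elim a b) hab, ?_, fun _ => ?_⟩
    · simpa using IsConstructible.univ
    · simp [Set.iUnion_const]
    · intro _
      exact isFiniteLC_of_iso ((EtCore.pullComp (𝟙 Z) h).app F₀) (Filtration.isFiniteLC_pull (𝟙 Z) h hl)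
  obtain ⟨hc, hfin⟩ := Descend.cst_of_pull h
    ((TorsionColimit.cst_iff _).1 (PBCOps.isConstructible_of_iso ε.symm hcG))
  refine isFiniteLC_of_iso e ((isFiniteLocallyConstant_iff' F).2 ⟨LCChart.isFTLocConst_iff.2 fun x => ?_, hfin⟩)
  obtain ⟨U', M, _, _, _, φ', hx, hchart⟩ := SpecNhd.exists_chart_nhd hc hfin (geomPoint V x)
    (geomPoint_apply x _) fun U p φ hφ Ω' _ _ η q hqp => by
      let b := pullback.fst U.hom h
      obtain ⟨w', hw'⟩ := b.surjective (fiberPt q)
      obtain ⟨u'', hu'', hu⟩ : ∃ u'', w' ⤳ u'' ∧ b.base u'' = fiberPt p := by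
        obtain ⟨a, ha, ha'⟩ := (b.isClosedMap.specializingMap) (hw'.symm ▸ hqp)
        exact ⟨a, ha, ha'⟩
      let G := (EtModW.pull Zl.{u} h).obj F
      let c := ((EtSix.pullPushModAdj Zl.{u} h).unit.app F).hom.app (op U)
      obtain ⟨p', hp'⟩ := exists_fiber_geomPoint ((EtCoh.bc h).obj U) u''
      obtain ⟨p₁, hp₁⟩ := exists_liftPt h _ p'
      have key : ∀ {Ω : Type u} [Field Ω] [IsSepClosed Ω] (ζ : Spec (CommRingCat.of Ω) ⟶ Z)
          (r : (Scheme.pointSmallEtale (ζ ≫ h)).fiber.obj U),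
          b.base (fiberPt (PushStalk.liftPt h (rfl : ζ ≫ h = ζ ≫ h) U r)) = fiberPt r := fun ζ r =>
        (Scheme.Hom.comp_apply _ _ _).symm.trans
          (congrArg (fun k : Spec (CommRingCat.of _) ⟶ U.left => k.base default) (pullback.lift_fst _ _ _))
      have h₁ : fiberPt p₁ = fiberPt p := by rw [← key _ p₁, hp₁, hp', hu]
      have hb₁ := bijective_pull h φ p₁ (bijective_of_eq φ p p₁ h₁ hφ)
      obtain ⟨q', hq'⟩ := exists_fiber_geomPoint ((EtCoh.bc h).obj U) w'
      obtain ⟨q₁, hq₁⟩ := exists_liftPt h _ q'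
      have h₂ : fiberPt q₁ = fiberPt q := by rw [← key _ q₁, hq₁, hq', hw']
      have hsp : fiberPt q' ⤳ fiberPt p' := by rw [hp', hq']; exact hu''
      have hb₂ : Function.Bijective fun m => germ G ((EtCoh.bc h).obj U) _ q' (c (φ m)) := by
        haveI := PBCOps.finStalks_pull h hfin _ (geomPoint Z (((EtCoh.bc h).obj U).hom.base w'))
        rw [← hq₁]
        rw [← hp₁] at hsp
        rw [← hq₁] at hsp
        refine bijective_of_injective_of_card _ (fun m m' hm => hb₁.1 ?_) ?_
        · simp only at hm ⊢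
          rw [← sub_eq_zero, ← map_sub] at hm ⊢
          erw [← map_sub c.hom, ← map_sub φ] at hm ⊢
          exact specInj_of_isFTLocConst h1 _ _ _ _ _ _ _ hsp _ hm
        · refine (Nat.card_congr (Equiv.ofBijective _ hb₁)).trans
            (natCard_eq_of_isFTLocConst h1 _ _ ?_).symm
          have := hsp.map ((EtCoh.bc h).obj U).hom.continuous
          rwa [hom_fiberPt, hom_fiberPt] at this
      refine bijective_of_eq φ q₁ q h₂.symm ?_
      rw [← hq₁] at hb₂
      let k := UnitStalk.unitStalk.{u} h (geomPoint Z (((EtCoh.bc h).obj U).hom.base w'))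
        (ModuleCat.{u + 1} Zl.{u}) F
      haveI : IsIso k := UnitStalk.isIso_unitStalk.{u} h _ (ModuleCat.{u + 1} Zl.{u}) F
      have hk : ∀ s, k (germ F U _ q₁ s) = germ G _ _ (PushStalk.liftPt h rfl U q₁) (c s) := by
        intro s
        refine (ConcreteCategory.comp_apply _ _ _).trans ?_
        refine (congrArg _ ((Scheme.pointSmallEtale _).toPresheafFiber_naturality_apply
          ((EtSix.pullPushModAdj Zl.{u} h).unit.app F).hom U q₁ s)).trans ?_
        exact PushStalk.germTo_toPresheafFiber h rfl G U q₁ (c s)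
      have hkb := (ConcreteCategory.isIso_iff_bijective k).1 inferInstance
      refine (Function.Bijective.of_comp_iff' hkb _).1 ?_
      convert hb₂ using 1
      funext m
      exact hk (φ m)
  obtain ⟨w, hw⟩ := hx
  exact ⟨U', ⟨w, hw⟩, M, inferInstance, inferInstance, inferInstance, φ', hchart⟩

end Groth.Agent.H88.EtMod.ClosedDescend
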