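import Groth.Agent.H88.EtMod.PBCOps
import Groth.Agent.Lib.Spectral.Noetherian

/-!
Constructibility on locally noetherian schemes is checked on the closures of points.
-/

set_option autoImplicit false
set_option linter.style.haveILetI false

universe u

open CategoryTheory CategoryTheory.Limits AlgebraicGeometry Opposite Topology

noncomputable section

namespace Groth.Agent.H88.EtMod.ClosureCriterion

open AbBridge

variable {X : Scheme.{u}}

theorem isConstructible_iff [IsLocallyNoetherian X] (F : EtCoh.Ab X) :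
    EtPBC.IsConstructible F ↔
      ∀ x : X, ∃ (V : X.Opens) (T : Scheme.{u}) (g : T ⟶ X), IsImmersion g ∧ x ∈ V ∧
        Set.range g.base = (V : Set X) ∩ closure {x} ∧
        EtCoh.IsFiniteLocallyConstant ((EtCoh.pull g).obj F) := by
  obtain ⟨F', ⟨e⟩⟩ := exists_lift F
  have hlc : ∀ {T : Scheme.{u}} (g : T ⟶ X), EtCoh.IsFiniteLocallyConstant ((EtCoh.pull g).obj F) ↔
      EtModW.IsFTLocConst Zl.{u} ((EtModW.pull Zl.{u} g).obj F') ∧
        FinStalks ((EtModW.pull Zl.{u} g).obj F') := by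
    intro T g
    let ε : (fg T).obj ((EtModW.pull Zl.{u} g).obj F') ≅ (EtCoh.pull g).obj F :=
      (pullIso g).app F' ≪≫ (EtCoh.pull g).mapIso e
    exact ⟨fun h => (isFiniteLocallyConstant_iff' _).1 (isFiniteLC_of_iso ε.symm h),
      fun h => isFiniteLC_of_iso ε ((isFiniteLocallyConstant_iff' _).2 h)⟩
  rw [show EtPBC.IsConstructible F ↔ EtPBC.IsConstructible ((fg X).obj F') from
    ⟨PBCOps.isConstructible_of_iso e.symm, PBCOps.isConstructible_of_iso e⟩, AbBridge.isConstructible_iff]
  constructor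
  · rintro ⟨hc, hfin⟩ x
    obtain ⟨_, ⟨(U : X.Opens), hU, rfl⟩, hxU, -⟩ :=
      X.isBasis_affineOpens.exists_subset_of_mem_open (Set.mem_univ x) isOpen_univ
    obtain ⟨C, T, g, -, hxC, hg, hCg, hl⟩ := Constr.isConstructible_iff.1 hc U hU ⟨x, hxU⟩
    haveI := hg
    obtain ⟨O, Z, hO, hZ, hr⟩ := g.isLocallyClosed_range
    have hx : x ∈ O ∩ Z := hr ▸ hCg ⟨_, hxC, rfl⟩
    have hsub : O ∩ closure {x} ⊆ Set.range g.base := fun z hz =>
      hr.symm ▸ (⟨hz.1, closure_minimal (Set.singleton_subset_iff.2 hx.2) hZ hz.2⟩ : z ∈ O ∩ Z)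
    obtain ⟨T', g', hg', hr'⟩ := Strata.exists_immersion_range
      ((hO.isLocallyClosed.inter isClosed_closure.isLocallyClosed).preimage g.continuous)
    haveI := hg'
    refine ⟨⟨O, hO⟩, T', g' ≫ g, inferInstance, hx.1, ?_,
      (hlc _).2 ⟨Constr.isFTLocConst_pull_comp g' g hl, PBCOps.finStalks_pull _ hfin⟩⟩
    rw [Scheme.Hom.comp_base, TopCat.coe_comp, Set.range_comp, hr', Set.image_preimage_eq_inter_range]
    exact Set.inter_eq_left.2 hsub
  · intro h
    refine ⟨Constr.isConstructible_iff.2 fun U hU y => ?_, fun Ω _ _ ξ => ?_⟩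
    · obtain ⟨V, T, g, hg, hyV, hr, hl⟩ := h y.1
      haveI : IsAffine (U : Scheme.{u}) := hU
      haveI : IsNoetherian (U : Scheme.{u}) := {}
      haveI : TopologicalSpace.NoetherianSpace ↥(U : Set X) :=
        inferInstanceAs (TopologicalSpace.NoetherianSpace (U : Scheme.{u}))
      refine ⟨Subtype.val ⁻¹' ((V : Set X) ∩ closure {y.1}), T, g,
        Lib.Spectral.Noetherian.isConstructible_of_isLocallyClosed
          ((V.2.isLocallyClosed.inter isClosed_closure.isLocallyClosed).preimage continuous_subtype_val),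
        ⟨hyV, subset_closure rfl⟩, hg, (Set.image_preimage_subset _ _).trans hr.ge, ((hlc g).1 hl).1⟩
    · obtain ⟨V, T, g, hg, hxV, hr, hl⟩ := h (ξ.base default)
      haveI := hg
      exact finite_stalk_of_range g ξ (hr.symm ▸ ⟨hxV, subset_closure rfl⟩) ((hlc g).1 hl).2

end Groth.Agent.H88.EtMod.ClosureCriterion
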