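import Groth.Agent.H88.EtMod.CechColim
import Groth.Agent.Lib.CechPsh.ShortExact
import Groth.Agent.Lib.CechPsh.LongExact
import Groth.Agent.Lib.SiteCoh.CechAcyclic
import Mathlib.CategoryTheory.Abelian.GrothendieckCategory.Coseparator
import Mathlib.CategoryTheory.Abelian.GrothendieckAxioms.Colim
import Mathlib.CategoryTheory.Category.ULift

/-!
Étale cohomology of quasi-compact quasi-separated schemes commutes with filtered colimits.
-/

set_option autoImplicit false
set_option linter.style.haveILetI false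

universe u

open CategoryTheory CategoryTheory.Limits AlgebraicGeometry Opposite Abelian

noncomputable section

namespace Groth.Agent.H88.EtMod.CohColim

open CechColim Groth.Agent.Lib.SiteCoh.CechAcyclic

variable {X : Scheme.{u}}

/-- Čech cohomology of finite covers by quasi-compact quasi-separated objects vanishes. -/
def Acy (F : EtCoh.Ab X) : Prop :=
  ∀ (U : X.Etale), CompactSpace U.left → QuasiSeparatedSpace U.left →
    ∀ (ι : Type (u + 1)) [Finite ι] (Uf : ι → Over U), (∀ i, Qcqs (Uf i)) →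
      ∀ p : ℕ, IsZero (EtCech.cechH Uf F.obj (p + 1))

theorem acy_of_injective (F : EtCoh.Ab X) [Injective F] : Acy F := by
  intro U _ _ ι _ Uf _ p
  haveI : Injective F.obj :=
    Injective.injective_of_adjoint (sheafificationAdjunction X.smallEtaleTopology AddCommGrpCat.{u + 1}) F
  exact Groth.Agent.Lib.CechPsh.Vanish.isZero_cechH Uf F.obj p

/-- Sections over quasi-compact quasi-separated objects lift when the kernel is acyclic. -/
theorem surjective_app {S : ShortComplex (EtCoh.Ab X)} (hS : S.ShortExact) (hA : Acy S.X₁)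
    (U : X.Etale) [CompactSpace U.left] [QuasiSeparatedSpace U.left] :
    Function.Surjective (S.g.hom.app (op U)) := by
  intro s
  haveI := hS.epi_g
  haveI : Sheaf.IsLocallySurjective S.g := (Sheaf.isLocallySurjective_iff_epi' _ S.g).2 inferInstance
  haveI : Presheaf.IsLocallySurjective X.smallEtaleTopology S.g.hom := ‹Sheaf.IsLocallySurjective S.g›
  obtain ⟨n, W, g, hW, hg, hcov⟩ := FilteredSections.exists_affine_cover _
    (Presheaf.imageSieve_mem X.smallEtaleTopology S.g.hom (U := op U) s)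
  let Uf : ULift.{u + 1} (Fin n) → Over U := fun i => Over.mk (g i.down)
  have hq : ∀ i, Qcqs (Uf i) := fun i => by
    haveI := hW i.down
    exact ⟨inferInstanceAs (CompactSpace (W i.down).left), inferInstanceAs (QuasiSeparatedSpace (W i.down).left)⟩
  have h : Sieve.ofArrows (fun i => (Uf i).left) (fun i => (Uf i).hom) ∈ X.smallEtaleTopology U :=
    X.smallEtaleTopology.superset_covering
      ((Sieve.generate_le_iff _ _).2 (by
      rintro _ _ ⟨i⟩
      exact Sieve.ofArrows_mk _ _ (⟨i⟩ : ULift.{u + 1} (Fin n)))) hcov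
  have hle := fun W => Groth.Agent.Lib.CechPsh.ShortExact.app_left_exact hS W
  exact Groth.Agent.Lib.CechPsh.Surj.exists_lift Uf X.smallEtaleTopology S.f.hom S.g.hom S.X₂.property
    S.X₃.property (fun W => (hle W).1) (fun W => (hle W).2.1) (fun W => (hle W).2.2) h
    (hA U inferInstance inferInstance _ Uf hq 0) s fun i => hg i.down

/-- Acyclicity passes to cokernels. -/
theorem acy_right {S : ShortComplex (EtCoh.Ab X)} (hS : S.ShortExact) (h₁ : Acy S.X₁) (h₂ : Acy S.X₂) :
    Acy S.X₃ := by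
  intro U hc hq ι _ Uf hUf p
  haveI := hc
  haveI := hq
  have hle := fun W => Groth.Agent.Lib.CechPsh.ShortExact.app_left_exact hS W
  refine Groth.Agent.Lib.CechPsh.LongExact.isZero_cechH_right Uf S.f.hom S.g.hom (fun W => (hle W).2.1)
    (fun W => (hle W).1) (fun W => (hle W).2.2) (fun n i => ?_) (p + 1) (h₂ U hc hq ι Uf hUf p)
    (h₁ U hc hq ι Uf hUf (p + 1))
  obtain ⟨h₁', h₂'⟩ := qcqs_pi (Uf ∘ i) fun a => hUf (i a)
  exact surjective_app hS h₁ (Groth.Agent.Lib.CechPsh.Vanish.prd Uf i).left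

/-- Acyclicity passes to filtered colimits. -/
theorem acy_colimit {J : Type u} [SmallCategory J] [IsFiltered J] (D : J ⥤ EtCoh.Ab X)
    (hD : ∀ j, Acy (D.obj j)) : Acy (colimit D) := by
  intro U hc hq ι _ Uf hUf p
  haveI := hc
  haveI := hq
  haveI : IsFiltered (AsSmall.{u + 1} J) := IsFiltered.of_equivalence AsSmall.equiv
  haveI := preservesColimits_cech Uf hUf (AsSmall.{u + 1} J) (p + 1)
  haveI : PreservesColimitsOfShape J
      (sheafToPresheaf X.smallEtaleTopology AddCommGrpCat.{u + 1} ⋙ EtCech.cechHFunctor Uf (p + 1)) :=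
    preservesColimitsOfShape_of_equiv AsSmall.equiv.{_, _, u + 1}.symm _
  have h := isColimitOfPreserves
    (sheafToPresheaf X.smallEtaleTopology AddCommGrpCat.{u + 1} ⋙ EtCech.cechHFunctor Uf (p + 1))
    (colimit.isColimit D)
  rw [IsZero.iff_id_eq_zero]
  exact h.hom_ext fun j => IsZero.eq_of_src (hD j U hc hq ι Uf hUf p) _ _

section Coh

variable [CompactSpace X] [QuasiSeparatedSpace X]

/-- The terminal object of the étale site. -/
def top (X : Scheme.{u}) : X.Etale := Scheme.Etale.mk (𝟙 X)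

/-- It is terminal. -/
def isTerminalTop : IsTerminal (top X) :=
  IsTerminal.ofUniqueHom (fun U => MorphismProperty.Over.homMk U.hom (Category.comp_id _)) fun U m =>
    MorphismProperty.Over.Hom.ext ((Category.comp_id _).symm.trans (MorphismProperty.Over.w m))

instance compactSpace_top : CompactSpace (top X).left := ‹CompactSpace X›

instance quasiSeparatedSpace_top : QuasiSeparatedSpace (top X).left := ‹QuasiSeparatedSpace X›

omit [CompactSpace X] [QuasiSeparatedSpace X] in
theorem emb_shortExact (F : EtCoh.Ab X) :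
    (ShortComplex.mk (Injective.ι F) (cokernel.π (Injective.ι F)) (cokernel.condition _)).ShortExact :=
  { exact := ShortComplex.exact_of_g_is_cokernel _ (cokernelIsCokernel (Injective.ι F)) }

theorem subsingleton_H_succ {F : EtCoh.Ab X} (hF : Acy F) (n : ℕ) : ∀ x : Sheaf.H F (n + 1), x = 0 := by
  induction n generalizing F with
  | zero =>
    intro x
    have hS := emb_shortExact F
    obtain ⟨y, rfl⟩ := connHom_surjective hS _ 0 (fun x => Ext.eq_zero_of_injective x) x
    rw [connHom_eq_zero_iff]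
    obtain ⟨t, ht⟩ := surjective_app hS hF (top X) (Sheaf.H.equiv₀ _ isTerminalTop y)
    exact ⟨(Sheaf.H.equiv₀ _ isTerminalTop).symm t, (Sheaf.H.equiv₀ _ isTerminalTop).injective (by
      refine (Sheaf.H.equiv₀_naturality isTerminalTop _ _).symm.trans ?_
      rw [AddEquiv.apply_symm_apply]
      exact ht)⟩
  | succ n ih =>
    intro x
    have hS := emb_shortExact F
    obtain ⟨y, rfl⟩ := connHom_surjective hS _ (n + 1) (fun x => Ext.eq_zero_of_injective x) x
    rw [ih (acy_right hS hF (acy_of_injective _)) y, map_zero]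

variable {J : Type u} [SmallCategory J] [IsFiltered J]

/-- Classes over the colimit come from a stage, and classes dying in the colimit die at a stage. -/
def Good (D : J ⥤ EtCoh.Ab X) (n : ℕ) : Prop :=
  (∀ x : Sheaf.H (colimit D) n, ∃ (j : J) (y : Sheaf.H (D.obj j) n), Sheaf.H.map (colimit.ι D j) n y = x) ∧
    ∀ (j : J) (y : Sheaf.H (D.obj j) n), Sheaf.H.map (colimit.ι D j) n y = 0 →
      ∃ (k : J) (a : j ⟶ k), Sheaf.H.map (D.map a) n y = 0

theorem good_zero (D : J ⥤ EtCoh.Ab X) : Good D 0 := by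
  haveI : PreservesFilteredColimitsOfSize.{u, u} (forget AddCommGrpCat.{u + 1}) :=
    preservesFilteredColimitsOfSize_of_univLE.{u + 1, u + 1, u, u} _
  haveI : HasColimitsOfShape J AddCommGrpCat.{u + 1} := inferInstance
  haveI := FilteredSections.preservesColimits (I := J) (A := AddCommGrpCat.{u + 1}) (top X)
  have h := isColimitOfPreserves (sheafToPresheaf X.smallEtaleTopology AddCommGrpCat.{u + 1} ⋙
    (evaluation _ _).obj (op (top X))) (colimit.isColimit D)
  let e := fun (F : EtCoh.Ab X) => Sheaf.H.equiv₀ F (isTerminalTop (X := X))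
  refine ⟨fun x => ?_, fun j y hy => ?_⟩
  · obtain ⟨j, s, hs⟩ := Concrete.isColimit_exists_rep _ h (e _ x)
    refine ⟨j, (e _).symm s, (e _).injective ?_⟩
    refine (Sheaf.H.equiv₀_naturality isTerminalTop _ _).symm.trans ?_
    rw [AddEquiv.apply_symm_apply]
    exact hs
  · have h0 : (colimit.ι D j).hom.app (op (top X)) (e _ y) = (colimit.ι D j).hom.app (op (top X)) 0 := by
      rw [map_zero, Sheaf.H.equiv₀_naturality, hy, map_zero]
    obtain ⟨k, a, b, hab⟩ := (Concrete.isColimit_rep_eq_iff_exists _ h _ _).1 h0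
    refine ⟨k, a, (e _).injective ?_⟩
    rw [map_zero]
    exact (Sheaf.H.equiv₀_naturality isTerminalTop _ _).symm.trans (hab.trans (map_zero _))

omit [CompactSpace X] [QuasiSeparatedSpace X] in
theorem conn_naturality {S₁ S₂ : ShortComplex (EtCoh.Ab X)} (h₁ : S₁.ShortExact) (h₂ : S₂.ShortExact)
    (τ : S₁ ⟶ S₂) (n : ℕ) (y : Sheaf.H S₁.X₃ n) :
    connHom h₂ _ n (Sheaf.H.map τ.τ₃ n y) = Sheaf.H.map τ.τ₁ (n + 1) (connHom h₁ _ n y) := by
  change (y.comp (Ext.mk₀ τ.τ₃) (add_zero n)).comp h₂.extClass rfl =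
    (y.comp h₁.extClass rfl).comp (Ext.mk₀ τ.τ₁) (add_zero (n + 1))
  rw [Ext.comp_assoc (a₁₂ := n) (a₂₃ := 1) y _ _ (add_zero n) (zero_add 1) (by omega),
    Ext.comp_assoc (a₁₂ := n + 1) (a₂₃ := 1) y _ _ rfl (add_zero 1) (by omega),
    ShortComplex.ShortExact.extClass_naturality h₁ h₂ τ]

omit [CompactSpace X] [QuasiSeparatedSpace X] [IsFiltered J] in
/-- An embedding of a diagram into a diagram of injective objects. -/
theorem exists_embedding (D : J ⥤ EtCoh.Ab X) :
    ∃ (E : J ⥤ EtCoh.Ab X) (η : D ⟶ E), Mono η ∧ ∀ j, Injective (E.obj j) := by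
  obtain ⟨I, hI, hI'⟩ := Abelian.has_injective_coseparator (separator (EtCoh.Ab X)) (isSeparator_separator _)
  let E : J ⥤ EtCoh.Ab X :=
    { obj := fun j => ∏ᶜ fun _ : D.obj j ⟶ I => I
      map := fun {i j} a => Pi.lift fun g => Pi.π (fun _ : D.obj i ⟶ I => I) (D.map a ≫ g) }
  let η : D ⟶ E :=
    { app := fun j => Pi.lift fun g => g
      naturality := fun i j a => Pi.hom_ext _ _ fun g => by simp [E] }
  haveI : ∀ j, Mono (η.app j) := fun j => Preadditive.mono_of_cancel_zero _ fun {Z} f hf =>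
    (Preadditive.isCoseparator_iff I).1 hI' f fun g => by
      have := congrArg (· ≫ Pi.π (fun _ : D.obj j ⟶ I => I) g) hf
      simpa [η] using this
  exact ⟨E, η, NatTrans.mono_of_mono_app η, fun j => inferInstanceAs (Injective (∏ᶜ fun _ : D.obj j ⟶ I => I))⟩

theorem good (D : J ⥤ EtCoh.Ab X) (n : ℕ) : Good D n := by
  induction n generalizing D with
  | zero => exact good_zero D
  | succ n ih =>
    obtain ⟨E, η, hη, hE⟩ := exists_embedding D
    haveI := hη
    let S := ShortComplex.mk η (cokernel.π η) (cokernel.condition η)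
    have hS : S.ShortExact :=
      { exact := ShortComplex.exact_of_g_is_cokernel _ (cokernelIsCokernel η) }
    have hj : ∀ j, (S.map ((evaluation J (EtCoh.Ab X)).obj j)).ShortExact := fun j => hS.map_of_exact _
    haveI : AB5OfSize.{u, u} (EtCoh.Ab X) := AB5OfSize_shrink.{u, u, u + 1, u + 1} _
    haveI : HasExactColimitsOfShape J (EtCoh.Ab X) := AB5OfSize.ofShape J
    haveI : PreservesFiniteLimits (colim : (J ⥤ EtCoh.Ab X) ⥤ EtCoh.Ab X) :=
      HasExactColimitsOfShape.preservesFiniteLimits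
    have hinf : (S.map (colim : (J ⥤ EtCoh.Ab X) ⥤ EtCoh.Ab X)).ShortExact := hS.map_of_exact _
    let τ : ∀ j, S.map ((evaluation J (EtCoh.Ab X)).obj j) ⟶ S.map (colim : (J ⥤ EtCoh.Ab X) ⥤ EtCoh.Ab X) :=
      fun j => ShortComplex.homMk (colimit.ι D j) (colimit.ι E j) (colimit.ι (cokernel η) j)
        (colimit.ι_map η j) (colimit.ι_map (cokernel.π η) j)
    let σ : ∀ {i j : J}, (i ⟶ j) →
        (S.map ((evaluation J (EtCoh.Ab X)).obj i) ⟶ S.map ((evaluation J (EtCoh.Ab X)).obj j)) :=
      fun a => S.mapNatTrans ((evaluation J (EtCoh.Ab X)).map a)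
    have hEz : ∀ j (x : Sheaf.H (E.obj j) (n + 1)), x = 0 := fun j x =>
      haveI := hE j
      Ext.eq_zero_of_injective x
    have hEinf : ∀ x : Sheaf.H (colimit E) (n + 1), x = 0 :=
      subsingleton_H_succ (acy_colimit E fun j => haveI := hE j; acy_of_injective _) n
    obtain ⟨hQs, hQi⟩ := ih (cokernel η)
    obtain ⟨hEs, -⟩ := ih E
    refine ⟨fun x => ?_, fun j y hy => ?_⟩
    · obtain ⟨z, rfl⟩ := connHom_surjective hinf _ n hEinf x
      obtain ⟨j, z', rfl⟩ := hQs z
      exact ⟨j, connHom (hj j) _ n z', (conn_naturality (hj j) hinf (τ j) n z').symm⟩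
    · obtain ⟨z, rfl⟩ := connHom_surjective (hj j) _ n (hEz j) y
      have h0 : connHom hinf _ n (Sheaf.H.map (τ j).τ₃ n z) = 0 :=
        (conn_naturality (hj j) hinf (τ j) n z).trans hy
      obtain ⟨t, ht⟩ := (connHom_eq_zero_iff hinf _ n _).1 h0
      obtain ⟨k, e, rfl⟩ := hEs t
      let a := IsFiltered.leftToMax j k
      let b := IsFiltered.rightToMax j k
      have hw : Sheaf.H.map (colimit.ι (cokernel η) _) n (Sheaf.H.map ((cokernel η).map a) n z -
          Sheaf.H.map ((cokernel.π η).app _) n (Sheaf.H.map (E.map b) n e)) = 0 := by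
        rw [map_sub, sub_eq_zero, ← Sheaf.H.map_comp_apply, ← Sheaf.H.map_comp_apply,
          ← Sheaf.H.map_comp_apply, colimit.w, NatTrans.naturality_assoc, colimit.w, ← colimit.ι_map,
          Sheaf.H.map_comp_apply]
        exact ht.symm
      obtain ⟨m, c, hc⟩ := hQi _ _ hw
      rw [map_sub, sub_eq_zero, ← Sheaf.H.map_comp_apply, ← Functor.map_comp, ← Sheaf.H.map_comp_apply,
        ← NatTrans.naturality, Sheaf.H.map_comp_apply] at hc
      refine ⟨m, a ≫ c, ?_⟩
      refine (conn_naturality (hj j) (hj m) (σ (a ≫ c)) n z).symm.trans ((connHom_eq_zero_iff (hj m) _ n _).2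
        ⟨Sheaf.H.map (E.map c) n (Sheaf.H.map (E.map b) n e), hc.symm⟩)

theorem preservesColimitsOfShape (n : ℕ) : PreservesColimitsOfShape J (EtCoh.HF X n) := by
  haveI : PreservesFilteredColimitsOfSize.{u, u} (forget AddCommGrpCat.{u + 1}) :=
    preservesFilteredColimitsOfSize_of_univLE.{u + 1, u + 1, u, u} _
  refine ⟨fun {D} => preservesColimit_of_preserves_colimit_cocone (colimit.isColimit D) ?_⟩
  obtain ⟨hs, hi⟩ := good D n
  haveI : ReflectsColimitsOfShape J (forget AddCommGrpCat.{u + 1}) :=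
    reflectsColimitsOfShape_of_reflectsIsomorphisms
  refine isColimitOfReflects (forget AddCommGrpCat.{u + 1}) ?_
  refine Types.FilteredColimit.isColimitOf _ _ (fun x => ?_) fun i j x y hxy => ?_
  · obtain ⟨j, y, hy⟩ := hs x
    exact ⟨j, y, hy.symm⟩
  · let k := IsFiltered.max i j
    let a := IsFiltered.leftToMax i j
    let b := IsFiltered.rightToMax i j
    have h : Sheaf.H.map (colimit.ι D k) n (Sheaf.H.map (D.map a) n x - Sheaf.H.map (D.map b) n y) = 0 := by
      rw [map_sub, sub_eq_zero, ← Sheaf.H.map_comp_apply, ← Sheaf.H.map_comp_apply, colimit.w, colimit.w]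
      exact hxy
    obtain ⟨m, c, hc⟩ := hi k _ h
    refine ⟨m, a ≫ c, b ≫ c, ?_⟩
    rw [map_sub, sub_eq_zero, ← Sheaf.H.map_comp_apply, ← Sheaf.H.map_comp_apply, ← D.map_comp,
      ← D.map_comp] at hc
    exact hc

end Coh

end Groth.Agent.H88.EtMod.CohColim
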