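import Groth.Agent.H88.EtMod.AbBridge

/-!
Constructible abelian sheaves: iso invariance, inverse images, locality, kernels, cokernels, extensions.
-/

set_option autoImplicit false
set_option linter.style.haveILetI false

universe u

open CategoryTheory CategoryTheory.Limits AlgebraicGeometry Opposite Topology

noncomputable section

namespace Groth.Agent.H88.EtMod.PBCOps

open AbBridge

variable {X Y : Scheme.{u}}

instance isNoetherianRing_zl : IsNoetherianRing Zl.{u} :=
  isNoetherianRing_of_ringEquiv ℤ ULift.ringEquiv.symm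

theorem isConstructible_of_iso {F G : EtCoh.Ab X} (e : F ≅ G) (h : EtPBC.IsConstructible F) :
    EtPBC.IsConstructible G := by
  intro U hU
  obtain ⟨n, T, g, h1, h2, h3, h4, h5⟩ := h U hU
  exact ⟨n, T, g, h1, h2, h3, h4,
    fun i => fun [_] => isFiniteLC_of_iso ((EtCoh.pull (g i)).mapIso e) (h5 i)⟩

theorem finStalks_pull (f : X ⟶ Y) {F : EtModW.Mod Zl.{u} Y} (hF : FinStalks F) :
    FinStalks ((EtModW.pull Zl.{u} f).obj F) := by
  intro Ω _ _ ξ
  haveI := LCOps.hasLimits_small (Λ := Zl.{u})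
  exact @Finite.of_equiv _ _ (hF Ω (ξ ≫ f)) ((Groth.Agent.Lib.EtSite.Pull.stalkPullIso.{u} f ξ
    (ModuleCat.{u + 1} Zl.{u})).app F).toLinearEquiv.symm.toEquiv

theorem isConstructible_pull (f : X ⟶ Y) {F : EtCoh.Ab Y} (hF : EtPBC.IsConstructible F) :
    EtPBC.IsConstructible ((EtCoh.pull f).obj F) := by
  obtain ⟨F', ⟨e⟩⟩ := exists_lift F
  obtain ⟨h1, h2⟩ := (isConstructible_iff F').1 (isConstructible_of_iso e.symm hF)
  exact isConstructible_of_iso ((pullIso f).app F' ≪≫ (EtCoh.pull f).mapIso e)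
    ((isConstructible_iff _).2 ⟨Constr.isConstructible_pull f h1, finStalks_pull f h2⟩)

/-- Finiteness of stalks only depends on the restrictions to an open cover. -/
theorem finStalks_of_open_cover {F : EtModW.Mod Zl.{u} X} {ι : Type*} (U : ι → X.Opens)
    (hU : ∀ x, ∃ i, x ∈ U i) (h : ∀ i, FinStalks ((EtModW.pull Zl.{u} (U i).ι).obj F)) : FinStalks F := by
  intro Ω _ _ ξ
  obtain ⟨i, hi⟩ := hU (ξ.base default)
  exact finite_stalk_of_range (U i).ι ξ (by rw [Scheme.Opens.range_ι]; exact hi) (h i)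

theorem isConstructible_of_open_cover {F : EtCoh.Ab X} {ι : Type*} (U : ι → X.Opens)
    (hU : ∀ x, ∃ i, x ∈ U i) (h : ∀ i, EtPBC.IsConstructible ((EtCoh.pull (U i).ι).obj F)) :
    EtPBC.IsConstructible F := by
  obtain ⟨F', ⟨e⟩⟩ := exists_lift F
  have h' := fun i => (isConstructible_iff ((EtModW.pull Zl.{u} (U i).ι).obj F')).1
    (isConstructible_of_iso (((pullIso (U i).ι).app F' ≪≫ (EtCoh.pull (U i).ι).mapIso e).symm) (h i))
  exact isConstructible_of_iso e ((isConstructible_iff F').2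
    ⟨Constr.isConstructible_of_open_cover U hU fun i => (h' i).1,
      finStalks_of_open_cover U hU fun i => (h' i).2⟩)

theorem exists_hom_lift {F G : EtCoh.Ab X} (φ : F ⟶ G) :
    ∃ (F' G' : EtModW.Mod Zl.{u} X) (φ' : F' ⟶ G') (e : (fg X).obj F' ≅ F) (e' : (fg X).obj G' ≅ G),
      (fg X).map φ' = e.hom ≫ φ ≫ e'.inv := by
  obtain ⟨F', ⟨e⟩⟩ := exists_lift F
  obtain ⟨G', ⟨e'⟩⟩ := exists_lift G
  obtain ⟨φ', hφ'⟩ := (fg X).map_surjective (e.hom ≫ φ ≫ e'.inv)
  exact ⟨F', G', φ', e, e', hφ'⟩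

theorem isConstructible_kernel_cokernel {F G : EtCoh.Ab X} (φ : F ⟶ G)
    (hF : EtPBC.IsConstructible F) (hG : EtPBC.IsConstructible G) :
    EtPBC.IsConstructible (kernel φ) ∧ EtPBC.IsConstructible (cokernel φ) := by
  obtain ⟨F', G', φ', e, e', hφ'⟩ := exists_hom_lift φ
  obtain ⟨hF1, hF2⟩ := (isConstructible_iff F').1 (isConstructible_of_iso e.symm hF)
  obtain ⟨hG1, hG2⟩ := (isConstructible_iff G').1 (isConstructible_of_iso e'.symm hG)
  have hk : FinStalks (kernel φ') := fun Ω _ _ ξ =>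
    haveI := hF2 Ω ξ
    Finite.of_injective _ (LCOps.stalk_map_injective ξ (kernel.ι φ'))
  have hc : FinStalks (cokernel φ') := fun Ω _ _ ξ =>
    haveI := hG2 Ω ξ
    Finite.of_surjective _ (LCOps.stalk_map_surjective ξ (cokernel.π φ'))
  constructor
  · refine isConstructible_of_iso ?_
      ((isConstructible_iff _).2 ⟨Constr.isConstructible_kernel hF1 hG1 φ', hk⟩)
    exact PreservesKernel.iso (fg X) φ' ≪≫ kernel.mapIso _ _ e e' (by simp [hφ'])
  · refine isConstructible_of_iso ?_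
      ((isConstructible_iff _).2 ⟨Constr.isConstructible_cokernel hF1 hG1 φ', hc⟩)
    exact PreservesCokernel.iso (fg X) φ' ≪≫ cokernel.mapIso _ _ e e' (by simp [hφ'])

theorem isConstructible_ext {S : ShortComplex (EtCoh.Ab X)} (hS : S.ShortExact)
    (h₁ : EtPBC.IsConstructible S.X₁) (h₃ : EtPBC.IsConstructible S.X₃) :
    EtPBC.IsConstructible S.X₂ := by
  let E := (fg X).asEquivalence
  have hS' : (S.map (fg X).inv).ShortExact := hS.map_of_exact _
  have lift : ∀ F : EtCoh.Ab X, EtPBC.IsConstructible F →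
      EtModW.IsConstructible Zl.{u} ((fg X).inv.obj F) ∧ FinStalks ((fg X).inv.obj F) := fun F hF =>
    (isConstructible_iff _).1 (isConstructible_of_iso (E.counitIso.app F).symm hF)
  obtain ⟨a1, a2⟩ := lift _ h₁
  obtain ⟨c1, c2⟩ := lift _ h₃
  refine isConstructible_of_iso (E.counitIso.app S.X₂)
    ((isConstructible_iff _).2 ⟨Constr.isConstructible_ext hS' a1 c1, fun Ω _ _ ξ => ?_⟩)
  haveI : Finite ↥((Scheme.pointSmallEtale ξ).sheafFiber.obj (S.map (fg X).inv).X₁) := a2 Ω ξ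
  haveI : Finite ↥((Scheme.pointSmallEtale ξ).sheafFiber.obj (S.map (fg X).inv).X₃) := c2 Ω ξ
  let f := ((Scheme.pointSmallEtale ξ).sheafFiber.map (S.map (fg X).inv).f).hom
  let g := ((Scheme.pointSmallEtale ξ).sheafFiber.map (S.map (fg X).inv).g).hom
  haveI : Finite (LinearMap.ker g) := by
    have hle : ∀ z : LinearMap.ker g, ∃ y, f y = z.1 := fun z =>
      LCOps.stalk_exact ξ hS'.exact z.1 z.2
    choose k hk using hle
    exact Finite.of_injective k fun a b h => Subtype.ext ((hk a).symm.trans ((congrArg f h).trans (hk b)))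
  haveI : Finite (_ ⧸ LinearMap.ker g) :=
    Finite.of_equiv _ g.quotKerEquivRange.symm.toEquiv
  haveI : Finite (LinearMap.ker g).toAddSubgroup := ‹Finite (LinearMap.ker g)›
  haveI : Finite (_ ⧸ (LinearMap.ker g).toAddSubgroup) := ‹Finite (_ ⧸ LinearMap.ker g)›
  exact Finite.of_equiv _ (AddSubgroup.addGroupEquivQuotientProdAddSubgroup
    (s := (LinearMap.ker g).toAddSubgroup)).symm

/-- An adapted partition of an open, for modules over the integers. -/
theorem adaptedStrata_iff (F : EtModW.Mod Zl.{u} X) (S : X.Opens) :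
    EtPBC.AdaptedStrata ((fg X).obj F) (S : Set X) ↔ EtModW.AdaptedStrata Zl.{u} F (S : Set X) ∧
      ∀ (Ω : Type u) [Field Ω] [IsSepClosed Ω] (ξ : Spec (CommRingCat.of Ω) ⟶ X),
        ξ.base default ∈ S → Finite ↥((Scheme.pointSmallEtale ξ).sheafFiber.obj F) := by
  constructor
  · rintro ⟨n, T, g, h1, h2, h3, h4, h5⟩
    have h5' : ∀ i, EtModW.IsFTLocConst Zl.{u} ((EtModW.pull Zl.{u} (g i)).obj F) ∧
        FinStalks ((EtModW.pull Zl.{u} (g i)).obj F) := fun i =>
      (isFiniteLocallyConstant_iff' _).1 (isFiniteLC_of_iso ((pullIso (g i)).app F).symm (h5 i))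
    refine ⟨⟨n, T, g, h1, h2, h3, h4, fun i => (h5' i).1⟩, fun Ω _ _ ξ hξ => ?_⟩
    obtain ⟨i, t, ht⟩ := Set.mem_iUnion.1 (h4.symm ▸ hξ : ξ.base default ∈ ⋃ i, Set.range (g i))
    haveI := h1 i
    exact finite_stalk_of_range (g i) ξ ⟨t, ht⟩ (h5' i).2
  · rintro ⟨⟨n, T, g, h1, h2, h3, h4, h5⟩, hfin⟩
    refine ⟨n, T, g, h1, h2, h3, h4, fun i => ?_⟩
    intro _
    refine isFiniteLC_of_iso ((pullIso (g i)).app F)
      ((isFiniteLocallyConstant_iff' _).2 ⟨h5 i, fun Ω _ _ ξ => ?_⟩)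
    haveI := LCOps.hasLimits_small (Λ := Zl.{u})
    haveI := hfin Ω (ξ ≫ g i) (h4.subset (Set.mem_iUnion.2 ⟨i, ξ.base default, rfl⟩))
    exact Finite.of_equiv _ ((Groth.Agent.Lib.EtSite.Pull.stalkPullIso.{u} (g i) ξ
      (ModuleCat.{u + 1} Zl.{u})).app F).toLinearEquiv.symm.toEquiv

/-- On a quasi-compact quasi-separated scheme one global partition suffices. -/
theorem isConstructible_iff_strata_univ [CompactSpace X] [QuasiSeparatedSpace X] (F : EtCoh.Ab X) :
    EtPBC.IsConstructible F ↔ EtPBC.AdaptedStrata F (Set.univ : Set X) := by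
  obtain ⟨F', ⟨e⟩⟩ := exists_lift F
  have transfer : ∀ {G G' : EtCoh.Ab X}, (G ≅ G') → EtPBC.AdaptedStrata G (Set.univ : Set X) →
      EtPBC.AdaptedStrata G' (Set.univ : Set X) := by
    rintro G G' ε ⟨n, T, g, h1, h2, h3, h4, h5⟩
    exact ⟨n, T, g, h1, h2, h3, h4,
      fun i => fun [_] => isFiniteLC_of_iso ((EtCoh.pull (g i)).mapIso ε) (h5 i)⟩
  rw [show EtPBC.IsConstructible F ↔ EtPBC.IsConstructible ((fg X).obj F') from
      ⟨isConstructible_of_iso e.symm, isConstructible_of_iso e⟩,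
    show EtPBC.AdaptedStrata F Set.univ ↔ EtPBC.AdaptedStrata ((fg X).obj F') Set.univ from
      ⟨transfer e.symm, transfer e⟩, isConstructible_iff]
  have h := adaptedStrata_iff F' ⊤
  rw [TopologicalSpace.Opens.coe_top] at h
  rw [h]
  haveI : CompactSpace ((⊤ : X.Opens) : Scheme.{u}) := isCompact_iff_compactSpace.1 isCompact_univ
  haveI : QuasiSeparatedSpace ((⊤ : X.Opens) : Scheme.{u}) :=
    (⊤ : X.Opens).ι.isOpenEmbedding.quasiSeparatedSpace
  constructor
  · rintro ⟨h1, h2⟩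
    refine ⟨?_, fun Ω _ _ ξ _ => h2 Ω ξ⟩
    have := Constr.adaptedStrata F' ⊤ fun y => by
      obtain ⟨_, ⟨(U : X.Opens), hU, rfl⟩, hy, -⟩ :=
        X.isBasis_affineOpens.exists_subset_of_mem_open (Set.mem_univ y.1) isOpen_univ
      obtain ⟨C, T, g, hC, hyC, hg, hCg, hlc⟩ := Constr.isConstructible_iff.1 h1 U hU ⟨y.1, hy⟩
      refine ⟨Subtype.val ⁻¹' (Subtype.val '' C), T, g, ?_, ⟨_, hyC, rfl⟩, hg,
        (Set.image_preimage_subset _ _).trans hCg, hlc⟩
      refine Lib.Spectral.Constructible.preimage_val IsRetrocompact.univ ?_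
      exact Lib.Spectral.Constructible.image_val
        ((hU.isCompact.isRetrocompact U.2).isConstructible U.2) hC
    rwa [TopologicalSpace.Opens.coe_top] at this
  · rintro ⟨h1, h2⟩
    refine ⟨Constr.isConstructible_iff.2 fun U hU y => ?_, fun Ω _ _ ξ => h2 Ω ξ trivial⟩
    have h1' : EtModW.AdaptedStrata Zl.{u} F' ((⊤ : X.Opens) : Set X) := by
      rwa [TopologicalSpace.Opens.coe_top]
    obtain ⟨C, T, g, hC, hyC, hg, hCg, hlc⟩ := Constr.pointGood_of_adaptedStrata h1' ⟨y.1, trivial⟩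
    refine ⟨Subtype.val ⁻¹' (Subtype.val '' C), T, g, ?_, ⟨_, hyC, rfl⟩, hg,
      (Set.image_preimage_subset _ _).trans hCg, hlc⟩
    refine Lib.Spectral.Constructible.preimage_val (hU.isCompact.isRetrocompact U.2) ?_
    refine Lib.Spectral.Constructible.image_val ?_ hC
    rw [TopologicalSpace.Opens.coe_top]
    exact IsConstructible.univ

end Groth.Agent.H88.EtMod.PBCOps
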