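import Groth.Agent.H88.EtMod.Quotient
import Groth.Agent.H88.EtMod.PBCOps

/-!
On locally noetherian schemes quotients and subsheaves of constructible abelian sheaves are
constructible.
-/

set_option autoImplicit false
set_option linter.style.haveILetI false

universe u

open CategoryTheory CategoryTheory.Limits AlgebraicGeometry Opposite

noncomputable section

namespace Groth.Agent.H88.EtMod.PBCQuotient

open AbBridge

variable {X : Scheme.{u}} [IsLocallyNoetherian X]

/-- Quotients of constructible abelian sheaves are constructible. -/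
theorem isConstructible_of_epi {F Q : EtCoh.Ab X} (π : F ⟶ Q) [Epi π]
    (hF : EtPBC.IsConstructible F) : EtPBC.IsConstructible Q := by
  obtain ⟨F', Q', π', e, e', hπ⟩ := PBCOps.exists_hom_lift π
  obtain ⟨h1, h2⟩ := (isConstructible_iff F').1 (PBCOps.isConstructible_of_iso e.symm hF)
  haveI : Epi π' := (fg X).epi_of_epi_map (by rw [hπ]; infer_instance)
  exact PBCOps.isConstructible_of_iso e' ((isConstructible_iff Q').2
    ⟨Quotient.isConstructible_of_epi π' h1, fun Ω _ _ ξ =>
      haveI := h2 Ω ξ
      Finite.of_surjective _ (LCOps.stalk_map_surjective ξ π')⟩)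

/-- Subsheaves of constructible abelian sheaves are constructible. -/
theorem isConstructible_of_mono {F G : EtCoh.Ab X} (ι : G ⟶ F) [Mono ι]
    (hF : EtPBC.IsConstructible F) : EtPBC.IsConstructible G := by
  obtain ⟨G', F', ι', e', e, hι⟩ := PBCOps.exists_hom_lift ι
  obtain ⟨h1, h2⟩ := (isConstructible_iff F').1 (PBCOps.isConstructible_of_iso e.symm hF)
  haveI : Mono ι' := (fg X).mono_of_mono_map (by rw [hι]; infer_instance)
  exact PBCOps.isConstructible_of_iso e' ((isConstructible_iff G').2
    ⟨Quotient.isConstructible_of_mono ι' h1, fun Ω _ _ ξ =>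
      haveI := h2 Ω ξ
      Finite.of_injective _ (LCOps.stalk_map_injective ξ ι')⟩)

end Groth.Agent.H88.EtMod.PBCQuotient
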