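import Groth.Agent.H88.EtMod.FilteredSections
import Groth.Agent.H88.EtMod.PBCQuotient
import Groth.Agent.H88.EtMod.FreeResolve
import Mathlib.CategoryTheory.Presentable.Finite
import Mathlib.CategoryTheory.Presentable.Limits
import Mathlib.CategoryTheory.Presentable.Adjunction
import Mathlib.Algebra.Category.ModuleCat.FilteredColimits

/-!
Constructible sheaves are compact objects.
-/

set_option autoImplicit false
set_option linter.style.haveILetI false

universe u

open CategoryTheory CategoryTheory.Limits AlgebraicGeometry Opposite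

noncomputable section

namespace Groth.Agent.H88.EtMod.Compact

attribute [local instance] Cardinal.fact_isRegular_aleph0

variable {Λ : Type (u + 1)} [CommRing Λ] {X : Scheme.{u}}

/-- Free sheaves on quasi-compact quasi-separated objects are finitely presentable. -/
theorem isFP_free (W : X.Etale) [CompactSpace W.left] [QuasiSeparatedSpace W.left] :
    IsFinitelyPresentable.{u} (Free.free Λ W) := by
  rw [isFinitelyPresentable_iff_preservesFilteredColimitsOfSize]
  refine ⟨fun J _ _ => ?_⟩
  haveI := LCOps.hasColimits_small (Λ := Λ)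
  haveI : PreservesFilteredColimitsOfSize.{u, u} (forget (ModuleCat.{u + 1} Λ)) :=
    preservesFilteredColimitsOfSize_of_univLE.{u + 1, u + 1, u, u} _
  haveI := FilteredSections.preservesColimits (I := J) (A := ModuleCat.{u + 1} Λ) W
  exact preservesColimitsOfShape_of_natIso (F := (sheafToPresheaf X.smallEtaleTopology _ ⋙
      (evaluation X.Etaleᵒᵖ (ModuleCat.{u + 1} Λ)).obj (op W)) ⋙ forget _)
    (NatIso.ofComponents (fun G => (Free.ev (U := W) (F := G)).symm.toIso) fun {G H} f => by
      ext s
      refine (Free.ev).injective ?_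
      change Free.ev (Free.ev.symm (f.hom.app (op W) s)) = Free.ev (Free.ev.symm s ≫ f)
      rw [Free.ev_comp, Equiv.apply_symm_apply, Equiv.apply_symm_apply])

theorem isFP_freeSum {F : EtModW.Mod Λ X} (h : FreeResolve.FreeSum Λ X F) :
    IsFinitelyPresentable.{u} F := by
  obtain ⟨m, W, hW, ⟨e⟩⟩ := h
  haveI : ∀ k, IsCardinalPresentable ((Discrete.functor fun k => Free.free Λ (W k)).obj k)
      Cardinal.aleph0.{u} := fun k =>
    haveI := hW k.as
    isFP_free (W k.as)
  haveI : IsCardinalPresentable (∐ fun k => Free.free Λ (W k)) Cardinal.aleph0.{u} :=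
    isCardinalPresentable_of_isColimit' _ (colimit.isColimit (Discrete.functor fun k => Free.free Λ (W k)))
      _ (hasCardinalLT_of_finite _ _ le_rfl)
  exact isCardinalPresentable_of_iso e.symm _

/-- A constructible sheaf is a cokernel of a map of finite sums of free sheaves. -/
theorem exists_presentation [IsNoetherianRing Λ] [CompactSpace X] [QuasiSeparatedSpace X]
    {F : EtModW.Mod Λ X} (hF : EtModW.IsConstructible Λ F) :
    ∃ (L₁ L₀ : EtModW.Mod Λ X) (φ : L₁ ⟶ L₀), FreeResolve.FreeSum Λ X L₁ ∧
      FreeResolve.FreeSum Λ X L₀ ∧ Nonempty (cokernel φ ≅ F) := by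
  obtain ⟨m, L, hL⟩ := FiniteGen.exists_gen hF
  have h₀ := FreeResolve.freeSum_sigma (Λ := Λ) (fun k => (L k).V) (fun k => (L k).isAffine)
  obtain ⟨m', L', hL'⟩ := FiniteGen.exists_gen
    (Constr.isConstructible_kernel (FreeResolve.isConstructible_of_freeSum h₀) hF (FiniteGen.desc L))
  refine ⟨_, _, FiniteGen.desc L' ≫ kernel.ι (FiniteGen.desc L),
    FreeResolve.freeSum_sigma (fun k => (L' k).V) (fun k => (L' k).isAffine), h₀,
    ⟨cokernelEpiComp _ _ ≪≫ ?_⟩⟩
  exact IsColimit.coconePointUniqueUpToIso (cokernelIsCokernel _)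
    (Abelian.epiIsCokernelOfKernel _ (kernelIsKernel (FiniteGen.desc L)))

theorem isFP [IsNoetherianRing Λ] [CompactSpace X] [QuasiSeparatedSpace X]
    {F : EtModW.Mod Λ X} (hF : EtModW.IsConstructible Λ F) : IsFinitelyPresentable.{u} F := by
  obtain ⟨L₁, L₀, φ, h₁, h₀, ⟨e⟩⟩ := exists_presentation hF
  haveI : ∀ k, IsCardinalPresentable ((parallelPair φ 0).obj k) Cardinal.aleph0.{u} := by
    rintro (_ | _)
    · exact isFP_freeSum h₁
    · exact isFP_freeSum h₀
  haveI : IsCardinalPresentable (cokernel φ) Cardinal.aleph0.{u} :=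
    isCardinalPresentable_of_isColimit' _ (colimit.isColimit (parallelPair φ 0)) _
      (hasCardinalLT_of_finite _ _ le_rfl)
  exact isCardinalPresentable_of_iso e _

/-- Constructible abelian sheaves are finitely presentable. -/
theorem isFP_ab [CompactSpace X] [QuasiSeparatedSpace X] {F : EtCoh.Ab X}
    (hF : EtPBC.IsConstructible F) : IsFinitelyPresentable.{u} F := by
  obtain ⟨F', ⟨e⟩⟩ := AbBridge.exists_lift F
  haveI := isFP ((AbBridge.isConstructible_iff F').1 (PBCOps.isConstructible_of_iso e.symm hF)).1
  haveI : IsCardinalPresentable F' Cardinal.aleph0.{u} := isFP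
    ((AbBridge.isConstructible_iff F').1 (PBCOps.isConstructible_of_iso e.symm hF)).1
  haveI := (AbBridge.fg X).asEquivalence.toAdjunction.isCardinalPresentable_leftAdjoint_obj
    Cardinal.aleph0.{u} F'
  exact isCardinalPresentable_of_iso e _

theorem preservesColimitsOfShape [CompactSpace X] [QuasiSeparatedSpace X] {F : EtCoh.Ab X}
    (hF : EtPBC.IsConstructible F) (J : Type u) [SmallCategory J] [IsFiltered J] :
    PreservesColimitsOfShape J (coyoneda.obj (op F)) :=
  haveI := isFinitelyPresentable_iff_preservesFilteredColimitsOfSize.1 (isFP_ab hF)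
  PreservesFilteredColimitsOfSize.preserves_filtered_colimits (F := coyoneda.obj (op F)) J

end Groth.Agent.H88.EtMod.Compact
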