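import Groth.Agent.H88.EtMod.LCChart
import Groth.Agent.H88.EtMod.Free
import Groth.Agent.H88.EtMod.PullExact
import Groth.Agent.Lib.EtSite.UnitStalk
import Mathlib.Algebra.Homology.ShortComplex.ModuleCat
import Mathlib.RingTheory.Noetherian.Basic
import Mathlib.RingTheory.Finiteness.Basic

/-!
Inverse images, kernels, cokernels and extensions of locally constant sheaves of modules of finite
type.
-/

set_option autoImplicit false
set_option linter.style.haveILetI false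

universe u

open CategoryTheory CategoryTheory.Limits AlgebraicGeometry Opposite

noncomputable section

namespace Groth.Agent.H88.EtMod.LCOps

open Groth.Agent.Lib.EtSite Groth.Agent.Lib.EtSite.Basic LCChart

variable {Λ : Type (u + 1)} [CommRing Λ] {X : Scheme.{u}}

section Stalks

variable {Ω : Type u} [Field Ω] [IsSepClosed Ω] (ξ : Spec (CommRingCat.of Ω) ⟶ X)

instance hasLimits_small : HasLimitsOfSize.{u, u} (ModuleCat.{u + 1} Λ) :=
  hasLimitsOfSizeShrink.{u, u, u + 1, u + 1} _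

instance ab5 : AB5OfSize.{u, u} (ModuleCat.{u + 1} Λ) := AB5OfSize_shrink.{u, u, u + 1, u + 1} _

instance hasColimits_small : HasColimitsOfSize.{u, u} (ModuleCat.{u + 1} Λ) :=
  hasColimitsOfSizeShrink.{u, u, u + 1, u + 1} _

theorem stalk_map_injective {F G : EtModW.Mod Λ X} (α : F ⟶ G) [Mono α] :
    Function.Injective ((Scheme.pointSmallEtale ξ).sheafFiber.map α) :=
  (ModuleCat.mono_iff_injective _).1 inferInstance

theorem stalk_map_surjective {F G : EtModW.Mod Λ X} (α : F ⟶ G) [Epi α] :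
    Function.Surjective ((Scheme.pointSmallEtale ξ).sheafFiber.map α) :=
  (ModuleCat.epi_iff_surjective _).1 inferInstance

theorem stalk_exact {S : ShortComplex (EtModW.Mod Λ X)} (hS : S.Exact)
    (z : ↥((Scheme.pointSmallEtale ξ).sheafFiber.obj S.X₂))
    (hz : (Scheme.pointSmallEtale ξ).sheafFiber.map S.g z = 0) :
    ∃ y, (Scheme.pointSmallEtale ξ).sheafFiber.map S.f y = z := by
  haveI : ((Scheme.pointSmallEtale ξ).sheafFiber : EtModW.Mod Λ X ⥤ _).PreservesHomology :=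
    inferInstance
  exact ((ShortComplex.moduleCat_exact_iff _).1 (hS.map (Scheme.pointSmallEtale ξ).sheafFiber)) z hz

theorem stalk_comp_zero {S : ShortComplex (EtModW.Mod Λ X)}
    (y : ↥((Scheme.pointSmallEtale ξ).sheafFiber.obj S.X₁)) :
    (Scheme.pointSmallEtale ξ).sheafFiber.map S.g ((Scheme.pointSmallEtale ξ).sheafFiber.map S.f y) = 0 :=
  ConcreteCategory.congr_hom ((S.map ((Scheme.pointSmallEtale ξ).sheafFiber : EtModW.Mod Λ X ⥤ _)).zero) y

/-- Finitely many equalities of germs hold on a neighbourhood. -/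
theorem exists_nhd_eq (F : EtModW.Mod Λ X) {W : X.Etale}
    (p : (Scheme.pointSmallEtale ξ).fiber.obj W) {ι : Type*} [Finite ι] (s t : ι → F.obj.obj (op W))
    (h : ∀ i, germ F W ξ p (s i) = germ F W ξ p (t i)) :
    ∃ (V : X.Etale) (g : V ⟶ W) (q : (Scheme.pointSmallEtale ξ).fiber.obj V),
      (Scheme.pointSmallEtale ξ).fiber.map g q = p ∧ ∀ i, F.obj.map g.op (s i) = F.obj.map g.op (t i) := by
  classical
  obtain ⟨_⟩ := nonempty_fintype ι
  suffices key : ∀ S : Finset ι, ∃ (V : X.Etale) (g : V ⟶ W)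
      (q : (Scheme.pointSmallEtale ξ).fiber.obj V), (Scheme.pointSmallEtale ξ).fiber.map g q = p ∧
        ∀ i ∈ S, F.obj.map g.op (s i) = F.obj.map g.op (t i) by
    obtain ⟨V, g, q, hq, hV⟩ := key Finset.univ
    exact ⟨V, g, q, hq, fun i => hV i (Finset.mem_univ i)⟩
  intro S
  induction S using Finset.induction with
  | empty => exact ⟨W, 𝟙 W, p, by simp, by simp⟩
  | insert k S hk ih =>
    obtain ⟨V, g, q, hq, hV⟩ := ih
    have h1 : germ F V ξ q (F.obj.map g.op (s k)) = germ F V ξ q (F.obj.map g.op (t k)) := by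
      rw [germ_map, germ_map, hq]; exact h k
    obtain ⟨V', g', q', hq', hV'⟩ := ((Scheme.pointSmallEtale ξ).toPresheafFiber_eq_iff' V q _ _).1 h1
    refine ⟨V', g' ≫ g, q', by simp [hq', hq], fun i hi => ?_⟩
    rw [op_comp, Functor.map_comp, ConcreteCategory.comp_apply, ConcreteCategory.comp_apply]
    rcases Finset.mem_insert.1 hi with rfl | hi
    · exact hV'
    · rw [hV i hi]

/-- Two linear maps from a finite module agreeing on germs agree on a neighbourhood. -/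
theorem exists_nhd_linear_eq (F : EtModW.Mod Λ X) {W : X.Etale}
    (p : (Scheme.pointSmallEtale ξ).fiber.obj W) {M : Type*} [AddCommGroup M] [Module Λ M]
    [Module.Finite Λ M] (a b : M →ₗ[Λ] F.obj.obj (op W))
    (h : ∀ m, germ F W ξ p (a m) = germ F W ξ p (b m)) :
    ∃ (V : X.Etale) (g : V ⟶ W) (q : (Scheme.pointSmallEtale ξ).fiber.obj V),
      (Scheme.pointSmallEtale ξ).fiber.map g q = p ∧
        ∀ m, F.obj.map g.op (a m) = F.obj.map g.op (b m) := by
  obtain ⟨r, e, he⟩ := Module.Finite.exists_fin (R := Λ) (M := M)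
  obtain ⟨V, g, q, hq, hV⟩ := exists_nhd_eq ξ F p (fun i => a (e i)) (fun i => b (e i)) (fun i => h _)
  refine ⟨V, g, q, hq, fun m => ?_⟩
  exact LinearMap.congr_fun (LinearMap.ext_on (f := (F.obj.map g.op).hom ∘ₗ a)
    (g := (F.obj.map g.op).hom ∘ₗ b) he (by rintro _ ⟨i, rfl⟩; exact hV i)) m

/-- A linear map from a finitely presented module to the stalk lifts to a neighbourhood. -/
theorem exists_lift_linear (F : EtModW.Mod Λ X) {U : X.Etale}
    (p : (Scheme.pointSmallEtale ξ).fiber.obj U) {M : Type (u + 1)} [AddCommGroup M] [Module Λ M]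
    [Module.Finite Λ M] [IsNoetherianRing Λ]
    (a : M →ₗ[Λ] ↥((Scheme.pointSmallEtale ξ).sheafFiber.obj F)) :
    ∃ (V : X.Etale) (g : V ⟶ U) (q : (Scheme.pointSmallEtale ξ).fiber.obj V)
      (L : M →ₗ[Λ] F.obj.obj (op V)),
      (Scheme.pointSmallEtale ξ).fiber.map g q = p ∧ ∀ m, germ F V ξ q (L m) = a m := by
  classical
  obtain ⟨r, π, hπ⟩ := Module.Finite.exists_fin' Λ M
  have key : ∀ S : Finset (Fin r), ∃ (V : X.Etale) (g : V ⟶ U)
      (q : (Scheme.pointSmallEtale ξ).fiber.obj V), (Scheme.pointSmallEtale ξ).fiber.map g q = p ∧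
        ∀ i ∈ S, ∃ s, germ F V ξ q s = a (π (Pi.single i 1)) := by
    intro S
    induction S using Finset.induction with
    | empty => exact ⟨U, 𝟙 U, p, by simp, by simp⟩
    | insert k S hk ih =>
      obtain ⟨V, g, q, hq, hV⟩ := ih
      obtain ⟨V', g', q', s, hq', hs⟩ := exists_germ_eq F V ξ q (a (π (Pi.single k 1)))
      refine ⟨V', g' ≫ g, q', by simp [hq', hq], fun i hi => ?_⟩
      rcases Finset.mem_insert.1 hi with rfl | hi
      · exact ⟨s, hs⟩
      · obtain ⟨t, ht⟩ := hV i hi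
        exact ⟨F.obj.map g'.op t, by rw [germ_map, hq']; exact ht⟩
  obtain ⟨V, g, q, hq, hV⟩ := key Finset.univ
  choose s hs using fun i => hV i (Finset.mem_univ i)
  let A : (Fin r → Λ) →ₗ[Λ] F.obj.obj (op V) := Fintype.linearCombination Λ s
  have hA : ∀ v, germ F V ξ q (A v) = a (π v) := fun v =>
    LinearMap.congr_fun ((Pi.basisFun Λ (Fin r)).ext (f₁ := germ F V ξ q ∘ₗ A) (f₂ := a ∘ₗ π)
      fun i => by simp [A, Fintype.linearCombination_apply, Pi.single_apply, hs]) v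
  haveI : Module.Finite Λ (LinearMap.ker π) := Module.Finite.of_fg (IsNoetherian.noetherian _)
  obtain ⟨V', g', q', hq', hV'⟩ := exists_nhd_linear_eq ξ F q (A ∘ₗ (LinearMap.ker π).subtype) 0
    (fun m => by simp [hA, LinearMap.mem_ker.1 m.2])
  let B := (F.obj.map g'.op).hom ∘ₗ A
  have hB : LinearMap.ker π ≤ LinearMap.ker B := fun v hv => by
    simpa [B] using hV' ⟨v, hv⟩
  let e := LinearMap.quotKerEquivOfSurjective π hπ
  refine ⟨V', g' ≫ g, q', ((LinearMap.ker π).liftQ B hB) ∘ₗ e.symm.toLinearMap, by simp [hq', hq],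
    fun m => ?_⟩
  obtain ⟨v, rfl⟩ := hπ m
  have : e.symm (π v) = Submodule.Quotient.mk v := e.symm_apply_eq.2 rfl
  simp only [LinearMap.comp_apply, LinearEquiv.coe_coe, this, Submodule.liftQ_apply, B]
  change germ F V' ξ q' (F.obj.map g'.op (A v)) = _
  rw [germ_map, hq', hA]

end Stalks

section Pull

variable {Y : Scheme.{u}} (f : X ⟶ Y)

/-- Inverse images compose. -/
def pullComp {Z : Scheme.{u}} (g : Y ⟶ Z) :
    EtModW.pull Λ (f ≫ g) ≅ EtModW.pull Λ g ⋙ EtModW.pull Λ f :=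
  Adjunction.leftAdjointUniq (EtSix.pullPushModAdj Λ (f ≫ g))
    (((EtSix.pullPushModAdj Λ g).comp (EtSix.pullPushModAdj Λ f)).ofNatIsoRight
      (Functor.sheafPushforwardContinuousComp' (F := EtCoh.bc g) (G := EtCoh.bc f)
        (FG := EtCoh.bc (f ≫ g))
        ((MorphismProperty.Over.pullbackComp (P := EtCoh.etaleMP) (Q := ⊤) f g).symm :
          EtCoh.bc g ⋙ EtCoh.bc f ≅ EtCoh.bc (f ≫ g))
        (ModuleCat.{u + 1} Λ) Z.smallEtaleTopology Y.smallEtaleTopology X.smallEtaleTopology))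

/-- Charts pull back. -/
theorem isChart_pull {F : EtModW.Mod Λ Y} {U : Y.Etale} {M : Type (u + 1)} [AddCommGroup M]
    [Module Λ M] {φ : M →ₗ[Λ] F.obj.obj (op U)} (hφ : IsChart F U φ) :
    IsChart ((EtModW.pull Λ f).obj F) ((EtCoh.bc f).obj U)
      ((((EtSix.pullPushModAdj Λ f).unit.app F).hom.app (op U)).hom ∘ₗ φ) := by
  let η := ((EtSix.pullPushModAdj Λ f).unit.app F).hom.app (op U)
  intro Ω _ _ ξ p'
  haveI : HasLimitsOfSize.{u, u} (ModuleCat.{u + 1} Λ) :=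
    hasLimitsOfSizeShrink.{u, u, u + 1, u + 1} _
  obtain ⟨p, rfl⟩ : ∃ p, PushStalk.liftPt f (rfl : ξ ≫ f = ξ ≫ f) U p = p' := by
    refine ⟨mkFiber (ξ ≫ f) U (fiberHom p' ≫ pullback.fst U.hom f)
      ((Category.assoc _ _ _).trans ((_ ≫= pullback.condition).trans
        ((Category.assoc _ _ _).symm.trans (congrArg (· ≫ f) (fiberHom_comp p'))))), ?_⟩
    apply Over.OverMorphism.ext
    apply pullback.hom_ext
    · exact pullback.lift_fst _ _ _
    · exact (pullback.lift_snd _ _ _).trans (fiberHom_comp p').symm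
  let k := UnitStalk.unitStalk.{u} f ξ (ModuleCat.{u + 1} Λ) F
  haveI : IsIso k := UnitStalk.isIso_unitStalk.{u} f ξ (ModuleCat.{u + 1} Λ) F
  have hk : ∀ s, k (germ F U (ξ ≫ f) p s) =
      germ ((EtModW.pull Λ f).obj F) _ ξ (PushStalk.liftPt f rfl U p) (η s) := by
    intro s
    refine (ConcreteCategory.comp_apply _ _ _).trans ?_
    refine (congrArg _ ((Scheme.pointSmallEtale (ξ ≫ f)).toPresheafFiber_naturality_apply
      ((EtSix.pullPushModAdj Λ f).unit.app F).hom U p s)).trans ?_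
    exact PushStalk.germTo_toPresheafFiber f (rfl : ξ ≫ f = ξ ≫ f) ((EtModW.pull Λ f).obj F) U p (η s)
  have hb := ((ConcreteCategory.isIso_iff_bijective k).1 inferInstance).comp (hφ Ω (ξ ≫ f) p)
  convert hb using 1
  funext m
  exact (hk (φ m)).symm

theorem exists_pt_bc {U : Y.Etale} (x : X) (h : ∃ v : U.left, U.hom.base v = f.base x) :
    ∃ v : ((EtCoh.bc f).obj U).left, ((EtCoh.bc f).obj U).hom.base v = x := by
  obtain ⟨v, hv⟩ := h
  obtain ⟨p, -⟩ := exists_fiber (geomPoint X x ≫ f) U v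
    (hv.trans (congrArg f.base (geomPoint_apply x default)).symm)
  refine ⟨fiberPt (PushStalk.liftPt f (rfl : geomPoint X x ≫ f = _) U p), ?_⟩
  exact (hom_fiberPt _).trans (geomPoint_apply x default)

/-- Inverse images preserve local constancy of finite type. -/
theorem isFTLocConst_pull {F : EtModW.Mod Λ Y} (hF : EtModW.IsFTLocConst Λ F) :
    EtModW.IsFTLocConst Λ ((EtModW.pull Λ f).obj F) := by
  rw [isFTLocConst_iff] at hF ⊢
  intro x
  obtain ⟨U, hU, M, _, _, _, φ, hφ⟩ := hF (f.base x)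
  exact ⟨(EtCoh.bc f).obj U, exists_pt_bc f x hU, M, inferInstance, inferInstance, inferInstance,
    _, isChart_pull f hφ⟩

end Pull

variable {F G : EtModW.Mod Λ X}

/-- Around a point, a morphism of locally constant sheaves comes from a map of modules. -/
theorem exists_common_chart (hF : EtModW.IsFTLocConst Λ F) (hG : EtModW.IsFTLocConst Λ G) (α : F ⟶ G)
    (x : X) : ∃ (W : X.Etale) (_ : ∃ w : W.left, W.hom.base w = x) (M N : Type (u + 1))
      (_ : AddCommGroup M) (_ : Module Λ M) (_ : Module.Finite Λ M) (_ : AddCommGroup N)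
      (_ : Module Λ N) (_ : Module.Finite Λ N) (φ : M →ₗ[Λ] F.obj.obj (op W))
      (ψ : N →ₗ[Λ] G.obj.obj (op W)) (a : M →ₗ[Λ] N),
      IsChart F W φ ∧ IsChart G W ψ ∧ ∀ m, α.hom.app (op W) (φ m) = ψ (a m) := by
  obtain ⟨U, ⟨v, hv⟩, M, _, _, _, φ, hφ⟩ := isFTLocConst_iff.1 hF x
  obtain ⟨U', ⟨v', hv'⟩, N, _, _, _, ψ, hψ⟩ := isFTLocConst_iff.1 hG x
  let ξ := geomPoint X x
  obtain ⟨p, -⟩ := exists_fiber ξ U v (hv.trans (geomPoint_apply x default).symm)
  obtain ⟨p', -⟩ := exists_fiber ξ U' v' (hv'.trans (geomPoint_apply x default).symm)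
  obtain ⟨W, b, b', w, -, -⟩ := LocConst.exists_min p p'
  let φ' := (F.obj.map b.op).hom ∘ₗ φ
  let ψ' := (G.obj.map b'.op).hom ∘ₗ ψ
  let eN := LinearEquiv.ofBijective (germ G W ξ w ∘ₗ ψ') ((hψ.restrict b') _ ξ w)
  let a : M →ₗ[Λ] N := eN.symm.toLinearMap ∘ₗ ((Scheme.pointSmallEtale ξ).sheafFiber.map α).hom ∘ₗ
    germ F W ξ w ∘ₗ φ'
  obtain ⟨V, g, q, -, hV⟩ := exists_nhd_linear_eq ξ G w ((α.hom.app (op W)).hom ∘ₗ φ') (ψ' ∘ₗ a)
    (fun m => (germ_naturality α W ξ w (φ' m)).symm.trans (eN.apply_symm_apply _).symm)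
  refine ⟨V, ⟨fiberPt q, (hom_fiberPt q).trans (geomPoint_apply x default)⟩, M, N, inferInstance,
    inferInstance, inferInstance, inferInstance, inferInstance, inferInstance,
    (F.obj.map g.op).hom ∘ₗ φ', (G.obj.map g.op).hom ∘ₗ ψ', a,
    (hφ.restrict b).restrict g, (hψ.restrict b').restrict g, fun m => ?_⟩
  exact (NatTrans.naturality_apply α.hom g.op (φ' m)).trans (hV m)

theorem ev_lift {K : EtModW.Mod Λ X} (ι : K ⟶ F) {W : X.Etale} (t : K.obj.obj (op W)) :
    ι.hom.app (op W) t = Free.ev (Free.ev.symm t ≫ ι) := by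
  rw [Free.ev_comp, Equiv.apply_symm_apply]

theorem app_injective {K : EtModW.Mod Λ X} (ι : K ⟶ F) [Mono ι] (W : X.Etale) :
    Function.Injective (ι.hom.app (op W)) := by
  intro s t h
  rw [ev_lift, ev_lift] at h
  exact Free.ev.symm.injective ((cancel_mono ι).1 (Free.ev.injective h))

/-- The kernel. -/
theorem isFTLocConst_kernel [IsNoetherianRing Λ] (hF : EtModW.IsFTLocConst Λ F)
    (hG : EtModW.IsFTLocConst Λ G) (α : F ⟶ G) : EtModW.IsFTLocConst Λ (kernel α) := by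
  refine isFTLocConst_iff.2 fun x => ?_
  obtain ⟨W, hW, M, N, _, _, _, _, _, _, φ, ψ, a, hφ, hψ, hcomm⟩ := exists_common_chart hF hG α x
  haveI : Module.Finite Λ (LinearMap.ker a) := Module.Finite.of_fg (IsNoetherian.noetherian _)
  let ι := ((kernel.ι α).hom.app (op W)).hom
  have hι : Function.Injective ι := app_injective (kernel.ι α) W
  have hmem : ∀ m : LinearMap.ker a, φ m ∈ LinearMap.range ι := by
    intro m
    have h0 : Free.ev.symm (φ m) ≫ α = 0 := by
      apply Free.ev.injective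
      rw [Free.ev_comp, Equiv.apply_symm_apply, Free.ev_zero, hcomm, LinearMap.mem_ker.1 m.2, map_zero]
    refine ⟨Free.ev (kernel.lift α _ h0), ?_⟩
    change (kernel.ι α).hom.app (op W) _ = _
    rw [← Free.ev_comp, kernel.lift_ι, Equiv.apply_symm_apply]
  let χ : LinearMap.ker a →ₗ[Λ] (kernel α).obj.obj (op W) :=
    (LinearEquiv.ofInjective ι hι).symm.toLinearMap ∘ₗ
      LinearMap.codRestrict (LinearMap.range ι) (φ ∘ₗ (LinearMap.ker a).subtype) hmem
  have hχ : ∀ m, ι (χ m) = φ m := fun m =>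
    congrArg Subtype.val ((LinearEquiv.ofInjective ι hι).apply_symm_apply
      (LinearMap.codRestrict (LinearMap.range ι) (φ ∘ₗ (LinearMap.ker a).subtype) hmem m))
  refine ⟨W, hW, LinearMap.ker a, inferInstance, inferInstance, inferInstance, χ,
    fun Ω _ _ ξ p => ⟨fun m m' h => ?_, fun z => ?_⟩⟩
  · have h2 : germ F W ξ p (φ m) = germ F W ξ p (φ m') := by
      rw [← hχ, ← hχ]
      refine (germ_naturality (kernel.ι α) W ξ p _).symm.trans ?_
      refine Eq.trans ?_ (germ_naturality (kernel.ι α) W ξ p _)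
      exact congrArg _ h
    exact Subtype.ext ((hφ Ω ξ p).1 h2)
  · obtain ⟨m, hm⟩ := (hφ Ω ξ p).2 ((Scheme.pointSmallEtale ξ).sheafFiber.map (kernel.ι α) z)
    have hmem' : a m = 0 := (hψ Ω ξ p).1 (by
      change germ G W ξ p (ψ (a m)) = germ G W ξ p (ψ 0)
      rw [← hcomm, ← germ_naturality, map_zero, map_zero]
      refine (congrArg _ hm).trans ?_
      exact stalk_comp_zero ξ (S := ShortComplex.mk _ _ (kernel.condition α)) z)
    refine ⟨⟨m, hmem'⟩, stalk_map_injective ξ (kernel.ι α) ?_⟩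
    refine (germ_naturality (kernel.ι α) W ξ p _).trans ?_
    exact (congrArg _ (hχ ⟨m, hmem'⟩)).trans hm

/-- The cokernel. -/
theorem isFTLocConst_cokernel (hF : EtModW.IsFTLocConst Λ F)
    (hG : EtModW.IsFTLocConst Λ G) (α : F ⟶ G) : EtModW.IsFTLocConst Λ (cokernel α) := by
  refine isFTLocConst_iff.2 fun x => ?_
  obtain ⟨W, hW, M, N, _, _, _, _, _, _, φ, ψ, a, hφ, hψ, hcomm⟩ := exists_common_chart hF hG α x
  let π := ((cokernel.π α).hom.app (op W)).hom
  have hker : LinearMap.range a ≤ LinearMap.ker (π ∘ₗ ψ) := by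
    rintro _ ⟨m, rfl⟩
    rw [LinearMap.mem_ker, LinearMap.comp_apply, ← hcomm]
    exact ConcreteCategory.congr_hom (congrArg (fun k => k.hom.app (op W)) (cokernel.condition α)) (φ m)
  refine ⟨W, hW, N ⧸ LinearMap.range a, inferInstance, inferInstance, inferInstance,
    (LinearMap.range a).liftQ (π ∘ₗ ψ) hker, fun Ω _ _ ξ p => ⟨?_, fun z => ?_⟩⟩
  · change Function.Injective ⇑(germ (cokernel α) W ξ p ∘ₗ (LinearMap.range a).liftQ (π ∘ₗ ψ) hker)
    rw [← LinearMap.ker_eq_bot]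
    refine Submodule.eq_bot_iff _ |>.2 fun c hc => ?_
    obtain ⟨n, rfl⟩ := Submodule.Quotient.mk_surjective _ c
    have hn : (Scheme.pointSmallEtale ξ).sheafFiber.map (cokernel.π α) (germ G W ξ p (ψ n)) = 0 := by
      rw [germ_naturality]; exact hc
    obtain ⟨y, hy⟩ := stalk_exact ξ (ShortComplex.exact_of_g_is_cokernel
      (ShortComplex.mk _ _ (cokernel.condition α)) (cokernelIsCokernel α)) _ hn
    obtain ⟨m, hm⟩ := (hφ Ω ξ p).2 y
    have : n = a m := (hψ Ω ξ p).1 (by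
      change germ G W ξ p (ψ n) = germ G W ξ p (ψ (a m))
      rw [← hy, ← hm, ← hcomm]
      exact germ_naturality α W ξ p (φ m))
    exact (Submodule.Quotient.mk_eq_zero _).2 ⟨m, this.symm⟩
  · obtain ⟨y, rfl⟩ := stalk_map_surjective ξ (cokernel.π α) z
    obtain ⟨n, rfl⟩ := (hψ Ω ξ p).2 y
    exact ⟨Submodule.Quotient.mk n, (germ_naturality (cokernel.π α) W ξ p (ψ n)).symm⟩

/-- Extensions. -/
theorem isFTLocConst_ext [IsNoetherianRing Λ] {S : ShortComplex (EtModW.Mod Λ X)} (hS : S.ShortExact)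
    (h₁ : EtModW.IsFTLocConst Λ S.X₁) (h₃ : EtModW.IsFTLocConst Λ S.X₃) :
    EtModW.IsFTLocConst Λ S.X₂ := by
  haveI := hS.mono_f
  haveI := hS.epi_g
  refine isFTLocConst_iff.2 fun x => ?_
  obtain ⟨U, ⟨v, hv⟩, A, _, _, _, φ, hφ⟩ := isFTLocConst_iff.1 h₁ x
  obtain ⟨U', ⟨v', hv'⟩, C, _, _, _, χ, hχ⟩ := isFTLocConst_iff.1 h₃ x
  let ξ := geomPoint X x
  obtain ⟨p, -⟩ := exists_fiber ξ U v (hv.trans (geomPoint_apply x default).symm)
  obtain ⟨p', -⟩ := exists_fiber ξ U' v' (hv'.trans (geomPoint_apply x default).symm)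
  obtain ⟨W, b, b', w, -, -⟩ := LocConst.exists_min p p'
  let φ₁ := (S.X₁.obj.map b.op).hom ∘ₗ φ
  let χ₁ := (S.X₃.obj.map b'.op).hom ∘ₗ χ
  let eA := LinearEquiv.ofBijective (germ S.X₁ W ξ w ∘ₗ φ₁) ((hφ.restrict b) _ ξ w)
  let eC := LinearEquiv.ofBijective (germ S.X₃ W ξ w ∘ₗ χ₁) ((hχ.restrict b') _ ξ w)
  let iξ := ((Scheme.pointSmallEtale ξ).sheafFiber.map S.f).hom
  let πξ := ((Scheme.pointSmallEtale ξ).sheafFiber.map S.g).hom
  let B : Type (u + 1) := ↥((Scheme.pointSmallEtale ξ).sheafFiber.obj S.X₂)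
  haveI : Module.Finite Λ B := by
    haveI : Module.Finite Λ (LinearMap.range (iξ ∘ₗ eA.toLinearMap)) := Module.Finite.range _
    refine ⟨Submodule.fg_of_fg_map_of_fg_inf_ker πξ ?_ ?_⟩
    · rw [Submodule.map_top]
      haveI : Module.Finite Λ ↥((Scheme.pointSmallEtale ξ).sheafFiber.obj S.X₃) :=
        Module.Finite.equiv eC
      exact IsNoetherian.noetherian _
    · rw [top_inf_eq]
      have : LinearMap.ker πξ = LinearMap.range (iξ ∘ₗ eA.toLinearMap) := by
        rw [LinearEquiv.range_comp]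
        refine le_antisymm (fun z hz => ?_) ?_
        · exact stalk_exact ξ hS.exact z hz
        · rintro _ ⟨y, rfl⟩
          exact stalk_comp_zero ξ y
      rw [this]
      exact Module.Finite.iff_fg.1 inferInstance
  obtain ⟨V, g, q, L, hq, hL⟩ := exists_lift_linear ξ S.X₂ w (LinearMap.id : B →ₗ[Λ] B)
  let φ₂ := (S.X₁.obj.map g.op).hom ∘ₗ φ₁
  let χ₂ := (S.X₃.obj.map g.op).hom ∘ₗ χ₁
  let a : A →ₗ[Λ] B := iξ ∘ₗ eA.toLinearMap
  let c : B →ₗ[Λ] C := eC.symm.toLinearMap ∘ₗ πξ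
  have hgA : ∀ m, germ S.X₁ V ξ q (φ₂ m) = eA m := fun m => by
    change germ S.X₁ V ξ q (S.X₁.obj.map g.op (φ₁ m)) = _
    rw [germ_map, hq]; rfl
  have hgC : ∀ m, germ S.X₃ V ξ q (χ₂ m) = eC m := fun m => by
    change germ S.X₃ V ξ q (S.X₃.obj.map g.op (χ₁ m)) = _
    rw [germ_map, hq]; rfl
  obtain ⟨V₁, g₁, q₁, hq₁, hV₁⟩ := exists_nhd_linear_eq ξ S.X₂ q ((S.f.hom.app (op V)).hom ∘ₗ φ₂)
    (L ∘ₗ a) (fun m => by
      refine (germ_naturality S.f V ξ q (φ₂ m)).symm.trans ?_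
      exact (congrArg _ (hgA m)).trans (hL (a m)).symm)
  let L₁ := (S.X₂.obj.map g₁.op).hom ∘ₗ L
  obtain ⟨V₂, g₂, q₂, -, hV₂⟩ := exists_nhd_linear_eq ξ S.X₃ q₁ ((S.g.hom.app (op V₁)).hom ∘ₗ L₁)
    ((S.X₃.obj.map g₁.op).hom ∘ₗ χ₂ ∘ₗ c) (fun m => by
      refine (germ_naturality S.g V₁ ξ q₁ (L₁ m)).symm.trans ?_
      change (Scheme.pointSmallEtale ξ).sheafFiber.map S.g (germ S.X₂ V₁ ξ q₁ (S.X₂.obj.map g₁.op (L m))) =
        germ S.X₃ V₁ ξ q₁ (S.X₃.obj.map g₁.op (χ₂ (c m)))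
      rw [germ_map, germ_map, hq₁, hgC, hL]
      exact (eC.apply_symm_apply _).symm)
  let φ₃ := (S.X₁.obj.map g₂.op).hom ∘ₗ (S.X₁.obj.map g₁.op).hom ∘ₗ φ₂
  let χ₃ := (S.X₃.obj.map g₂.op).hom ∘ₗ (S.X₃.obj.map g₁.op).hom ∘ₗ χ₂
  let L₂ := (S.X₂.obj.map g₂.op).hom ∘ₗ L₁
  have hφ₃ : IsChart S.X₁ V₂ φ₃ := (((hφ.restrict b).restrict g).restrict g₁).restrict g₂
  have hχ₃ : IsChart S.X₃ V₂ χ₃ := (((hχ.restrict b').restrict g).restrict g₁).restrict g₂
  have ci : ∀ m, S.f.hom.app (op V₂) (φ₃ m) = L₂ (a m) := fun m => by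
    refine (NatTrans.naturality_apply S.f.hom g₂.op _).trans ?_
    refine congrArg _ ?_
    exact (NatTrans.naturality_apply S.f.hom g₁.op _).trans (hV₁ m)
  have cp : ∀ m, S.g.hom.app (op V₂) (L₂ m) = χ₃ (c m) := fun m =>
    (NatTrans.naturality_apply S.g.hom g₂.op _).trans (hV₂ m)
  refine ⟨V₂, ⟨fiberPt q₂, (hom_fiberPt q₂).trans (geomPoint_apply x default)⟩, B, inferInstance,
    inferInstance, inferInstance, L₂, fun Ω _ _ η r => ?_⟩
  have ki : ∀ m, germ S.X₂ V₂ η r (L₂ (a m)) =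
      (Scheme.pointSmallEtale η).sheafFiber.map S.f (germ S.X₁ V₂ η r (φ₃ m)) := fun m => by
    rw [germ_naturality, ci]
  have kp : ∀ m, (Scheme.pointSmallEtale η).sheafFiber.map S.g (germ S.X₂ V₂ η r (L₂ m)) =
      germ S.X₃ V₂ η r (χ₃ (c m)) := fun m => by
    rw [germ_naturality, cp]
  refine ⟨?_, fun z => ?_⟩
  · change Function.Injective ⇑(germ S.X₂ V₂ η r ∘ₗ L₂)
    rw [← LinearMap.ker_eq_bot]
    refine Submodule.eq_bot_iff _ |>.2 fun m (hm : germ S.X₂ V₂ η r (L₂ m) = 0) => ?_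
    have hc : c m = 0 := (hχ₃ Ω η r).1 (by
      change germ S.X₃ V₂ η r (χ₃ (c m)) = germ S.X₃ V₂ η r (χ₃ 0)
      rw [← kp, hm, map_zero, map_zero, map_zero])
    have hπ : πξ m = 0 := eC.symm.injective (hc.trans (map_zero _).symm)
    obtain ⟨y, hy⟩ := stalk_exact ξ hS.exact m hπ
    obtain ⟨m', rfl⟩ := eA.surjective y
    have hm' : m = a m' := hy.symm
    subst hm'
    rw [ki] at hm
    have : m' = 0 := (hφ₃ Ω η r).1 (by
      change germ S.X₁ V₂ η r (φ₃ m') = germ S.X₁ V₂ η r (φ₃ 0)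
      rw [map_zero, map_zero]
      exact stalk_map_injective η S.f (hm.trans (map_zero _).symm))
    rw [this, map_zero]
  · obtain ⟨k, hk⟩ := (hχ₃ Ω η r).2 ((Scheme.pointSmallEtale η).sheafFiber.map S.g z)
    obtain ⟨y, hy⟩ := stalk_map_surjective ξ S.g (eC k)
    have hc : c y = k := (congrArg eC.symm hy).trans (eC.symm_apply_apply k)
    obtain ⟨w', hw'⟩ := stalk_exact η hS.exact (z - germ S.X₂ V₂ η r (L₂ y)) (by
      rw [map_sub, kp, hc, sub_eq_zero]; exact hk.symm)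
    obtain ⟨m, hm⟩ := (hφ₃ Ω η r).2 w'
    refine ⟨y + a m, ?_⟩
    change germ S.X₂ V₂ η r (L₂ (y + a m)) = z
    rw [map_add, map_add, ki]
    refine (congrArg (_ + ·) ((congrArg _ hm).trans hw')).trans ?_
    abel

end Groth.Agent.H88.EtMod.LCOps
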