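import Groth.Agent.H88.EtMod.Specialize
import Groth.Agent.H88.EtMod.LCOps
import Groth.Agent.Lib.EtSite.Stalk

/-!
Germs of constant sheaves and their subsheaves on irreducible schemes.
-/

set_option autoImplicit false
set_option linter.style.haveILetI false

universe u

open CategoryTheory CategoryTheory.Limits AlgebraicGeometry Opposite

noncomputable section

namespace Groth.Agent.H88.EtMod.ConstGerm

open Groth.Agent.Lib.EtSite Groth.Agent.Lib.EtSite.Basic LCChart Specialize

variable {Λ : Type (u + 1)} [CommRing Λ] {X : Scheme.{u}}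

/-- The constant presheaf. -/
abbrev pre (X : Scheme.{u}) (M : ModuleCat.{u + 1} Λ) : X.Etaleᵒᵖ ⥤ ModuleCat.{u + 1} Λ :=
  (Functor.const X.Etaleᵒᵖ).obj M

/-- Constant sections of the constant sheaf. -/
abbrev sec (M : ModuleCat.{u + 1} Λ) (U : X.Etale) :
    M ⟶ ((constantSheaf X.smallEtaleTopology (ModuleCat.{u + 1} Λ)).obj M).obj.obj (op U) :=
  (toSheafify X.smallEtaleTopology (pre X M)).app (op U)

variable {Ω : Type u} [Field Ω] [IsSepClosed Ω] (ξ : Spec (CommRingCat.of Ω) ⟶ X)

theorem germ_sec (M : ModuleCat.{u + 1} Λ) {U : X.Etale} (p : (Scheme.pointSmallEtale ξ).fiber.obj U) (m : M) :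
    germ ((constantSheaf X.smallEtaleTopology (ModuleCat.{u + 1} Λ)).obj M) U ξ p (sec M U m) =
      (Scheme.pointSmallEtale ξ).presheafFiber.map (toSheafify X.smallEtaleTopology (pre X M))
        ((Scheme.pointSmallEtale ξ).toPresheafFiber U p (pre X M) m) :=
  ((Scheme.pointSmallEtale ξ).toPresheafFiber_naturality_apply (toSheafify X.smallEtaleTopology (pre X M)) U p m).symm

theorem bijective_fiber_toSheafify (M : ModuleCat.{u + 1} Λ) :
    Function.Bijective ((Scheme.pointSmallEtale ξ).presheafFiber.map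
      (toSheafify X.smallEtaleTopology (pre X M))) := by
  haveI : HasColimitsOfSize.{u, u} (ModuleCat.{u + 1} Λ) :=
    hasColimitsOfSizeShrink.{u, u, u + 1, u + 1} _
  exact (Scheme.pointSmallEtale ξ).toPresheafFiber_map_bijective _

theorem injective_germ_sec (M : ModuleCat.{u + 1} Λ) {U : X.Etale}
    (p : (Scheme.pointSmallEtale ξ).fiber.obj U) :
    Function.Injective fun m : M =>
      germ ((constantSheaf X.smallEtaleTopology (ModuleCat.{u + 1} Λ)).obj M) U ξ p (sec M U m) := by
  intro m m' h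
  simp only [germ_sec] at h
  obtain ⟨W, g, q, -, he⟩ := ((Scheme.pointSmallEtale ξ).toPresheafFiber_eq_iff' (P := pre X M) U p m m').1
    ((bijective_fiber_toSheafify ξ M).1 h)
  exact he

theorem surjective_germ_sec (M : ModuleCat.{u + 1} Λ) (p : (Scheme.pointSmallEtale ξ).fiber.obj (EtCoh.top X)) :
    Function.Surjective fun m : M =>
      germ ((constantSheaf X.smallEtaleTopology (ModuleCat.{u + 1} Λ)).obj M) (EtCoh.top X) ξ p
        (sec M (EtCoh.top X) m) := by
  intro z
  obtain ⟨y, rfl⟩ := (bijective_fiber_toSheafify ξ M).2 z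
  obtain ⟨W, q, m, rfl⟩ := (Scheme.pointSmallEtale ξ).toPresheafFiber_jointly_surjective (P := pre X M) y
  refine ⟨m, ?_⟩
  simp only [germ_sec]
  congr 1
  let g : W ⟶ EtCoh.top X := MorphismProperty.Over.homMk W.hom (Category.comp_id _)
  haveI : Subsingleton ((Scheme.pointSmallEtale ξ).fiber.obj (EtCoh.top X)) :=
    ⟨fun a b => Over.OverMorphism.ext (((Category.comp_id _).symm.trans (fiberHom_comp a)).trans
      ((Category.comp_id _).symm.trans (fiberHom_comp b)).symm)⟩
  rw [← Subsingleton.elim ((Scheme.pointSmallEtale ξ).fiber.map g q) p]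
  exact (GrothendieckTopology.Point.toPresheafFiber_w_apply _ g q (pre X M) m).symm

theorem sec_naturality {M N : ModuleCat.{u + 1} Λ} (f : M ⟶ N) (U : X.Etale) (m : M) :
    ((constantSheaf X.smallEtaleTopology (ModuleCat.{u + 1} Λ)).map f).hom.app (op U) (sec M U m) =
      sec N U (f m) :=
  (ConcreteCategory.congr_hom (NatTrans.congr_app
    (toSheafify_naturality X.smallEtaleTopology ((Functor.const X.Etaleᵒᵖ).map f)) (op U)) m).symm

theorem isIso_of_generic [IrreducibleSpace ↥X] (hξ : ξ.base default = genericPoint ↥X)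
    {M : Type (u + 1)} [AddCommGroup M] [Module Λ M] (M' : Submodule Λ M) (G : EtModW.Mod Λ X)
    (a : EtModW.constMod Λ X ↥M' ⟶ G) (b : G ⟶ EtModW.constMod Λ X M) [Mono a] [Mono b]
    (hab : a ≫ b = (constantSheaf X.smallEtaleTopology (ModuleCat.{u + 1} Λ)).map (ModuleCat.ofHom M'.subtype))
    (hst : IsIso ((EtModW.stalk Λ ξ).map a)) : IsIso a := by
  haveI := LCOps.hasLimits_small (Λ := Λ)
  haveI : HasColimitsOfSize.{u, u} (ModuleCat.{u + 1} Λ) :=
    hasColimitsOfSizeShrink.{u, u, u + 1, u + 1} _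
  have key : ∀ {Ω : Type u} [Field Ω] [IsSepClosed Ω] (ζ : Spec (CommRingCat.of Ω) ⟶ X)
      (p : (Scheme.pointSmallEtale ζ).fiber.obj (EtCoh.top X)) (m : ↥M'),
      (Scheme.pointSmallEtale ζ).sheafFiber.map b ((Scheme.pointSmallEtale ζ).sheafFiber.map a
        (germ _ _ ζ p (sec (ModuleCat.of Λ ↥M') (EtCoh.top X) m))) =
      germ (EtModW.constMod Λ X M) _ ζ p (sec (ModuleCat.of Λ M) (EtCoh.top X) (m : M)) := by
    intro Ω _ _ ζ p m
    rw [← ConcreteCategory.comp_apply, ← Functor.map_comp, hab, germ_naturality]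
    exact congrArg _ (sec_naturality (ModuleCat.ofHom M'.subtype) (EtCoh.top X) m)
  haveI : Epi a := Stalk.epi_of_stalks a (Stalk.enoughPts_pt fun x => by
    intro z
    obtain ⟨p, -⟩ := exists_fiber (geomPoint X x) (EtCoh.top X) _ rfl
    obtain ⟨p', -⟩ := exists_fiber ξ (EtCoh.top X) _ rfl
    obtain ⟨m, hm⟩ := surjective_germ_sec (geomPoint X x) (ModuleCat.of Λ M) p
      ((Scheme.pointSmallEtale (geomPoint X x)).sheafFiber.map b z)
    obtain ⟨φ, hφ⟩ := exists_hom (ξ' := ξ) p p' (by
      rw [show fiberPt p' = ξ.base default from (hom_fiberPt p').trans (congrArg _ (Subsingleton.elim _ _)),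
        hξ]
      exact @genericPoint_specializes ↥X _ _ _ _)
    let Ψ := GrothendieckTopology.Point.Hom.sheafFiber (A := ModuleCat.{u + 1} Λ) φ
    obtain ⟨w, hw⟩ := ((ConcreteCategory.isIso_iff_bijective _).1 hst).2 (Ψ.app G z)
    obtain ⟨m', rfl⟩ := surjective_germ_sec ξ (ModuleCat.of Λ ↥M') p' w
    have h₁ : germ (EtModW.constMod Λ X M) _ ξ p' (sec (ModuleCat.of Λ M) (EtCoh.top X) (m' : M)) =
        germ (EtModW.constMod Λ X M) _ ξ p' (sec (ModuleCat.of Λ M) (EtCoh.top X) m) := by
      rw [← key, ← hφ]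
      refine Eq.trans ?_ ((congrArg _ hm.symm).trans (germ_sheafFiber p (EtModW.constMod Λ X M) φ _))
      rw [hφ]
      exact (congrArg _ hw).trans (NatTrans.naturality_apply Ψ b z).symm
    have hmm : (m' : M) = m := injective_germ_sec ξ (ModuleCat.of Λ M) p' h₁
    refine ⟨germ _ _ (geomPoint X x) p (sec (ModuleCat.of Λ ↥M') (EtCoh.top X) m'),
      LCOps.stalk_map_injective _ b ?_⟩
    rw [key, hmm]
    exact hm)
  exact isIso_of_mono_of_epi a

end Groth.Agent.H88.EtMod.ConstGerm
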