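import Groth.Prelude.Def_EtModD2
import Mathlib.CategoryTheory.Sites.Monoidal
import Mathlib.CategoryTheory.Adjunction.Restrict
import Mathlib.CategoryTheory.Adjunction.Whiskering

/-!
The tensor product of étale sheaves of `Λ`-modules: sheafification is compatible with it, and
each `F ⊗ -` has a right adjoint.
-/

universe u

open CategoryTheory CategoryTheory.Limits MonoidalCategory AlgebraicGeometry Opposite
open MonoidalClosed.FunctorCategory

namespace Groth.Agent.H88.EtMod.Tensor

variable {Λ : Type (u + 1)} [CommRing Λ] {X : Scheme.{u}}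


theorem wMonoidal : (X.smallEtaleTopology.W (A := ModuleCat.{u + 1} Λ)).IsMonoidal := inferInstance

/-- The internal Hom of sheaves. -/
noncomputable def ihomSheaf (F : EtModW.Mod Λ X) : EtModW.Mod Λ X ⥤ EtModW.Mod Λ X :=
  ObjectProperty.lift _ (sheafToPresheaf X.smallEtaleTopology _ ⋙ ihom F.obj)
    (fun G => Presheaf.isSheaf_functorEnrichedHom F.obj G.obj G.property)

/-- `F ⊗ - ⊣ ihomSheaf F`. -/
noncomputable def tensorAdj (F : EtModW.Mod Λ X) :
    (EtModD.tensorBi Λ X).obj F ⊣ ihomSheaf F :=
  ((ihom.adjunction F.obj).comp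
      (sheafificationAdjunction X.smallEtaleTopology (ModuleCat.{u + 1} Λ))).restrictFullyFaithful
    (fullyFaithfulSheafToPresheaf _ _) (Functor.FullyFaithful.id _)
    (NatIso.ofComponents (fun _ => Iso.refl _))
    (NatIso.ofComponents (fun _ => Iso.refl _))

instance hasSheafHom (F : EtModW.Mod Λ X) : EtModD.HasSheafHom F := (tensorAdj F).isLeftAdjoint

instance preservesColimits_tensor (F : EtModW.Mod Λ X) :
    PreservesColimitsOfSize.{u + 1, u + 1} ((EtModD.tensorBi Λ X).obj F) :=
  (tensorAdj F).leftAdjoint_preservesColimits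

/-- Symmetry of the tensor product. -/
noncomputable def flipIso : (EtModD.tensorBi Λ X).flip ≅ EtModD.tensorBi Λ X :=
  NatIso.ofComponents (fun F => NatIso.ofComponents
    (fun G => (presheafToSheaf X.smallEtaleTopology _).mapIso (β_ G.obj F.obj))
    (fun {G G'} g => by
      change (presheafToSheaf X.smallEtaleTopology _).map (g.hom ▷ F.obj) ≫ (presheafToSheaf X.smallEtaleTopology _).map (β_ G'.obj F.obj).hom =
        (presheafToSheaf X.smallEtaleTopology _).map (β_ G.obj F.obj).hom ≫ (presheafToSheaf X.smallEtaleTopology _).map (F.obj ◁ g.hom)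
      rw [← Functor.map_comp, ← Functor.map_comp, BraidedCategory.braiding_naturality_left]))
    (fun {F F'} f => by
      apply NatTrans.ext
      funext G
      change (presheafToSheaf X.smallEtaleTopology _).map (G.obj ◁ f.hom) ≫ (presheafToSheaf X.smallEtaleTopology _).map (β_ G.obj F'.obj).hom =
        (presheafToSheaf X.smallEtaleTopology _).map (β_ G.obj F.obj).hom ≫ (presheafToSheaf X.smallEtaleTopology _).map (f.hom ▷ G.obj)
      rw [← Functor.map_comp, ← Functor.map_comp, BraidedCategory.braiding_naturality_right])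

instance preservesColimits_tensor_flip (F : EtModW.Mod Λ X) :
    PreservesColimitsOfSize.{u + 1, u + 1} ((EtModD.tensorBi Λ X).flip.obj F) :=
  preservesColimits_of_natIso (flipIso.app F).symm

/-- Tensoring is compatible with sheafification of the left factor. -/
noncomputable def tensorSheafifyIso (P : X.Etaleᵒᵖ ⥤ ModuleCat.{u + 1} Λ) (G : EtModW.Mod Λ X) :
    ((EtModD.tensorBi Λ X).obj ((presheafToSheaf X.smallEtaleTopology _).obj P)).obj G ≅
      (presheafToSheaf X.smallEtaleTopology _).obj (P ⊗ G.obj) :=
  haveI := GrothendieckTopology.W_iff (J := X.smallEtaleTopology) ((toSheafify X.smallEtaleTopology P) ▷ G.obj)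
    |>.1 (GrothendieckTopology.W.whiskerRight (X.smallEtaleTopology.W_toSheafify P) G.obj)
  (asIso ((presheafToSheaf X.smallEtaleTopology _).map ((toSheafify X.smallEtaleTopology P) ▷ G.obj))).symm

/-- Tensoring with the sheafification of a presheaf, as a functor. -/
noncomputable def tensorSheafifyNatIso (P : X.Etaleᵒᵖ ⥤ ModuleCat.{u + 1} Λ) :
    (EtModD.tensorBi Λ X).obj ((presheafToSheaf X.smallEtaleTopology _).obj P) ≅
      sheafToPresheaf X.smallEtaleTopology _ ⋙ tensorLeft P ⋙ presheafToSheaf X.smallEtaleTopology (ModuleCat.{u + 1} Λ) :=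
  NatIso.ofComponents (fun G => tensorSheafifyIso P G) (fun {G G'} g => by
    simp only [tensorSheafifyIso, Iso.symm_hom, asIso_inv]
    erw [IsIso.comp_inv_eq, Category.assoc, IsIso.eq_inv_comp]
    change (presheafToSheaf X.smallEtaleTopology _).map (toSheafify X.smallEtaleTopology P ▷ G.obj) ≫ (presheafToSheaf X.smallEtaleTopology _).map (_ ◁ g.hom) =
      (presheafToSheaf X.smallEtaleTopology _).map (P ◁ g.hom) ≫ (presheafToSheaf X.smallEtaleTopology _).map (toSheafify X.smallEtaleTopology P ▷ G'.obj)
    rw [← Functor.map_comp, ← Functor.map_comp, whisker_exchange])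

end Groth.Agent.H88.EtMod.Tensor
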