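import Groth.Agent.H88.EtMod.ConstNormal
import Groth.Agent.H61.FieldCoh.Efface
import Groth.Agent.Lib.Unram.UnibranchEtale
import Groth.Agent.Lib.EtJ.PullExact

/-!
`H¹` of constant torsion-free sheaves on geometrically unibranch irreducible schemes.
-/

set_option autoImplicit false
set_option linter.style.haveILetI false

universe u

open CategoryTheory CategoryTheory.Limits CategoryTheory.Abelian AlgebraicGeometry Opposite

noncomputable section

namespace Groth.Agent.H88.EtMod.ConstTorsionFree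

open Groth.Agent.Lib.EtSite Groth.Agent.Lib.EtSite.Basic ConstNormal

section Inj

variable {X Y : Scheme.{u}} (f : Y ⟶ X) [PreservesFiniteLimits (EtCoh.pull f)]

/-- If `F = f_* f⁻¹ F` then pull-back is injective on `H¹`. -/
theorem eq_zero_of_Hpull_eq_zero (F : EtCoh.Ab X) [IsIso ((EtCoh.pullPushAdj f).unit.app F)]
    (e : EtCoh.H X F 1) (h : EtCore.Hpull f F 1 e = 0) : e = 0 := by
  haveI : PreservesColimitsOfSize.{0, 0} (EtCoh.pull f) := (EtCoh.pullPushAdj f).leftAdjoint_preservesColimits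
  haveI : PreservesFiniteColimits (EtCoh.pull f) := PreservesColimitsOfSize.preservesFiniteColimits _
  let S : ShortComplex (EtCoh.Ab X) :=
    ShortComplex.mk (Injective.ι F) (cokernel.π (Injective.ι F)) (cokernel.condition _)
  have hS : S.ShortExact := { exact := ShortComplex.exact_of_g_is_cokernel _ (cokernelIsCokernel _) }
  haveI : Subsingleton (Ext.{u + 1} (EtCoh.const X ℤ) S.X₂ 1) := by
    haveI : Injective S.X₂ := inferInstanceAs (Injective (Injective.under F))
    exact subsingleton_of_forall_eq 0 fun a => Ext.eq_zero_of_injective a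
  obtain ⟨x, hx⟩ := Ext.covariant_sequence_exact₁ (EtCoh.const X ℤ) hS e (Subsingleton.elim _ _) (zero_add 1)
  obtain ⟨φ, rfl⟩ := (Ext.mk₀_bijective _ _).2 x
  let hS' := hS.map_of_exact (EtCoh.pull f)
  haveI := hS'.mono_f
  have h1 : (Ext.mk₀ ((EtCoh.pull f).map φ)).comp hS'.extClass (zero_add 1) = 0 := by
    have h2 : ((EtCoh.pull f).mapExtAddHom _ _ 1) e = 0 := by
      have h3 := congrArg (fun t => (Ext.mk₀ (EtCore.pullConst f ℤ).hom).comp t (zero_add 1)) h
      simpa [EtCore.Hpull, Ext.mk₀_comp_mk₀_assoc] using h3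
    rw [← hx] at h2
    simp [Ext.mapExactFunctor_comp, Ext.mapExactFunctor_mk₀, Ext.mapExactFunctor_extClass] at h2
    exact h2
  obtain ⟨y, hy⟩ := Ext.covariant_sequence_exact₃ _ hS' (Ext.mk₀ ((EtCoh.pull f).map φ)) (zero_add 1) h1
  obtain ⟨l₀, rfl⟩ := (Ext.mk₀_bijective _ _).2 y
  rw [Ext.mk₀_comp_mk₀] at hy
  let l : (EtCoh.pull f).obj (EtCoh.const X ℤ) ⟶ (EtCoh.pull f).obj (Injective.under F) := l₀
  have hl : l ≫ (EtCoh.pull f).map (cokernel.π (Injective.ι F)) = (EtCoh.pull f).map φ :=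
    (Ext.mk₀_bijective _ _).1 hy
  let E := pullback (cokernel.π (Injective.ι F)) φ
  let fst' : E ⟶ Injective.under F := pullback.fst _ _
  let snd' : E ⟶ EtCoh.const X ℤ := pullback.snd _ _
  let i : F ⟶ E := pullback.lift (Injective.ι F) 0 (by rw [cokernel.condition, zero_comp])
  have hker : ((EtCoh.pull f).map fst' - (EtCoh.pull f).map snd' ≫ l) ≫
      (EtCoh.pull f).map (cokernel.π (Injective.ι F)) = 0 := by
    rw [Preadditive.sub_comp, Category.assoc, hl, ← Functor.map_comp, ← Functor.map_comp]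
    exact sub_eq_zero.2 (congrArg (EtCoh.pull f).map pullback.condition)
  let r : (EtCoh.pull f).obj E ⟶ (EtCoh.pull f).obj F :=
    hS'.exact.lift ((EtCoh.pull f).map fst' - (EtCoh.pull f).map snd' ≫ l) hker
  have hr : r ≫ (EtCoh.pull f).map (Injective.ι F) = (EtCoh.pull f).map fst' - (EtCoh.pull f).map snd' ≫ l :=
    hS'.exact.lift_f _ _
  have hir : (EtCoh.pull f).map i ≫ r = 𝟙 _ := by
    haveI : Mono ((EtCoh.pull f).map (Injective.ι F)) := hS'.mono_f
    rw [← cancel_mono ((EtCoh.pull f).map (Injective.ι F)), Category.assoc, hr, Preadditive.comp_sub,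
      ← Functor.map_comp, ← Category.assoc, ← Functor.map_comp, Category.id_comp]
    dsimp only [i, fst', snd']
    erw [pullback.lift_fst, pullback.lift_snd, Functor.map_zero, zero_comp, sub_zero]
  let r' : E ⟶ F := (EtCoh.pullPushAdj f).homEquiv _ _ r ≫ inv ((EtCoh.pullPushAdj f).unit.app F)
  have hr' : i ≫ r' = 𝟙 F := by
    refine (Category.assoc _ _ _).symm.trans ?_
    rw [← Adjunction.homEquiv_naturality_left, hir, Adjunction.homEquiv_id]
    exact IsIso.hom_inv_id _
  let t : E ⟶ Injective.under F := fst' - r' ≫ Injective.ι F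
  haveI : Mono i := mono_of_mono_fac (pullback.lift_fst _ _ _ : i ≫ fst' = Injective.ι F)
  haveI : Epi snd' := inferInstanceAs (Epi (pullback.snd (cokernel.π (Injective.ι F)) φ))
  have hex : (ShortComplex.mk i snd' (pullback.lift_snd _ _ _)).Exact := by
    refine ShortComplex.exact_of_f_is_kernel _ (KernelFork.IsLimit.ofι' _ _ fun {W} k hk => ?_)
    have hk' : (k ≫ fst') ≫ cokernel.π (Injective.ι F) = 0 := by
      rw [Category.assoc, pullback.condition, ← Category.assoc]
      exact (congrArg (· ≫ φ) hk).trans zero_comp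
    refine ⟨hS.exact.lift (k ≫ fst') hk', pullback.hom_ext ?_ ?_⟩
    · rw [Category.assoc, pullback.lift_fst]; exact hS.exact.lift_f _ _
    · rw [Category.assoc, pullback.lift_snd, comp_zero]; exact hk.symm
  have hit : i ≫ t = 0 := by
    rw [Preadditive.comp_sub, ← Category.assoc, hr', Category.id_comp]
    exact sub_eq_zero.2 (pullback.lift_fst _ _ _)
  let g := hex.desc t hit
  have hg : g ≫ cokernel.π (Injective.ι F) = φ := by
    rw [← cancel_epi snd', ← Category.assoc]
    refine (congrArg (· ≫ cokernel.π (Injective.ι F)) (hex.g_desc t hit)).trans ?_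
    have hz : (r' ≫ Injective.ι F) ≫ cokernel.π (Injective.ι F) = 0 :=
      (Category.assoc _ _ _).trans ((congrArg (r' ≫ ·) (cokernel.condition (Injective.ι F))).trans comp_zero)
    exact (Preadditive.sub_comp _ _ _).trans
      ((congrArg₂ (· - ·) pullback.condition hz).trans (sub_zero _))
  rw [← hx, ← hg, ← Ext.mk₀_comp_mk₀, Ext.comp_assoc_of_second_deg_zero]
  erw [hS.comp_extClass, Ext.comp_zero]

end Inj

section Lift

variable {X : Scheme.{u}} {M N : Type} [AddCommGroup M] [AddCommGroup N]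

/-- The lifted map of groups. -/
abbrev uhom (a : M →+ N) : AddCommGrpCat.of (ULift.{u + 1} M) ⟶ AddCommGrpCat.of (ULift.{u + 1} N) :=
  AddCommGrpCat.ofHom (AddEquiv.ulift.symm.toAddMonoidHom.comp (a.comp AddEquiv.ulift.toAddMonoidHom))

/-- The map of constant sheaves. -/
abbrev cmap (a : M →+ N) : EtCoh.const X M ⟶ EtCoh.const X N :=
  (presheafToSheaf X.smallEtaleTopology AddCommGrpCat.{u + 1}).map
    ((Functor.const X.Etaleᵒᵖ).map (uhom.{u} a))

theorem cmap_sec (a : M →+ N) (U : X.Etale) (m : M) :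
    (cmap (X := X) a).hom.app (op U) (sec M U (ULift.up m)) = sec N U (ULift.up (a m)) :=
  (ConcreteCategory.congr_hom (NatTrans.congr_app
    (toSheafify_naturality X.smallEtaleTopology ((Functor.const X.Etaleᵒᵖ).map (uhom.{u} a))) (op U))
    (ULift.up m)).symm

theorem sec_injective {U : X.Etale} (u : U.left) : Function.Injective fun m : ULift.{u + 1} M => sec M U m := by
  intro a b h
  obtain ⟨p, -⟩ := exists_fiber_geomPoint U u
  exact (bijective_germ_sec M _ p).1 (congrArg (fun s => germ (EtCoh.const X M) U _ p s) h)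

theorem section_eq_of_isEmpty {A : EtCoh.Ab X} {T : X.Etale} (hT : IsEmpty T.left)
    (a b : A.obj.obj (op T)) : a = b :=
  (((isSheaf_iff_isSheaf_of_type _ _).1
    ((Presheaf.isSheaf_iff_isSheaf_forget _ _ (forget AddCommGrpCat.{u + 1})).1 A.property)) ⊥
      ((mem_topology_iff _).2 fun t => isEmptyElim t)).isSeparatedFor.ext fun Y f hf => hf.elim

/-- Sections of constant sheaves lift along surjections. -/
theorem exists_lift_section (a : M →+ N) (ha : Function.Surjective a) (U : X.Etale)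
    (s : (EtCoh.const X N).obj.obj (op U)) : ∃ t, (cmap (X := X) a).hom.app (op U) t = s := by
  classical
  obtain ⟨σ, hσ⟩ := ha.hasRightInverse
  let τ := toSheafify X.smallEtaleTopology
    ((Functor.const X.Etaleᵒᵖ).obj (AddCommGrpCat.of (ULift.{u + 1} N)))
  haveI : Presheaf.IsLocallySurjective X.smallEtaleTopology τ :=
    inferInstanceAs (Presheaf.IsLocallySurjective _ (CategoryTheory.toSheafify _ _))
  let Sv := Presheaf.imageSieve τ s
  have hS : Sv ∈ X.smallEtaleTopology U := Presheaf.imageSieve_mem _ τ s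
  have hmem : ∀ ⦃Y : X.Etale⦄ ⦃h : Y ⟶ U⦄ (hh : Sv h), ∃ q, sec N Y q = (EtCoh.const X N).obj.map h.op s :=
    fun Y h hh => hh
  choose q hq using hmem
  let x : Presieve.FamilyOfElements ((EtCoh.const X M).obj ⋙ forget AddCommGrpCat.{u + 1}) Sv.arrows :=
    fun Y h hh => sec M Y (ULift.up (σ (q hh).down))
  have hx : x.Compatible := by
    intro Y₁ Y₂ Z g₁ g₂ f₁ f₂ h₁ h₂ hc
    change (EtCoh.const X M).obj.map g₁.op (sec M Y₁ _) = (EtCoh.const X M).obj.map g₂.op (sec M Y₂ _)
    rw [map_sec, map_sec]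
    by_cases hne : IsEmpty Z.left
    · exact section_eq_of_isEmpty hne _ _
    obtain ⟨z⟩ := not_isEmpty_iff.1 hne
    have e : sec N Z (q h₁) = sec N Z (q h₂) := by
      rw [← map_sec N g₁, ← map_sec N g₂, hq, hq]
      exact (Restrict.map_comp_apply _ f₁.op g₁.op s).symm.trans ((congrArg
        (fun k => (EtCoh.const X N).obj.map k.op s) hc).trans (Restrict.map_comp_apply _ f₂.op g₂.op s))
    rw [sec_injective z e]
  have hsh := ((isSheaf_iff_isSheaf_of_type _ _).1
    ((Presheaf.isSheaf_iff_isSheaf_forget _ _ (forget AddCommGrpCat.{u + 1})).1 (EtCoh.const X M).property))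
    Sv hS
  refine ⟨hsh.amalgamate x hx, ?_⟩
  refine (((isSheaf_iff_isSheaf_of_type _ _).1
    ((Presheaf.isSheaf_iff_isSheaf_forget _ _ (forget AddCommGrpCat.{u + 1})).1 (EtCoh.const X N).property))
    Sv hS).isSeparatedFor.ext fun Y h hh => ?_
  refine ((NatTrans.naturality_apply (cmap (X := X) a).hom h.op _).symm).trans ?_
  refine (congrArg ((cmap (X := X) a).hom.app (op Y)) (hsh.valid_glue hx h hh)).trans ?_
  refine (cmap_sec a Y _).trans ?_
  rw [hσ]
  exact hq hh

theorem comp_mk₀_nsmul {A B : EtCoh.Ab X} {q : ℕ} (e : Ext.{u + 1} A B q) (n : ℕ) :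
    e.comp (Ext.mk₀ (n • 𝟙 B)) (add_zero q) = n • e := by
  induction n with
  | zero => rw [zero_smul, zero_smul, Ext.mk₀_zero, Ext.comp_zero]
  | succ n ih => rw [succ_nsmul, succ_nsmul, Ext.mk₀_add, Ext.comp_add, ih, Ext.comp_mk₀_id]

/-- `H¹` of a torsion-free constant sheaf is torsion-free. -/
theorem eq_zero_of_nsmul [IsAddTorsionFree M] {n : ℕ} (hn : 0 < n) (e : EtCoh.H X (EtCoh.const X M) 1)
    (he : n • e = 0) : e = 0 := by
  let μ : AddCommGrpCat.of (ULift.{u + 1} M) ⟶ AddCommGrpCat.of (ULift.{u + 1} M) :=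
    n • 𝟙 (AddCommGrpCat.of (ULift.{u + 1} M))
  let A : AddSubgroup M := (nsmulAddMonoidHom (α := M) n).range
  let π : AddCommGrpCat.of (ULift.{u + 1} M) ⟶ AddCommGrpCat.of (ULift.{u + 1} (M ⧸ A)) :=
    AddCommGrpCat.ofHom (AddEquiv.ulift.symm.toAddMonoidHom.comp
      ((QuotientAddGroup.mk' A).comp AddEquiv.ulift.toAddMonoidHom))
  have hμ : ∀ x : ULift.{u + 1} M, μ x = n • x := fun x => by
    simp [μ]
  have w : μ ≫ π = 0 := by
    ext ⟨x⟩
    change (π (μ ⟨x⟩)).down = 0
    rw [hμ]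
    exact (QuotientAddGroup.eq_zero_iff _).2 ⟨x, rfl⟩
  have hs : (ShortComplex.mk μ π w).ShortExact :=
    { exact := by
        rw [ShortComplex.ab_exact_iff]
        rintro ⟨x⟩ hx
        obtain ⟨y, hy⟩ := (QuotientAddGroup.eq_zero_iff _).1 (congrArg ULift.down hx)
        exact ⟨⟨y⟩, (hμ ⟨y⟩).trans (congrArg ULift.up hy)⟩
      mono_f := (AddCommGrpCat.mono_iff_injective μ).2 fun a b hab =>
        ULift.ext _ _ (nsmul_right_injective hn.ne'
          (congrArg ULift.down ((hμ a).symm.trans (hab.trans (hμ b)))))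
      epi_g := (AddCommGrpCat.epi_iff_surjective π).2 fun ⟨y⟩ => by
        obtain ⟨x, rfl⟩ := QuotientAddGroup.mk_surjective y
        exact ⟨⟨x⟩, rfl⟩ }
  let K := (Functor.const X.Etaleᵒᵖ) ⋙ presheafToSheaf X.smallEtaleTopology AddCommGrpCat.{u + 1}
  haveI : PreservesFiniteLimits K := comp_preservesFiniteLimits _ _
  haveI : PreservesFiniteColimits K := comp_preservesFiniteColimits _ _
  have hS := hs.map_of_exact K
  have hn' : K.map μ = n • 𝟙 (EtCoh.const X M) :=
    K.map_nsmul.trans (congrArg (n • ·) (K.map_id _))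
  have h0 : e.comp (Ext.mk₀ ((ShortComplex.mk μ π w).map K).f) (add_zero 1) = 0 := by
    change Ext.comp (Y := EtCoh.const X M) e (Ext.mk₀ (K.map μ)) (add_zero 1) = 0
    rw [hn']
    exact (comp_mk₀_nsmul e n).trans he
  obtain ⟨x, hx⟩ := Ext.covariant_sequence_exact₁ (EtCoh.const X ℤ) hS e h0 (zero_add 1)
  obtain ⟨φ, rfl⟩ := (Ext.mk₀_bijective _ _).2 x
  obtain ⟨t, ht⟩ := exists_lift_section (QuotientAddGroup.mk' A) QuotientAddGroup.mk_surjective
    (EtCoh.top X) (Lib.EtJ.PullSec.elem X _ φ)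
  obtain ⟨ψ, rfl⟩ := (Lib.EtJ.PullSec.elem X _).surjective t
  have hψ : ψ ≫ ((ShortComplex.mk μ π w).map K).g = φ :=
    (Lib.EtJ.PullSec.elem X _).injective ((Lib.EtJ.PullSec.elem_comp X ψ _).trans ht)
  rw [← hx, ← hψ, ← Ext.mk₀_comp_mk₀, Ext.comp_assoc_of_second_deg_zero]
  erw [hS.comp_extClass, Ext.comp_zero]
  rfl

end Lift

open Groth.Agent.H61 in
theorem subsingleton_H_one (X : Scheme.{u}) [IrreducibleSpace X]
    (hX : ∀ (x : X) (R : Type u) [CommRing R] [IsLocalRing R] [Algebra (X.presheaf.stalk x) R]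
      [IsLocalHom (algebraMap (X.presheaf.stalk x) R)] [Hensel.IsStrictHenselization (X.presheaf.stalk x) R],
      IrreducibleSpace (PrimeSpectrum R))
    (M : Type) [AddCommGroup M] [IsAddTorsionFree M] :
    Subsingleton (EtCoh.H X (EtCoh.const X M) 1) := by
  let g := X.fromSpecResidueField (genericPoint X)
  have hgen : ∀ (V : X.Etale) (v : V.left), ∃ w : V.left, w ⤳ v ∧ ∀ z : V.left, z ⤳ v → w ⤳ z := by
    intro V v
    haveI : Etale V.hom := V.prop
    let A := X.presheaf.stalk (V.hom.base v)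
    have hA : CAlg2.IsGeomUnibranch A := by
      refine (Lib.Unram.UnibranchEtaleAlg.minimalPrimes_strict_subsingleton_iff A).1 ?_
      let R := Lib.Henselian.StrictHenselization.StrictHenselization A
      have hR : (nilradical R).IsPrime :=
        PrimeSpectrum.irreducibleSpace_iff_isPrime_nilradical.1 (hX (V.hom.base v) R)
      refine ⟨nilradical R, Set.ext fun P => ⟨fun hP => ?_, ?_⟩⟩
      · exact le_antisymm (hP.2 ⟨hR, bot_le⟩ (@nilradical_le_prime _ _ P hP.1.1))
          (@nilradical_le_prime _ _ P hP.1.1)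
      · rintro rfl
        exact ⟨⟨hR, bot_le⟩, fun Q hQ _ => @nilradical_le_prime _ _ Q hQ.1⟩
    obtain ⟨hflat, hu⟩ := (Lib.Unram.AtPrime.exists_etale_nhd_iff V.hom v).mp
      ⟨⊤, trivial, inferInstance⟩
    have hB := (Lib.Unram.UnibranchEtale.stalk_props V.hom v hflat hu hA).1
    exact exists_generic_of_isPrime v ((Ideal.Quotient.isDomain_iff_prime _).1 hB.1.1)
  haveI : QuasiCompact g := ⟨fun U hU hc => by
    exact (Set.subsingleton_of_subsingleton (s := g.base ⁻¹' U)).isCompact⟩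
  haveI := isIso_unit_of_generic M g hgen fun y hy => by
    rw [Scheme.range_fromSpecResidueField, Set.mem_singleton_iff]
    exact (hy _ ((genericPoint_spec X).specializes (Set.mem_univ y))).symm
  refine subsingleton_of_forall_eq 0 fun e => ?_
  obtain ⟨n, hn, hne⟩ := isOfFinAddOrder_iff_nsmul_eq_zero.1
    (FieldCoh.isOfFinAddOrder Nat.one_pos (EtCore.Hpull g (EtCoh.const X M) 1 e))
  exact eq_zero_of_nsmul hn e (eq_zero_of_Hpull_eq_zero g _ _ ((map_nsmul _ n e).trans hne))

end Groth.Agent.H88.EtMod.ConstTorsionFree
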