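import Groth.Agent.H88.EtMod.Free
import Groth.Agent.H88.Hom.HomologyCriterion
import Mathlib.CategoryTheory.Sites.EpiMono

/-!
Free sheaves of modules detect the vanishing of cohomology sheaves locally.
-/

universe u

open CategoryTheory CategoryTheory.Limits AlgebraicGeometry Opposite

namespace Groth.Agent.H88.EtMod.Criterion

variable (Λ : Type (u + 1)) [CommRing Λ] (X : Scheme.{u})

/-- Free sheaves, as a functor of the object. -/
noncomputable def gen : X.Etale ⥤ EtModW.Mod Λ X :=
  uliftYoneda.{u + 1} ⋙ (Functor.whiskeringRight _ _ _).obj (ModuleCat.free Λ) ⋙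
    presheafToSheaf X.smallEtaleTopology (ModuleCat.{u + 1} Λ)

variable {Λ X}

lemma gen_obj (U : X.Etale) : (gen Λ X).obj U = Free.free Λ U := rfl

lemma gen_map {V U : X.Etale} (g : V ⟶ U) : (gen Λ X).map g = Free.freeMap g := rfl

lemma isSeparating : ObjectProperty.IsSeparating (ObjectProperty.ofObj (gen Λ X).obj) :=
  Free.isSeparating

lemma separated : Hom.HomologyCriterion.SeparatedProp X.smallEtaleTopology (gen Λ X) := by
  intro U A θ S hS h
  apply Free.ev.injective
  have hx : ModuleCat.ofHom (LinearMap.toSpanSingleton Λ _ (Free.ev θ)) =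
      (0 : ModuleCat.of Λ Λ ⟶ A.obj.obj (op U)) := by
    refine A.property.hom_ext ⟨S, hS⟩ _ _ fun I => ?_
    apply ModuleCat.hom_ext
    apply LinearMap.ext_ring
    have h0 : A.obj.map I.f.op (Free.ev θ) = 0 := (Free.ev_freeMap I.f θ).symm.trans
      ((congrArg Free.ev (h I.Y I.f I.hf)).trans Free.ev_zero)
    change A.obj.map I.f.op ((1 : Λ) • Free.ev θ) = _
    rw [one_smul, zero_comp]
    exact h0
  have h1 := congrArg (fun f => f.hom (1 : Λ)) hx
  refine Eq.trans ?_ Free.ev_zero.symm
  simpa using h1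

lemma lift : Hom.HomologyCriterion.LiftProp X.smallEtaleTopology (gen Λ X) := by
  intro U A B p hp θ
  haveI : Sheaf.IsLocallySurjective p := (Sheaf.isLocallySurjective_iff_epi' (A := ModuleCat.{u + 1} Λ) p).2 hp
  refine ⟨_, Presheaf.imageSieve_mem X.smallEtaleTopology p.hom (U := op U) (Free.ev θ), fun V g hg => ?_⟩
  obtain ⟨t, ht⟩ := hg
  refine ⟨Free.ev.symm t, ?_⟩
  apply Free.ev.injective
  refine ((Free.ev_comp _ p).trans ?_).trans (Free.ev_freeMap g θ).symm
  rw [Equiv.apply_symm_apply]
  exact ht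

end Groth.Agent.H88.EtMod.Criterion
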