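import Groth.Agent.H88.EtMod.CurveField
import Groth.Agent.Lib.ExtShStalk.DimBound

/-!
Residue fields of curves over an algebraically closed field have trivial Brauer groups.
-/

set_option autoImplicit false
set_option linter.style.haveILetI false

universe u

open CategoryTheory AlgebraicGeometry IsLocalRing

noncomputable section

namespace Groth.Agent.H88.EtMod.CurveTrdeg

open Groth.Agent.H26.StalkTrdeg Groth.Agent.Lib.PointDim.Basic

variable {k : Type u} [Field k] {X : Scheme.{u}} (f : X ⟶ Spec (CommRingCat.of k)) [LocallyOfFiniteType f]

theorem natTdeg_le (hdim : topologicalKrullDim X ≤ 1) (x : X) : natTdeg f x ≤ 1 := by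
  have h := Groth.Agent.Lib.ExtShStalk.DimBound.fdelta_le f (d := 1) (hdim.trans (by simp)) x
  rw [fdelta_eq_natTdeg] at h
  exact_mod_cast h

include f in
/-- Tsen at a point of a curve. -/
theorem trivBr_residueField [IsAlgClosed k] (hdim : topologicalKrullDim X ≤ 1) (x : X) :
    CurveField.TrivBr (X.residueField x) := by
  letI := (kStalk f x).hom.toAlgebra
  refine CurveField.trivBr_of_trdeg k (ResidueField (X.presheaf.stalk x)) ?_
  rw [trdeg_residueField f x]
  exact_mod_cast natTdeg_le f hdim x

include f in
/-- Tsen at the generic point. -/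
theorem trivBr_functionField [IsAlgClosed k] [IsIntegral X] (hdim : topologicalKrullDim X ≤ 1) :
    CurveField.TrivBr X.functionField := by
  letI := (kStalk f (genericPoint X)).hom.toAlgebra
  refine CurveField.trivBr_of_trdeg k X.functionField ?_
  rw [trdeg_functionField f]
  exact_mod_cast natTdeg_le f hdim (genericPoint X)

end Groth.Agent.H88.EtMod.CurveTrdeg
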