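import Groth.Agent.H88.EtMod.GenericStalk
import Groth.Agent.H88.MuLocal
import Groth.Agent.Lib.SchTopo.Closure
import Groth.Agent.S7179
import Groth.Prelude.Def_EtLim

/-!
`G_m → g_* G_m` is bijective on the stalks at a maximal point of a reduced scheme.
-/

set_option autoImplicit false
set_option linter.style.haveILetI false

universe u

open CategoryTheory CategoryTheory.Limits AlgebraicGeometry Opposite

noncomputable section

namespace Groth.Agent.H88.EtMod.GmGeneric

open Groth.Agent.H61 Groth.Agent.Lib.EtSite Groth.Agent.Lib.EtSite.Basic Groth.Agent.Lib.EtJ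
open GenericStalk

theorem eval_appLE {A B : Scheme.{u}} (f : A ⟶ B) {U : B.Opens} (h : ⊤ ≤ f ⁻¹ᵁ U) (a : Γ(B, U)) (x : A) :
    A.Γevaluation x (f.appLE U ⊤ h a) = f.residueFieldMap x (B.evaluation U (f x) (h (x := x) trivial) a) := by
  rw [Scheme.evaluation_naturality_apply, Scheme.Hom.appLE]
  exact congrArg (A.residue x) (TopCat.Presheaf.germ_res_apply A.presheaf (homOfLE h) x _ (f.app U a))

theorem eq_of_eval {A : Scheme.{u}} [AlgebraicGeometry.IsReduced A] (a b : Γ(A, ⊤))
    (h : ∀ x, A.Γevaluation x a = A.Γevaluation x b) : a = b := by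
  refine sub_eq_zero.1 (eq_zero_of_basicOpen_eq_bot _ ((A.basicOpen_eq_bot_iff_forall_evaluation_eq_zero _).2 fun x => ?_))
  rw [map_sub]
  exact sub_eq_zero.2 (h x.1)

theorem residueFieldMap_surjective {A B : Scheme.{u}} (f : A ⟶ B) [IsPreimmersion f] (x : A) :
    Function.Surjective (f.residueFieldMap x) := fun z => by
  obtain ⟨y, rfl⟩ := A.residue_surjective x z
  obtain ⟨y', rfl⟩ := f.stalkMap_surjective x y
  exact ⟨B.residue (f x) y', ConcreteCategory.congr_hom (Scheme.residue_residueFieldMap f x) y'⟩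

variable {X : Scheme.{u}} [AlgebraicGeometry.IsReduced X] {K : Type u} [Field K] (g : FieldCoh.S K ⟶ X)
  [IsPreimmersion g] [QuasiCompact g] {η : X}

/-- Points over the maximal point have fields as local rings. -/
theorem isField_stalk (hr : Set.range g.base = {η}) (hη : closure {η} ∈ irreducibleComponents ↥X)
    (W : X.Etale) (t : ↥(pullback W.hom g)) :
    IsField (W.left.presheaf.stalk ((pullback.fst W.hom g).base t)) := by
  haveI : Etale W.hom := W.prop
  haveI : AlgebraicGeometry.IsReduced ((Functor.fromPUnit.{0} X).obj W.right) := ‹AlgebraicGeometry.IsReduced X›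
  haveI : AlgebraicGeometry.IsReduced W.left := Groth.Agent.S7179.result W.hom
  refine isField_stalk_of_closure_mem_irreducibleComponents _ _ ?_
  haveI : Etale ((EtCoh.bc g).obj W).hom := ((EtCoh.bc g).obj W).prop
  haveI := Groth.Agent.Lib.EtSite.FieldExt.locallyQuasiFinite_of_etale ((EtCoh.bc g).obj W).hom
  haveI hd : DiscreteTopology ((EtCoh.bc g).obj W).left :=
    Groth.Agent.Lib.EtSite.FieldExt.discreteTopology_of_locallyQuasiFinite ((EtCoh.bc g).obj W).hom
  haveI : DiscreteTopology ↥(pullback W.hom g) := hd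
  obtain ⟨w', hw', hs⟩ := Lib.SchTopo.Closure.exists_maximal_specializes W.left ((pullback.fst W.hom g).base t)
  have hηt : W.hom.base ((pullback.fst W.hom g).base t) = η :=
    Set.eq_of_mem_singleton (hr ▸ ⟨(pullback.snd W.hom g).base t,
      (congrArg (fun m => m.base t) (pullback.condition (f := W.hom) (g := g))).symm⟩)
  have h1 : W.hom.base w' = η :=
    Lib.SchTopo.Closure.eq_of_specializes_of_closure_mem hη (hηt ▸ hs.map W.hom.continuous)
  obtain ⟨t', ht', -⟩ := Scheme.Pullback.exists_preimage_pullback (f := W.hom) (g := g) w' default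
    (h1.trans (Set.eq_of_mem_singleton (hr ▸ Set.mem_range_self _)).symm)
  subst ht'
  have : t' = t := ((pullback.fst W.hom g).isEmbedding.isInducing.specializes_iff.1 hs).eq
  subst this
  exact hw'

theorem val_GmPush (W : X.Etale) (a : (EtCoh.Gm X).obj.obj (op W)) :
    MuLocal.val (X := FieldCoh.S K) (T := (EtCoh.bc g).obj W) ((EtLim.GmPush g).hom.app (op W) a) =
      (pullback.fst W.hom g).appTop (MuLocal.val a) := rfl

theorem bijective_stalk (hr : Set.range g.base = {η}) (hη : closure {η} ∈ irreducibleComponents ↥X)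
    {Ω : Type u} [Field Ω] [IsSepClosed Ω] (η' : Spec (CommRingCat.of Ω) ⟶ FieldCoh.S K) :
    Function.Bijective ((EtCoh.stalk (η' ≫ g)).map (EtLim.GmPush g)) := by
  constructor
  · refine (injective_iff_map_eq_zero ((EtCoh.stalk (η' ≫ g)).map (EtLim.GmPush g)).hom).2 fun z hz => ?_
    obtain ⟨V, p, a, rfl⟩ := (Scheme.pointSmallEtale (η' ≫ g)).toPresheafFiber_jointly_surjective z
    have h0 := (GrothendieckTopology.Point.toPresheafFiber_naturality_apply
      (Scheme.pointSmallEtale (η' ≫ g)) (EtLim.GmPush g).hom V p a).symm.trans hz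
    obtain ⟨W, r, q, hq, hW⟩ := (Supp.germ_eq_zero_iff _ V p _).1 h0
    have hW' : (EtLim.GmPush g).hom.app (op W) ((EtCoh.Gm X).obj.map r.op a) = 0 :=
      (NatTrans.naturality_apply (EtLim.GmPush g).hom r.op a).trans hW
    let a' := (EtCoh.Gm X).obj.map r.op a
    let b : pullback W.hom g ⟶ W.left := pullback.fst W.hom g
    let a₁ : Γ(W.left, ⊤) := MuLocal.val a'
    have hv : b.appTop (a₁ - 1) = 0 := by
      rw [map_sub, map_one, sub_eq_zero]
      exact (val_GmPush g W a').symm.trans ((congrArg _ hW').trans MuLocal.val_zero)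
    let t : ↥(pullback W.hom g) := fiberPt (PushStalk.liftPt g rfl W q)
    have hbt : b.base t = fiberPt q :=
      congrArg (fun m : Spec (CommRingCat.of Ω) ⟶ W.left => m.base default)
        (pullback.lift_fst (f := W.hom) (g := g) (fiberHom q) η' (fiberHom_comp q))
    have he : W.left.Γevaluation (b t) (a₁ - 1) = 0 := by
      refine (b.residueFieldMap t).hom.injective ?_
      rw [map_zero]
      refine (Scheme.Γevaluation_naturality_apply b t _).trans ?_
      rw [hv, map_zero]
    have hg : W.left.presheaf.germ ⊤ (b t) trivial (a₁ - 1) =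
        W.left.presheaf.germ ⊤ (b t) trivial 0 := by
      rw [map_zero]
      letI := (isField_stalk g hr hη W t).toField
      exact (W.left.residue (b t)).hom.injective (he.trans (map_zero _).symm)
    obtain ⟨O₀, hO, i₁, i₂, hOe⟩ := TopCat.Presheaf.germ_eq W.left.presheaf (U := ⊤) (V := ⊤) (b t) trivial trivial _ _ hg
    let O : W.left.Opens := O₀
    haveI : Etale W.hom := W.prop
    let W' : X.Etale := Scheme.Etale.mk (O.ι ≫ W.hom)
    let r' : W' ⟶ W := MorphismProperty.Over.homMk O.ι rfl
    obtain ⟨q', hq', -⟩ := Fiber.exists_fiber_map (η' ≫ g) r' q ⟨fiberPt q, hbt ▸ hO⟩ rfl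
    refine (Supp.germ_eq_zero_iff (EtCoh.Gm X) V p a).2 ⟨W', r' ≫ r, q', ?_, ?_⟩
    · rw [Functor.map_comp, ConcreteCategory.comp_apply, hq', hq]
    · rw [op_comp, Functor.map_comp, ConcreteCategory.comp_apply]
      refine MuLocal.val_injective ((MuLocal.val_map r' a').trans (Eq.trans ?_ MuLocal.val_zero.symm))
      have hle : ⊤ ≤ O.ι ⁻¹ᵁ O := fun x _ => x.2
      have hs : ∀ c : Γ(W.left, ⊤), O.ι.appTop c = O.ι.appLE O ⊤ hle (W.left.presheaf.map i₁.op c) := fun c => by
        rw [← CommRingCat.comp_apply, Scheme.Hom.map_appLE]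
        exact (ConcreteCategory.congr_hom (Scheme.Hom.appLE_eq_app O.ι (U := ⊤)) c).symm
      have := hOe
      rw [map_zero, map_sub, map_one, sub_eq_zero] at this
      exact (hs _).trans ((congrArg _ this).trans (map_one _))
  · intro z
    obtain ⟨V₀, p₀, s₀, rfl⟩ := (Scheme.pointSmallEtale (η' ≫ g)).toPresheafFiber_jointly_surjective z
    obtain ⟨V, a, v, hv, hV⟩ := FiniteGen.exists_affine_nhd V₀ (fiberPt p₀)
    obtain ⟨p, hp, -⟩ := Fiber.exists_fiber_map (η' ≫ g) a p₀ v hv
    haveI : IsAffine V.left := hV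
    haveI : IsAffine ((𝟭 Scheme).obj V.left) := hV
    let b : pullback V.hom g ⟶ V.left := pullback.fst V.hom g
    haveI : CompactSpace ↥(pullback V.hom g) := QuasiCompact.compactSpace_of_compactSpace b
    haveI : Etale ((EtCoh.bc g).obj V).hom := ((EtCoh.bc g).obj V).prop
    haveI := Groth.Agent.Lib.EtSite.FieldExt.locallyQuasiFinite_of_etale ((EtCoh.bc g).obj V).hom
    haveI hd : DiscreteTopology ((EtCoh.bc g).obj V).left :=
      Groth.Agent.Lib.EtSite.FieldExt.discreteTopology_of_locallyQuasiFinite ((EtCoh.bc g).obj V).hom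
    haveI : DiscreteTopology ↥(pullback V.hom g) := hd
    haveI : Finite ↥(pullback V.hom g) := finite_of_compact_of_discrete
    let t₀ : ↥(pullback V.hom g) := fiberPt (PushStalk.liftPt g rfl V p)
    have hbt : b.base t₀ = fiberPt p :=
      congrArg (fun m : Spec (CommRingCat.of Ω) ⟶ V.left => m.base default)
        (pullback.lift_fst (f := V.hom) (g := g) (fiberHom p) η' (fiberHom_comp p))
    let s₁ : (EtCoh.Gm (FieldCoh.S K)).obj.obj (op ((EtCoh.bc g).obj V)) :=
      ((EtCoh.push g).obj (EtCoh.Gm (FieldCoh.S K))).obj.map a.op s₀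
    have hv0 : (pullback V.hom g).Γevaluation t₀ (MuLocal.val s₁) ≠ 0 :=
      (((Additive.toMul (ULift.down s₁ : Additive (Γ(pullback V.hom g, ⊤))ˣ)).isUnit).map
        ((pullback V.hom g).Γevaluation t₀).hom).ne_zero
    obtain ⟨v', hv'⟩ := residueFieldMap_surjective b t₀ ((pullback V.hom g).Γevaluation t₀ (MuLocal.val s₁))
    obtain ⟨y, rfl⟩ := V.left.residue_surjective (b t₀) v'
    obtain ⟨U, hU, a₀, rfl⟩ := TopCat.Presheaf.exists_germ_eq V.left.presheaf y
    let C : Set V.left := ⋃ t ∈ {t | t ≠ t₀}, closure {b.base t}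
    have hCc : IsClosed C := (Set.toFinite _).isClosed_biUnion (fun _ _ => isClosed_closure)
    let O : V.left.Opens := V.left.basicOpen a₀ ⊓ ⟨Cᶜ, hCc.isOpen_compl⟩
    have htO : b.base t₀ ∈ O := by
      refine ⟨(V.left.evaluation_ne_zero_iff_mem_basicOpen (b t₀) hU a₀).1 fun h0 => hv0 ?_, ?_⟩
      · rw [← hv', show V.left.residue (b t₀) (V.left.presheaf.germ U (b t₀) hU a₀) =
          V.left.evaluation U (b t₀) hU a₀ from rfl, h0, map_zero]
      · simp only [C, TopologicalSpace.Opens.coe_mk, SetLike.mem_coe, TopologicalSpace.Opens.mem_mk,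
          Set.mem_compl_iff, Set.mem_iUnion, not_exists]
        intro t ht hmem
        rw [← specializes_iff_mem_closure] at hmem
        exact ht (b.isEmbedding.isInducing.specializes_iff.1 hmem).eq
    have hOb : O ≤ V.left.basicOpen a₀ := inf_le_left
    haveI : Etale V.hom := V.prop
    let W : X.Etale := Scheme.Etale.mk (O.ι ≫ V.hom)
    let r : W ⟶ V := MorphismProperty.Over.homMk O.ι rfl
    obtain ⟨q, hq, -⟩ := Fiber.exists_fiber_map (η' ≫ g) r p ⟨fiberPt p, hbt ▸ htO⟩ rfl
    have hle : ⊤ ≤ O.ι ⁻¹ᵁ V.left.basicOpen a₀ := fun x _ => hOb x.2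
    have hle' : ⊤ ≤ O.ι ⁻¹ᵁ U := fun x _ => V.left.basicOpen_le a₀ (hOb x.2)
    have hu : IsUnit (O.ι.appLE U ⊤ hle' a₀) := by
      have := (V.left.toRingedSpace.isUnit_res_basicOpen a₀).map (O.ι.appLE _ ⊤ hle).hom
      exact (congrArg IsUnit (ConcreteCategory.congr_hom
        (Scheme.Hom.map_appLE O.ι hle (homOfLE (V.left.basicOpen_le a₀)).op) a₀)).mp this
    let c : (EtCoh.Gm X).obj.obj (op W) := ULift.up (Additive.ofMul hu.unit)
    refine ⟨(Scheme.pointSmallEtale (η' ≫ g)).toPresheafFiber W q (EtCoh.Gm X).obj c, ?_⟩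
    refine (GrothendieckTopology.Point.toPresheafFiber_naturality_apply _ (EtLim.GmPush g).hom W q c).trans ?_
    have key : (EtLim.GmPush g).hom.app (op W) c = ((EtCoh.push g).obj (EtCoh.Gm (FieldCoh.S K))).obj.map r.op
        (((EtCoh.push g).obj (EtCoh.Gm (FieldCoh.S K))).obj.map a.op s₀) := by
      refine MuLocal.val_injective (X := FieldCoh.S K) (T := (EtCoh.bc g).obj W) ?_
      refine (val_GmPush g W c).trans ?_
      refine Eq.trans ?_ (MuLocal.val_map ((EtCoh.bc g).map r) s₁).symm
      haveI : Etale ((EtCoh.bc g).obj W).hom := ((EtCoh.bc g).obj W).prop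
      haveI : AlgebraicGeometry.IsReduced ((Functor.fromPUnit.{0} (FieldCoh.S K)).obj ((EtCoh.bc g).obj W).right) :=
        inferInstanceAs (AlgebraicGeometry.IsReduced (Spec (CommRingCat.of K)))
      haveI hrd : AlgebraicGeometry.IsReduced ((EtCoh.bc g).obj W).left :=
        Groth.Agent.S7179.result ((EtCoh.bc g).obj W).hom
      haveI : AlgebraicGeometry.IsReduced (pullback W.hom g) := hrd
      let j : ((EtCoh.bc g).obj W).left ⟶ pullback V.hom g := ((EtCoh.bc g).map r).left
      let bW : ((EtCoh.bc g).obj W).left ⟶ (O : Scheme.{u}) := pullback.fst W.hom g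
      have hfst : bW ≫ O.ι = j ≫ b := (pullback.lift_fst _ _ _).symm
      refine eq_of_eval _ _ fun x => ?_
      have hxU : ⊤ ≤ (bW ≫ O.ι) ⁻¹ᵁ U := fun z _ => hle' (x := bW z) trivial
      have e1 : ((EtCoh.bc g).obj W).left.Γevaluation x (bW.appTop (MuLocal.val c)) =
          (bW ≫ O.ι).residueFieldMap x (V.left.evaluation U ((bW ≫ O.ι) x) (hxU (x := x) trivial) a₀) := by
        rw [Scheme.residueFieldMap_comp]
        refine (Scheme.Γevaluation_naturality_apply bW x _).symm.trans ?_
        exact congrArg (bW.residueFieldMap x)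
          ((congrArg ((O : Scheme.{u}).Γevaluation (bW x)) hu.unit_spec).trans (eval_appLE O.ι hle' a₀ (bW x)))
      have hall : ∀ (f : ((EtCoh.bc g).obj W).left ⟶ V.left) (hf : f x ∈ U), f = j ≫ b →
          f.residueFieldMap x (V.left.evaluation U (f x) hf a₀) =
            ((EtCoh.bc g).obj W).left.Γevaluation x (j.appTop (MuLocal.val s₁)) := by
        rintro f hf rfl
        rw [Scheme.residueFieldMap_comp]
        change j.residueFieldMap x (b.residueFieldMap (j x) (V.left.evaluation U (b (j x)) hf a₀)) = _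
        refine Eq.trans (congrArg (j.residueFieldMap x) ?_) (Scheme.Γevaluation_naturality_apply j x _)
        have hj : j x = t₀ := by
          by_contra hne
          have hm : b.base (j x) ∈ O := by
            rw [← Scheme.Hom.comp_apply, ← hfst]
            exact (bW x).2
          exact hm.2 (Set.mem_iUnion₂.2 ⟨_, hne, subset_closure rfl⟩)
        have gen : ∀ (t : ↥(pullback V.hom g)) (h : b t ∈ U), t = t₀ →
            b.residueFieldMap t (V.left.evaluation U (b t) h a₀) = (pullback V.hom g).Γevaluation t (MuLocal.val s₁) := by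
          rintro t h rfl
          exact hv'
        exact gen _ _ hj
      exact e1.trans (hall _ _ hfst)
    refine (congrArg _ key).trans ?_
    rw [GrothendieckTopology.Point.toPresheafFiber_w_apply, hq, GrothendieckTopology.Point.toPresheafFiber_w_apply, hp]
    rfl

end Groth.Agent.H88.EtMod.GmGeneric
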