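import Groth.Agent.H88.EtMod.CurveGeneric
import Groth.Agent.H88.EtMod.CurveTrdeg
import Groth.Agent.H88.EtMod.GmGeneric

/-!
Cohomology of curves from the maximal points.
-/

set_option autoImplicit false
set_option linter.style.haveILetI false

universe u

open CategoryTheory CategoryTheory.Limits AlgebraicGeometry Opposite Abelian

noncomputable section

namespace Groth.Agent.H88.EtMod.CurveCd

open Groth.Agent.H61 GenericStalk
open scoped ZeroObject

theorem subsingleton_of_id_eq {A : Type*} [Category A] [Abelian A] [HasExt A] {P Q : A} {m : ℕ}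
    (h : 𝟙 Q = 0) : Subsingleton (Ext P Q m) :=
  subsingleton_of_forall_eq 0 fun x => by rw [← x.comp_mk₀_id, h, Ext.mk₀_zero, Ext.comp_zero]

theorem subsingleton_biprod {A : Type*} [Category A] [Abelian A] [HasExt A] {P Q R : A} {m : ℕ}
    (hQ : Subsingleton (Ext P Q m)) (hR : Subsingleton (Ext P R m)) : Subsingleton (Ext P (Q ⊞ R) m) :=
  subsingleton_of_forall_eq 0 fun x => by
    have h1 : x.comp (Ext.mk₀ (biprod.fst : Q ⊞ R ⟶ Q)) (add_zero m) = 0 := @Subsingleton.elim _ hQ _ _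
    have h2 : x.comp (Ext.mk₀ (biprod.snd : Q ⊞ R ⟶ R)) (add_zero m) = 0 := @Subsingleton.elim _ hR _ _
    rw [← x.comp_mk₀_id, ← biprod.total, Ext.mk₀_add, Ext.comp_add, ← Ext.mk₀_comp_mk₀, ← Ext.mk₀_comp_mk₀,
      ← Ext.comp_assoc_of_second_deg_zero, ← Ext.comp_assoc_of_second_deg_zero, h1, h2, Ext.zero_comp,
      Ext.zero_comp, add_zero]

variable {k : Type u} [Field k] [IsAlgClosed k] {X : Scheme.{u}} (f : X ⟶ Spec (CommRingCat.of k))
  [LocallyOfFiniteType f] [QuasiCompact f]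

/-- The maximal points. -/
abbrev M (X : Scheme.{u}) : Set X := {η | closure {η} ∈ irreducibleComponents ↥X}

/-- A map to an acyclic sheaf that is bijective at one maximal point. -/
def Good (G : EtCoh.Ab X) (N : ℕ) (η : X) : Prop :=
  ∃ (P : EtCoh.Ab X) (φ : G ⟶ P),
    (∀ (Ω : Type u) (_ : Field Ω) (_ : IsSepClosed Ω) (ξ : Spec (CommRingCat.of Ω) ⟶ X),
      Set.range ξ.base = {η} → IsIso ((EtCoh.stalk ξ).map φ)) ∧
    (∀ μ ∈ M X, μ ≠ η → μ ∉ EtPBC.supp P) ∧ ∀ m, N ≤ m → Subsingleton (EtCoh.H X P m)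

theorem exists_map {G : EtCoh.Ab X} {N : ℕ} (h : ∀ η ∈ M X, Good G N η) {s : Set X} (hs : s.Finite) :
    ∃ (P : EtCoh.Ab X) (φ : G ⟶ P),
      (∀ η ∈ M X, η ∈ s → ∀ (Ω : Type u) (_ : Field Ω) (_ : IsSepClosed Ω) (ξ : Spec (CommRingCat.of Ω) ⟶ X),
        Set.range ξ.base = {η} → IsIso ((EtCoh.stalk ξ).map φ)) ∧
      (∀ μ ∈ M X, μ ∉ s → μ ∉ EtPBC.supp P) ∧ ∀ m, N ≤ m → Subsingleton (EtCoh.H X P m) := by
  induction s, hs using Set.Finite.induction_on with
  | empty =>
    refine ⟨(0 : EtCoh.Ab X), 0, fun _ _ h => absurd h (Set.notMem_empty _), fun μ _ _ => ?_, fun m _ => ?_⟩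
    · refine (notMem_supp_iff _ μ).2 fun Ω _ _ ξ _ => ?_
      haveI : PreservesColimitsOfSize.{0, 0} (EtCoh.stalk ξ) := preservesColimitsOfSize_shrink.{0, u + 1, 0, u + 1} _
      exact Functor.map_isZero _ (isZero_zero _)
    · exact subsingleton_of_id_eq ((IsZero.iff_id_eq_zero _).1 (isZero_zero _))
  | @insert η s hηs _ IH =>
    obtain ⟨P₂, φ₂, iso₂, off₂, van₂⟩ := IH
    by_cases hηM : η ∈ M X
    swap
    · exact ⟨P₂, φ₂, fun μ hμ h => iso₂ μ hμ (h.resolve_left fun e => hηM (e ▸ hμ)),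
        fun μ hμ h => off₂ μ hμ fun hh => h (Or.inr hh), van₂⟩
    obtain ⟨P₁, φ₁, iso₁, off₁, van₁⟩ := h η hηM
    refine ⟨P₁ ⊞ P₂, biprod.lift φ₁ φ₂, fun μ hμ hμs Ω i₁ i₂ ξ hξ => ?_, fun μ hμ hμs => ?_,
      fun m hm => subsingleton_biprod (van₁ m hm) (van₂ m hm)⟩
    · haveI : PreservesColimitsOfSize.{0, 0} (EtCoh.stalk ξ) := preservesColimitsOfSize_shrink.{0, u + 1, 0, u + 1} _
      haveI : (EtCoh.stalk ξ).Additive := inferInstance
      rcases hμs with rfl | hμs
      · have h0 := (IsZero.iff_id_eq_zero _).1 ((notMem_supp_iff P₂ μ).1 (off₂ μ hμ hηs) Ω i₁ i₂ ξ hξ)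
        haveI : IsIso ((EtCoh.stalk ξ).map (biprod.fst : P₁ ⊞ P₂ ⟶ P₁)) := by
          refine ⟨(EtCoh.stalk ξ).map biprod.inl, ?_, ?_⟩
          · have hz : (EtCoh.stalk ξ).map ((biprod.snd : P₁ ⊞ P₂ ⟶ P₂) ≫ (biprod.inr : P₂ ⟶ P₁ ⊞ P₂)) = 0 := by
              rw [Functor.map_comp, ← Category.id_comp ((EtCoh.stalk ξ).map biprod.inr), h0, zero_comp, comp_zero]
            rw [← Functor.map_comp, ← CategoryTheory.Functor.map_id, ← biprod.total, Functor.map_add, hz, add_zero]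
          · rw [← Functor.map_comp, biprod.inl_fst, CategoryTheory.Functor.map_id]
        haveI := iso₁ Ω i₁ i₂ ξ hξ
        haveI : IsIso ((EtCoh.stalk ξ).map (biprod.lift φ₁ φ₂) ≫ (EtCoh.stalk ξ).map biprod.fst) := by
          rw [← Functor.map_comp, biprod.lift_fst]; infer_instance
        exact IsIso.of_isIso_comp_right _ ((EtCoh.stalk ξ).map biprod.fst)
      · have hne : μ ≠ η := fun e => hηs (e ▸ hμs)
        have h0 := (IsZero.iff_id_eq_zero _).1 ((notMem_supp_iff P₁ μ).1 (off₁ μ hμ hne) Ω i₁ i₂ ξ hξ)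
        haveI : IsIso ((EtCoh.stalk ξ).map (biprod.snd : P₁ ⊞ P₂ ⟶ P₂)) := by
          refine ⟨(EtCoh.stalk ξ).map biprod.inr, ?_, ?_⟩
          · have hz : (EtCoh.stalk ξ).map ((biprod.fst : P₁ ⊞ P₂ ⟶ P₁) ≫ (biprod.inl : P₁ ⟶ P₁ ⊞ P₂)) = 0 := by
              rw [Functor.map_comp, ← Category.id_comp ((EtCoh.stalk ξ).map biprod.inl), h0, zero_comp, comp_zero]
            rw [← Functor.map_comp, ← CategoryTheory.Functor.map_id, ← biprod.total, Functor.map_add, hz, zero_add]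
          · rw [← Functor.map_comp, biprod.inr_snd, CategoryTheory.Functor.map_id]
        haveI := iso₂ μ hμ hμs Ω i₁ i₂ ξ hξ
        haveI : IsIso ((EtCoh.stalk ξ).map (biprod.lift φ₁ φ₂) ≫ (EtCoh.stalk ξ).map biprod.snd) := by
          rw [← Functor.map_comp, biprod.lift_snd]; infer_instance
        exact IsIso.of_isIso_comp_right _ ((EtCoh.stalk ξ).map biprod.snd)
    · refine (notMem_supp_iff _ μ).2 fun Ω i₁ i₂ ξ hξ => (IsZero.iff_id_eq_zero _).2 ?_
      haveI : PreservesColimitsOfSize.{0, 0} (EtCoh.stalk ξ) := preservesColimitsOfSize_shrink.{0, u + 1, 0, u + 1} _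
      have h1 := (IsZero.iff_id_eq_zero _).1 ((notMem_supp_iff P₁ μ).1 (off₁ μ hμ fun e => hμs (Or.inl e)) Ω i₁ i₂ ξ hξ)
      have h2 := (IsZero.iff_id_eq_zero _).1 ((notMem_supp_iff P₂ μ).1 (off₂ μ hμ fun e => hμs (Or.inr e)) Ω i₁ i₂ ξ hξ)
      rw [← CategoryTheory.Functor.map_id, ← biprod.total, Functor.map_add, Functor.map_comp, Functor.map_comp,
        ← Category.id_comp ((EtCoh.stalk ξ).map biprod.inl), ← Category.id_comp ((EtCoh.stalk ξ).map biprod.inr),
        h1, h2, zero_comp, zero_comp, comp_zero, comp_zero, add_zero]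

include f in
/-- The reduction to the maximal points. -/
theorem subsingleton_H (hdim : topologicalKrullDim X ≤ 1) (G : EtCoh.Ab X) (N : ℕ)
    (h : ∀ η ∈ M X, Good G N η) (m : ℕ) (hm : 2 ≤ m) (hN : N ≤ m) : Subsingleton (EtCoh.H X G m) := by
  haveI : IsLocallyNoetherian X := LocallyOfFiniteType.isLocallyNoetherian f
  haveI : CompactSpace ↥X := QuasiCompact.compactSpace_of_compactSpace f
  haveI : IsNoetherian X := {}
  have hfin : (M X).Finite := Set.Finite.of_finite_image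
    (TopologicalSpace.NoetherianSpace.finite_irreducibleComponents.subset
      (by rintro _ ⟨η, hη, rfl⟩; exact hη))
    (fun a _ b _ h => ((specializes_iff_closure_subset.2 h.ge).antisymm (specializes_iff_closure_subset.2 h.le)).eq)
  obtain ⟨P, φ, iso, -, van⟩ := exists_map h hfin
  obtain ⟨q, rfl⟩ : ∃ q, m = q + 1 := ⟨m - 1, by omega⟩
  have hs := fun η (hη : η ∈ M X) => CurveGeneric.notMem_supp_of_isIso φ (iso η hη hη)
  have hK := fun i hi => CurveGeneric.subsingleton_H f hdim (kernel φ) (fun η hη => (hs η hη).1) i hi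
  have hC := fun i hi => CurveGeneric.subsingleton_H f hdim (cokernel φ) (fun η hη => (hs η hη).2) i hi
  have hb := CurveGeneric.bijective_comp φ q (hK _ (by omega)) (hK _ (by omega)) (hC _ (by omega))
    (hC _ (by omega)) (P := EtCoh.const X ℤ)
  haveI := van (q + 1) hN
  exact hb.1.subsingleton

theorem exists_factor {η : X} {Ω : Type u} [Field Ω] (ξ : Spec (CommRingCat.of Ω) ⟶ X)
    (hξ : Set.range ξ.base = {η}) :
    ∃ η' : Spec (CommRingCat.of Ω) ⟶ FieldCoh.S (X.residueField η), η' ≫ X.fromSpecResidueField η = ξ := by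
  obtain ⟨⟨y, φ⟩, rfl⟩ := (Scheme.SpecToEquivOfField Ω X).symm.surjective ξ
  obtain rfl : y = η := by
    have : (Spec.map φ ≫ X.fromSpecResidueField y).base (IsLocalRing.closedPoint Ω) = η :=
      Set.eq_of_mem_singleton (hξ ▸ Set.mem_range_self _)
    rwa [Scheme.Hom.comp_apply, Scheme.fromSpecResidueField_apply] at this
  exact ⟨Spec.map φ, rfl⟩

theorem quasiCompact_point (η : X) : QuasiCompact (X.fromSpecResidueField η) :=
  ⟨fun _ _ _ => Set.Subsingleton.isCompact fun a _ b _ =>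
    (X.fromSpecResidueField η).isEmbedding.injective
      ((Scheme.fromSpecResidueField_apply η a).trans (Scheme.fromSpecResidueField_apply η b).symm)⟩

include f in
/-- `G_m` on a reduced curve. -/
theorem good_Gm [AlgebraicGeometry.IsReduced X] (hdim : topologicalKrullDim X ≤ 1) {η : X} (hη : η ∈ M X) :
    Good (EtCoh.Gm X) 1 η := by
  let g : FieldCoh.S (X.residueField η) ⟶ X := X.fromSpecResidueField η
  haveI : IsPreimmersion g := inferInstanceAs (IsPreimmersion (X.fromSpecResidueField η))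
  haveI : QuasiCompact g := quasiCompact_point η
  haveI : QuasiSeparated g := inferInstance
  have hr : Set.range g.base = {η} := X.range_fromSpecResidueField η
  refine ⟨_, EtLim.GmPush g, fun Ω i₁ i₂ ξ hξ => ?_, fun μ hμ hne => ?_, fun m hm => ?_⟩
  · obtain ⟨η', rfl⟩ := exists_factor ξ hξ
    exact (ConcreteCategory.isIso_iff_bijective _).2 (GmGeneric.bijective_stalk g hr hη η')
  · refine notMem_supp_push g _ μ fun hc => hne ?_
    rw [hr, ← specializes_iff_mem_closure] at hc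
    exact (Lib.SchTopo.Closure.eq_of_specializes_of_closure_mem hμ hc).symm
  · obtain ⟨m, rfl⟩ : ∃ j, m = j + 1 := ⟨m - 1, by omega⟩
    exact FieldAcy.subsingleton_H_push g m _ (CurveField.acy_Gm (CurveTrdeg.trivBr_residueField f hdim η))

include f in
/-- `H^{≥2}(X, G_m) = 0`. -/
theorem subsingleton_H_Gm [AlgebraicGeometry.IsReduced X] (hdim : topologicalKrullDim X ≤ 1) (m : ℕ)
    (hm : 2 ≤ m) : Subsingleton (EtCoh.H X (EtCoh.Gm X) m) :=
  subsingleton_H f hdim _ 1 (fun _ hη => good_Gm f hdim hη) m hm (by omega)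

end Groth.Agent.H88.EtMod.CurveCd
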