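import Groth.Agent.H88.EtMod.PointSum
import Groth.Agent.H88.Excision
import Groth.Agent.Lib.EtJ.Supp
import Groth.Agent.Lib.EtRad.Push
import Groth.Agent.Lib.EtSite.Stalk
import Groth.Agent.Lib.EtSite.Fiber
import Groth.Agent.H54.EtaleSep
import Mathlib.FieldTheory.PurelyInseparable.Basic

/-!
Sheaves supported at closed points over a separably closed field.
-/

set_option autoImplicit false
set_option linter.style.haveILetI false

universe u

open CategoryTheory CategoryTheory.Limits AlgebraicGeometry Opposite Topology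

noncomputable section

namespace Groth.Agent.H88.EtMod.PointSupp

open Groth.Agent.Lib.EtSite Groth.Agent.Lib.EtSite.Basic Groth.Agent.Lib.EtJ

variable {X : Scheme.{u}}

theorem finite_of_t1 {α : Type*} [TopologicalSpace α] [TopologicalSpace.NoetherianSpace α] [QuasiSober α]
    [T1Space α] : Finite α := by
  have hfin := TopologicalSpace.NoetherianSpace.finite_irreducibleComponents (α := α)
  have hsub : ∀ Z ∈ irreducibleComponents α, Z.Subsingleton := fun Z hZ a ha b hb => by
    have hgen := hZ.1.isGenericPoint_genericPoint_closure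
    rw [(isClosed_of_mem_irreducibleComponents _ hZ).closure_eq] at hgen
    exact (hgen.specializes ha).eq.symm.trans (hgen.specializes hb).eq
  refine Set.finite_univ_iff.1 ((hfin.biUnion fun Z hZ => (hsub Z hZ).finite).subset fun a _ => ?_)
  exact Set.mem_iUnion₂.2 ⟨_, irreducibleComponent_mem_irreducibleComponents a, mem_irreducibleComponent⟩

/-- A point over a closed point of an étale scheme is closed. -/
theorem isClosed_singleton_of_image (V : X.Etale) [IsAffine X] [IsAffine V.left] (v : V.left)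
    (hv : IsClosed ({V.hom.base v} : Set X)) : IsClosed ({v} : Set V.left) := by
  haveI : Etale V.hom := V.prop
  haveI : IsAffine ((𝟭 Scheme).obj V.left) := ‹IsAffine V.left›
  haveI : IsAffine ((Functor.fromPUnit X).obj V.right) := ‹IsAffine X›
  haveI : LocallyQuasiFinite V.hom :=
    Groth.Agent.H54.EtaleSep.locallyQuasiFinite_of_formallyUnramified V.hom
  have hfin : (V.hom.base ⁻¹' {V.hom.base v}).Finite := V.hom.finite_preimage_singleton _
  have hdisc : _root_.IsDiscrete (V.hom.base ⁻¹' {V.hom.base v}) := V.hom.isDiscrete_preimage_singleton _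
  refine closure_subset_iff_isClosed.1 fun w hw => ?_
  have hwF : w ∈ V.hom.base ⁻¹' {V.hom.base v} :=
    ((specializes_iff_mem_closure.2 hw).map V.hom.continuous).mem_closed hv rfl
  haveI := hdisc.to_subtype
  let a : ↥(V.hom.base ⁻¹' {V.hom.base v}) := ⟨v, rfl⟩
  let b : ↥(V.hom.base ⁻¹' {V.hom.base v}) := ⟨w, hwF⟩
  have hab : a ⤳ b := (subtype_specializes_iff _ _).2 (specializes_iff_mem_closure.2 hw)
  exact (congrArg Subtype.val hab.eq).symm

section

variable {K : Type u} [Field K] [IsSepClosed K] (f : X ⟶ Spec (CommRingCat.of K)) [LocallyOfFiniteType f]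

include f in
theorem gsec_residueField (x : X) (hx : IsClosed ({x} : Set X)) :
    (EtCore.gsec (Spec (X.residueField x))).PreservesEpimorphisms := by
  let φ := Spec.preimage (X.fromSpecResidueField x ≫ f)
  have hint : φ.hom.IsIntegral := by
    have : IsFinite (X.fromSpecResidueField x ≫ f) := by
      rw [isClosed_singleton_iff_isClosedImmersion] at hx
      rw [isFinite_iff_locallyOfFiniteType_of_jacobsonSpace]
      infer_instance
    rw [← IsIntegralHom.SpecMap_iff, Spec.map_preimage]
    infer_instance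
  letI : Algebra K (X.residueField x) := φ.hom.toAlgebra
  haveI : Algebra.IsIntegral K (X.residueField x) := ⟨hint⟩
  haveI : IsSepClosed (X.residueField x) := Algebra.IsAlgebraic.isSepClosed (F := K)
  haveI : IsSepClosed (IsLocalRing.ResidueField (X.residueField x)) := by
    letI : Algebra K (IsLocalRing.ResidueField (X.residueField x)) :=
      ((IsLocalRing.residue (X.residueField x)).comp φ.hom).toAlgebra
    haveI : Algebra.IsIntegral K (IsLocalRing.ResidueField (X.residueField x)) :=
      ⟨RingHom.IsIntegral.trans φ.hom (IsLocalRing.residue (X.residueField x)) hint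
        (RingHom.IsIntegral.of_finite (RingHom.Finite.of_surjective _ IsLocalRing.residue_surjective))⟩
    exact Algebra.IsAlgebraic.isSepClosed (F := K)
  exact Groth.Agent.Lib.EtSite.StrictHens.gsec_preservesEpimorphisms (X.residueField x)

/-- The open complement of a closed point. -/
def compl (x : {x : X // IsClosed ({x} : Set X)}) : X.Opens := ⟨{x.1}ᶜ, x.2.isOpen_compl⟩

/-- Sections supported at a closed point. -/
abbrev part (F : EtCoh.Ab X) (x : {x : X // IsClosed ({x} : Set X)}) : EtCoh.Ab X :=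
  kernel (EtDual.unitApp (compl x).ι F)

theorem isZero_part (F : EtCoh.Ab X) (x : {x : X // IsClosed ({x} : Set X)}) {Ω : Type u} [Field Ω]
    [IsSepClosed Ω] (ξ : Spec (CommRingCat.of Ω) ⟶ X) (hξ : ξ.base default ≠ x.1) :
    IsZero ((EtCoh.stalk ξ).obj (part F x)) := by
  rw [Supp.stalk_isZero_iff]
  intro V p s
  rw [Supp.germ_eq_zero_iff]
  let W : V.left.Opens := ⟨V.hom.base ⁻¹' (compl x : Set X), (compl x).2.preimage V.hom.continuous⟩
  haveI : Etale V.hom := V.prop
  let V' : X.Etale := Scheme.Etale.mk (W.ι ≫ V.hom)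
  let g : V' ⟶ V := MorphismProperty.Over.homMk W.ι rfl
  obtain ⟨q, hq, -⟩ := Fiber.exists_fiber_map ξ g p
    ⟨fiberPt p, show V.hom.base (fiberPt p) ∈ ({x.1}ᶜ : Set X) from fun h => hξ
      (((hom_fiberPt p).trans (congrArg ξ.base (Subsingleton.elim _ _))).symm.trans h)⟩ rfl
  refine ⟨V', g, q, hq, Excision.ι_injective (compl x).ι V' ?_⟩
  rw [NatTrans.naturality_apply]
  refine (Excision.killed_ι (compl x).ι s V' g ?_).trans (map_zero _).symm
  rw [Scheme.Opens.range_ι]
  rintro _ ⟨w, rfl⟩
  exact w.2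

include f in
theorem H_part [CompactSpace X] (F : EtCoh.Ab X) (x : {x : X // IsClosed ({x} : Set X)}) (n : ℕ)
    (y : Sheaf.H (part F x) (n + 1)) : y = 0 := by
  let i := X.fromSpecResidueField x.1
  haveI : IsClosedImmersion i := isClosed_singleton_iff_isClosedImmersion.1 x.2
  have hsupp : EtPBC.supp (part F x) ⊆ Set.range i.base := by
    rintro z ⟨Ω, _, _, ξ, hξ, hne⟩
    rw [Scheme.range_fromSpecResidueField]
    by_contra hz
    refine hne (isZero_part F x ξ fun h => hz ?_)
    have : ξ.base default ∈ Set.range ξ.base := ⟨default, rfl⟩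
    rw [hξ] at this
    exact this.symm.trans h
  haveI := Groth.Agent.Lib.EtRad.Push.isIso_unit i (part F x) hsupp
  let e := asIso ((EtCoh.pullPushAdj i).unit.app (part F x))
  haveI := Groth.Agent.Lib.EtSite.ExtCompare.H_push_subsingleton i (gsec_residueField f x.1 x.2) n
    ((EtCoh.pull i).obj (part F x))
  have h0 : Sheaf.H.map e.hom (n + 1) y = 0 :=
    Subsingleton.elim (α := EtCoh.H X ((EtCoh.push i).obj ((EtCoh.pull i).obj (part F x))) (n + 1)) _ _
  have := congrArg (Sheaf.H.map e.inv (n + 1)) h0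
  rwa [← Sheaf.H.map_comp_apply, e.hom_inv_id, Sheaf.H.map_id_apply, map_zero] at this

include f in
/-- At a closed point the part of the sheaf there has the full stalk. -/
theorem surjective_part (F : EtCoh.Ab X) (hF : ∀ x ∈ EtPBC.supp F, IsClosed ({x} : Set X))
    (x : {x : X // IsClosed ({x} : Set X)}) {Ω : Type u} [Field Ω]
    [IsSepClosed Ω] (ξ : Spec (CommRingCat.of Ω) ⟶ X) (hξ : ξ.base default = x.1) :
    Function.Surjective ((EtCoh.stalk ξ).map (kernel.ι (EtDual.unitApp (compl x).ι F))) := by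
  intro z
  obtain ⟨V₀, p₀, s₀, rfl⟩ := (Scheme.pointSmallEtale ξ).toPresheafFiber_jointly_surjective z
  haveI : IsLocallyNoetherian X := LocallyOfFiniteType.isLocallyNoetherian f
  obtain ⟨_, ⟨(A : X.Opens), hA, rfl⟩, hxA, -⟩ :=
    X.isBasis_affineOpens.exists_subset_of_mem_open (Set.mem_univ x.1) isOpen_univ
  haveI : Etale V₀.hom := V₀.prop
  obtain ⟨_, ⟨(B : V₀.left.Opens), hB, rfl⟩, hpB, hle⟩ :=
    V₀.left.isBasis_affineOpens.exists_subset_of_mem_open
      (show fiberPt p₀ ∈ V₀.hom.base ⁻¹' (A : Set X) by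
        rw [Set.mem_preimage, (hom_fiberPt p₀).trans ((congrArg ξ.base (Subsingleton.elim _ _)).trans hξ)]
        exact hxA)
      (A.2.preimage V₀.hom.continuous)
  let V : X.Etale := Scheme.Etale.mk (B.ι ≫ V₀.hom)
  haveI : IsAffine (A : Scheme.{u}) := hA
  haveI : IsAffine V.left := hB
  let g : V ⟶ V₀ := MorphismProperty.Over.homMk B.ι rfl
  obtain ⟨p, hp, -⟩ := Fiber.exists_fiber_map ξ g p₀ ⟨fiberPt p₀, hpB⟩ rfl
  let s := F.obj.map g.op s₀
  let S := EtShriek.sectSupp F V s
  have hVA : ∀ v : V.left, V.hom.base v ∈ A := fun v => hle (v : ↥(B : Scheme.{u})).2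
  obtain ⟨j, hj⟩ : ∃ j : V.left ⟶ A, j ≫ A.ι = V.hom :=
    ⟨IsOpenImmersion.lift A.ι V.hom (by
      rw [Scheme.Opens.range_ι]; rintro _ ⟨w, rfl⟩; exact hVA w), IsOpenImmersion.lift_fac _ _ _⟩
  haveI : Etale V.hom := V.prop
  haveI : Etale (j ≫ A.ι) := hj ▸ V.prop
  haveI : Etale j := Etale.of_comp j A.ι
  have hcl : ∀ v ∈ S, IsClosed ({v} : Set V.left) := fun v hv => by
    have him : IsClosed ({V.hom.base v} : Set X) := hF _ (by
      rw [Supp.supp_eq_iUnion]
      exact Set.mem_iUnion₂.2 ⟨V, s, v, hv, rfl⟩)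
    haveI : IsAffine (Scheme.Etale.mk j).left := ‹IsAffine V.left›
    refine isClosed_singleton_of_image (X := (A : Scheme.{u})) (Scheme.Etale.mk j) v ?_
    have : ({j.base v} : Set ↥(A : Scheme.{u})) = A.ι.base ⁻¹' {V.hom.base v} := by
      ext a
      rw [← hj, Scheme.Hom.comp_apply]
      exact ⟨fun h => congrArg A.ι.base h, fun h => A.ι.isEmbedding.injective h⟩
    exact this ▸ him.preimage A.ι.continuous
  haveI : IsLocallyNoetherian ((Functor.fromPUnit X).obj V.right) := ‹IsLocallyNoetherian X›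
  haveI : IsLocallyNoetherian V.left := LocallyOfFiniteType.isLocallyNoetherian V.hom
  haveI : IsNoetherian V.left := {}
  have hSc : IsClosed S := Supp.isClosed_sectSupp F V s
  haveI : QuasiSober ↥S := hSc.isClosedEmbedding_subtypeVal.quasiSober
  haveI : T1Space ↥S := ⟨fun a => by
    have : ({a} : Set ↥S) = Subtype.val ⁻¹' {a.1} := by ext b; exact Subtype.ext_iff
    exact this ▸ (hcl a.1 a.2).preimage continuous_subtype_val⟩
  have hSfin : S.Finite := by
    haveI := finite_of_t1 (α := ↥S)
    exact Set.toFinite S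
  have hT : IsClosed (S \ V.hom.base ⁻¹' {x.1}) := by
    rw [← Set.biUnion_of_singleton (S \ _)]
    exact (hSfin.subset Set.sdiff_subset).isClosed_biUnion fun v hv => hcl v hv.1
  let O : V.left.Opens := ⟨(S \ V.hom.base ⁻¹' {x.1})ᶜ, hT.isOpen_compl⟩
  let W : X.Etale := Scheme.Etale.mk (O.ι ≫ V.hom)
  let r : W ⟶ V := MorphismProperty.Over.homMk O.ι rfl
  obtain ⟨q, hq, -⟩ := Fiber.exists_fiber_map ξ r p
    ⟨fiberPt p, fun h => h.2 ((hom_fiberPt p).trans ((congrArg ξ.base (Subsingleton.elim _ _)).trans hξ))⟩ rfl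
  have hkill : Excision.Killed (compl x).ι (F.obj.map r.op s) := by
    intro T w hT
    refine Stalk.sections_ext_of_germ F (U := T) _ _ (Stalk.enoughPts_pt fun z t => ?_)
    refine Eq.trans ?_ (map_zero _).symm
    rw [← ConcreteCategory.comp_apply (F.obj.map r.op) (F.obj.map w.op), ← Functor.map_comp, ← op_comp]
    refine (GrothendieckTopology.Point.toPresheafFiber_w_apply _ (w ≫ r) t F.obj s).trans
      ((Supp.germ_eq_zero_iff_notMem F V _ s).2 fun hmem => ?_)
    rw [fiberPt_map] at hmem
    set v : V.left := (w ≫ r).left.base (fiberPt t)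
    have hv : v ∈ (O : Set V.left) := (w.left.base (fiberPt t) : ↥(O : Scheme.{u})).2
    have hvx : V.hom.base v = x.1 := by
      by_contra hne
      exact hv ⟨hmem, hne⟩
    have h1 : T.hom.base (fiberPt t) ∈ ({x.1}ᶜ : Set X) := by
      have := hT ⟨fiberPt t, rfl⟩
      rwa [Scheme.Opens.range_ι] at this
    refine h1 (show T.hom.base (fiberPt t) = x.1 from ?_)
    rw [← hvx, ← MorphismProperty.Over.w (w ≫ r), Scheme.Hom.comp_apply]
    rfl
  obtain ⟨t, ht⟩ := Excision.exists_lift (compl x).ι (F.obj.map r.op s) hkill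
  refine ⟨(Scheme.pointSmallEtale ξ).toPresheafFiber W q (part F x).obj t, ?_⟩
  refine ((Scheme.pointSmallEtale ξ).toPresheafFiber_naturality_apply
    (kernel.ι (EtDual.unitApp (compl x).ι F)).hom W q t).trans ?_
  rw [ht, ← hp, ← hq]
  exact (GrothendieckTopology.Point.toPresheafFiber_w_apply _ r q F.obj _).trans
    (GrothendieckTopology.Point.toPresheafFiber_w_apply _ g _ F.obj _)

include f in
/-- Sheaves supported at closed points over a separably closed field are acyclic. -/
theorem subsingleton_H_of_supp [CompactSpace X] [QuasiSeparatedSpace X] (F : EtCoh.Ab X)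
    (hF : ∀ x ∈ EtPBC.supp F, IsClosed ({x} : Set X)) (q : ℕ) (hq : 0 < q) :
    Subsingleton (EtCoh.H X F q) := by
  classical
  obtain ⟨n, rfl⟩ := Nat.exists_eq_succ_of_ne_zero hq.ne'
  let G := fun x : {x : X // IsClosed ({x} : Set X)} => part F x
  let π : (∐ G) ⟶ F := Sigma.desc fun x => kernel.ι _
  suffices IsIso π by
    have hs := PointSum.subsingleton_H_cofan G (n + 1) (fun x => H_part f F x n)
      (Cofan.mk (∐ G) (Sigma.ι G)) (coproductIsCoproduct G)
    refine subsingleton_of_forall_eq 0 fun y => ?_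
    have h0 : Sheaf.H.map (asIso π).inv (n + 1) y = 0 := @Subsingleton.elim _ hs _ _
    have := congrArg (Sheaf.H.map (asIso π).hom (n + 1)) h0
    rwa [← Sheaf.H.map_comp_apply, (asIso π).inv_hom_id, Sheaf.H.map_id_apply, map_zero] at this
  refine Stalk.isIso_of_stalks π (Stalk.enoughPts_pt fun z => ?_)
  let ξ := geomPoint X z
  have hzero : ∀ x : {x : X // IsClosed ({x} : Set X)}, x.1 ≠ z → IsZero ((EtCoh.stalk ξ).obj (G x)) :=
    fun x hx => isZero_part F x ξ fun h => hx (h.symm.trans (geomPoint_apply z _))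
  have hc := isColimitOfPreserves (EtCoh.stalk ξ) (coproductIsCoproduct G)
  by_cases hz : IsClosed ({z} : Set X)
  · let x₀ : {x : X // IsClosed ({x} : Set X)} := ⟨z, hz⟩
    have hepi : Epi ((EtCoh.stalk ξ).map (Sigma.ι G x₀)) := by
      refine Preadditive.epi_of_cancel_zero _ fun {P} a ha => hc.hom_ext fun ⟨x⟩ => ?_
      by_cases hx : x.1 = z
      · obtain rfl : x = x₀ := Subtype.ext hx
        exact ha.trans comp_zero.symm
      · exact (hzero x hx).eq_of_src _ _
    have hsurj := surjective_part f F hF x₀ ξ (geomPoint_apply z _)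
    haveI : Mono ((EtCoh.stalk ξ).map (kernel.ι (EtDual.unitApp (compl x₀).ι F))) := inferInstance
    have hcomp : (EtCoh.stalk ξ).map (Sigma.ι G x₀) ≫ (EtCoh.stalk ξ).map π =
        (EtCoh.stalk ξ).map (kernel.ι (EtDual.unitApp (compl x₀).ι F)) := by
      rw [← Functor.map_comp, Sigma.ι_desc]
    have hse := (AddCommGrpCat.epi_iff_surjective _).1 hepi
    refine ⟨fun a b hab => ?_, fun w => ?_⟩
    · obtain ⟨a', rfl⟩ := hse a
      obtain ⟨b', rfl⟩ := hse b
      refine congrArg _ ((AddCommGrpCat.mono_iff_injective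
        ((EtCoh.stalk ξ).map (kernel.ι (EtDual.unitApp (compl x₀).ι F)))).1 inferInstance ?_)
      rw [← hcomp]
      exact hab
    · obtain ⟨a, rfl⟩ := hsurj w
      exact ⟨_, (ConcreteCategory.congr_hom hcomp a)⟩
  · have hFz : IsZero ((EtCoh.stalk ξ).obj F) := by
      by_contra hne
      refine hz (hF z ⟨_, inferInstance, inferInstance, ξ, ?_, hne⟩)
      exact (Supp.range_eq _).trans (by rw [geomPoint_apply])
    have hSz : IsZero ((EtCoh.stalk ξ).obj (∐ G)) := by
      rw [IsZero.iff_id_eq_zero]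
      exact hc.hom_ext fun ⟨x⟩ => (hzero x fun h => hz (h ▸ x.2)).eq_of_src _ _
    haveI := AddCommGrpCat.subsingleton_of_isZero hSz
    haveI := AddCommGrpCat.subsingleton_of_isZero hFz
    exact ⟨Function.injective_of_subsingleton _, fun w => ⟨0, Subsingleton.elim _ _⟩⟩

end

end Groth.Agent.H88.EtMod.PointSupp
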