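import Groth.Agent.H88.EtMod.CurveGeneric
import Groth.Agent.H88.EtMod.PointSupp
import Groth.Agent.Lib.EtJ.OpenZero
import Groth.Agent.H34.SmoothCurveStalk
import Groth.Agent.Lib.AlgSpLimit.LimQf
import Groth.Prelude.Def_FinFr
import Mathlib.AlgebraicGeometry.Geometrically.Irreducible

/-!
Excision for compactly supported cohomology of curves in degree two.
-/

set_option autoImplicit false
set_option linter.style.haveILetI false

universe u

open CategoryTheory CategoryTheory.Limits AlgebraicGeometry Opposite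

noncomputable section

namespace Groth.Agent.H88.EtMod.CurveExcision

open Groth.Agent.Lib.EtSite Groth.Agent.Lib.EtJ

variable {k : Type u} [Field k]

/-- Non-generic points of a smooth irreducible curve are closed. -/
theorem isClosed_of_ne {X : Scheme.{u}} (a : X ⟶ Spec (CommRingCat.of k)) [SmoothOfRelativeDimension 1 a]
    [IrreducibleSpace ↥X] {x : X} (hx : x ≠ genericPoint ↥X) : IsClosed ({x} : Set X) := by
  letI : X.Over (Spec (CommRingCat.of k)) := ⟨a⟩
  haveI : LocallyOfFiniteType a := by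
    haveI : Smooth a := SmoothOfRelativeDimension.smooth 1 a
    infer_instance
  haveI : JacobsonSpace ↥X := LocallyOfFiniteType.jacobsonSpace a
  obtain ⟨c, hcc, hc⟩ : ∃ c ∈ closure ({x} : Set X), IsClosed ({c} : Set X) := by
    obtain ⟨c, h1, h2⟩ := nonempty_inter_closedPoints (Z := closure ({x} : Set X)) ⟨x, subset_closure rfl⟩
      isClosed_closure.isLocallyClosed
    exact ⟨c, h1, h2⟩
  suffices x = c by rwa [this]
  haveI : SmoothOfRelativeDimension 1 (X ↘ Spec (CommRingCat.of k)) := ‹SmoothOfRelativeDimension 1 a›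
  obtain ⟨-, -, hd, hdvr⟩ := Groth.Agent.H34.SmoothCurveStalk.closedPoint_facts k X c hc
    ⟨⊤, trivial, smoothOfRelativeDimension_comp 0 1 _ _⟩
  have hsp : x ⤳ c := specializes_iff_mem_closure.2 hcc
  obtain ⟨p, hp⟩ : x ∈ Set.range (X.fromSpecStalk c).base := by rw [Scheme.range_fromSpecStalk]; exact hsp
  obtain ⟨q, hq⟩ : genericPoint ↥X ∈ Set.range (X.fromSpecStalk c).base := by
    rw [Scheme.range_fromSpecStalk]; exact genericPoint_specializes c
  let p' : PrimeSpectrum (X.presheaf.stalk c) := p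
  let q' : PrimeSpectrum (X.presheaf.stalk c) := q
  have hm : ∀ r : PrimeSpectrum (X.presheaf.stalk c), r.asIdeal ≠ ⊥ → (X.fromSpecStalk c).base r = c := fun r hr => by
    have : r = IsLocalRing.closedPoint _ :=
      PrimeSpectrum.ext (IsLocalRing.eq_maximalIdeal (r.isPrime.isMaximal hr))
    rw [this]
    exact Scheme.fromSpecStalk_closedPoint
  by_contra hne
  have hp0 : p'.asIdeal = ⊥ := by_contra fun h => hne (hp.symm.trans (hm p' h))
  by_cases hq0 : q'.asIdeal = ⊥
  · refine hx (hp.symm.trans (Eq.trans ?_ hq))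
    exact congrArg (X.fromSpecStalk c).base (PrimeSpectrum.ext (hp0.trans hq0.symm))
  · have hg : genericPoint ↥X = c := hq.symm.trans (hm q' hq0)
    exact hne (hsp.antisymm (hg ▸ genericPoint_specializes x)).eq

variable {K : Type u} [Field K] [Algebra k K]

/-- Points above closed points are closed. -/
theorem isClosed_of_image [Algebra.IsAlgebraic k K] {P : Scheme.{u}} (b : P ⟶ Spec (CommRingCat.of k))
    {x : ↥(FinFr.ext K b)} (hx : IsClosed ({(FinFr.extπ K b).base x} : Set P)) :
    IsClosed ({x} : Set ↥(FinFr.ext K b)) := by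
  haveI : Algebra.IsIntegral k K := Algebra.IsAlgebraic.isIntegral
  haveI : IsIntegralHom (FinFr.specι k K) :=
    IsIntegralHom.SpecMap_iff.2 (algebraMap_isIntegral_iff.2 inferInstance)
  haveI : IsIntegralHom (FinFr.extπ K b) := MorphismProperty.pullback_fst _ _ inferInstance
  let π := FinFr.extπ K b
  rw [← closure_subset_iff_isClosed]
  intro y hy
  have hxy : x ⤳ y := specializes_iff_mem_closure.2 hy
  have hπ : π.base y = π.base x := by
    have h1 : π.base y ∈ closure ({π.base x} : Set P) :=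
      specializes_iff_mem_closure.1 (hxy.map π.continuous)
    rw [hx.closure_eq] at h1
    exact h1
  let i := P.fromSpecResidueField (π.base x)
  let π' := pullback.snd π i
  have hsing : ∀ z : Spec (P.residueField (π.base x)), i.base z = π.base x :=
    fun z => Scheme.fromSpecResidueField_apply _ z
  obtain ⟨x', hx', -⟩ := Scheme.Pullback.exists_preimage_pullback (f := π) (g := i) x default (hsing _).symm
  obtain ⟨y', hy', -⟩ := Scheme.Pullback.exists_preimage_pullback (f := π) (g := i) y default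
    (hπ.trans (hsing _).symm)
  have hs : x' ⤳ y' := (pullback.fst π i).isEmbedding.isInducing.specializes_iff.1 (hx'.symm ▸ hy'.symm ▸ hxy)
  haveI : IsIntegralHom π' := MorphismProperty.pullback_snd _ _ inferInstance
  have heq : x' = y' := Groth.Agent.Lib.AlgSpLimit.eq_of_specializes_of_isIntegralHom π' hs
    (Subsingleton.elim (α := PrimeSpectrum (P.residueField (π.base x))) _ _)
  exact hy'.symm.trans ((congrArg (pullback.fst π i).base heq).symm.trans hx')

variable {X₀ P₀ U₀ : Scheme.{u}} (a : X₀ ⟶ Spec (CommRingCat.of k))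
  [SmoothOfRelativeDimension 1 a] [GeometricallyIrreducible a]
  (j : X₀ ⟶ P₀) [IsOpenImmersion j] (b : P₀ ⟶ Spec (CommRingCat.of k)) [LocallyOfFiniteType b]
  (hj : j ≫ b = a) (i : U₀ ⟶ X₀) [IsOpenImmersion i] [Nonempty ↥U₀] (F : EtCoh.Ab X₀)

include hj in
theorem notMem [Algebra.IsAlgebraic k K] :
    (∀ x ∈ EtPBC.supp (kernel ((EtCoh.pull (FinFr.extπ K b)).map
      ((EtShriek.extZero j).map ((EtShriek.extZeroAdj i).counit.app F)))), IsClosed ({x} : Set ↥(FinFr.ext K b))) ∧
    (∀ x ∈ EtPBC.supp (cokernel ((EtCoh.pull (FinFr.extπ K b)).map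
      ((EtShriek.extZero j).map ((EtShriek.extZeroAdj i).counit.app F)))), IsClosed ({x} : Set ↥(FinFr.ext K b))) := by
  let π := FinFr.extπ K b
  let α := (EtShriek.extZero j).map ((EtShriek.extZeroAdj i).counit.app F)
  haveI : IrreducibleSpace ↥X₀ := GeometricallyIrreducible.irreducibleSpace a
    (fun s _ => isOpen_discrete (α := PrimeSpectrum k) _)
  haveI : JacobsonSpace ↥P₀ := LocallyOfFiniteType.jacobsonSpace b
  have key : ∀ x : ↥(FinFr.ext K b), ¬ IsClosed ({x} : Set ↥(FinFr.ext K b)) →
      x ∉ EtPBC.supp (kernel ((EtCoh.pull π).map α)) ∧ x ∉ EtPBC.supp (cokernel ((EtCoh.pull π).map α)) := by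
    intro x hx
    refine CurveGeneric.notMem_supp_of_isIso _ fun Ω _ _ ξ hξ => ?_
    have hpt : (ξ ≫ π).base default = π.base x :=
      congrArg π.base (Set.eq_of_mem_singleton (hξ ▸ Set.mem_range_self default))
    suffices IsIso ((EtCoh.stalk (ξ ≫ π)).map α) from
      (NatIso.isIso_map_iff (Pull.stalkPull π ξ) α).2 this
    by_cases hr : π.base x ∈ Set.range j.base
    swap
    · have h1 := OpenZero.isZero_stalk j (ξ ≫ π) (by rwa [hpt]) ((EtShriek.extZero i).obj ((EtShriek.restrAlong i).obj F))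
      have h2 := OpenZero.isZero_stalk j (ξ ≫ π) (by rwa [hpt]) F
      exact ⟨⟨h2.to_ _, h1.eq_of_src _ _, h2.eq_of_src _ _⟩⟩
    obtain ⟨x₀, hx₀⟩ := hr
    have hi : x₀ ∈ Set.range i.base := by
      by_contra hni
      refine hx (isClosed_of_image b ?_)
      rw [show (FinFr.extπ K b).base x = j.base x₀ from hx₀.symm]
      have hg : x₀ ≠ genericPoint ↥X₀ := fun e => by
        obtain ⟨u⟩ := ‹Nonempty ↥U₀›
        exact hni (e ▸ (genericPoint_specializes (i.base u)).mem_open i.isOpenEmbedding.isOpen_range ⟨u, rfl⟩)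
      refine isClosed_singleton_of_isLocallyClosed_singleton ?_
      rw [← Set.image_singleton]
      exact ((isClosed_of_ne a hg).isLocallyClosed.image j.isOpenEmbedding.isInducing
        j.isOpenEmbedding.isOpen_range.isLocallyClosed)
    have hr' : Set.range (ξ ≫ π).base ⊆ Set.range j.base := by
      rintro _ ⟨p, rfl⟩
      rw [Subsingleton.elim p default, hpt, ← hx₀]
      exact ⟨x₀, rfl⟩
    let v := IsOpenImmersion.lift j (ξ ≫ π) hr'
    have hv : v ≫ j = ξ ≫ π := IsOpenImmersion.lift_fac _ _ _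
    have hv0 : v.base default = x₀ := j.isOpenEmbedding.injective
      ((congrArg (fun m => m.base default) hv).trans (hpt.trans hx₀.symm))
    rw [← hv]
    refine (NatIso.isIso_map_iff (Pull.stalkPull j v) _).1 ?_
    haveI : IsIso ((EtCoh.stalk v).map ((EtShriek.extZeroAdj i).counit.app F)) :=
      OpenZero.isIso_stalk_counit i v (by rw [hv0]; exact hi) F
    have hu : ∀ G, IsIso ((EtShriek.extZeroAdj j).unit.app G) := OpenZero.isIso_unit j
    haveI := fun G => hu G
    haveI : IsIso (EtShriek.extZeroAdj j).unit := NatIso.isIso_of_isIso_app _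
    let e : EtShriek.extZero j ⋙ EtCoh.pull j ≅ 𝟭 _ :=
      Functor.isoWhiskerLeft _ (Basic.pullIsoRestr j) ≪≫ (asIso (EtShriek.extZeroAdj j).unit).symm
    change IsIso ((EtCoh.stalk v).map ((EtShriek.extZero j ⋙ EtCoh.pull j).map ((EtShriek.extZeroAdj i).counit.app F)))
    exact (NatIso.isIso_map_iff (Functor.isoWhiskerRight e (EtCoh.stalk v)) _).2
      (inferInstanceAs (IsIso ((EtCoh.stalk v).map ((EtShriek.extZeroAdj i).counit.app F))))
  exact ⟨fun x hx => by_contra fun h => (key x h).1 hx, fun x hx => by_contra fun h => (key x h).2 hx⟩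

theorem bijective_H_map [IsAlgClosed K] (b : P₀ ⟶ Spec (CommRingCat.of k)) [IsProper b]
    {G₁ G₂ : EtCoh.Ab (FinFr.ext K b)} (φ : G₁ ⟶ G₂)
    (hK : ∀ x ∈ EtPBC.supp (kernel φ), IsClosed ({x} : Set ↥(FinFr.ext K b)))
    (hC : ∀ x ∈ EtPBC.supp (cokernel φ), IsClosed ({x} : Set ↥(FinFr.ext K b))) :
    Function.Bijective (Sheaf.H.map φ 2) := by
  haveI : IsProper (FinFr.extStr b (K := K)) := MorphismProperty.pullback_snd _ _ inferInstance
  haveI : CompactSpace ↥(FinFr.ext K b) := QuasiCompact.compactSpace_of_compactSpace (FinFr.extStr b (K := K))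
  haveI : QuasiSeparatedSpace ↥(FinFr.ext K b) :=
    quasiSeparatedSpace_of_quasiSeparated (FinFr.extStr b (K := K))
  exact CurveGeneric.bijective_comp φ 1
    (PointSupp.subsingleton_H_of_supp (FinFr.extStr b (K := K)) _ hK 2 (by omega))
    (PointSupp.subsingleton_H_of_supp (FinFr.extStr b (K := K)) _ hK 3 (by omega))
    (PointSupp.subsingleton_H_of_supp (FinFr.extStr b (K := K)) _ hC 1 (by omega))
    (PointSupp.subsingleton_H_of_supp (FinFr.extStr b (K := K)) _ hC 2 (by omega))

end Groth.Agent.H88.EtMod.CurveExcision
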