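import Groth.Agent.H88.EtMod.FieldAcy
import Groth.Agent.H61.FieldCoh.TrivialBr
import Groth.Agent.H61.FieldCoh.Continuity
import Groth.Agent.S0212
import Groth.Agent.H26.StalkTrdeg
import Groth.Agent.Lib.EtJ.Basic

/-!
Fields of transcendence degree at most one over an algebraically closed field.
-/

set_option autoImplicit false
set_option linter.style.haveILetI false

universe u

open CategoryTheory CategoryTheory.Limits AlgebraicGeometry Opposite

noncomputable section

namespace Groth.Agent.H88.EtMod.CurveField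

open Groth.Agent.H61 FieldCoh FieldAcy

/-- The hypothesis on Brauer groups. -/
def TrivBr (K : Type u) [Field K] : Prop :=
  ∀ (K' : Type u) [Field K'] [Algebra K K'] [FiniteDimensional K K']
    (D : Type u) [DivisionRing D] [Algebra K' D] [Algebra.IsCentral K' D] [FiniteDimensional K' D],
    Module.finrank K' D = 1

/-- Tsen. -/
theorem trivBr_of_trdeg (k : Type u) [Field k] [IsAlgClosed k] (K : Type u) [Field K] [Algebra k K]
    (h : Algebra.trdeg k K ≤ 1) : TrivBr K := by
  obtain ⟨j, hj⟩ := Cardinal.lt_aleph0.1 (h.trans_lt Cardinal.one_lt_aleph0)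
  have hj1 : j ≤ 1 := by exact_mod_cast (hj ▸ h)
  have hi := Groth.Agent.S0212.result k K j hj
  have hr : Curves.IsCr K 1 := by
    intro n d f hf hd hn
    rw [pow_one] at hn
    refine Groth.Agent.Lib.CiField.Basic.isCr_of_isCi hi n d f hf hd (lt_of_le_of_lt ?_ hn)
    calc d ^ j ≤ d ^ 1 := Nat.pow_le_pow_right hd hj1
      _ = d := pow_one d
  intro K' _ _ _ D _ _ _ _
  exact Groth.Agent.Lib.CiField.Brauer.finrank_eq_one
    (Groth.Agent.Lib.CiField.Basic.isCr_one_of_finite (K := K) (L := K') hr)

variable {K : Type u} [Field K]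

theorem trivBr_finite (h : TrivBr K) (L : Type u) [Field L] [Algebra K L] [FiniteDimensional K L] : TrivBr L := by
  intro K' _ _ _ D _ _ _ _
  letI : Algebra K K' := ((algebraMap L K').comp (algebraMap K L)).toAlgebra
  haveI : IsScalarTower K L K' := IsScalarTower.of_algebraMap_eq fun _ => rfl
  haveI : FiniteDimensional K K' := Module.Finite.trans L K'
  exact h K' D

/-- Pull-back along an étale map is restriction. -/
def pullRestr {U X : Scheme.{u}} (j : U ⟶ X) [Etale j] : EtCoh.pull j ≅ EtShriek.restrAlong j :=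
  Adjunction.leftAdjointUniq (EtCoh.pullPushAdj j) (Lib.EtJ.Basic.restrPushAdj j)

/-- `G_m` restricts to `G_m`. -/
def restrGm {U X : Scheme.{u}} (j : U ⟶ X) [Etale j] :
    (EtShriek.restrAlong j).obj (EtCoh.Gm X) ≅ EtCoh.Gm U :=
  (sheafToPresheaf _ _).preimageIso (NatIso.ofComponents (fun V => Iso.refl _) (fun g => by rfl))

theorem normSurj (h : TrivBr K) : ∀ p : ℕ, p.Prime → NormSurj K p := fun p hp => by
  haveI := Fact.mk hp
  exact normSurj_of_br h p

/-- `G_m` has no positive cohomology. -/
theorem acy_Gm (h : TrivBr K) : Acy 1 (EtCoh.Gm (S K)) := acy_of_fields fun L _ _ _ m hm => by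
  haveI : Module.Finite K L := Algebra.FormallyUnramified.finite_of_free K L
  haveI : Subsingleton ↑((EtCoh.HF (S L) m).obj (EtCoh.Gm (S L))) :=
    FieldCoh.subsingleton_H_Gm (normSurj (trivBr_finite h L)) hm
  exact Equiv.subsingleton (((EtCoh.HF (S L) m).mapIso
    ((pullRestr (jF K L)).app _ ≪≫ restrGm (jF K L))).addCommGroupIsoToAddEquiv.toEquiv)

/-- Torsion sheaves have no cohomology in degree at least two. -/
theorem acy_torsion (h : TrivBr K) {F : EtCoh.Ab (S K)} (hF : EtCoh.IsTorsion F) : Acy 2 F :=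
  acy_of_fields fun L _ _ _ m hm => by
  haveI : Module.Finite K L := Algebra.FormallyUnramified.finite_of_free K L
  haveI : Subsingleton ↑((EtCoh.HF (S L) m).obj ((EtShriek.restrAlong (jF K L)).obj F)) :=
    FieldCoh.subsingleton_H_torsion (normSurj (trivBr_finite h L)) _ (isTorsion_restr (jF K L) hF) (by omega)
  exact Equiv.subsingleton (((EtCoh.HF (S L) m).mapIso
    ((pullRestr (jF K L)).app F)).addCommGroupIsoToAddEquiv.toEquiv)

end Groth.Agent.H88.EtMod.CurveField
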