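import Groth.Agent.H88.EtMod.DimZero
import Groth.Agent.H75.RedSub

/-!
Sheaves on curves over separably closed fields without stalks at the maximal points.
-/

set_option autoImplicit false
set_option linter.style.haveILetI false

universe u

open CategoryTheory CategoryTheory.Limits AlgebraicGeometry Opposite Abelian

noncomputable section

namespace Groth.Agent.H88.EtMod.CurveGeneric

open DivBasic DimTorsion

/-- No cohomology in positive degree. -/
theorem subsingleton_H {k : Type u} [Field k] [IsSepClosed k] {C : Scheme.{u}}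
    (f : C ⟶ Spec (CommRingCat.of k)) [LocallyOfFiniteType f] [QuasiCompact f]
    (hdim : topologicalKrullDim C ≤ 1) (F : EtCoh.Ab C)
    (hF : ∀ η : C, closure {η} ∈ irreducibleComponents ↥C → η ∉ EtPBC.supp F) (q : ℕ) (hq : 0 < q) :
    Subsingleton (EtCoh.H C F q) := by
  haveI : IsLocallyNoetherian C := LocallyOfFiniteType.isLocallyNoetherian f
  haveI : CompactSpace ↥C := QuasiCompact.compactSpace_of_compactSpace f
  haveI : IsNoetherian C := {}
  refine subsingleton_of_forall_eq 0 fun y => ?_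
  obtain ⟨Z, g, x, rfl⟩ := exists_hom F hF q y
  have hdim' : topologicalKrullDim C ≤ (((0 + 1 : ℕ)) : WithBot ℕ∞) := hdim.trans (by simp)
  have hd := dim_le_of_no_maximal hdim' (subι Z).base (subι Z).isClosedEmbedding
    fun η hη => range_subι Z ▸ Z.2 η hη
  haveI : AlgebraicGeometry.IsReduced (sub Z) := Groth.Agent.H75.RedSub.isReduced_vanishingIdeal _
  rw [show x = 0 from @Subsingleton.elim _ (DimZero.subsingleton_H k (sub Z) (subι Z ≫ f) hd _ q hq) x 0,
    map_zero]

/-- A map that is an isomorphism at the maximal points. -/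
theorem notMem_supp_of_isIso {C : Scheme.{u}} {F G : EtCoh.Ab C} (φ : F ⟶ G) {η : C}
    (h : ∀ (Ω : Type u) (_ : Field Ω) (_ : IsSepClosed Ω) (ξ : Spec (CommRingCat.of Ω) ⟶ C),
      Set.range ξ.base = {η} → IsIso ((EtCoh.stalk ξ).map φ)) :
    η ∉ EtPBC.supp (kernel φ) ∧ η ∉ EtPBC.supp (cokernel φ) := by
  constructor
  · refine (GenericStalk.notMem_supp_iff _ η).2 fun Ω i₁ i₂ ξ hξ => ?_
    haveI := h Ω i₁ i₂ ξ hξ
    exact IsZero.of_iso (isZero_kernel_of_mono _) (PreservesKernel.iso (EtCoh.stalk ξ) φ)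
  · refine (GenericStalk.notMem_supp_iff _ η).2 fun Ω i₁ i₂ ξ hξ => ?_
    haveI := h Ω i₁ i₂ ξ hξ
    haveI : PreservesColimitsOfSize.{0, 0} (EtCoh.stalk ξ) :=
      preservesColimitsOfSize_shrink.{0, u + 1, 0, u + 1} _
    exact IsZero.of_iso (isZero_cokernel_of_epi _) (PreservesCokernel.iso (EtCoh.stalk ξ) φ)

/-- Kernel and image sequences: a map with acyclic kernel and cokernel. -/
theorem bijective_comp {A : Type*} [Category A] [Abelian A] [HasExt A] {P F G : A} (φ : F ⟶ G) (q : ℕ)
    (hK : Subsingleton (Ext P (kernel φ) (q + 1))) (hK' : Subsingleton (Ext P (kernel φ) (q + 2)))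
    (hC : Subsingleton (Ext P (cokernel φ) q)) (hC' : Subsingleton (Ext P (cokernel φ) (q + 1))) :
    Function.Bijective fun e : Ext P F (q + 1) => e.comp (Ext.mk₀ φ) (add_zero (q + 1)) := by
  let S₁ := ShortComplex.mk (kernel.ι φ) (Abelian.factorThruImage φ) (by
    rw [← cancel_mono (Abelian.image.ι φ), Category.assoc, Abelian.image.fac, kernel.condition, zero_comp])
  have h₁ : S₁.ShortExact :=
    { exact := by
        refine ShortComplex.exact_of_f_is_kernel _ (KernelFork.IsLimit.ofι' _ _ fun {W} w hw => ?_)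
        refine ⟨kernel.lift φ w ?_, kernel.lift_ι _ _ _⟩
        rw [← Abelian.image.fac φ, ← Category.assoc]
        exact (congrArg (· ≫ Abelian.image.ι φ) hw).trans zero_comp
      mono_f := inferInstanceAs (Mono (kernel.ι φ))
      epi_g := inferInstanceAs (Epi (Abelian.factorThruImage φ)) }
  let S₂ := ShortComplex.mk (Abelian.image.ι φ) (cokernel.π φ) (kernel.condition _)
  have h₂ : S₂.ShortExact :=
    { exact := ShortComplex.exact_of_f_is_kernel _ (kernelIsKernel _)
      mono_f := inferInstanceAs (Mono (kernel.ι _))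
      epi_g := inferInstanceAs (Epi (cokernel.π φ)) }
  let a : Ext P F (q + 1) →+ Ext P S₁.X₃ (q + 1) := (Ext.mk₀ S₁.g).postcomp P (add_zero (q + 1))
  let b : Ext P S₁.X₃ (q + 1) →+ Ext P G (q + 1) := (Ext.mk₀ S₂.f).postcomp P (add_zero (q + 1))
  have hfac : ∀ e, b (a e) = e.comp (Ext.mk₀ φ) (add_zero (q + 1)) := fun e => by
    change (e.comp (Ext.mk₀ S₁.g) (add_zero _)).comp (Ext.mk₀ S₂.f) (add_zero _) = _
    rw [Ext.comp_assoc_of_second_deg_zero, Ext.mk₀_comp_mk₀]
    exact congrArg (fun m => e.comp (Ext.mk₀ m) (add_zero (q + 1))) (Abelian.image.fac φ)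
  have ha : Function.Bijective a := by
    refine ⟨(injective_iff_map_eq_zero a).2 fun e he => ?_, fun w => ?_⟩
    · obtain ⟨v, rfl⟩ := Ext.covariant_sequence_exact₂ _ h₁ e he
      rw [show v = 0 from @Subsingleton.elim _ hK _ _]
      exact Ext.zero_comp _ _ _ _ _
    · exact Ext.covariant_sequence_exact₃ _ h₁ w (n₁ := q + 2) rfl (@Subsingleton.elim _ hK' _ _)
  have hb : Function.Bijective b := by
    refine ⟨(injective_iff_map_eq_zero b).2 fun e he => ?_, fun w => ?_⟩
    · obtain ⟨v, rfl⟩ := Ext.covariant_sequence_exact₁ _ h₂ e he (n₀ := q) rfl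
      rw [show v = 0 from @Subsingleton.elim _ hC _ _]
      exact Ext.zero_comp _ _ _ _ _
    · exact Ext.covariant_sequence_exact₂ _ h₂ w (@Subsingleton.elim _ hC' _ _)
  have : (fun e : Ext P F (q + 1) => e.comp (Ext.mk₀ φ) (add_zero (q + 1))) = b ∘ a :=
    funext fun e => (hfac e).symm
  rw [this]
  exact hb.comp ha

end Groth.Agent.H88.EtMod.CurveGeneric
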