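import Groth.Agent.H88.EtMod.NoethCurve
import Groth.Agent.Lib.Kummer.Basic
import Groth.Agent.Lib.EtH1Gm.HofPush

/-!
`H^i(X, G_m)` has no `ℓ`-torsion for `i ≥ 2` on suitable noetherian schemes of dimension one.
-/

set_option autoImplicit false
set_option linter.style.haveILetI false

universe u

open CategoryTheory CategoryTheory.Limits AlgebraicGeometry Opposite Abelian

noncomputable section

namespace Groth.Agent.H88.EtMod.GmTorsion

open Groth.Agent.H61 FieldCoh Groth.Agent.Lib.EtSite Groth.Agent.Lib.EtSite.Basic Groth.Agent.Lib.EtJ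
open GenericStalk GmGeneric
open scoped ZeroObject

variable {X : Scheme.{u}}

abbrev M (X : Scheme.{u}) : Set X := CurveCd.M X

/-- A map bijective or surjective at one maximal point with a property of the target. -/
def GoodR (G : EtCoh.Ab X) (R : EtCoh.Ab X → Prop) (η : X) : Prop :=
  ∃ (P : EtCoh.Ab X) (φ : G ⟶ P),
    (∀ (Ω : Type u) (_ : Field Ω) (_ : IsSepClosed Ω) (ξ : Spec (CommRingCat.of Ω) ⟶ X),
      Set.range ξ.base = {η} → IsIso ((EtCoh.stalk ξ).map φ)) ∧
    (∀ μ ∈ M X, μ ≠ η → μ ∉ EtPBC.supp P) ∧ R P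

theorem exists_map {G : EtCoh.Ab X} (R : EtCoh.Ab X → Prop) (hR0 : ∀ P : EtCoh.Ab X, 𝟙 P = 0 → R P)
    (hR : ∀ P Q : EtCoh.Ab X, R P → R Q → R (P ⊞ Q)) (h : ∀ η ∈ M X, GoodR G R η) {s : Set X} (hs : s.Finite) :
    ∃ (P : EtCoh.Ab X) (φ : G ⟶ P),
      (∀ η ∈ M X, η ∈ s → ∀ (Ω : Type u) (_ : Field Ω) (_ : IsSepClosed Ω) (ξ : Spec (CommRingCat.of Ω) ⟶ X),
        Set.range ξ.base = {η} → IsIso ((EtCoh.stalk ξ).map φ)) ∧
      (∀ μ ∈ M X, μ ∉ s → μ ∉ EtPBC.supp P) ∧ R P := by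
  induction s, hs using Set.Finite.induction_on with
  | empty =>
    refine ⟨(0 : EtCoh.Ab X), 0, fun _ _ h => absurd h (Set.notMem_empty _), fun μ _ _ => ?_, ?_⟩
    · refine (notMem_supp_iff _ μ).2 fun Ω _ _ ξ _ => ?_
      haveI : PreservesColimitsOfSize.{0, 0} (EtCoh.stalk ξ) := preservesColimitsOfSize_shrink.{0, u + 1, 0, u + 1} _
      exact Functor.map_isZero _ (isZero_zero _)
    · exact hR0 _ ((IsZero.iff_id_eq_zero _).1 (isZero_zero _))
  | @insert η s hηs _ IH =>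
    obtain ⟨P₂, φ₂, iso₂, off₂, van₂⟩ := IH
    by_cases hηM : η ∈ M X
    swap
    · exact ⟨P₂, φ₂, fun μ hμ h => iso₂ μ hμ (h.resolve_left fun e => hηM (e ▸ hμ)),
        fun μ hμ h => off₂ μ hμ fun hh => h (Or.inr hh), van₂⟩
    obtain ⟨P₁, φ₁, iso₁, off₁, van₁⟩ := h η hηM
    refine ⟨P₁ ⊞ P₂, biprod.lift φ₁ φ₂, fun μ hμ hμs Ω i₁ i₂ ξ hξ => ?_, fun μ hμ hμs => ?_,
      hR _ _ van₁ van₂⟩
    · haveI : PreservesColimitsOfSize.{0, 0} (EtCoh.stalk ξ) := preservesColimitsOfSize_shrink.{0, u + 1, 0, u + 1} _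
      haveI : (EtCoh.stalk ξ).Additive := inferInstance
      rcases hμs with rfl | hμs
      · have h0 := (IsZero.iff_id_eq_zero _).1 ((notMem_supp_iff P₂ μ).1 (off₂ μ hμ hηs) Ω i₁ i₂ ξ hξ)
        haveI : IsIso ((EtCoh.stalk ξ).map (biprod.fst : P₁ ⊞ P₂ ⟶ P₁)) := by
          refine ⟨(EtCoh.stalk ξ).map biprod.inl, ?_, ?_⟩
          · have hz : (EtCoh.stalk ξ).map ((biprod.snd : P₁ ⊞ P₂ ⟶ P₂) ≫ (biprod.inr : P₂ ⟶ P₁ ⊞ P₂)) = 0 := by
              rw [Functor.map_comp, ← Category.id_comp ((EtCoh.stalk ξ).map biprod.inr), h0, zero_comp, comp_zero]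
            rw [← Functor.map_comp, ← CategoryTheory.Functor.map_id, ← biprod.total, Functor.map_add, hz, add_zero]
          · rw [← Functor.map_comp, biprod.inl_fst, CategoryTheory.Functor.map_id]
        haveI := iso₁ Ω i₁ i₂ ξ hξ
        haveI : IsIso ((EtCoh.stalk ξ).map (biprod.lift φ₁ φ₂) ≫ (EtCoh.stalk ξ).map biprod.fst) := by
          rw [← Functor.map_comp, biprod.lift_fst]; infer_instance
        exact IsIso.of_isIso_comp_right _ ((EtCoh.stalk ξ).map biprod.fst)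
      · have hne : μ ≠ η := fun e => hηs (e ▸ hμs)
        have h0 := (IsZero.iff_id_eq_zero _).1 ((notMem_supp_iff P₁ μ).1 (off₁ μ hμ hne) Ω i₁ i₂ ξ hξ)
        haveI : IsIso ((EtCoh.stalk ξ).map (biprod.snd : P₁ ⊞ P₂ ⟶ P₂)) := by
          refine ⟨(EtCoh.stalk ξ).map biprod.inr, ?_, ?_⟩
          · have hz : (EtCoh.stalk ξ).map ((biprod.fst : P₁ ⊞ P₂ ⟶ P₁) ≫ (biprod.inl : P₁ ⟶ P₁ ⊞ P₂)) = 0 := by
              rw [Functor.map_comp, ← Category.id_comp ((EtCoh.stalk ξ).map biprod.inl), h0, zero_comp, comp_zero]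
            rw [← Functor.map_comp, ← CategoryTheory.Functor.map_id, ← biprod.total, Functor.map_add, hz, zero_add]
          · rw [← Functor.map_comp, biprod.inr_snd, CategoryTheory.Functor.map_id]
        haveI := iso₂ μ hμ hμs Ω i₁ i₂ ξ hξ
        haveI : IsIso ((EtCoh.stalk ξ).map (biprod.lift φ₁ φ₂) ≫ (EtCoh.stalk ξ).map biprod.snd) := by
          rw [← Functor.map_comp, biprod.lift_snd]; infer_instance
        exact IsIso.of_isIso_comp_right _ ((EtCoh.stalk ξ).map biprod.snd)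
    · refine (notMem_supp_iff _ μ).2 fun Ω i₁ i₂ ξ hξ => (IsZero.iff_id_eq_zero _).2 ?_
      haveI : PreservesColimitsOfSize.{0, 0} (EtCoh.stalk ξ) := preservesColimitsOfSize_shrink.{0, u + 1, 0, u + 1} _
      have h1 := (IsZero.iff_id_eq_zero _).1 ((notMem_supp_iff P₁ μ).1 (off₁ μ hμ fun e => hμs (Or.inl e)) Ω i₁ i₂ ξ hξ)
      have h2 := (IsZero.iff_id_eq_zero _).1 ((notMem_supp_iff P₂ μ).1 (off₂ μ hμ fun e => hμs (Or.inr e)) Ω i₁ i₂ ξ hξ)
      rw [← CategoryTheory.Functor.map_id, ← biprod.total, Functor.map_add, Functor.map_comp, Functor.map_comp,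
        ← Category.id_comp ((EtCoh.stalk ξ).map biprod.inl), ← Category.id_comp ((EtCoh.stalk ξ).map biprod.inr),
        h1, h2, zero_comp, zero_comp, comp_zero, comp_zero, add_zero]


/-- The corresponding statement for epimorphisms on the stalks. -/
def GoodE (G : EtCoh.Ab X) (Q : ∀ (η : X) (Ω : Type u) [Field Ω] [IsSepClosed Ω] (ξ : Spec (CommRingCat.of Ω) ⟶ X), (EtCoh.stalk ξ).obj G → Prop)
    (R : EtCoh.Ab X → Prop) (η : X) : Prop :=
  ∃ (P : EtCoh.Ab X) (φ : G ⟶ P),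
    (∀ (Ω : Type u) (_ : Field Ω) (_ : IsSepClosed Ω) (ξ : Spec (CommRingCat.of Ω) ⟶ X),
      Set.range ξ.base = {η} → Epi ((EtCoh.stalk ξ).map φ) ∧ ∀ z, (EtCoh.stalk ξ).map φ z = 0 ↔ Q η Ω ξ z) ∧
    (∀ μ ∈ M X, μ ≠ η → μ ∉ EtPBC.supp P) ∧ R P

theorem exists_mapE {G : EtCoh.Ab X} (Q : ∀ (η : X) (Ω : Type u) [Field Ω] [IsSepClosed Ω] (ξ : Spec (CommRingCat.of Ω) ⟶ X), (EtCoh.stalk ξ).obj G → Prop)
    (R : EtCoh.Ab X → Prop) (hR0 : ∀ P : EtCoh.Ab X, 𝟙 P = 0 → R P)
    (hR : ∀ P Q : EtCoh.Ab X, R P → R Q → R (P ⊞ Q)) (h : ∀ η ∈ M X, GoodE G Q R η) {s : Set X} (hs : s.Finite) :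
    ∃ (P : EtCoh.Ab X) (φ : G ⟶ P),
      (∀ η ∈ M X, η ∈ s → ∀ (Ω : Type u) (_ : Field Ω) (_ : IsSepClosed Ω) (ξ : Spec (CommRingCat.of Ω) ⟶ X),
        Set.range ξ.base = {η} → Epi ((EtCoh.stalk ξ).map φ) ∧ ∀ z, (EtCoh.stalk ξ).map φ z = 0 ↔ Q η Ω ξ z) ∧
      (∀ μ ∈ M X, μ ∉ s → μ ∉ EtPBC.supp P) ∧ R P := by
  induction s, hs using Set.Finite.induction_on with
  | empty =>
    refine ⟨(0 : EtCoh.Ab X), 0, fun _ _ h => absurd h (Set.notMem_empty _), fun μ _ _ => ?_, ?_⟩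
    · refine (notMem_supp_iff _ μ).2 fun Ω _ _ ξ _ => ?_
      haveI : PreservesColimitsOfSize.{0, 0} (EtCoh.stalk ξ) := preservesColimitsOfSize_shrink.{0, u + 1, 0, u + 1} _
      exact Functor.map_isZero _ (isZero_zero _)
    · exact hR0 _ ((IsZero.iff_id_eq_zero _).1 (isZero_zero _))
  | @insert η s hηs _ IH =>
    obtain ⟨P₂, φ₂, iso₂, off₂, van₂⟩ := IH
    by_cases hηM : η ∈ M X
    swap
    · exact ⟨P₂, φ₂, fun μ hμ h => iso₂ μ hμ (h.resolve_left fun e => hηM (e ▸ hμ)),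
        fun μ hμ h => off₂ μ hμ fun hh => h (Or.inr hh), van₂⟩
    obtain ⟨P₁, φ₁, iso₁, off₁, van₁⟩ := h η hηM
    refine ⟨P₁ ⊞ P₂, biprod.lift φ₁ φ₂, fun μ hμ hμs Ω i₁ i₂ ξ hξ => ?_, fun μ hμ hμs => ?_,
      hR _ _ van₁ van₂⟩
    · haveI : PreservesColimitsOfSize.{0, 0} (EtCoh.stalk ξ) := preservesColimitsOfSize_shrink.{0, u + 1, 0, u + 1} _
      haveI : (EtCoh.stalk ξ).Additive := inferInstance
      rcases hμs with rfl | hμs
      · have h0 := (IsZero.iff_id_eq_zero _).1 ((notMem_supp_iff P₂ μ).1 (off₂ μ hμ hηs) Ω i₁ i₂ ξ hξ)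
        haveI : IsIso ((EtCoh.stalk ξ).map (biprod.fst : P₁ ⊞ P₂ ⟶ P₁)) := by
          refine ⟨(EtCoh.stalk ξ).map biprod.inl, ?_, ?_⟩
          · have hz : (EtCoh.stalk ξ).map ((biprod.snd : P₁ ⊞ P₂ ⟶ P₂) ≫ (biprod.inr : P₂ ⟶ P₁ ⊞ P₂)) = 0 := by
              rw [Functor.map_comp, ← Category.id_comp ((EtCoh.stalk ξ).map biprod.inr), h0, zero_comp, comp_zero]
            rw [← Functor.map_comp, ← CategoryTheory.Functor.map_id, ← biprod.total, Functor.map_add, hz, add_zero]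
          · rw [← Functor.map_comp, biprod.inl_fst, CategoryTheory.Functor.map_id]
        obtain ⟨he, hq⟩ := iso₁ Ω i₁ i₂ ξ hξ
        haveI := he
        haveI : Epi ((EtCoh.stalk ξ).map (biprod.lift φ₁ φ₂) ≫ (EtCoh.stalk ξ).map biprod.fst) := by
          rw [← Functor.map_comp, biprod.lift_fst]; infer_instance
        have h3 : (EtCoh.stalk ξ).map (biprod.lift φ₁ φ₂) = ((EtCoh.stalk ξ).map (biprod.lift φ₁ φ₂) ≫
            (EtCoh.stalk ξ).map biprod.fst) ≫ inv ((EtCoh.stalk ξ).map (biprod.fst : P₁ ⊞ P₂ ⟶ P₁)) := by simp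
        refine ⟨by rw [h3]; exact epi_comp _ _, fun z => Iff.trans ?_ (hq z)⟩
        have hcomp : (EtCoh.stalk ξ).map (biprod.fst : P₁ ⊞ P₂ ⟶ P₁) ((EtCoh.stalk ξ).map (biprod.lift φ₁ φ₂) z) =
            (EtCoh.stalk ξ).map φ₁ z := by
          rw [← ConcreteCategory.comp_apply, ← Functor.map_comp, biprod.lift_fst]
        refine ⟨fun h => by rw [← hcomp, h, map_zero], fun h => ?_⟩
        refine (AddCommGrpCat.mono_iff_injective ((EtCoh.stalk ξ).map (biprod.fst : P₁ ⊞ P₂ ⟶ P₁))).1 inferInstance ?_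
        rw [hcomp, h, map_zero]
      · have hne : μ ≠ η := fun e => hηs (e ▸ hμs)
        have h0 := (IsZero.iff_id_eq_zero _).1 ((notMem_supp_iff P₁ μ).1 (off₁ μ hμ hne) Ω i₁ i₂ ξ hξ)
        haveI : IsIso ((EtCoh.stalk ξ).map (biprod.snd : P₁ ⊞ P₂ ⟶ P₂)) := by
          refine ⟨(EtCoh.stalk ξ).map biprod.inr, ?_, ?_⟩
          · have hz : (EtCoh.stalk ξ).map ((biprod.fst : P₁ ⊞ P₂ ⟶ P₁) ≫ (biprod.inl : P₁ ⟶ P₁ ⊞ P₂)) = 0 := by
              rw [Functor.map_comp, ← Category.id_comp ((EtCoh.stalk ξ).map biprod.inl), h0, zero_comp, comp_zero]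
            rw [← Functor.map_comp, ← CategoryTheory.Functor.map_id, ← biprod.total, Functor.map_add, hz, zero_add]
          · rw [← Functor.map_comp, biprod.inr_snd, CategoryTheory.Functor.map_id]
        obtain ⟨he, hq⟩ := iso₂ μ hμ hμs Ω i₁ i₂ ξ hξ
        haveI := he
        haveI : Epi ((EtCoh.stalk ξ).map (biprod.lift φ₁ φ₂) ≫ (EtCoh.stalk ξ).map biprod.snd) := by
          rw [← Functor.map_comp, biprod.lift_snd]; infer_instance
        have h3 : (EtCoh.stalk ξ).map (biprod.lift φ₁ φ₂) = ((EtCoh.stalk ξ).map (biprod.lift φ₁ φ₂) ≫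
            (EtCoh.stalk ξ).map biprod.snd) ≫ inv ((EtCoh.stalk ξ).map (biprod.snd : P₁ ⊞ P₂ ⟶ P₂)) := by simp
        refine ⟨by rw [h3]; exact epi_comp _ _, fun z => Iff.trans ?_ (hq z)⟩
        have hcomp : (EtCoh.stalk ξ).map (biprod.snd : P₁ ⊞ P₂ ⟶ P₂) ((EtCoh.stalk ξ).map (biprod.lift φ₁ φ₂) z) =
            (EtCoh.stalk ξ).map φ₂ z := by
          rw [← ConcreteCategory.comp_apply, ← Functor.map_comp, biprod.lift_snd]
        refine ⟨fun h => by rw [← hcomp, h, map_zero], fun h => ?_⟩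
        refine (AddCommGrpCat.mono_iff_injective ((EtCoh.stalk ξ).map (biprod.snd : P₁ ⊞ P₂ ⟶ P₂))).1 inferInstance ?_
        rw [hcomp, h, map_zero]
    · refine (notMem_supp_iff _ μ).2 fun Ω i₁ i₂ ξ hξ => (IsZero.iff_id_eq_zero _).2 ?_
      haveI : PreservesColimitsOfSize.{0, 0} (EtCoh.stalk ξ) := preservesColimitsOfSize_shrink.{0, u + 1, 0, u + 1} _
      have h1 := (IsZero.iff_id_eq_zero _).1 ((notMem_supp_iff P₁ μ).1 (off₁ μ hμ fun e => hμs (Or.inl e)) Ω i₁ i₂ ξ hξ)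
      have h2 := (IsZero.iff_id_eq_zero _).1 ((notMem_supp_iff P₂ μ).1 (off₂ μ hμ fun e => hμs (Or.inr e)) Ω i₁ i₂ ξ hξ)
      rw [← CategoryTheory.Functor.map_id, ← biprod.total, Functor.map_add, Functor.map_comp, Functor.map_comp,
        ← Category.id_comp ((EtCoh.stalk ξ).map biprod.inl), ← Category.id_comp ((EtCoh.stalk ξ).map biprod.inr),
        h1, h2, zero_comp, zero_comp, comp_zero, comp_zero, add_zero]


section Stalk

variable {K : Type u} [Field K] (g : FieldCoh.S K ⟶ X) [IsPreimmersion g] [QuasiCompact g]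
  {Ω : Type u} [Field Ω] [IsSepClosed Ω] (η' : Spec (CommRingCat.of Ω) ⟶ FieldCoh.S K)

omit [IsPreimmersion g] [QuasiCompact g] in
theorem val_push (W : X.Etale) (a : (EtCoh.Gm X).obj.obj (op W)) :
    MuLocal.val (X := FieldCoh.S K) (T := (EtCoh.bc g).obj W) ((EtLim.GmPush g).hom.app (op W) a) =
      (pullback.fst W.hom g).appTop (MuLocal.val a) := rfl

theorem surjective_stalk : Function.Surjective ((EtCoh.stalk (η' ≫ g)).map (EtLim.GmPush g)) := by
  intro z
  obtain ⟨V₀, p₀, s₀, rfl⟩ := (Scheme.pointSmallEtale (η' ≫ g)).toPresheafFiber_jointly_surjective z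
  obtain ⟨V, a, v, hv, hV⟩ := FiniteGen.exists_affine_nhd V₀ (fiberPt p₀)
  obtain ⟨p, hp, -⟩ := Fiber.exists_fiber_map (η' ≫ g) a p₀ v hv
  haveI : IsAffine V.left := hV
  haveI : IsAffine ((𝟭 Scheme).obj V.left) := hV
  let b : pullback V.hom g ⟶ V.left := pullback.fst V.hom g
  haveI : CompactSpace ↥(pullback V.hom g) := QuasiCompact.compactSpace_of_compactSpace b
  haveI : Etale ((EtCoh.bc g).obj V).hom := ((EtCoh.bc g).obj V).prop
  haveI := Groth.Agent.Lib.EtSite.FieldExt.locallyQuasiFinite_of_etale ((EtCoh.bc g).obj V).hom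
  haveI hd : DiscreteTopology ((EtCoh.bc g).obj V).left :=
    Groth.Agent.Lib.EtSite.FieldExt.discreteTopology_of_locallyQuasiFinite ((EtCoh.bc g).obj V).hom
  haveI : DiscreteTopology ↥(pullback V.hom g) := hd
  haveI : Finite ↥(pullback V.hom g) := finite_of_compact_of_discrete
  let t₀ : ↥(pullback V.hom g) := fiberPt (PushStalk.liftPt g rfl V p)
  have hbt : b.base t₀ = fiberPt p :=
    congrArg (fun m : Spec (CommRingCat.of Ω) ⟶ V.left => m.base default)
      (pullback.lift_fst (f := V.hom) (g := g) (fiberHom p) η' (fiberHom_comp p))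
  let s₁ : (EtCoh.Gm (FieldCoh.S K)).obj.obj (op ((EtCoh.bc g).obj V)) :=
    ((EtCoh.push g).obj (EtCoh.Gm (FieldCoh.S K))).obj.map a.op s₀
  have hv0 : (pullback V.hom g).Γevaluation t₀ (MuLocal.val s₁) ≠ 0 :=
    (((Additive.toMul (ULift.down s₁ : Additive (Γ(pullback V.hom g, ⊤))ˣ)).isUnit).map
      ((pullback V.hom g).Γevaluation t₀).hom).ne_zero
  obtain ⟨v', hv'⟩ := residueFieldMap_surjective b t₀ ((pullback V.hom g).Γevaluation t₀ (MuLocal.val s₁))
  obtain ⟨y, rfl⟩ := V.left.residue_surjective (b t₀) v'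
  obtain ⟨U, hU, a₀, rfl⟩ := TopCat.Presheaf.exists_germ_eq V.left.presheaf y
  let C : Set V.left := ⋃ t ∈ {t | t ≠ t₀}, closure {b.base t}
  have hCc : IsClosed C := (Set.toFinite _).isClosed_biUnion (fun _ _ => isClosed_closure)
  let O : V.left.Opens := V.left.basicOpen a₀ ⊓ ⟨Cᶜ, hCc.isOpen_compl⟩
  have htO : b.base t₀ ∈ O := by
    refine ⟨(V.left.evaluation_ne_zero_iff_mem_basicOpen (b t₀) hU a₀).1 fun h0 => hv0 ?_, ?_⟩
    · rw [← hv', show V.left.residue (b t₀) (V.left.presheaf.germ U (b t₀) hU a₀) =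
        V.left.evaluation U (b t₀) hU a₀ from rfl, h0, map_zero]
    · simp only [C, TopologicalSpace.Opens.coe_mk, SetLike.mem_coe, TopologicalSpace.Opens.mem_mk,
        Set.mem_compl_iff, Set.mem_iUnion, not_exists]
      intro t ht hmem
      rw [← specializes_iff_mem_closure] at hmem
      exact ht (b.isEmbedding.isInducing.specializes_iff.1 hmem).eq
  have hOb : O ≤ V.left.basicOpen a₀ := inf_le_left
  haveI : Etale V.hom := V.prop
  let W : X.Etale := Scheme.Etale.mk (O.ι ≫ V.hom)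
  let r : W ⟶ V := MorphismProperty.Over.homMk O.ι rfl
  obtain ⟨q, hq, -⟩ := Fiber.exists_fiber_map (η' ≫ g) r p ⟨fiberPt p, hbt ▸ htO⟩ rfl
  have hle : ⊤ ≤ O.ι ⁻¹ᵁ V.left.basicOpen a₀ := fun x _ => hOb x.2
  have hle' : ⊤ ≤ O.ι ⁻¹ᵁ U := fun x _ => V.left.basicOpen_le a₀ (hOb x.2)
  have hu : IsUnit (O.ι.appLE U ⊤ hle' a₀) := by
    have := (V.left.toRingedSpace.isUnit_res_basicOpen a₀).map (O.ι.appLE _ ⊤ hle).hom
    exact (congrArg IsUnit (ConcreteCategory.congr_hom
      (Scheme.Hom.map_appLE O.ι hle (homOfLE (V.left.basicOpen_le a₀)).op) a₀)).mp this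
  let c : (EtCoh.Gm X).obj.obj (op W) := ULift.up (Additive.ofMul hu.unit)
  refine ⟨(Scheme.pointSmallEtale (η' ≫ g)).toPresheafFiber W q (EtCoh.Gm X).obj c, ?_⟩
  refine (GrothendieckTopology.Point.toPresheafFiber_naturality_apply _ (EtLim.GmPush g).hom W q c).trans ?_
  have key : (EtLim.GmPush g).hom.app (op W) c = ((EtCoh.push g).obj (EtCoh.Gm (FieldCoh.S K))).obj.map r.op
      (((EtCoh.push g).obj (EtCoh.Gm (FieldCoh.S K))).obj.map a.op s₀) := by
    refine MuLocal.val_injective (X := FieldCoh.S K) (T := (EtCoh.bc g).obj W) ?_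
    refine (val_push g W c).trans ?_
    refine Eq.trans ?_ (MuLocal.val_map ((EtCoh.bc g).map r) s₁).symm
    haveI : Etale ((EtCoh.bc g).obj W).hom := ((EtCoh.bc g).obj W).prop
    haveI : AlgebraicGeometry.IsReduced ((Functor.fromPUnit.{0} (FieldCoh.S K)).obj ((EtCoh.bc g).obj W).right) :=
      inferInstanceAs (AlgebraicGeometry.IsReduced (Spec (CommRingCat.of K)))
    haveI hrd : AlgebraicGeometry.IsReduced ((EtCoh.bc g).obj W).left :=
      Groth.Agent.S7179.result ((EtCoh.bc g).obj W).hom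
    haveI : AlgebraicGeometry.IsReduced (pullback W.hom g) := hrd
    let j : ((EtCoh.bc g).obj W).left ⟶ pullback V.hom g := ((EtCoh.bc g).map r).left
    let bW : ((EtCoh.bc g).obj W).left ⟶ (O : Scheme.{u}) := pullback.fst W.hom g
    have hfst : bW ≫ O.ι = j ≫ b := (pullback.lift_fst _ _ _).symm
    refine eq_of_eval _ _ fun x => ?_
    have hxU : ⊤ ≤ (bW ≫ O.ι) ⁻¹ᵁ U := fun z _ => hle' (x := bW z) trivial
    have e1 : ((EtCoh.bc g).obj W).left.Γevaluation x (bW.appTop (MuLocal.val c)) =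
        (bW ≫ O.ι).residueFieldMap x (V.left.evaluation U ((bW ≫ O.ι) x) (hxU (x := x) trivial) a₀) := by
      rw [Scheme.residueFieldMap_comp]
      refine (Scheme.Γevaluation_naturality_apply bW x _).symm.trans ?_
      exact congrArg (bW.residueFieldMap x)
        ((congrArg ((O : Scheme.{u}).Γevaluation (bW x)) hu.unit_spec).trans (eval_appLE O.ι hle' a₀ (bW x)))
    have hall : ∀ (f : ((EtCoh.bc g).obj W).left ⟶ V.left) (hf : f x ∈ U), f = j ≫ b →
        f.residueFieldMap x (V.left.evaluation U (f x) hf a₀) =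
          ((EtCoh.bc g).obj W).left.Γevaluation x (j.appTop (MuLocal.val s₁)) := by
      rintro f hf rfl
      rw [Scheme.residueFieldMap_comp]
      change j.residueFieldMap x (b.residueFieldMap (j x) (V.left.evaluation U (b (j x)) hf a₀)) = _
      refine Eq.trans (congrArg (j.residueFieldMap x) ?_) (Scheme.Γevaluation_naturality_apply j x _)
      have hj : j x = t₀ := by
        by_contra hne
        have hm : b.base (j x) ∈ O := by
          rw [← Scheme.Hom.comp_apply, ← hfst]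
          exact (bW x).2
        exact hm.2 (Set.mem_iUnion₂.2 ⟨_, hne, subset_closure rfl⟩)
      have gen : ∀ (t : ↥(pullback V.hom g)) (h : b t ∈ U), t = t₀ →
          b.residueFieldMap t (V.left.evaluation U (b t) h a₀) = (pullback V.hom g).Γevaluation t (MuLocal.val s₁) := by
        rintro t h rfl
        exact hv'
      exact gen _ _ hj
    exact e1.trans (hall _ _ hfst)
  refine (congrArg _ key).trans ?_
  rw [GrothendieckTopology.Point.toPresheafFiber_w_apply, hq, GrothendieckTopology.Point.toPresheafFiber_w_apply, hp]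
  rfl


variable (ℓ : ℕ)

/-- `ℓ` is injective on the unipotent units. -/
theorem nsmul_injective (hℓ : Dix.InvertibleOn X ℓ) (z : (EtCoh.stalk (η' ≫ g)).obj (EtCoh.Gm X))
    (hz : (EtCoh.stalk (η' ≫ g)).map (EtLim.GmPush g) z = 0) (hn : ℓ • z = 0) : z = 0 := by
  obtain ⟨V, p, a, rfl⟩ := (Scheme.pointSmallEtale (η' ≫ g)).toPresheafFiber_jointly_surjective z
  have hn' : Supp.germ (ξ := η' ≫ g) (EtCoh.Gm X) V p (ℓ • a) = 0 := (map_nsmul _ ℓ a).trans hn
  obtain ⟨W₁, r₁, q₁, hq₁, hW₁⟩ := (Supp.germ_eq_zero_iff _ V p _).1 hn'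
  let a₁ := (EtCoh.Gm X).obj.map r₁.op a
  have hz₁ : Supp.germ (ξ := η' ≫ g) ((EtCoh.push g).obj (EtCoh.Gm (FieldCoh.S K))) W₁ q₁
      ((EtLim.GmPush g).hom.app (op W₁) a₁) = 0 := by
    refine ((GrothendieckTopology.Point.toPresheafFiber_naturality_apply
      (Scheme.pointSmallEtale (η' ≫ g)) (EtLim.GmPush g).hom W₁ q₁ a₁).symm).trans ?_
    refine (congrArg ((EtCoh.stalk (η' ≫ g)).map (EtLim.GmPush g))
      (GrothendieckTopology.Point.toPresheafFiber_w_apply _ r₁ q₁ (EtCoh.Gm X).obj a)).trans ?_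
    rw [hq₁]; exact hz
  obtain ⟨W, r, q, hq, hW⟩ := (Supp.germ_eq_zero_iff _ W₁ q₁ _).1 hz₁
  let a' := (EtCoh.Gm X).obj.map r.op a₁
  have hW' : (EtLim.GmPush g).hom.app (op W) a' = 0 :=
    (NatTrans.naturality_apply (EtLim.GmPush g).hom r.op a₁).trans hW
  let c : Γ(W.left, ⊤) := MuLocal.val a'
  have hc : c ^ ℓ = 1 := by
    rw [← MuLocal.val_nsmul, ← map_nsmul, ← map_nsmul, hW₁, map_zero]; exact MuLocal.val_zero
  let b : pullback W.hom g ⟶ W.left := pullback.fst W.hom g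
  let t : ↥(pullback W.hom g) := fiberPt (PushStalk.liftPt g rfl W q)
  have hbt : b.base t = fiberPt q :=
    congrArg (fun m : Spec (CommRingCat.of Ω) ⟶ W.left => m.base default)
      (pullback.lift_fst (f := W.hom) (g := g) (fiberHom q) η' (fiberHom_comp q))
  have he : W.left.Γevaluation (b t) c = 1 := by
    refine (b.residueFieldMap t).hom.injective ?_
    rw [map_one]
    refine (Scheme.Γevaluation_naturality_apply b t _).trans ?_
    rw [show b.appTop c = 1 from (val_push g W a').symm.trans ((congrArg _ hW').trans MuLocal.val_zero), map_one]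
  let u : Γ(W.left, ⊤) := ∑ i ∈ Finset.range ℓ, c ^ i
  have hu : (b t) ∈ W.left.basicOpen u := by
    refine (W.left.evaluation_ne_zero_iff_mem_basicOpen (U := ⊤) (b t) trivial u).1 ?_
    simp only [u, map_sum, map_pow]
    rw [show W.left.evaluation ⊤ (b t) trivial c = 1 from he]
    simp only [one_pow, Finset.sum_const, Finset.card_range, nsmul_eq_mul, mul_one]
    intro h0
    refine hℓ (W.hom.base (b t)) ((W.hom.residueFieldMap (b t)).hom.injective ?_)
    rw [map_zero, map_natCast]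
    exact h0
  let O : W.left.Opens := W.left.basicOpen u
  haveI : Etale W.hom := W.prop
  let W' : X.Etale := Scheme.Etale.mk (O.ι ≫ W.hom)
  let r' : W' ⟶ W := MorphismProperty.Over.homMk O.ι rfl
  obtain ⟨q', hq', -⟩ := Fiber.exists_fiber_map (η' ≫ g) r' q ⟨fiberPt q, hbt ▸ hu⟩ rfl
  refine (Supp.germ_eq_zero_iff (EtCoh.Gm X) V p a).2 ⟨W', (r' ≫ r) ≫ r₁, q', ?_, ?_⟩
  · rw [Functor.map_comp, Functor.map_comp, ConcreteCategory.comp_apply, ConcreteCategory.comp_apply, hq', hq, hq₁]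
  · rw [op_comp, Functor.map_comp, ConcreteCategory.comp_apply, op_comp, Functor.map_comp,
      ConcreteCategory.comp_apply]
    refine MuLocal.val_injective ((MuLocal.val_map r' a').trans (Eq.trans ?_ MuLocal.val_zero.symm))
    have hle : ⊤ ≤ O.ι ⁻¹ᵁ O := fun x _ => x.2
    have hunit : IsUnit (O.ι.appTop u) := by
      have h1 := (W.left.toRingedSpace.isUnit_res_basicOpen u).map (O.ι.appLE _ ⊤ hle).hom
      refine (congrArg IsUnit ?_).mp h1
      exact (ConcreteCategory.congr_hom (Scheme.Hom.map_appLE O.ι hle (homOfLE (W.left.basicOpen_le u)).op) u).trans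
        (ConcreteCategory.congr_hom (Scheme.Hom.appLE_eq_app O.ι (U := ⊤)) u)
    have h0 : O.ι.appTop u * (O.ι.appTop c - 1) = 0 := by
      have : u * (c - 1) = 0 := by rw [geom_sum_mul, hc, sub_self]
      rw [← map_one O.ι.appTop.hom, ← map_sub, ← map_mul, this, map_zero]
    exact sub_eq_zero.1 ((hunit.mul_right_eq_zero).1 h0)

/-- Unipotent units are `ℓ`-divisible. -/
theorem nsmul_surjective (hℓ0 : 0 < ℓ) (hℓ : Dix.InvertibleOn X ℓ) (z : (EtCoh.stalk (η' ≫ g)).obj (EtCoh.Gm X))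
    (hz : (EtCoh.stalk (η' ≫ g)).map (EtLim.GmPush g) z = 0) :
    ∃ y, (EtCoh.stalk (η' ≫ g)).map (EtLim.GmPush g) y = 0 ∧ ℓ • y = z := by
  obtain ⟨V₀, p₀, a₀, rfl⟩ := (Scheme.pointSmallEtale (η' ≫ g)).toPresheafFiber_jointly_surjective z
  have h0 := (GrothendieckTopology.Point.toPresheafFiber_naturality_apply
      (Scheme.pointSmallEtale (η' ≫ g)) (EtLim.GmPush g).hom V₀ p₀ a₀).symm.trans hz
  obtain ⟨W₀, r₀, q₀, hq₀, hW₀⟩ := (Supp.germ_eq_zero_iff _ V₀ p₀ _).1 h0
  obtain ⟨W, r, w, hw, hWa⟩ := FiniteGen.exists_affine_nhd W₀ (fiberPt q₀)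
  obtain ⟨q, hq, hqw⟩ := Fiber.exists_fiber_map (η' ≫ g) r q₀ w hw
  haveI : IsAffine W.left := hWa
  let a := (EtCoh.Gm X).obj.map r.op ((EtCoh.Gm X).obj.map r₀.op a₀)
  have ha : (EtLim.GmPush g).hom.app (op W) a = 0 := by
    rw [NatTrans.naturality_apply (EtLim.GmPush g).hom r.op]
    refine Eq.trans (congrArg _ ((NatTrans.naturality_apply (EtLim.GmPush g).hom r₀.op a₀).trans hW₀)) ?_
    exact map_zero _
  let b : pullback W.hom g ⟶ W.left := pullback.fst W.hom g
  let t : ↥(pullback W.hom g) := fiberPt (PushStalk.liftPt g rfl W q)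
  have hbt : b.base t = fiberPt q :=
    congrArg (fun m : Spec (CommRingCat.of Ω) ⟶ W.left => m.base default)
      (pullback.lift_fst (f := W.hom) (g := g) (fiberHom q) η' (fiberHom_comp q))
  let A : Type u := Γ(W.left, ⊤)
  let c : Aˣ := Additive.toMul (ULift.down a : Additive (Γ(W.left, ⊤))ˣ)
  let ev : A →+* W.left.residueField (b t) := (W.left.Γevaluation (b t)).hom
  have he : ev (c : A) = 1 := by
    refine (b.residueFieldMap t).hom.injective ?_
    rw [map_one]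
    refine (Scheme.Γevaluation_naturality_apply b t _).trans ?_
    rw [show b.appTop (c : A) = 1 from (val_push g W a).symm.trans ((congrArg _ ha).trans MuLocal.val_zero), map_one]
  have hun : IsUnit (ℓ : A) := Groth.Agent.Lib.Kummer.isUnit_natCast_section hℓ W ⊤
  let P := Groth.Agent.Lib.Kummer.pair hℓ0 hun c
  letI : Algebra A (W.left.residueField (b t)) := ev.toAlgebra
  have he' : algebraMap A (W.left.residueField (b t)) (c : A) = 1 := he
  let ψ := P.lift (1 : W.left.residueField (b t)) ⟨by simp [P, Groth.Agent.Lib.Kummer.pair, he'],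
    by simp [P, Groth.Agent.Lib.Kummer.pair]⟩
  have hψX : ψ P.X = 1 := StandardEtalePair.lift_X _ _ _
  haveI : Etale (Spec.map (CommRingCat.ofHom (algebraMap A P.Ring))) :=
    (HasRingHomProperty.Spec_iff (P := @Etale)).2 (RingHom.etale_algebraMap.2 inferInstance)
  haveI : Etale W.hom := W.prop
  let π : Spec (CommRingCat.of P.Ring) ⟶ W.left :=
    Spec.map (CommRingCat.ofHom (algebraMap A P.Ring)) ≫ W.left.isoSpec.inv
  haveI : Etale π := inferInstanceAs (Etale (Spec.map (CommRingCat.ofHom (algebraMap A P.Ring)) ≫ W.left.isoSpec.inv))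
  let σ : Spec (W.left.residueField (b t)) ⟶ Spec (CommRingCat.of P.Ring) :=
    Spec.map (CommRingCat.ofHom ψ.toRingHom)
  have hσ : σ ≫ π = W.left.fromSpecResidueField (b t) := by
    have hc : CommRingCat.ofHom (algebraMap A P.Ring) ≫ CommRingCat.ofHom ψ.toRingHom = W.left.Γevaluation (b t) :=
      CommRingCat.hom_ext (RingHom.ext fun x => ψ.commutes x)
    simp only [σ, π]
    rw [← Spec.map_comp_assoc]
    erw [hc]
    rw [Scheme.Γevaluation, Scheme.evaluation, Spec.map_comp_assoc]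
    rw [Scheme.fromSpecResidueField]
    refine congrArg (Spec.map (W.left.residue (b t)) ≫ ·) ?_
    rw [← Scheme.fromSpecStalk_toSpecΓ, Category.assoc, Scheme.toSpecΓ_isoSpec_inv, Category.comp_id]
  let v : Spec (CommRingCat.of P.Ring) := σ.base default
  have hv : π.base v = fiberPt q := by
    rw [← hbt, ← Scheme.Hom.comp_apply, hσ]
    exact Scheme.fromSpecResidueField_apply _ _
  let V : X.Etale := Scheme.Etale.mk (π ≫ W.hom)
  let e : V ⟶ W := MorphismProperty.Over.homMk π rfl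
  obtain ⟨p, hp, hpv⟩ := Fiber.exists_fiber_map (η' ≫ g) e q v hv
  let ρ : Γ(V.left, ⊤) := (Scheme.ΓSpecIso (CommRingCat.of P.Ring)).inv P.X
  have hρ : ρ ^ ℓ = π.appTop (MuLocal.val a) := by
    change ((Scheme.ΓSpecIso (CommRingCat.of P.Ring)).inv P.X) ^ ℓ = _
    rw [← map_pow, Groth.Agent.Lib.Kummer.X_pow_eq]
    have hπ : π.appTop = CommRingCat.ofHom (algebraMap A P.Ring) ≫ (Scheme.ΓSpecIso (CommRingCat.of P.Ring)).inv := by
      have h : W.left.isoSpec.inv.appTop = (Scheme.ΓSpecIso Γ(W.left, ⊤)).inv := by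
        refine (Iso.hom_comp_eq_id (Scheme.ΓSpecIso Γ(W.left, ⊤))).1 ?_
        rw [← W.left.toSpecΓ_appTop, ← Scheme.Hom.comp_appTop, show W.left.isoSpec.inv ≫ W.left.toSpecΓ = 𝟙 _ from
          W.left.isoSpec.inv_hom_id]
        exact Scheme.Hom.id_appTop
      simp only [π, Scheme.Hom.comp_appTop, h]
      exact (Scheme.ΓSpecIso_inv_naturality (CommRingCat.ofHom (algebraMap A P.Ring))).symm
    rw [hπ]
    rfl
  have hρu : IsUnit ρ := by
    refine (isUnit_pow_iff hℓ0.ne').mp (hρ ▸ ?_)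
    exact c.isUnit.map π.appTop.hom
  let y₀ : (EtCoh.Gm X).obj.obj (op V) := ULift.up (Additive.ofMul hρu.unit)
  refine ⟨Supp.germ (ξ := η' ≫ g) (EtCoh.Gm X) V p y₀, ?_, ?_⟩
  · refine (GrothendieckTopology.Point.toPresheafFiber_naturality_apply
      (Scheme.pointSmallEtale (η' ≫ g)) (EtLim.GmPush g).hom V p y₀).trans ?_
    refine germTo_injective g rfl _ ?_
    rw [map_zero]
    refine (PushStalk.germTo_toPresheafFiber g rfl _ V p _).trans ?_
    haveI : Etale ((EtCoh.bc g).obj V).hom := ((EtCoh.bc g).obj V).prop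
    haveI : AlgebraicGeometry.IsReduced ((Functor.fromPUnit.{0} (FieldCoh.S K)).obj ((EtCoh.bc g).obj V).right) :=
      inferInstanceAs (AlgebraicGeometry.IsReduced (Spec (CommRingCat.of K)))
    haveI hrd : AlgebraicGeometry.IsReduced ((EtCoh.bc g).obj V).left :=
      Groth.Agent.S7179.result ((EtCoh.bc g).obj V).hom
    haveI := Groth.Agent.Lib.EtSite.FieldExt.locallyQuasiFinite_of_etale ((EtCoh.bc g).obj V).hom
    haveI : DiscreteTopology ((EtCoh.bc g).obj V).left :=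
      Groth.Agent.Lib.EtSite.FieldExt.discreteTopology_of_locallyQuasiFinite ((EtCoh.bc g).obj V).hom
    let T := ((EtCoh.bc g).obj V).left
    let bV : T ⟶ V.left := pullback.fst V.hom g
    let tV : T := fiberPt (PushStalk.liftPt g rfl V p)
    have hbtV : bV.base tV = v := by
      refine Eq.trans ?_ hpv
      exact congrArg (fun m : Spec (CommRingCat.of Ω) ⟶ V.left => m.base default)
        (pullback.lift_fst (f := V.hom) (g := g) (fiberHom p) η' (fiberHom_comp p))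
    have hev : V.left.Γevaluation (bV tV) ρ = 1 := by
      have hgen : ∀ w : V.left, w = v → V.left.Γevaluation w ρ = 1 := by
        rintro w rfl
        refine (σ.residueFieldMap default).hom.injective ?_
        refine Eq.trans ?_ (map_one _).symm
        refine (Scheme.Γevaluation_naturality_apply σ default ρ).trans ?_
        have h1 : σ.appTop ρ = 1 := by
          refine ((ConcreteCategory.congr_hom (Scheme.ΓSpecIso_inv_naturality (CommRingCat.ofHom ψ.toRingHom)) P.X)).symm.trans ?_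
          rw [ConcreteCategory.comp_apply, show (CommRingCat.ofHom ψ.toRingHom) P.X = 1 from hψX]
          exact map_one _
        rw [h1, map_one]
      exact hgen _ hbtV
    let O₁ : T.Opens := ⟨{tV}, isOpen_discrete _⟩
    let Z : (FieldCoh.S K).Etale := Scheme.Etale.mk
      (O₁.ι ≫ ((EtCoh.bc g).obj V).hom)
    let rZ : Z ⟶ (EtCoh.bc g).obj V := MorphismProperty.Over.homMk O₁.ι rfl
    obtain ⟨l, hl, -⟩ := Fiber.exists_fiber_map η' rZ (PushStalk.liftPt g rfl V p) ⟨tV, rfl⟩ rfl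
    refine (Supp.germ_eq_zero_iff (EtCoh.Gm (FieldCoh.S K)) _ _ _).2 ⟨Z, rZ, l, hl, ?_⟩
    refine MuLocal.val_injective ((MuLocal.val_map rZ _).trans (Eq.trans ?_ MuLocal.val_zero.symm))
    haveI : AlgebraicGeometry.IsReduced T := hrd
    haveI hO₁ : AlgebraicGeometry.IsReduced (O₁ : Scheme.{u}) := isReduced_of_isOpenImmersion O₁.ι
    haveI : AlgebraicGeometry.IsReduced Z.left := hO₁
    refine eq_of_eval _ _ fun x => ?_
    rw [map_one]
    refine (Scheme.Γevaluation_naturality_apply rZ.left x _).symm.trans ?_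
    refine Eq.trans (congrArg (rZ.left.residueFieldMap x) ?_) (map_one _)
    have hgen2 : ∀ s : T, s = tV → T.Γevaluation s
        (MuLocal.val (X := FieldCoh.S K) (T := (EtCoh.bc g).obj V) ((EtLim.GmPush g).hom.app (op V) y₀)) = 1 := by
      rintro s rfl
      rw [val_push]
      refine (Scheme.Γevaluation_naturality_apply bV _ _).symm.trans ?_
      rw [show MuLocal.val y₀ = ρ from hρu.unit_spec, hev]
      exact map_one _
    exact hgen2 _ x.2
  · have h1 : ℓ • y₀ = (EtCoh.Gm X).obj.map e.op a :=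
      MuLocal.val_injective ((MuLocal.val_nsmul _ _).trans ((congrArg (· ^ ℓ) hρu.unit_spec).trans (hρ.trans (MuLocal.val_map e a).symm)))
    rw [← map_nsmul, h1]
    refine (GrothendieckTopology.Point.toPresheafFiber_w_apply _ e p (EtCoh.Gm X).obj a).trans ?_
    rw [hp]
    refine (GrothendieckTopology.Point.toPresheafFiber_w_apply _ r q (EtCoh.Gm X).obj _).trans ?_
    rw [hq]
    refine (GrothendieckTopology.Point.toPresheafFiber_w_apply _ r₀ q₀ (EtCoh.Gm X).obj _).trans ?_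
    rw [hq₀]
    rfl

end Stalk

section Main

variable [IsNoetherian X]

/-- Unipotent units at a point. -/
def Unip (η : X) (Ω : Type u) [Field Ω] [IsSepClosed Ω] (ξ : Spec (CommRingCat.of Ω) ⟶ X)
    (z : (EtCoh.stalk ξ).obj (EtCoh.Gm X)) : Prop :=
  (EtCoh.stalk ξ).map (EtLim.GmPush (X.fromSpecResidueField η)) z = 0

theorem comp_mk₀_nsmul_id {A : Type*} [Category A] [Abelian A] [HasExt A] {P Q : A} (n m : ℕ) (x : Ext P Q m) :
    x.comp (Ext.mk₀ (n • 𝟙 Q)) (add_zero m) = n • x := by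
  induction n with
  | zero => simp
  | succ n ih => rw [succ_nsmul, Ext.mk₀_add, Ext.comp_add, ih, Ext.comp_mk₀_id, succ_nsmul]

theorem stalk_nsmul_id {F : EtCoh.Ab X} (n : ℕ) {Ω : Type u} [Field Ω] [IsSepClosed Ω]
    (ξ : Spec (CommRingCat.of Ω) ⟶ X) (z : (EtCoh.stalk ξ).obj F) :
    (EtCoh.stalk ξ).map (n • 𝟙 F) z = n • z := by
  rw [Functor.map_nsmul, CategoryTheory.Functor.map_id]
  rfl

/-- No `ℓ`-torsion in degree two. -/
theorem eq_zero_two (hdim : topologicalKrullDim X ≤ 1)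
    (hsep : ∀ x : X, IsClosed ({x} : Set X) → IsSepClosed (X.residueField x))
    (ℓ : ℕ) (hℓ : ℓ.Prime) (hinv : Dix.InvertibleOn X ℓ)
    (hcd : ∀ η ∈ M X, Dix.CohDimLEAt (Spec (X.residueField η)) ℓ 1)
    (ξ : EtCoh.H X (EtCoh.Gm X) 2) (hξ : ℓ • ξ = 0) : ξ = 0 := by
  have hfin : (M X).Finite := Set.Finite.of_finite_image
    (TopologicalSpace.NoetherianSpace.finite_irreducibleComponents.subset
      (by rintro _ ⟨η, hη, rfl⟩; exact hη))
    (fun a _ b _ h => ((specializes_iff_closure_subset.2 h.ge).antisymm (specializes_iff_closure_subset.2 h.le)).eq)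
  let R₁ : EtCoh.Ab X → Prop := fun P => ∀ x : EtCoh.H X P 2, ℓ • x = 0 → x = 0
  have hR₁ : ∀ P Q : EtCoh.Ab X, R₁ P → R₁ Q → R₁ (P ⊞ Q) := fun P Q hP hQ x hx => by
    have h1 : x.comp (Ext.mk₀ (biprod.fst : P ⊞ Q ⟶ P)) (add_zero 2) = 0 := hP _ (by
      rw [← comp_mk₀_nsmul_id, Ext.comp_assoc_of_second_deg_zero, Ext.mk₀_comp_mk₀, Preadditive.comp_nsmul,
        Category.comp_id, ← Category.id_comp (biprod.fst), ← Preadditive.nsmul_comp, ← Ext.mk₀_comp_mk₀,
        ← Ext.comp_assoc_of_second_deg_zero, comp_mk₀_nsmul_id, hx, Ext.zero_comp])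
    have h2 : x.comp (Ext.mk₀ (biprod.snd : P ⊞ Q ⟶ Q)) (add_zero 2) = 0 := hQ _ (by
      rw [← comp_mk₀_nsmul_id, Ext.comp_assoc_of_second_deg_zero, Ext.mk₀_comp_mk₀, Preadditive.comp_nsmul,
        Category.comp_id, ← Category.id_comp (biprod.snd), ← Preadditive.nsmul_comp, ← Ext.mk₀_comp_mk₀,
        ← Ext.comp_assoc_of_second_deg_zero, comp_mk₀_nsmul_id, hx, Ext.zero_comp])
    rw [← x.comp_mk₀_id, ← biprod.total, Ext.mk₀_add, Ext.comp_add, ← Ext.mk₀_comp_mk₀, ← Ext.mk₀_comp_mk₀,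
      ← Ext.comp_assoc_of_second_deg_zero, ← Ext.comp_assoc_of_second_deg_zero, h1, h2, Ext.zero_comp,
      Ext.zero_comp, add_zero]
  obtain ⟨P, φ, hφ, -, hP⟩ := exists_mapE (Unip) R₁
    (fun P h x _ => @Subsingleton.elim _ (CurveCd.subsingleton_of_id_eq h) x 0) hR₁ (G := EtCoh.Gm X)
    (fun η hη => by
      let g : S (X.residueField η) ⟶ X := X.fromSpecResidueField η
      haveI : IsPreimmersion g := inferInstanceAs (IsPreimmersion (X.fromSpecResidueField η))
      haveI : QuasiCompact g := CurveCd.quasiCompact_point η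
      have hr : Set.range g.base = {η} := X.range_fromSpecResidueField η
      refine ⟨_, EtLim.GmPush g, fun Ω i₁ i₂ ξ hξ => ?_, fun μ hμ hne => ?_, fun x hx => ?_⟩
      · obtain ⟨η', rfl⟩ := CurveCd.exists_factor ξ hξ
        exact ⟨ConcreteCategory.epi_of_surjective _ (surjective_stalk g η'), fun z => Iff.rfl⟩
      · refine notMem_supp_push g _ μ fun hc => hne ?_
        rw [hr, ← specializes_iff_mem_closure] at hc
        exact (Lib.SchTopo.Closure.eq_of_specializes_of_closure_mem hμ hc).symm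
      · refine Groth.Agent.Lib.EtH1Gm.HofPush.HofPush_two_injective g ?_
        rw [map_zero]
        have hx' : ℓ • EtLim.HofPush g (EtCoh.Gm (S (X.residueField η))) 2 x = 0 := by
          rw [← map_nsmul, hx, map_zero]
        have hi : Dix.InvertibleOn (S (X.residueField η)) ℓ := fun y h0 => hinv η <| by
          have := congrArg (g.residueFieldMap y) (map_natCast (RingHom.id (X.residueField (g.base y))) ℓ)
          have hy : g.base y = η := Scheme.fromSpecResidueField_apply η y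
          have h1 : (ℓ : X.residueField (g.base y)) = 0 := (g.residueFieldMap y).hom.injective (by
            rw [map_natCast, map_zero]; exact h0)
          exact hy ▸ h1
        have hS := Groth.Agent.Lib.Kummer.kummer_shortExact (n := ℓ) hℓ.pos hi
        obtain ⟨y, hy⟩ := Ext.covariant_sequence_exact₂ _ hS (EtLim.HofPush g (EtCoh.Gm (S (X.residueField η))) 2 x)
          (by rw [show (ShortComplex.mk (EtCoh.muι (S (X.residueField η)) ℓ) (EtCoh.powMap (S (X.residueField η)) ℓ)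
                (Groth.Agent.Lib.Kummer.powMap_comp_eq_zero _)).g = ℓ • 𝟙 (EtCoh.Gm (S (X.residueField η))) from rfl,
                comp_mk₀_nsmul_id]
              exact hx')
        haveI := hcd η hη (EtCoh.mu (S (X.residueField η)) ℓ) (fun U s x => ⟨U, 𝟙 U, ⟨x, rfl⟩, 1, by
          rw [pow_one]; exact NoethCurve.nsmul_sect (NoethCurve.nsmul_mu _ ℓ) U _⟩) 2 (by norm_num)
        rw [← hy, show y = 0 from @Subsingleton.elim _ this _ _, Ext.zero_comp]) hfin
  let K := kernel φ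
  have hC : ∀ η : X, closure {η} ∈ irreducibleComponents ↥X → η ∉ EtPBC.supp (cokernel φ) := fun η hη => by
    refine (notMem_supp_iff _ η).2 fun Ω i₁ i₂ ξ hξ => ?_
    haveI := (hφ η hη hη Ω i₁ i₂ ξ hξ).1
    haveI : PreservesColimitsOfSize.{0, 0} (EtCoh.stalk ξ) := preservesColimitsOfSize_shrink.{0, u + 1, 0, u + 1} _
    exact IsZero.of_iso (isZero_cokernel_of_epi _) (PreservesCokernel.iso (EtCoh.stalk ξ) φ)
  -- multiplication by `ℓ` on the kernel
  let μK : K ⟶ K := ℓ • 𝟙 K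
  have hiso : ∀ η (hη : η ∈ M X) (Ω : Type u) (_ : Field Ω) (_ : IsSepClosed Ω)
      (ξ : Spec (CommRingCat.of Ω) ⟶ X), Set.range ξ.base = {η} → IsIso ((EtCoh.stalk ξ).map μK) := by
    intro η hη Ω i₁ i₂ ξ hξ
    let g : S (X.residueField η) ⟶ X := X.fromSpecResidueField η
    haveI : IsPreimmersion g := inferInstanceAs (IsPreimmersion (X.fromSpecResidueField η))
    haveI : QuasiCompact g := CurveCd.quasiCompact_point η
    obtain ⟨-, hq⟩ := hφ η hη hη Ω i₁ i₂ ξ hξ
    obtain ⟨η', rfl⟩ := CurveCd.exists_factor ξ hξ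
    let σ := EtCoh.stalk (η' ≫ g)
    haveI : PreservesFiniteLimits σ := inferInstance
    haveI : σ.Additive := inferInstance
    let Sk := ShortComplex.mk (kernel.ι φ) φ (kernel.condition φ)
    have hex : (Sk.map σ).Exact :=
      (ShortComplex.exact_of_f_is_kernel Sk (kernelIsKernel φ)).map_of_mono_of_preservesKernel σ
        (inferInstanceAs (Mono (kernel.ι φ))) inferInstance
    have hιinj : Function.Injective (σ.map (kernel.ι φ)) :=
      (AddCommGrpCat.mono_iff_injective _).1 inferInstance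
    refine (ConcreteCategory.isIso_iff_bijective _).2 ⟨?_, fun z => ?_⟩
    · refine (injective_iff_map_eq_zero (σ.map μK).hom).2 fun z hz => hιinj ?_
      rw [map_zero]
      refine nsmul_injective g η' ℓ hinv _ ((hq _).1 ?_) ?_
      · rw [← ConcreteCategory.comp_apply, ← Functor.map_comp, kernel.condition, Functor.map_zero]; rfl
      · rw [← map_nsmul, ← stalk_nsmul_id ℓ (η' ≫ g) z]
        exact (congrArg _ hz).trans (map_zero _)
    · have h0 : σ.map φ (σ.map (kernel.ι φ) z) = 0 := by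
        rw [← ConcreteCategory.comp_apply, ← Functor.map_comp, kernel.condition, Functor.map_zero]; rfl
      obtain ⟨y, hy, hyz⟩ := nsmul_surjective g η' ℓ hℓ.pos hinv _ ((hq _).1 h0)
      obtain ⟨y', hy'⟩ := (ShortComplex.ab_exact_iff _).1 hex y ((hq y).2 hy)
      refine ⟨y', hιinj ?_⟩
      refine (congrArg (σ.map (kernel.ι φ)) (stalk_nsmul_id ℓ (η' ≫ g) y')).trans ?_
      exact (map_nsmul (σ.map (kernel.ι φ)).hom ℓ y').trans ((congrArg (ℓ • ·) hy').trans hyz)
  have hμ := fun η (hη : η ∈ M X) => CurveGeneric.notMem_supp_of_isIso μK (hiso η hη)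
  have hbij := CurveGeneric.bijective_comp (P := EtCoh.const X ℤ) μK 1
    (NoethCurve.subsingleton_H_of_no_maximal hdim hsep _ (fun η hη => (hμ η hη).1) 2 (by omega))
    (NoethCurve.subsingleton_H_of_no_maximal hdim hsep _ (fun η hη => (hμ η hη).1) 3 (by omega))
    (NoethCurve.subsingleton_H_of_no_maximal hdim hsep _ (fun η hη => (hμ η hη).2) 1 (by omega))
    (NoethCurve.subsingleton_H_of_no_maximal hdim hsep _ (fun η hη => (hμ η hη).2) 2 (by omega))
  -- torsion
  let R₂ : EtCoh.Ab X → Prop := fun P => IsAddTorsion (EtCoh.H X P 2)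
  obtain ⟨P', ψ, hψ, -, hP'⟩ := exists_map R₂
    (fun P h x => (congrArg IsOfFinAddOrder (@Subsingleton.elim _ (CurveCd.subsingleton_of_id_eq h) x 0)).mpr .zero)
    (fun P Q hP hQ x => by
      rw [← x.comp_mk₀_id, ← biprod.total, Ext.mk₀_add, Ext.comp_add, ← Ext.mk₀_comp_mk₀, ← Ext.mk₀_comp_mk₀,
        ← Ext.comp_assoc_of_second_deg_zero, ← Ext.comp_assoc_of_second_deg_zero]
      exact IsOfFinAddOrder.add (((Ext.mk₀ biprod.inl).postcomp _ (add_zero 2)).isOfFinAddOrder (hP _))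
        (((Ext.mk₀ biprod.inr).postcomp _ (add_zero 2)).isOfFinAddOrder (hQ _)))
    (G := K) (fun η hη => by
      let g : S (X.residueField η) ⟶ X := X.fromSpecResidueField η
      haveI : IsPreimmersion g := inferInstanceAs (IsPreimmersion (X.fromSpecResidueField η))
      haveI : QuasiCompact g := CurveCd.quasiCompact_point η
      haveI : QuasiSeparated g := inferInstance
      have hr : Set.range g.base = {η} := X.range_fromSpecResidueField η
      refine ⟨_, (EtCoh.pullPushAdj g).unit.app K, fun Ω i₁ i₂ ξ hξ => ?_, fun μ hμ hne => ?_,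
        PointCohTorsion.isAddTorsion_H_push g 1 _⟩
      · obtain ⟨η', rfl⟩ := CurveCd.exists_factor ξ hξ
        exact isIso_stalk_unit g η' K
      · refine notMem_supp_push g _ μ fun hc => hne ?_
        rw [hr, ← specializes_iff_mem_closure] at hc
        exact (Lib.SchTopo.Closure.eq_of_specializes_of_closure_mem hμ hc).symm) hfin
  have hψ' := fun η (hη : η ∈ M X) => CurveGeneric.notMem_supp_of_isIso ψ (hψ η hη hη)
  have hbij' := CurveGeneric.bijective_comp (P := EtCoh.const X ℤ) ψ 1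
    (NoethCurve.subsingleton_H_of_no_maximal hdim hsep _ (fun η hη => (hψ' η hη).1) 2 (by omega))
    (NoethCurve.subsingleton_H_of_no_maximal hdim hsep _ (fun η hη => (hψ' η hη).1) 3 (by omega))
    (NoethCurve.subsingleton_H_of_no_maximal hdim hsep _ (fun η hη => (hψ' η hη).2) 1 (by omega))
    (NoethCurve.subsingleton_H_of_no_maximal hdim hsep _ (fun η hη => (hψ' η hη).2) 2 (by omega))
  -- the class comes from the kernel
  let S₁ := ShortComplex.mk (kernel.ι φ) (Abelian.factorThruImage φ) (by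
    rw [← cancel_mono (Abelian.image.ι φ), Category.assoc, Abelian.image.fac, kernel.condition, zero_comp])
  have h₁ : S₁.ShortExact :=
    { exact := by
        refine ShortComplex.exact_of_f_is_kernel _ (KernelFork.IsLimit.ofι' _ _ fun {W} w hw => ?_)
        refine ⟨kernel.lift φ w ?_, kernel.lift_ι _ _ _⟩
        rw [← Abelian.image.fac φ, ← Category.assoc]
        exact (congrArg (· ≫ Abelian.image.ι φ) hw).trans zero_comp
      mono_f := inferInstanceAs (Mono (kernel.ι φ))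
      epi_g := inferInstanceAs (Epi (Abelian.factorThruImage φ)) }
  let S₂ := ShortComplex.mk (Abelian.image.ι φ) (cokernel.π φ) (kernel.condition _)
  have h₂ : S₂.ShortExact :=
    { exact := ShortComplex.exact_of_f_is_kernel _ (kernelIsKernel _)
      mono_f := inferInstanceAs (Mono (kernel.ι _))
      epi_g := inferInstanceAs (Epi (cokernel.π φ)) }
  have hPξ : ξ.comp (Ext.mk₀ φ) (add_zero 2) = 0 := hP _ (by
    rw [← comp_mk₀_nsmul_id, Ext.comp_assoc_of_second_deg_zero, Ext.mk₀_comp_mk₀, Preadditive.comp_nsmul,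
      Category.comp_id, ← Category.id_comp φ, ← Preadditive.nsmul_comp, ← Ext.mk₀_comp_mk₀,
      ← Ext.comp_assoc_of_second_deg_zero, comp_mk₀_nsmul_id, hξ, Ext.zero_comp])
  have hIξ : ξ.comp (Ext.mk₀ S₁.g) (add_zero 2) = 0 := by
    obtain ⟨w, hw⟩ := Ext.covariant_sequence_exact₁ _ h₂ (ξ.comp (Ext.mk₀ S₁.g) (add_zero 2)) (by
      rw [Ext.comp_assoc_of_second_deg_zero, Ext.mk₀_comp_mk₀]
      exact (congrArg (fun m => ξ.comp (Ext.mk₀ m) (add_zero 2)) (Abelian.image.fac φ)).trans hPξ)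
      (n₀ := 1) rfl
    rw [← hw, show w = 0 from @Subsingleton.elim _
      (NoethCurve.subsingleton_H_of_no_maximal hdim hsep _ hC 1 (by omega)) _ _, Ext.zero_comp]
  obtain ⟨v, rfl⟩ := Ext.covariant_sequence_exact₂ _ h₁ ξ hIξ
  have hv : IsOfFinAddOrder v := by
    obtain ⟨n, hn, hn0⟩ := isOfFinAddOrder_iff_nsmul_eq_zero.1 (hP' (v.comp (Ext.mk₀ ψ) (add_zero 2)))
    refine isOfFinAddOrder_iff_nsmul_eq_zero.2 ⟨n, hn, hbij'.1 ?_⟩
    change (n • v).comp (Ext.mk₀ ψ) (add_zero 2) = (0 : EtCoh.H X K 2).comp (Ext.mk₀ ψ) (add_zero 2)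
    rw [Ext.zero_comp, ← hn0]
    exact map_nsmul ((Ext.mk₀ ψ).postcomp (EtCoh.const X ℤ) (add_zero 2)) n v
  obtain ⟨n, hn, hn0⟩ := isOfFinAddOrder_iff_nsmul_eq_zero.1 hv
  have hinjℓ : ∀ y : EtCoh.H X K 2, ℓ • y = 0 → y = 0 := fun y hy => hbij.1 (by
    change y.comp (Ext.mk₀ μK) (add_zero 2) = (0 : EtCoh.H X K 2).comp (Ext.mk₀ μK) (add_zero 2)
    rw [Ext.zero_comp, comp_mk₀_nsmul_id]
    exact hy)
  have hstrip : ∀ (a m : ℕ), (ℓ ^ a * m) • v = 0 → m • v = 0 := fun a => by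
    induction a with
    | zero => intro m hm; rwa [pow_zero, one_mul] at hm
    | succ a ih =>
      intro m hm
      refine hinjℓ _ ?_
      rw [smul_smul]
      exact ih (ℓ * m) (by rwa [← mul_assoc, ← pow_succ])
  obtain ⟨a, m, hm, rfl⟩ := Nat.exists_eq_pow_mul_and_not_dvd hn.ne' ℓ hℓ.one_lt.ne'
  have hmv := hstrip a m hn0
  have hord1 : addOrderOf (v.comp (Ext.mk₀ S₁.f) (add_zero 2)) ∣ ℓ := addOrderOf_dvd_of_nsmul_eq_zero hξ
  have hord2 : addOrderOf (v.comp (Ext.mk₀ S₁.f) (add_zero 2)) ∣ m := by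
    refine addOrderOf_dvd_of_nsmul_eq_zero ?_
    refine (map_nsmul ((Ext.mk₀ S₁.f).postcomp (EtCoh.const X ℤ) (add_zero 2)) m v).symm.trans ?_
    exact (congrArg _ hmv).trans (map_zero _)
  rcases (Nat.dvd_prime hℓ).1 hord1 with h | h
  · exact AddMonoid.addOrderOf_eq_one_iff.1 h
  · exact absurd (h ▸ hord2) hm

/-- No `ℓ`-primary torsion. -/
theorem eq_zero (hdim : topologicalKrullDim X ≤ 1)
    (hsep : ∀ x : X, IsClosed ({x} : Set X) → IsSepClosed (X.residueField x))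
    (ℓ : ℕ) (hℓ : ℓ.Prime) (hinv : Dix.InvertibleOn X ℓ)
    (hcd : ∀ η ∈ M X, Dix.CohDimLEAt (Spec (X.residueField η)) ℓ 1) (i : ℕ) (hi : 2 ≤ i) :
    ∀ (k : ℕ) (ξ : EtCoh.H X (EtCoh.Gm X) i), ℓ ^ k • ξ = 0 → ξ = 0 := by
  have h1 : ∀ ξ : EtCoh.H X (EtCoh.Gm X) i, ℓ • ξ = 0 → ξ = 0 := by
    intro ξ hξ
    rcases Nat.lt_or_ge i 3 with h | h
    · obtain rfl : i = 2 := by omega
      exact eq_zero_two hdim hsep ℓ hℓ hinv hcd ξ hξ
    · have hS := Groth.Agent.Lib.Kummer.kummer_shortExact (n := ℓ) hℓ.pos hinv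
      obtain ⟨y, hy⟩ := Ext.covariant_sequence_exact₂ _ hS ξ
        (by rw [show (ShortComplex.mk (EtCoh.muι X ℓ) (EtCoh.powMap X ℓ)
              (Groth.Agent.Lib.Kummer.powMap_comp_eq_zero _)).g = ℓ • 𝟙 (EtCoh.Gm X) from rfl,
              comp_mk₀_nsmul_id]
            exact hξ)
      haveI := NoethCurve.subsingleton_H_killed hdim hsep ℓ hℓ.pos
        (fun η hη p hp hdvd => by
          rw [(Nat.prime_dvd_prime_iff_eq hp hℓ).1 hdvd]; exact hcd η hη) (NoethCurve.nsmul_mu X ℓ) i h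
      rw [← hy, show y = 0 from @Subsingleton.elim _ this _ _, Ext.zero_comp]
  intro k
  induction k with
  | zero => intro ξ hξ; rwa [pow_zero, one_nsmul] at hξ
  | succ k ih =>
    intro ξ hξ
    refine h1 ξ (ih (ℓ • ξ) ?_)
    rwa [smul_smul, ← pow_succ]

end Main

end Groth.Agent.H88.EtMod.GmTorsion
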