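import Groth.Agent.H88.EtMod.CurveTorsion
import Groth.Agent.H88.EtMod.GmTorsion
import Groth.Agent.H88.EtMod.PointSupp
import Groth.Agent.H61.HpullFunct
import Groth.Agent.Lib.EtJ.Basic

/-!
`H²(X, F) → H²(U, F)` is surjective on curves.
-/

set_option autoImplicit false
set_option linter.style.haveILetI false

universe u

open CategoryTheory CategoryTheory.Limits AlgebraicGeometry Opposite CategoryTheory.Abelian

noncomputable section

namespace Groth.Agent.H88.EtMod.CurveRestrict

open Groth.Agent.H61 Groth.Agent.Lib.EtSite Groth.Agent.Lib.EtSite.Basic Groth.Agent.Lib.EtJ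
open GenericStalk

variable {X U : Scheme.{u}} (j : U ⟶ X) [IsOpenImmersion j]

/-- The base change square of an open immersion. -/
def bcIso {S : Scheme.{u}} (g' : S ⟶ U) (V : U.Etale) :
    (EtCoh.bc g').obj V ≅ (EtCoh.bc (g' ≫ j)).obj ((EtShriek.compEtale j).obj V) :=
  MorphismProperty.Over.isoMk
    { hom := pullback.lift (pullback.fst V.hom g') (pullback.snd V.hom g')
        ((Category.assoc _ _ _).symm.trans ((congrArg (· ≫ j) pullback.condition).trans (Category.assoc _ _ _)))
      inv := pullback.lift (pullback.fst (V.hom ≫ j) (g' ≫ j)) (pullback.snd (V.hom ≫ j) (g' ≫ j))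
        ((cancel_mono j).1 ((Category.assoc _ _ _).trans (pullback.condition.trans (Category.assoc _ _ _).symm)))
      hom_inv_id := by
        apply pullback.hom_ext
        · exact (Category.assoc _ _ _).trans ((congrArg (_ ≫ ·) (pullback.lift_fst _ _ _)).trans
            ((pullback.lift_fst _ _ _).trans (Category.id_comp _).symm))
        · exact (Category.assoc _ _ _).trans ((congrArg (_ ≫ ·) (pullback.lift_snd _ _ _)).trans
            ((pullback.lift_snd _ _ _).trans (Category.id_comp _).symm))
      inv_hom_id := by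
        apply pullback.hom_ext
        · exact (Category.assoc _ _ _).trans ((congrArg (_ ≫ ·) (pullback.lift_fst _ _ _)).trans
            ((pullback.lift_fst _ _ _).trans (Category.id_comp _).symm))
        · exact (Category.assoc _ _ _).trans ((congrArg (_ ≫ ·) (pullback.lift_snd _ _ _)).trans
            ((pullback.lift_snd _ _ _).trans (Category.id_comp _).symm)) }
    (pullback.lift_snd _ _ _)

/-- Direct images restrict. -/
def restrPush {S : Scheme.{u}} (g' : S ⟶ U) (Q : EtCoh.Ab S) :
    (EtShriek.restrAlong j).obj ((EtCoh.push (g' ≫ j)).obj Q) ≅ (EtCoh.push g').obj Q :=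
  (sheafToPresheaf _ _).preimageIso (NatIso.ofComponents (fun V => Q.obj.mapIso (bcIso j g' V.unop).op)
    (fun {V W} a => by
      change Q.obj.map ((EtCoh.bc (g' ≫ j)).map ((EtShriek.compEtale j).map a.unop)).op ≫
          Q.obj.map (bcIso j g' W.unop).hom.op =
        Q.obj.map (bcIso j g' V.unop).hom.op ≫ Q.obj.map ((EtCoh.bc g').map a.unop).op
      rw [← Functor.map_comp, ← Functor.map_comp, ← op_comp, ← op_comp]
      congr 2
      apply MorphismProperty.Over.Hom.ext
      apply pullback.hom_ext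
      · refine (Category.assoc _ _ _).trans ((congrArg (_ ≫ ·) (pullback.lift_fst _ _ _)).trans
          ((Category.assoc _ _ _).symm.trans ((congrArg (· ≫ _) (pullback.lift_fst _ _ _)).trans ?_)))
        exact (pullback.lift_fst _ _ _).symm.trans
          ((congrArg (_ ≫ ·) (pullback.lift_fst _ _ _)).symm.trans (Category.assoc _ _ _).symm)
      · refine (Category.assoc _ _ _).trans ((congrArg (_ ≫ ·) (pullback.lift_snd _ _ _)).trans
          ((pullback.lift_snd _ _ _).trans ?_))
        exact (pullback.lift_snd _ _ _).symm.trans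
          ((congrArg (_ ≫ ·) (pullback.lift_snd _ _ _)).symm.trans (Category.assoc _ _ _).symm)))

theorem isClosed_of_not_maximal {Z : Scheme.{u}} (hdim : topologicalKrullDim Z ≤ 1) {x : Z}
    (h : closure {x} ∉ irreducibleComponents ↥Z) : IsClosed ({x} : Set Z) := by
  rw [← closure_subset_iff_isClosed]
  intro y hy
  by_contra hne
  obtain ⟨C, hC, hxC⟩ := exists_preirreducible (closure {x} : Set Z) isIrreducible_singleton.closure.isPreirreducible
  have hCi : IsIrreducible C := ⟨⟨x, hxC.1 (subset_closure rfl)⟩, hC⟩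
  let a : TopologicalSpace.IrreducibleCloseds Z := ⟨closure {y}, isIrreducible_singleton.closure, isClosed_closure⟩
  let b : TopologicalSpace.IrreducibleCloseds Z := ⟨closure {x}, isIrreducible_singleton.closure, isClosed_closure⟩
  let c : TopologicalSpace.IrreducibleCloseds Z := ⟨closure C, hCi.closure, isClosed_closure⟩
  have hab : a < b := lt_of_le_of_ne (show closure {y} ⊆ closure {x} from
    closure_minimal (Set.singleton_subset_iff.2 hy) isClosed_closure) fun e => hne
      (((specializes_iff_closure_subset.2 (show closure {x} ⊆ closure {y} from (congrArg (fun d : TopologicalSpace.IrreducibleCloseds Z => (d : Set Z)) e).ge)).antisymm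
        (specializes_iff_mem_closure.2 hy)).eq)
  have hbc : b < c := lt_of_le_of_ne (show closure {x} ⊆ closure C from hxC.1.trans subset_closure) fun e => h (by
    refine ⟨isIrreducible_singleton.closure, fun S hS hle => ?_⟩
    have he : (closure {x} : Set Z) = closure C := congrArg (fun d : TopologicalSpace.IrreducibleCloseds Z => (d : Set Z)) e
    have hCS : C ⊆ S := subset_closure.trans (he ▸ hle)
    rw [hxC.2 S hS.isPreirreducible hCS]
    exact subset_closure.trans he.ge)
  have h2 := (Order.LTSeries.length_le_krullDim ((RelSeries.singleton _ a).snoc b hab |>.snoc c (by simpa using hbc))).trans hdim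
  simp at h2

theorem maximal_image {μ : U} (hμ : closure {μ} ∈ irreducibleComponents ↥U) : j.base μ ∈ CurveCd.M X := by
  refine ⟨isIrreducible_singleton.closure, fun Y hY hle => ?_⟩
  obtain ⟨y, hy⟩ := QuasiSober.sober hY.closure isClosed_closure
  have hmem : j.base μ ∈ closure Y := subset_closure (hle (subset_closure rfl))
  rw [← hy.def, ← specializes_iff_mem_closure] at hmem
  obtain ⟨ν, rfl⟩ := j.isOpenEmbedding.isOpen_range.stableUnderGeneralization hmem ⟨μ, rfl⟩
  have := Lib.SchTopo.Closure.eq_of_specializes_of_closure_mem hμ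
    (j.isOpenEmbedding.isInducing.specializes_iff.1 hmem)
  subst this
  exact fun z hz => hy.def ▸ subset_closure hz

variable {k : Type u} [Field k] [IsAlgClosed k] (f : X ⟶ Spec (CommRingCat.of k))
  [LocallyOfFiniteType f] [QuasiCompact f]

include f in
/-- The unit of restriction is onto for sheaves supported at closed points. -/
theorem epi_unit_restr (C : EtCoh.Ab X) (hC : ∀ x ∈ EtPBC.supp C, IsClosed ({x} : Set X)) :
    Epi ((Lib.EtJ.Basic.restrPushAdj j).unit.app C) := by
  haveI : IsLocallyNoetherian X := LocallyOfFiniteType.isLocallyNoetherian f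
  refine (Sheaf.isLocallySurjective_iff_epi' _ _).1 ⟨fun {V} t => (Basic.mem_topology_iff _).2 fun v => ?_⟩
  haveI : Etale V.hom := V.prop
  by_cases hv : V.hom.base v ∈ Set.range j.base
  · let O : V.left.Opens := ⟨V.hom.base ⁻¹' Set.range j.base, j.isOpenEmbedding.isOpen_range.preimage V.hom.continuous⟩
    let W : X.Etale := Scheme.Etale.mk (O.ι ≫ V.hom)
    let r : W ⟶ V := MorphismProperty.Over.homMk O.ι rfl
    let π := (Lib.EtJ.Basic.compEtaleAdj j).counit.app W
    haveI : IsIso π := by
      have hr : Set.range W.hom.base ⊆ Set.range j.base := by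
        rintro _ ⟨w, rfl⟩; exact (w : ↥(O : Scheme.{u})).2
      haveI hp : IsIso (pullback.fst W.hom j) :=
        ⟨pullback.lift (𝟙 _) (IsOpenImmersion.lift j W.hom hr)
          ((Category.id_comp _).trans (IsOpenImmersion.lift_fac _ _ _).symm),
          (cancel_mono (pullback.fst W.hom j)).1 ((Category.assoc _ _ _).trans
            ((congrArg (_ ≫ ·) (pullback.lift_fst _ _ _)).trans ((Category.comp_id _).trans (Category.id_comp _).symm))),
          pullback.lift_fst _ _ _⟩
      haveI : IsIso π.left := hp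
      have hπ : π = (MorphismProperty.Over.isoMk (asIso π.left) (MorphismProperty.Over.w π)).hom :=
        MorphismProperty.Over.Hom.ext rfl
      rw [hπ]; infer_instance
    haveI : IsIso (C.obj.map π.op) := inferInstance
    obtain ⟨s, hs⟩ := ((ConcreteCategory.isIso_iff_bijective (C.obj.map π.op)).1 inferInstance).2
      (((EtCoh.push j).obj ((EtShriek.restrAlong j).obj C)).obj.map r.op t)
    exact ⟨W, r, ⟨s, hs⟩, ⟨v, hv⟩, rfl⟩
  obtain ⟨V', a, v', hv', hV'⟩ := FiniteGen.exists_affine_nhd V v
  haveI : IsAffine V'.left := hV'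
  haveI : Etale V'.hom := V'.prop
  haveI : IsLocallyNoetherian ((Functor.fromPUnit X).obj V'.right) := ‹IsLocallyNoetherian X›
  haveI : IsLocallyNoetherian V'.left := LocallyOfFiniteType.isLocallyNoetherian V'.hom
  haveI : CompactSpace ↥V'.left := (isAffineOpen_top V'.left).isCompact |> isCompact_univ_iff.1
  haveI : IsNoetherian V'.left := {}
  let Z : X.Etale := (EtShriek.compEtale j).obj ((EtCoh.bc j).obj V')
  let p : Z.left ⟶ V'.left := pullback.fst V'.hom j
  haveI : IsOpenImmersion p := inferInstanceAs (IsOpenImmersion (pullback.fst V'.hom j))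
  let s : C.obj.obj (op Z) := ((EtCoh.push j).obj ((EtShriek.restrAlong j).obj C)).obj.map a.op t
  let T : Set V'.left := p.base '' EtShriek.sectSupp C Z s
  have hT : ∀ w ∈ T, IsClosed ({w} : Set V'.left) := by
    rintro _ ⟨z, hz, rfl⟩
    have him : IsClosed ({Z.hom.base z} : Set X) := hC _ (by
      rw [Supp.supp_eq_iUnion]
      exact Set.mem_iUnion₂.2 ⟨Z, s, z, hz, rfl⟩)
    have hpz : V'.hom.base (p.base z) = Z.hom.base z := by
      rw [← Scheme.Hom.comp_apply]
      exact congrArg (fun m : Z.left ⟶ X => m.base z) (pullback.condition (f := V'.hom) (g := j))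
    have hfib : IsClosed (V'.hom.base ⁻¹' {Z.hom.base z}) := him.preimage V'.hom.continuous
    haveI := Lib.EtSite.FieldExt.locallyQuasiFinite_of_etale V'.hom
    have hd : _root_.IsDiscrete (V'.hom.base ⁻¹' {Z.hom.base z}) := V'.hom.isDiscrete_preimage_singleton _
    haveI := hd.to_subtype
    have hc : IsClosed ({⟨p.base z, hpz⟩} : Set ↥(V'.hom.base ⁻¹' {Z.hom.base z})) := isClosed_discrete _
    have := hfib.isClosedEmbedding_subtypeVal.isClosedMap _ hc
    rwa [Set.image_singleton] at this
  have hfin : T.Finite := by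
    have hS : IsClosed (EtShriek.sectSupp C Z s) := Supp.isClosed_sectSupp C Z s
    haveI : QuasiSober ↥(EtShriek.sectSupp C Z s) := hS.isClosedEmbedding_subtypeVal.quasiSober
    haveI : TopologicalSpace.NoetherianSpace ↥Z.left := p.isOpenEmbedding.isInducing.noetherianSpace
    haveI : T1Space ↥(EtShriek.sectSupp C Z s) := ⟨fun b => by
      have : ({b} : Set ↥(EtShriek.sectSupp C Z s)) = Subtype.val ⁻¹' (p.base ⁻¹' {p.base b.1}) := by
        ext c
        exact ⟨fun h => congrArg p.base (congrArg Subtype.val (h : c = b)), fun h => Subtype.ext (p.isOpenEmbedding.injective h)⟩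
      exact this ▸ ((hT _ ⟨b.1, b.2, rfl⟩).preimage p.continuous).preimage continuous_subtype_val⟩
    haveI := PointSupp.finite_of_t1 (α := ↥(EtShriek.sectSupp C Z s))
    exact (Set.toFinite _).image _
  have hTc : IsClosed T := by
    rw [← Set.biUnion_of_singleton T]
    exact hfin.isClosed_biUnion hT
  let O : V'.left.Opens := ⟨Tᶜ, hTc.isOpen_compl⟩
  let W : X.Etale := Scheme.Etale.mk (O.ι ≫ V'.hom)
  let r : W ⟶ V' := MorphismProperty.Over.homMk O.ι rfl
  have hv'T : v' ∈ O := by
    rintro ⟨z, -, hz⟩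
    refine hv ⟨(pullback.snd V'.hom j).base z, ?_⟩
    rw [← hv', ← hz, ← Scheme.Hom.comp_apply]
    refine (congrArg (fun m : Z.left ⟶ X => m.base z) (pullback.condition (f := V'.hom) (g := j)).symm).trans ?_
    change V'.hom.base (p.base z) = (a.left ≫ V.hom).base (p.base z)
    exact congrArg (fun m : V'.left ⟶ X => m.base (p.base z)) (MorphismProperty.Over.w a).symm
  refine ⟨W, r ≫ a, ⟨0, ?_⟩, ⟨v', hv'T⟩, ?_⟩
  · refine (map_zero _).trans ?_
    symm
    let R : (EtShriek.compEtale j).obj ((EtCoh.bc j).obj W) ⟶ Z :=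
      (EtShriek.compEtale j).map ((EtCoh.bc j).map r)
    have key : C.obj.map R.op s = 0 := by
      refine Stalk.sections_ext_of_germ C _ _ (Stalk.enoughPts_pt fun z q => ?_)
      refine Eq.trans ?_ (map_zero _).symm
      refine (GrothendieckTopology.Point.toPresheafFiber_w_apply _ R q C.obj s).trans
        ((Supp.germ_eq_zero_iff_notMem C Z _ s).2 fun hmem => ?_)
      rw [fiberPt_map] at hmem
      let w := fiberPt q
      have : p.base (R.left.base w) ∈ O := by
        rw [← Scheme.Hom.comp_apply, show R.left ≫ p = pullback.fst W.hom j ≫ O.ι from pullback.lift_fst _ _ _]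
        exact ((pullback.fst W.hom j).base w : ↥(O : Scheme.{u})).2
      exact this ⟨_, hmem, rfl⟩
    rw [op_comp, Functor.map_comp]
    exact key
  · rw [← hv']; rfl

include f in
/-- Global sections lift. -/
theorem surjective_H0 (hdim : topologicalKrullDim X ≤ 1) (C : EtCoh.Ab X)
    (hC : ∀ η : X, closure {η} ∈ irreducibleComponents ↥X → η ∉ EtPBC.supp C)
    (hC' : ∀ x ∈ EtPBC.supp C, IsClosed ({x} : Set X)) [PreservesFiniteLimits (EtCoh.pull j)]
    (φ : EtCoh.const U ℤ ⟶ (EtCoh.pull j).obj C) :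
    ∃ l : EtCoh.const X ℤ ⟶ C, (EtCore.pullConst j ℤ).inv ≫ (EtCoh.pull j).map l = φ := by
  let ε := (EtCoh.pullPushAdj j).unit.app C
  have hε : Epi ε := by
    haveI := epi_unit_restr j f C hC'
    have h := Adjunction.unit_leftAdjointUniq_hom_app (EtCoh.pullPushAdj j) (Lib.EtJ.Basic.restrPushAdj j) C
    have h' : ε = (Lib.EtJ.Basic.restrPushAdj j).unit.app C ≫
        (EtCoh.push j).map ((Lib.EtJ.Basic.pullIsoRestr j).inv.app C) := by
      rw [← h, Category.assoc, ← Functor.map_comp]
      erw [Iso.hom_inv_id_app]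
      erw [CategoryTheory.Functor.map_id]
      exact (Category.comp_id _).symm
    rw [h']
    exact epi_comp _ _
  let ζ := (EtCoh.pullPushAdj j).homEquiv _ _ ((EtCore.pullConst j ℤ).hom ≫ φ)
  let S := ShortComplex.mk (kernel.ι ε) ε (kernel.condition ε)
  have hS : S.ShortExact :=
    { exact := ShortComplex.exact_of_f_is_kernel _ (kernelIsKernel _)
      mono_f := inferInstanceAs (Mono (kernel.ι ε))
      epi_g := hε }
  obtain ⟨l₀, hl⟩ := Ext.covariant_sequence_exact₃ (EtCoh.const X ℤ) hS (Ext.mk₀ ζ) (zero_add 1)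
    (@Subsingleton.elim _ (CurveGeneric.subsingleton_H f hdim (kernel ε)
      (fun η hη h => hC η hη (supp_subset_of_mono (kernel.ι ε) h)) 1 one_pos) _ _)
  obtain ⟨l, rfl⟩ := (Ext.mk₀_bijective _ _).2 l₀
  rw [Ext.mk₀_comp_mk₀] at hl
  have hl' : l ≫ ε = ζ := (Ext.mk₀_bijective _ _).1 hl
  refine ⟨l, ?_⟩
  have h2 : (EtCoh.pull j).map l = (EtCore.pullConst j ℤ).hom ≫ φ := by
    apply ((EtCoh.pullPushAdj j).homEquiv _ _).injective
    rw [Adjunction.homEquiv_unit]
    refine Eq.trans ?_ hl'
    exact ((EtCoh.pullPushAdj j).unit.naturality l).symm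
  rw [h2, Iso.inv_hom_id_assoc]

theorem Hpull_extClass [PreservesFiniteLimits (EtCoh.pull j)] {S : ShortComplex (EtCoh.Ab X)} (hS : S.ShortExact)
    {n n' : ℕ} (hn : n + 1 = n') (y : EtCoh.H X S.X₃ n) :
    EtCore.Hpull j S.X₁ n' (y.comp hS.extClass hn) =
      (EtCore.Hpull j S.X₃ n y).comp (hS.map_of_exact (EtCoh.pull j)).extClass hn := by
  change (Ext.mk₀ (EtCore.pullConst j ℤ).inv).comp ((y.comp hS.extClass hn).mapExactFunctor (EtCoh.pull j)) (zero_add n') =
    ((Ext.mk₀ (EtCore.pullConst j ℤ).inv).comp (y.mapExactFunctor (EtCoh.pull j)) (zero_add n)).comp _ hn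
  rw [Ext.mapExactFunctor_comp, Ext.mapExactFunctor_extClass]
  exact (Ext.comp_assoc _ _ _ (zero_add n) hn (by omega)).symm

include f in
/-- The case of a direct image from a maximal point. -/
theorem surjective_push (hdim : topologicalKrullDim X ≤ 1) [PreservesFiniteLimits (EtCoh.pull j)] (η : X)
    (hη : η ∈ CurveCd.M X) {F : EtCoh.Ab (FieldCoh.S (X.residueField η))} (hF : FieldAcy.Acy 2 F) :
    Function.Surjective (EtCore.Hpull j ((EtCoh.push (X.fromSpecResidueField η)).obj F) 2) := by
  let g : FieldCoh.S (X.residueField η) ⟶ X := X.fromSpecResidueField η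
  haveI : QuasiCompact g := CurveCd.quasiCompact_point η
  haveI : QuasiSeparated g := inferInstance
  have hr : Set.range g.base = {η} := X.range_fromSpecResidueField η
  by_cases hηU : η ∈ Set.range j.base
  swap
  · intro a
    refine ⟨0, @Subsingleton.elim _ ?_ _ _⟩
    have hz : IsZero ((EtCoh.pull j).obj ((EtCoh.push g).obj F)) := by
      refine IsZero.of_iso ?_ ((Lib.EtJ.Basic.pullIsoRestr j).app _)
      rw [IsZero.iff_id_eq_zero]
      ext V t
      let V' := (EtShriek.compEtale j).obj V.unop
      haveI : IsEmpty ↥((EtCoh.bc g).obj V').left := ⟨fun w => hηU ⟨V.unop.hom.base ((pullback.fst V'.hom g).base w), by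
        have h1 : g.base ((pullback.snd V'.hom g).base w) = η :=
          Set.eq_of_mem_singleton (hr ▸ Set.mem_range_self _)
        exact ((congrArg (fun m : pullback V'.hom g ⟶ X => m.base w) pullback.condition).trans h1 :)⟩⟩
      refine Stalk.sections_ext_of_germ F (U := (EtCoh.bc g).obj V') _ _ (Stalk.enoughPts_pt fun z q => ?_)
      exact isEmptyElim (fiberPt q)
    exact subsingleton_of_forall_eq 0 fun e => by
      exact (e.comp_mk₀_id).symm.trans ((congrArg (fun m => e.comp (Ext.mk₀ m) (add_zero 2))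
        ((IsZero.iff_id_eq_zero _).1 hz)).trans (by rw [Ext.mk₀_zero, Ext.comp_zero]))
  intro a
  have hsub : Set.range g.base ⊆ Set.range j.base := by rw [hr]; simpa using hηU
  let g' := IsOpenImmersion.lift j g hsub
  have hg : g' ≫ j = g := IsOpenImmersion.lift_fac _ _ _
  haveI : QuasiCompact (g' ≫ j) := hg.symm ▸ ‹QuasiCompact g›
  haveI : QuasiCompact g' := QuasiCompact.of_comp g' j
  haveI : QuasiSeparated g' := inferInstance
  haveI : PreservesLimitsOfSize.{0, 0} (EtCoh.push g) := (EtCoh.pullPushAdj g).rightAdjoint_preservesLimits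
  haveI : PreservesFiniteLimits (EtCoh.push g) := ⟨fun J _ _ => inferInstance⟩
  let T := Lib.EtH1Gm.Class.seq F
  have hT : T.ShortExact := Lib.EtH1Gm.Class.seq_shortExact F
  have hQ : FieldAcy.Acy 1 T.X₃ := FieldAcy.Acy.shift le_rfl hF
  let φ : (EtCoh.push g).obj T.X₂ ⟶ (EtCoh.push g).obj T.X₃ := (EtCoh.push g).map T.g
  haveI := hT.mono_f
  haveI := hT.epi_g
  let S₁ := ShortComplex.mk ((EtCoh.push g).map T.f) (Abelian.factorThruImage φ) (by
    rw [← cancel_mono (Abelian.image.ι φ), Category.assoc, Abelian.image.fac, zero_comp,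
      ← Functor.map_comp, T.zero, Functor.map_zero])
  have h₁ : S₁.ShortExact :=
    { exact := by
        have hex : (T.map (EtCoh.push g)).Exact := hT.exact.map_of_mono_of_preservesKernel (EtCoh.push g) hT.mono_f inferInstance
        have : Mono ((EtCoh.push g).map T.f) := inferInstance
        refine ShortComplex.exact_of_f_is_kernel _ (KernelFork.IsLimit.ofι' _ _ fun {W} w hw => ?_)
        have hw' : w ≫ φ = 0 := by
          rw [← Abelian.image.fac φ, ← Category.assoc]
          exact (congrArg (· ≫ Abelian.image.ι φ) hw).trans zero_comp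
        haveI : Mono (T.map (EtCoh.push g)).f := this
        exact ⟨hex.lift w hw', hex.lift_f w hw'⟩
      mono_f := inferInstanceAs (Mono ((EtCoh.push g).map T.f))
      epi_g := inferInstanceAs (Epi (Abelian.factorThruImage φ)) }
  let S₂ := ShortComplex.mk (Abelian.image.ι φ) (cokernel.π φ) (kernel.condition _)
  have h₂ : S₂.ShortExact :=
    { exact := ShortComplex.exact_of_f_is_kernel _ (kernelIsKernel _)
      mono_f := inferInstanceAs (Mono (kernel.ι _))
      epi_g := inferInstanceAs (Epi (cokernel.π φ)) }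
  have hC : ∀ μ : X, closure {μ} ∈ irreducibleComponents ↥X → μ ∉ EtPBC.supp (cokernel φ) := fun μ hμ h => by
    by_cases he : μ = η
    · subst he
      exact CurveTorsion.notMem_supp_coker μ T.g h
    · refine notMem_supp_push g _ μ (fun hc => he ?_) (supp_subset_of_epi (cokernel.π φ) h)
      rw [hr, ← specializes_iff_mem_closure] at hc
      exact (Lib.SchTopo.Closure.eq_of_specializes_of_closure_mem hμ hc).symm
  haveI : (EtCoh.pull j).PreservesMonomorphisms := inferInstance
  haveI hI : Injective ((EtCoh.pull j).obj S₁.X₂) := by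
    haveI : Injective S₁.X₂ := (EtCoh.pullPushAdj g).map_injective (Injective.under F) inferInstance
    haveI : (EtShriek.extZero j).PreservesMonomorphisms := inferInstance
    exact Injective.of_iso ((Lib.EtJ.Basic.pullIsoRestr j).app _).symm
      ((EtShriek.extZeroAdj j).map_injective S₁.X₂ inferInstance)
  obtain ⟨b, hb⟩ := Ext.covariant_sequence_exact₁ _ (h₁.map_of_exact (EtCoh.pull j)) a
    (Ext.eq_zero_of_injective (I := (EtCoh.pull j).obj S₁.X₂) _) (n₀ := 1) rfl
  haveI hJ : Subsingleton (EtCoh.H U ((EtCoh.pull j).obj ((EtCoh.push g).obj T.X₃)) 1) := by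
    haveI : Subsingleton ↑((EtCoh.HF U 1).obj ((EtCoh.push g').obj T.X₃)) :=
      FieldAcy.subsingleton_H_push g' 0 _ hQ
    refine Equiv.subsingleton (((EtCoh.HF U 1).mapIso ((Lib.EtJ.Basic.pullIsoRestr j).app _ ≪≫
      eqToIso ?_ ≪≫ restrPush j g' T.X₃)).addCommGroupIsoToAddEquiv.toEquiv)
    rw [hg]
  obtain ⟨c, hc⟩ := Ext.covariant_sequence_exact₁ _ (h₂.map_of_exact (EtCoh.pull j)) b
    (@Subsingleton.elim _ hJ _ _) (n₀ := 0) rfl
  obtain ⟨c₀, rfl⟩ := (Ext.mk₀_bijective _ _).2 c
  have hC' : ∀ x ∈ EtPBC.supp (cokernel φ), IsClosed ({x} : Set X) := fun x hx => by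
    refine isClosed_of_not_maximal hdim fun h => hC x h hx
  obtain ⟨l, hl⟩ := surjective_H0 j f hdim (cokernel φ) hC hC' c₀
  refine ⟨((Ext.mk₀ l).comp h₂.extClass (zero_add 1)).comp h₁.extClass rfl, ?_⟩
  refine (Hpull_extClass j h₁ rfl _).trans ?_
  rw [Hpull_extClass j h₂ (zero_add 1)]
  rw [← hb, ← hc]
  congr 2
  change (Ext.mk₀ (EtCore.pullConst j ℤ).inv).comp ((Ext.mk₀ l).mapExactFunctor (EtCoh.pull j)) (zero_add 0) = _
  rw [Ext.mapExactFunctor_mk₀, Ext.mk₀_comp_mk₀, hl]
  rfl

include f in
/-- The restriction is surjective in degree two. -/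
theorem surjective (hdim : topologicalKrullDim X ≤ 1) [PreservesFiniteLimits (EtCoh.pull j)]
    {F : EtCoh.Ab X} (hFt : EtCoh.IsTorsion F) : Function.Surjective (EtCore.Hpull j F 2) := by
  haveI : IsLocallyNoetherian X := LocallyOfFiniteType.isLocallyNoetherian f
  haveI : CompactSpace ↥X := QuasiCompact.compactSpace_of_compactSpace f
  haveI : IsNoetherian X := {}
  have hfin : (CurveCd.M X).Finite := Set.Finite.of_finite_image
    (TopologicalSpace.NoetherianSpace.finite_irreducibleComponents.subset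
      (by rintro _ ⟨η, hη, rfl⟩; exact hη))
    (fun a _ b _ h => ((specializes_iff_closure_subset.2 h.ge).antisymm (specializes_iff_closure_subset.2 h.le)).eq)
  have hnat : ∀ {P Q : EtCoh.Ab X} (m : P ⟶ Q) (x : EtCoh.H X P 2),
      EtCore.Hpull j Q 2 (x.comp (Ext.mk₀ m) (add_zero 2)) =
        (EtCore.Hpull j P 2 x).comp (Ext.mk₀ ((EtCoh.pull j).map m)) (add_zero 2) := fun m x =>
    Groth.Agent.H61.HpullFunct.Hpull_map (f := j) m 2 x
  obtain ⟨P, φ, hφ, -, hP⟩ := GmTorsion.exists_map
    (fun P : EtCoh.Ab X => Function.Surjective (EtCore.Hpull j P 2))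
    (fun P h y => ⟨0, by
      rw [map_zero, ← y.comp_mk₀_id, show 𝟙 ((EtCoh.pull j).obj P) = 0 by
        rw [← CategoryTheory.Functor.map_id, h, Functor.map_zero], Ext.mk₀_zero, Ext.comp_zero]⟩)
    (fun P Q hP hQ y => by
      obtain ⟨x₁, h₁⟩ := hP (y.comp (Ext.mk₀ ((EtCoh.pull j).map biprod.fst)) (add_zero 2))
      obtain ⟨x₂, h₂⟩ := hQ (y.comp (Ext.mk₀ ((EtCoh.pull j).map biprod.snd)) (add_zero 2))
      refine ⟨x₁.comp (Ext.mk₀ biprod.inl) (add_zero 2) + x₂.comp (Ext.mk₀ biprod.inr) (add_zero 2), ?_⟩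
      rw [map_add, hnat, hnat, h₁, h₂, Ext.comp_assoc_of_second_deg_zero, Ext.comp_assoc_of_second_deg_zero,
        Ext.mk₀_comp_mk₀, Ext.mk₀_comp_mk₀, ← Ext.comp_add, ← Ext.mk₀_add, ← Functor.map_comp, ← Functor.map_comp,
        ← Functor.map_add, biprod.total, CategoryTheory.Functor.map_id, Ext.comp_mk₀_id])
    (G := F) (fun η hη => by
      let g : FieldCoh.S (X.residueField η) ⟶ X := X.fromSpecResidueField η
      haveI : IsPreimmersion g := inferInstanceAs (IsPreimmersion (X.fromSpecResidueField η))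
      haveI : QuasiCompact g := CurveCd.quasiCompact_point η
      have hr : Set.range g.base = {η} := X.range_fromSpecResidueField η
      refine ⟨_, (EtCoh.pullPushAdj g).unit.app F, fun Ω i₁ i₂ ξ hξ => ?_, fun μ hμ hne => ?_,
        surjective_push j f hdim η hη
          (CurveField.acy_torsion (CurveTrdeg.trivBr_residueField f hdim η) (CurveTorsion.isTorsion_pull g hFt))⟩
      · obtain ⟨η', rfl⟩ := CurveCd.exists_factor ξ hξ
        exact isIso_stalk_unit g η' F
      · refine notMem_supp_push g _ μ fun hc => hne ?_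
        rw [hr, ← specializes_iff_mem_closure] at hc
        exact (Lib.SchTopo.Closure.eq_of_specializes_of_closure_mem hμ hc).symm) hfin
  have hs := fun η (hη : η ∈ CurveCd.M X) => CurveGeneric.notMem_supp_of_isIso φ (hφ η hη hη)
  have hb := CurveGeneric.bijective_comp (P := EtCoh.const X ℤ) φ 1
    (CurveGeneric.subsingleton_H f hdim _ (fun η hη => (hs η hη).1) 2 (by omega))
    (CurveGeneric.subsingleton_H f hdim _ (fun η hη => (hs η hη).1) 3 (by omega))
    (CurveGeneric.subsingleton_H f hdim _ (fun η hη => (hs η hη).2) 1 (by omega))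
    (CurveGeneric.subsingleton_H f hdim _ (fun η hη => (hs η hη).2) 2 (by omega))
  -- over the open part
  let ψ := (EtCoh.pull j).map φ
  have hdimU : topologicalKrullDim U ≤ 1 := le_trans j.isOpenEmbedding.isInducing.topologicalKrullDim_le hdim
  haveI : QuasiCompact j := inferInstance
  have hMU : ∀ μ : U, closure {μ} ∈ irreducibleComponents ↥U → j.base μ ∈ CurveCd.M X := fun μ hμ => by
    exact maximal_image j hμ
  have hsU : ∀ μ : U, closure {μ} ∈ irreducibleComponents ↥U →
      μ ∉ EtPBC.supp (kernel ψ) ∧ μ ∉ EtPBC.supp (cokernel ψ) := fun μ hμ =>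
    CurveGeneric.notMem_supp_of_isIso ψ fun Ω i₁ i₂ ξ hξ => by
      have h := hφ (j.base μ) (hMU μ hμ) (hMU μ hμ) Ω i₁ i₂ (ξ ≫ j) (by
        rw [show Set.range (ξ ≫ j).base = j.base '' Set.range ξ.base by
          ext; simp, hξ, Set.image_singleton])
      exact (NatIso.isIso_map_iff (Lib.EtSite.Pull.stalkPull j ξ) φ).2 h
  have hbU := CurveGeneric.bijective_comp (P := EtCoh.const U ℤ) ψ 1
    (CurveGeneric.subsingleton_H (j ≫ f) hdimU _ (fun η hη => (hsU η hη).1) 2 (by omega))
    (CurveGeneric.subsingleton_H (j ≫ f) hdimU _ (fun η hη => (hsU η hη).1) 3 (by omega))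
    (CurveGeneric.subsingleton_H (j ≫ f) hdimU _ (fun η hη => (hsU η hη).2) 1 (by omega))
    (CurveGeneric.subsingleton_H (j ≫ f) hdimU _ (fun η hη => (hsU η hη).2) 2 (by omega))
  intro y
  obtain ⟨x', hx'⟩ := hP (y.comp (Ext.mk₀ ψ) (add_zero 2))
  obtain ⟨x, rfl⟩ := hb.2 x'
  exact ⟨x, hbU.1 ((hnat φ x).symm.trans hx')⟩

end Groth.Agent.H88.EtMod.CurveRestrict
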