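import Groth.Agent.Lib.EtH1Gm.HofPush

/-!
`H¹` of a direct image injects into `H¹` upstairs.
-/

set_option autoImplicit false

universe u

open CategoryTheory CategoryTheory.Limits CategoryTheory.Abelian AlgebraicGeometry Opposite

noncomputable section

namespace Groth.Agent.H88.EtMod.PushH1

open Groth.Agent.Lib.EtH1Gm.HofPush Groth.Agent.Lib.EtH1Gm.Class

variable {X Y : Scheme.{u}} (u : Y ⟶ X) [PreservesFiniteLimits (EtCoh.pull u)]

/-- The edge map in degree one is injective for every morphism and every sheaf. -/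
theorem eq_zero_of_HofPush_eq_zero (F : EtCoh.Ab Y) (y : EtCoh.H X ((EtCoh.push u).obj F) 1)
    (hy : EtLim.HofPush u F 1 y = 0) : y = 0 := by
  let T : ShortComplex (EtCoh.Ab X) :=
    ShortComplex.mk ((EtCoh.push u).map (Injective.ι F))
      (Abelian.factorThruImage ((EtCoh.push u).map (cokernel.π (Injective.ι F)))) (by
        rw [← cancel_mono (Abelian.image.ι _), zero_comp, Category.assoc, Abelian.image.fac,
          ← Functor.map_comp, cokernel.condition, Functor.map_zero])
  have hl : PreservesFiniteLimits (EtCoh.push u) := by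
    have := (EtCoh.pullPushAdj u).rightAdjoint_preservesLimits.{0, 0}
    exact ⟨fun J _ _ => inferInstance⟩
  have hT : T.ShortExact := by
    have hm : Mono T.f := inferInstanceAs (Mono ((EtCoh.push u).map _))
    have he : ((seq F).map (EtCoh.push u)).Exact :=
      (seq_shortExact F).exact.map_of_mono_of_preservesKernel (EtCoh.push u)
        (seq_shortExact F).mono_f inferInstance
    refine { exact := ?_, mono_f := hm, epi_g := inferInstanceAs (Epi (Abelian.factorThruImage _)) }
    let φT : T ⟶ (seq F).map (EtCoh.push u) :=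
      { τ₁ := 𝟙 _, τ₂ := 𝟙 _, τ₃ := Abelian.image.ι _
        comm₁₂ := (Category.id_comp _).trans (Category.comp_id _).symm
        comm₂₃ := (Category.id_comp _).trans (Abelian.image.fac _).symm }
    have : Epi φT.τ₁ := inferInstanceAs (Epi (𝟙 _))
    have : IsIso φT.τ₂ := inferInstanceAs (IsIso (𝟙 _))
    have : Mono φT.τ₃ := show Mono (Abelian.image.ι ((EtCoh.push u).map (cokernel.π (Injective.ι F)))) from
      inferInstanceAs (Mono (kernel.ι _))
    exact (ShortComplex.exact_iff_of_epi_of_isIso_of_mono φT).2 he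
  have : Injective T.X₂ := (EtCoh.pullPushAdj u).map_injective _ inferInstance
  obtain ⟨z, rfl⟩ := Ext.covariant_sequence_exact₁ _ hT y (Ext.eq_zero_of_injective _) (zero_add 1)
  let ι₃ := Abelian.image.ι ((EtCoh.push u).map (cokernel.π (Injective.ι F)))
  let α₃ := (EtCoh.pull u).map ι₃ ≫ (EtCoh.pullPushAdj u).counit.app _
  have h := HofPush_comp_extClass u (seq_shortExact F) T.f T.g T.zero hT
    ((EtCoh.pullPushAdj u).counit.app _) α₃
    ((EtCoh.pullPushAdj u).counit.naturality (Injective.ι F)).symm (by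
      refine Eq.trans ?_ (Category.assoc _ _ _)
      rw [← Functor.map_comp, Abelian.image.fac]
      exact ((EtCoh.pullPushAdj u).counit.naturality (cokernel.π (Injective.ι F))).symm)
    (zero_add 1) z
  have h0 := h.symm.trans hy
  obtain ⟨w, hw⟩ := Ext.covariant_sequence_exact₃ _ (seq_shortExact F) _ (zero_add 1) h0
  obtain ⟨φ, rfl⟩ := (Ext.mk₀_bijective _ _).2 w
  obtain ⟨ζ, rfl⟩ := (Ext.mk₀_bijective _ _).2 z
  have hw' : φ ≫ cokernel.π (Injective.ι F) =
      ((EtCore.pullConst u ℤ).symm.hom ≫ (EtCoh.pull u).map (ζ ≫ ι₃)) ≫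
        (EtCoh.pullPushAdj u).counit.app _ := by
    refine (Ext.mk₀_bijective _ _).1 (((Ext.mk₀_comp_mk₀ _ _).symm.trans hw).trans ?_)
    rw [Ext.mapExactFunctor_mk₀]
    refine ((congrArg (fun e => Ext.comp e _ (add_zero 0)) (Ext.mk₀_comp_mk₀ _ _)).trans
      (Ext.mk₀_comp_mk₀ _ _)).trans (congrArg Ext.mk₀ ?_)
    simp [α₃]
    exact Category.assoc _ _ _
  have e1 := adj_aux (EtCoh.pullPushAdj u) (EtCore.pullConst u ℤ).symm (ζ ≫ ι₃)
    (cokernel.π (Injective.ι F)) φ hw'
  let ψ : EtCoh.const X ℤ ⟶ T.X₂ :=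
    (EtCoh.pullPushAdj u).homEquiv _ _ ((EtCore.pullConst u ℤ).symm.inv ≫ φ)
  have : Mono ι₃ := inferInstanceAs (Mono (kernel.ι _))
  have hζ : ζ = ψ ≫ T.g := (cancel_mono ι₃).1
    (e1.trans ((Category.assoc _ _ _).trans (congrArg (ψ ≫ ·) (Abelian.image.fac _))).symm)
  rw [hζ]
  exact mk₀_g_comp_extClass hT ψ

/-- If `H¹(Y, F) = 0` then `H¹(X, u_* F) = 0`. -/
theorem subsingleton_H_one_push (F : EtCoh.Ab Y) [Subsingleton (EtCoh.H Y F 1)] :
    Subsingleton (EtCoh.H X ((EtCoh.push u).obj F) 1) :=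
  subsingleton_of_forall_eq 0 fun y => eq_zero_of_HofPush_eq_zero u F y (Subsingleton.elim _ _)

end Groth.Agent.H88.EtMod.PushH1
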