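import Groth.Agent.H88.EtMod.CurveRestrict
import Groth.Agent.H88.DepthExt
import Groth.Agent.H88.EtMod.PushH1
import Groth.Agent.Lib.EtJ.OpenZero
import Groth.Agent.Lib.EtSite.Immersion

/-!
Cohomology with support in points of a curve.
-/

set_option autoImplicit false
set_option linter.style.haveILetI false

universe u

open CategoryTheory CategoryTheory.Limits AlgebraicGeometry Opposite CategoryTheory.Abelian

noncomputable section

namespace Groth.Agent.H88.EtMod.CurveSupport

open Groth.Agent.H61 Groth.Agent.H88 Groth.Agent.Lib.EtSite Groth.Agent.Lib.EtJ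

variable {X U : Scheme.{u}} (j : U ⟶ X) [IsOpenImmersion j]

theorem subsingleton_HY (G : EtCoh.Ab X) (p : ℕ) (h : Subsingleton (Ext.{u + 1} (DepthExt.Q j) G p)) :
    Subsingleton ((EtDual.HY j p).obj G) := by
  let I := injectiveResolution G
  refine AddCommGrpCat.subsingleton_of_isZero (IsZero.of_iso ?_ (I.isoRightDerivedObj (EtDual.gammaSupp j) p))
  exact (DepthSec.ex_iff j I.cocomplex (EtCoh.top X) p).1 ((DepthExt.subsingleton_ext_iff j I p).1 h)

variable [PreservesFiniteLimits (EtCoh.pull j)]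

theorem subsingleton_ext {G : EtCoh.Ab X} (p : ℕ)
    (hs : Function.Surjective (EtCore.Hpull j G p)) (hz : Subsingleton (EtCoh.H X G (p + 1))) :
    Subsingleton (Ext.{u + 1} (DepthExt.Q j) G (p + 1)) := by
  refine subsingleton_of_forall_eq 0 fun x => ?_
  have hP : Function.Surjective (DepthExt.P j G p) := fun y => by
    obtain ⟨e, he⟩ := hs (FieldCoh.Φ j G p y)
    rw [DepthExt.Hpull_eq j p] at he
    exact ⟨e, (FieldCoh.Φ j G p).injective he⟩
  obtain ⟨y, hy⟩ := Ext.contravariant_sequence_exact₃ (DepthExt.seq_shortExact j) G x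
    (@Subsingleton.elim _ hz _ _) (add_comm 1 p)
  obtain ⟨e, rfl⟩ := hP y
  rw [← hy, DepthExt.P, ← Ext.comp_assoc _ _ _ (add_zero 1) (zero_add p) (by omega)]
  rw [(DepthExt.seq_shortExact j).extClass_comp, Ext.zero_comp]

theorem hom_ext_of_pull (G : EtCoh.Ab U) (l : EtCoh.const X ℤ ⟶ (EtShriek.extZero j).obj G)
    (h : (EtCoh.pull j).map l = 0) : l = 0 := by
  refine (cancel_mono (𝟙 _)).1 (Eq.trans ?_ zero_comp.symm)
  rw [Category.comp_id, ← cancel_epi (𝟙 _)]
  rw [Category.id_comp, comp_zero]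
  have key : ∀ z : X, (EtCoh.stalk (Basic.geomPoint X z)).map l = 0 := fun z => by
    by_cases hz : z ∈ Set.range j.base
    · obtain ⟨u, rfl⟩ := hz
      obtain ⟨ξ', hξ'⟩ : ∃ ξ', ξ' ≫ j = Basic.geomPoint X (j.base u) :=
        ⟨IsOpenImmersion.lift j _ (by
          rintro _ ⟨t, rfl⟩; exact ⟨u, (Basic.geomPoint_apply _ t).symm⟩), IsOpenImmersion.lift_fac _ _ _⟩
      rw [← hξ']
      have := (Lib.EtSite.Pull.stalkPull j ξ').hom.naturality l
      rw [Functor.comp_map, h, Functor.map_zero, zero_comp] at this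
      exact (cancel_epi ((Lib.EtSite.Pull.stalkPull j ξ').hom.app _)).1 (this.symm.trans comp_zero.symm)
    · exact (OpenZero.isZero_stalk j (ξ := Basic.geomPoint X z) (by rwa [Basic.geomPoint_apply]) G).eq_of_tgt _ _
  haveI : IsIso (kernel.ι l) := by
    refine Stalk.isIso_of_stalks _ (Stalk.enoughPts_pt fun z => ?_)
    let σ := EtCoh.stalk (Basic.geomPoint X z)
    haveI : IsIso (σ.map (kernel.ι l)) := by
      have e : σ.map (kernel.ι l) = (PreservesKernel.iso σ l).hom ≫ kernel.ι (σ.map l) :=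
        (PreservesKernel.iso_hom σ l) ▸ (by simp)
      rw [e]
      haveI : IsIso (kernel.ι (σ.map l)) :=
        ⟨kernel.lift (σ.map l) (𝟙 _) ((Category.id_comp _).trans (key z)),
          (cancel_mono (kernel.ι _)).1 (by rw [Category.assoc, kernel.lift_ι]; simp), kernel.lift_ι _ _ _⟩
      infer_instance
    exact (ConcreteCategory.isIso_iff_bijective _).1 this
  exact (cancel_epi (kernel.ι l)).1 ((kernel.condition l).trans comp_zero.symm)

theorem zero_extZero (G : EtCoh.Ab U) : Subsingleton ((EtDual.HY j 0).obj ((EtShriek.extZero j).obj G)) := by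
  refine subsingleton_HY j _ 0 ((DepthExt.forall_subsingleton_iff j 1).2 ⟨fun p hp => by omega, fun p hp => ?_⟩ 0 one_pos)
  obtain rfl : p = 0 := by omega
  refine (injective_iff_map_eq_zero _).2 fun x hx => ?_
  obtain ⟨l, rfl⟩ := (Ext.mk₀_bijective _ _).2 x
  change (Ext.mk₀ (EtCore.pullConst j ℤ).inv).comp ((Ext.mk₀ l).mapExactFunctor (EtCoh.pull j)) (zero_add 0) = 0 at hx
  rw [Ext.mapExactFunctor_mk₀, Ext.mk₀_comp_mk₀, Ext.mk₀_eq_zero_iff, Preadditive.IsIso.comp_left_eq_zero] at hx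
  rw [hom_ext_of_pull j G l hx, Ext.mk₀_zero]

theorem le_one_push (G : EtCoh.Ab U) (p : ℕ) (hp : p < 2) :
    Subsingleton ((EtDual.HY j p).obj ((EtCoh.push j).obj G)) := by
  haveI : IsIso (EtCoh.pullPushAdj j).counit :=
    Lib.EtSite.Immersion.isIso_counit_of_isOpenImmersion j (A := AddCommGrpCat.{u + 1})
  refine subsingleton_HY j _ p ((DepthExt.forall_subsingleton_iff j 2).2 ⟨fun q hq => ?_, fun q hq => ?_⟩ p hp)
  · obtain rfl : q = 0 := by omega
    refine ⟨?_, fun y => ?_⟩
    · refine (injective_iff_map_eq_zero _).2 fun x hx => HofPush0 x ?_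
      rw [Lib.EtH1Gm.HofPush.HofPush_apply]
      exact (congrArg (fun e => e.comp (Ext.mk₀ ((EtCoh.pullPushAdj j).counit.app G)) (add_zero 0)) hx).trans
        (Ext.zero_comp _ _ _ _ _)
    · obtain ⟨φ, rfl⟩ := (Ext.mk₀_bijective _ _).2 y
      refine ⟨Ext.mk₀ ((EtCoh.pullPushAdj j).homEquiv _ _
        ((EtCore.pullConst j ℤ).hom ≫ φ ≫ (EtCoh.pullPushAdj j).counit.app G)), ?_⟩
      change (Ext.mk₀ (EtCore.pullConst j ℤ).inv).comp ((Ext.mk₀ _).mapExactFunctor (EtCoh.pull j)) (zero_add 0) = _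
      rw [Ext.mapExactFunctor_mk₀, Ext.mk₀_comp_mk₀]
      refine congrArg Ext.mk₀ ((cancel_mono ((EtCoh.pullPushAdj j).counit.app G)).1 ?_)
      refine (Category.assoc _ _ _).trans ?_
      exact (congrArg ((EtCore.pullConst j ℤ).inv ≫ ·)
        (((EtCoh.pullPushAdj j).homEquiv_counit _ _ _).symm.trans (Equiv.symm_apply_apply _ _))).trans
          (Iso.inv_hom_id_assoc _ _)
  · obtain rfl : q = 1 := by omega
    refine (injective_iff_map_eq_zero _).2 fun x hx => PushH1.eq_zero_of_HofPush_eq_zero j G x ?_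
    rw [Lib.EtH1Gm.HofPush.HofPush_apply]
    exact (congrArg (fun e => e.comp (Ext.mk₀ ((EtCoh.pullPushAdj j).counit.app G)) (add_zero 1)) hx).trans
      (Ext.zero_comp _ _ _ _ _)
where
  HofPush0 (x : EtCoh.H X ((EtCoh.push j).obj G) 0) (h : EtLim.HofPush j G 0 x = 0) : x = 0 :=
    Lib.EtH1Gm.HofPush.HofPush_zero_injective j G (h.trans (map_zero _).symm)

variable {k : Type u} [Field k] [IsAlgClosed k] (f : X ⟶ Spec (CommRingCat.of k))
  [LocallyOfFiniteType f] [QuasiCompact f]

include f in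
theorem three_le (hdim : topologicalKrullDim X ≤ 1) {F : EtCoh.Ab X} (hF : EtCoh.IsTorsion F) (i : ℕ) (hi : 3 ≤ i) :
    Subsingleton ((EtDual.HY j i).obj F) := by
  obtain ⟨q, rfl⟩ : ∃ q, i = q + 1 := ⟨i - 1, by omega⟩
  refine subsingleton_HY j _ _ (subsingleton_ext j q ?_ (CurveTorsion.subsingleton_H f hdim hF _ hi))
  rcases Nat.lt_or_ge q 3 with hq | hq
  · obtain rfl : q = 2 := by omega
    exact CurveRestrict.surjective j f hdim hF
  · intro y
    haveI : IsLocallyNoetherian X := LocallyOfFiniteType.isLocallyNoetherian f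
    haveI : CompactSpace ↥X := QuasiCompact.compactSpace_of_compactSpace f
    haveI : IsNoetherian X := {}
    haveI : QuasiCompact j := inferInstance
    refine ⟨0, @Subsingleton.elim _ ?_ _ _⟩
    exact CurveTorsion.subsingleton_H (j ≫ f) (le_trans j.isOpenEmbedding.isInducing.topologicalKrullDim_le hdim)
      (CurveTorsion.isTorsion_pull j hF) q hq

end Groth.Agent.H88.EtMod.CurveSupport
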