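import Groth.Agent.H88.EtMod.DivBasic
import Groth.Agent.H88.EtMod.ConstTorsionFree
import Groth.Agent.Lib.EtJ.Supp
import Groth.Agent.Lib.EtSite.UnitStalk
import Groth.Agent.Lib.EtShriek50.Exact
import Groth.Agent.Lib.EtShriek50.Coprod

/-!
The unit `G → g_* g⁻¹ G` of a point at that point and away from its closure.
-/

set_option autoImplicit false
set_option linter.style.haveILetI false

universe u

open CategoryTheory CategoryTheory.Limits AlgebraicGeometry Opposite

noncomputable section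

namespace Groth.Agent.H88.EtMod.GenericStalk

open Groth.Agent.H61 Groth.Agent.Lib.EtSite Groth.Agent.Lib.EtSite.Basic Groth.Agent.Lib.EtJ

variable {X : Scheme.{u}}

theorem notMem_supp_iff (F : EtCoh.Ab X) (x : X) :
    x ∉ EtPBC.supp F ↔ ∀ (Ω : Type u) (_ : Field Ω) (_ : IsSepClosed Ω)
      (ξ : Spec (CommRingCat.of Ω) ⟶ X), Set.range ξ.base = {x} → IsZero ((EtCoh.stalk ξ).obj F) := by
  simp only [EtPBC.supp, Set.mem_ofPred_eq, not_exists, not_and, not_not]

theorem supp_subset_of_mono {A B : EtCoh.Ab X} (a : A ⟶ B) [Mono a] : EtPBC.supp A ⊆ EtPBC.supp B := by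
  intro x ⟨Ω, i₁, i₂, ξ, hξ, hne⟩
  exact ⟨Ω, i₁, i₂, ξ, hξ, fun h => hne (IsZero.of_mono ((EtCoh.stalk ξ).map a) h)⟩

theorem supp_subset_of_epi {A B : EtCoh.Ab X} (a : A ⟶ B) [Epi a] : EtPBC.supp B ⊆ EtPBC.supp A := by
  intro x ⟨Ω, i₁, i₂, ξ, hξ, hne⟩
  haveI : PreservesColimitsOfSize.{0, 0} (EtCoh.stalk ξ) := preservesColimitsOfSize_shrink.{0, u + 1, 0, u + 1} _
  exact ⟨Ω, i₁, i₂, ξ, hξ, fun h => hne (IsZero.of_epi ((EtCoh.stalk ξ).map a) h)⟩

variable {K : Type u} [Field K] (g : FieldCoh.S K ⟶ X)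

/-- Off the closure of the point the direct image has no stalks. -/
theorem notMem_supp_push (H : EtCoh.Ab (FieldCoh.S K)) (x : X) (hx : x ∉ closure (Set.range g.base)) :
    x ∉ EtPBC.supp ((EtCoh.push g).obj H) := by
  refine (notMem_supp_iff _ x).2 fun Ω _ _ ξ hξ => (Supp.stalk_isZero_iff _).2 fun V p s => ?_
  have hp : V.hom.base (fiberPt p) = x := by
    rw [hom_fiberPt]
    exact Set.eq_of_mem_singleton (hξ ▸ Set.mem_range_self _)
  let O : V.left.Opens := ⟨V.hom.base ⁻¹' (closure (Set.range g.base))ᶜ,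
    isClosed_closure.isOpen_compl.preimage V.hom.continuous⟩
  haveI : Etale V.hom := V.prop
  let W : X.Etale := Scheme.Etale.mk (O.ι ≫ V.hom)
  let r : W ⟶ V := MorphismProperty.Over.homMk O.ι rfl
  have hpO : fiberPt p ∈ O := by
    change V.hom.base (fiberPt p) ∈ (closure (Set.range g.base))ᶜ
    rw [hp]; exact hx
  obtain ⟨q, hq, -⟩ := Fiber.exists_fiber_map ξ r p ⟨fiberPt p, hpO⟩ rfl
  refine (Supp.germ_eq_zero_iff _ V p s).2 ⟨W, r, q, hq, ?_⟩
  have he : IsEmpty ((EtCoh.bc g).obj W).left := ⟨fun w => by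
    let a := (pullback.fst W.hom g).base w
    have h1 : W.hom.base a ∈ Set.range g.base := ⟨(pullback.snd W.hom g).base w,
      (congrArg (fun m => m.base w) (pullback.condition (f := W.hom) (g := g))).symm⟩
    exact (a : ↥(O : Scheme.{u})).2 (subset_closure h1)⟩
  exact ConstTorsionFree.section_eq_of_isEmpty (A := H) he _ _

variable [IsPreimmersion g] [QuasiCompact g]

/-- The stalk of the direct image at the point injects. -/
theorem germTo_injective {Ω : Type u} [Field Ω] [IsSepClosed Ω] {ξ : Spec (CommRingCat.of Ω) ⟶ X}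
    {η : Spec (CommRingCat.of Ω) ⟶ FieldCoh.S K} (h : η ≫ g = ξ) (H : EtCoh.Ab (FieldCoh.S K)) :
    Function.Injective ((PushStalk.germTo g AddCommGrpCat.{u + 1} h).app H) := by
  refine (injective_iff_map_eq_zero ((PushStalk.germTo g AddCommGrpCat.{u + 1} h).app H).hom).2 fun z hz => ?_
  obtain ⟨V₀, p₀, s₀, rfl⟩ := (Scheme.pointSmallEtale ξ).toPresheafFiber_jointly_surjective z
  obtain ⟨V, a, v, hv, hV⟩ := FiniteGen.exists_affine_nhd V₀ (fiberPt p₀)
  obtain ⟨p, hp, -⟩ := Fiber.exists_fiber_map ξ a p₀ v hv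
  haveI : IsAffine V.left := hV
  haveI : IsAffine ((𝟭 Scheme).obj V.left) := hV
  let s : H.obj.obj (op ((EtCoh.bc g).obj V)) := ((EtCoh.push g).obj H).obj.map a.op s₀
  have hgerm : (Scheme.pointSmallEtale ξ).toPresheafFiber V₀ p₀ ((EtCoh.push g).obj H).obj s₀ =
      (Scheme.pointSmallEtale ξ).toPresheafFiber V p ((EtCoh.push g).obj H).obj s := by
    rw [← hp]
    exact (GrothendieckTopology.Point.toPresheafFiber_w_apply _ a p ((EtCoh.push g).obj H).obj s₀).symm
  refine hgerm.trans ?_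
  have hz' : (Scheme.pointSmallEtale η).toPresheafFiber _ (PushStalk.liftPt g h V p) H.obj s = 0 := by
    refine (PushStalk.germTo_toPresheafFiber g h H V p s).symm.trans ?_
    exact (congrArg ((PushStalk.germTo g AddCommGrpCat.{u + 1} h).app H) hgerm.symm).trans hz
  generalize hl : PushStalk.liftPt g h V p = l at hz'
  have hnot : fiberPt l ∉ EtShriek.sectSupp H _ s := (Supp.germ_eq_zero_iff_notMem H _ l s).1 hz'
  let b := pullback.fst V.hom g
  haveI : CompactSpace ↥(pullback V.hom g) := QuasiCompact.compactSpace_of_compactSpace b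
  haveI : Etale ((EtCoh.bc g).obj V).hom := ((EtCoh.bc g).obj V).prop
  haveI := Groth.Agent.Lib.EtSite.FieldExt.locallyQuasiFinite_of_etale ((EtCoh.bc g).obj V).hom
  haveI hdisc : DiscreteTopology ((EtCoh.bc g).obj V).left :=
    Groth.Agent.Lib.EtSite.FieldExt.discreteTopology_of_locallyQuasiFinite ((EtCoh.bc g).obj V).hom
  haveI : DiscreteTopology ↥(pullback V.hom g) := hdisc
  haveI : Finite ↥(pullback V.hom g) := finite_of_compact_of_discrete
  let t₀ : ↥(pullback V.hom g) := fiberPt l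
  have hbt : b.base t₀ = fiberPt p := by
    change b.base (fiberPt l) = fiberPt p
    rw [← hl]
    exact congrArg (fun m : Spec (CommRingCat.of Ω) ⟶ V.left => m.base default)
      (pullback.lift_fst (f := V.hom) (g := g) (fiberHom p) η ((fiberHom_comp p).trans h.symm))
  let O : V.left.Opens := ⟨(⋃ t ∈ {t | t ≠ t₀}, closure {b.base t})ᶜ,
    (Set.toFinite _).isClosed_biUnion (fun _ _ => isClosed_closure) |>.isOpen_compl⟩
  have hpO : fiberPt p ∈ O := by
    simp only [O, TopologicalSpace.Opens.mem_mk, Set.mem_compl_iff, Set.mem_iUnion, not_exists]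
    intro t ht hmem
    rw [← hbt, ← specializes_iff_mem_closure] at hmem
    refine ht ?_
    exact (b.isEmbedding.isInducing.specializes_iff.1 hmem).eq
  haveI : Etale V.hom := V.prop
  let W : X.Etale := Scheme.Etale.mk (O.ι ≫ V.hom)
  let r : W ⟶ V := MorphismProperty.Over.homMk O.ι rfl
  obtain ⟨q, hq, -⟩ := Fiber.exists_fiber_map ξ r p ⟨fiberPt p, hpO⟩ rfl
  refine (Supp.germ_eq_zero_iff ((EtCoh.push g).obj H) V p s).2 ⟨W, r, q, hq, ?_⟩
  change H.obj.map ((EtCoh.bc g).map r).op s = 0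
  refine Stalk.sections_ext_of_germ H _ _ (Stalk.enoughPts_pt fun y m => ?_)
  rw [map_zero]
  refine (GrothendieckTopology.Point.toPresheafFiber_w_apply _ _ m H.obj s).trans ?_
  refine (Supp.germ_eq_zero_iff_notMem H _ _ s).2 ?_
  have hy : fiberPt ((Scheme.pointSmallEtale (geomPoint (FieldCoh.S K) y)).fiber.map ((EtCoh.bc g).map r) m)
      = fiberPt l := by
    rw [fiberPt_map]
    by_contra hne
    have hfst : ((EtCoh.bc g).map r).left ≫ b = pullback.fst W.hom g ≫ O.ι := pullback.lift_fst _ _ _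
    have hmemO : b.base (((EtCoh.bc g).map r).left.base (fiberPt m)) ∈ O := by
      erw [← Scheme.Hom.comp_apply, hfst, Scheme.Hom.comp_apply]
      exact ((pullback.fst W.hom g).base (fiberPt m) : ↥(O : Scheme.{u})).2
    exact hmemO (Set.mem_iUnion₂.2 ⟨_, hne, subset_closure rfl⟩)
  rw [hy]
  exact hnot

/-- The unit is bijective on the stalks at the point. -/
theorem isIso_stalk_unit {Ω : Type u} [Field Ω] [IsSepClosed Ω] (η : Spec (CommRingCat.of Ω) ⟶ FieldCoh.S K)
    (G : EtCoh.Ab X) : IsIso ((EtCoh.stalk (η ≫ g)).map ((EtCoh.pullPushAdj g).unit.app G)) := by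
  let u := (EtCoh.stalk (η ≫ g)).map ((EtCoh.pullPushAdj g).unit.app G)
  let γ := (PushStalk.germTo g AddCommGrpCat.{u + 1} (rfl : η ≫ g = η ≫ g)).app ((EtCoh.pull g).obj G)
  have h1 : Function.Bijective (fun x => γ (u x)) :=
    (ConcreteCategory.isIso_iff_bijective _).1 (UnitStalk.isIso_unitStalk g η AddCommGrpCat.{u + 1} G)
  refine (ConcreteCategory.isIso_iff_bijective _).2 ⟨fun a b hab => h1.1 (congrArg γ hab), fun z => ?_⟩
  obtain ⟨x, hx⟩ := h1.2 (γ z)
  exact ⟨x, germTo_injective g rfl _ hx⟩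

/-- Kernel and cokernel of the unit have no stalk at the point. -/
theorem notMem_supp_unit (G : EtCoh.Ab X) {x : X} {κ : CommRingCat.of K ⟶ X.residueField x}
    (hκ : Spec.map κ ≫ g = X.fromSpecResidueField x) :
    x ∉ EtPBC.supp (kernel ((EtCoh.pullPushAdj g).unit.app G)) ∧
      x ∉ EtPBC.supp (cokernel ((EtCoh.pullPushAdj g).unit.app G)) := by
  let u := (EtCoh.pullPushAdj g).unit.app G
  have key : ∀ (Ω : Type u) (_ : Field Ω) (_ : IsSepClosed Ω) (ξ : Spec (CommRingCat.of Ω) ⟶ X),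
      Set.range ξ.base = {x} → IsIso ((EtCoh.stalk ξ).map u) := by
    intro Ω _ _ ξ hξ
    obtain ⟨⟨y, φ⟩, rfl⟩ := (Scheme.SpecToEquivOfField Ω X).symm.surjective ξ
    obtain rfl : y = x := by
      have : (Spec.map φ ≫ X.fromSpecResidueField y).base (IsLocalRing.closedPoint Ω) = x :=
        Set.eq_of_mem_singleton (hξ ▸ Set.mem_range_self _)
      rwa [Scheme.Hom.comp_apply, Scheme.fromSpecResidueField_apply] at this
    have he : (Scheme.SpecToEquivOfField Ω X).symm ⟨y, φ⟩ = (Spec.map φ ≫ Spec.map κ) ≫ g := by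
      rw [Category.assoc, hκ]
      rfl
    rw [he]
    exact isIso_stalk_unit g _ G
  constructor
  · refine (notMem_supp_iff _ x).2 fun Ω i₁ i₂ ξ hξ => ?_
    haveI := key Ω i₁ i₂ ξ hξ
    refine IsZero.of_iso ?_ (PreservesKernel.iso (EtCoh.stalk ξ) u)
    exact isZero_kernel_of_mono _
  · refine (notMem_supp_iff _ x).2 fun Ω i₁ i₂ ξ hξ => ?_
    haveI := key Ω i₁ i₂ ξ hξ
    haveI : PreservesColimitsOfSize.{0, 0} (EtCoh.stalk ξ) := preservesColimitsOfSize_shrink.{0, u + 1, 0, u + 1} _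
    refine IsZero.of_iso ?_ (PreservesCokernel.iso (EtCoh.stalk ξ) u)
    exact isZero_cokernel_of_epi _

end Groth.Agent.H88.EtMod.GenericStalk
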