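import Groth.Agent.H88.EtMod.PointCohTorsion
import Groth.Agent.H88.EtMod.GenericStalk
import Groth.Agent.H56.SepExt

/-!
Étale neighbourhoods of a point cutting out a given finite separable extension of its residue field.
-/

set_option autoImplicit false
set_option linter.style.haveILetI false

universe u

open CategoryTheory CategoryTheory.Limits AlgebraicGeometry Opposite

noncomputable section

namespace Groth.Agent.H88.EtMod.GenericLift

open Groth.Agent.H61 FieldCoh PointCohTorsion Groth.Agent.Lib.EtSite Groth.Agent.Lib.EtSite.Basic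

variable {X : Scheme.{u}} (η : X)

/-- Every object `O L → bc V` comes from a refinement of `V`. -/
theorem exists_nbhd [QuasiCompact (X.fromSpecResidueField η)] (V : X.Etale) (L : Type u) [Field L]
    [Algebra (X.residueField η) L] [Algebra.Etale (X.residueField η) L]
    (k : O (X.residueField η) L ⟶ (EtCoh.bc (X.fromSpecResidueField η)).obj V) :
    ∃ (W : X.Etale) (r : W ⟶ V) (ψ : O (X.residueField η) L ⟶ (EtCoh.bc (X.fromSpecResidueField η)).obj W),
      IsIso ψ ∧ ψ ≫ (EtCoh.bc (X.fromSpecResidueField η)).map r = k := by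
  let g : S (X.residueField η) ⟶ X := X.fromSpecResidueField η
  haveI : IsPreimmersion g := inferInstanceAs (IsPreimmersion (X.fromSpecResidueField η))
  haveI : QuasiCompact g := ‹_›
  haveI : Module.Finite (X.residueField η) L := Algebra.FormallyUnramified.finite_of_free _ L
  haveI : Algebra.IsSeparable (X.residueField η) L := Algebra.FormallyUnramified.isSeparable _ L
  obtain ⟨U, gU, u₀, hu, _, e, heb, he⟩ := Groth.Agent.H56.SepExt.exists_etale_nbhd_residueField X η L
  haveI : IsIso e := (ConcreteCategory.isIso_iff_bijective e).2 heb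
  let σ : Spec (CommRingCat.of L) ⟶ U := Spec.map e ≫ U.fromSpecResidueField u₀
  haveI : Mono (U.fromSpecResidueField u₀) := inferInstance
  haveI : Mono σ := mono_comp _ _
  have hσ : σ ≫ gU = jF (X.residueField η) L ≫ g := by
    subst hu
    change _ = Spec.map (CommRingCat.ofHom (algebraMap (X.residueField (gU u₀)) L)) ≫ X.fromSpecResidueField _
    rw [← he, Scheme.residueFieldCongr_refl, Iso.refl_inv, Category.id_comp, Spec.map_comp, Category.assoc,
      Category.assoc, Scheme.Hom.SpecMap_residueFieldMap_fromSpecResidueField]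
  haveI : Etale V.hom := V.prop
  let k₁ : Spec (CommRingCat.of L) ⟶ pullback V.hom g := k.left
  have hk : k₁ ≫ pullback.snd V.hom g = jF (X.residueField η) L :=
    (MorphismProperty.Over.w k).trans (Category.id_comp _)
  let σ₀ : Spec (CommRingCat.of L) ⟶ pullback gU V.hom :=
    pullback.lift σ (k₁ ≫ pullback.fst V.hom g)
      (hσ.trans (by rw [Category.assoc, pullback.condition, ← Category.assoc, hk]))
  let W₀ : X.Etale := Scheme.Etale.mk (pullback.snd gU V.hom ≫ V.hom)
  let pt : ↥(Spec (CommRingCat.of L)) := IsLocalRing.closedPoint L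
  obtain ⟨_, ⟨A₀, (hA : IsAffineOpen A₀), rfl⟩, hpA, -⟩ :=
    (pullback gU V.hom).isBasis_affineOpens.exists_subset_of_mem_open (Set.mem_univ (σ₀.base pt)) isOpen_univ
  let A : (pullback gU V.hom).Opens := A₀
  have hr₀ : ∀ x, σ₀.base x = σ₀.base pt := fun x =>
    congrArg σ₀.base (Subsingleton.elim (α := PrimeSpectrum L) x pt)
  let σ₁ : Spec (CommRingCat.of L) ⟶ (A : Scheme.{u}) := IsOpenImmersion.lift A.ι σ₀ (by
    rintro _ ⟨x, rfl⟩
    rw [Scheme.Opens.range_ι, hr₀ x]; exact hpA)
  have hσ₁ : σ₁ ≫ A.ι = σ₀ := IsOpenImmersion.lift_fac _ _ _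
  haveI : IsAffine (A : Scheme.{u}) := hA
  let f₁ : (A : Scheme.{u}) ⟶ X := A.ι ≫ pullback.snd gU V.hom ≫ V.hom
  haveI : Etale f₁ := inferInstance
  let b := pullback.fst f₁ g
  haveI : CompactSpace ↥(A : Scheme.{u}) := inferInstance
  haveI : CompactSpace ↥(pullback f₁ g) := QuasiCompact.compactSpace_of_compactSpace b
  haveI : Etale (pullback.snd f₁ g) := inferInstance
  haveI := Groth.Agent.Lib.EtSite.FieldExt.locallyQuasiFinite_of_etale (pullback.snd f₁ g)
  haveI : DiscreteTopology ↥(pullback f₁ g) :=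
    Groth.Agent.Lib.EtSite.FieldExt.discreteTopology_of_locallyQuasiFinite (pullback.snd f₁ g)
  haveI : Finite ↥(pullback f₁ g) := finite_of_compact_of_discrete
  have hc₁ : σ₁ ≫ f₁ = jF (X.residueField η) L ≫ g := by
    simp only [f₁]
    rw [reassoc_of% hσ₁, ← pullback.condition, pullback.lift_fst_assoc]
    exact hσ
  let ψ₁ : Spec (CommRingCat.of L) ⟶ pullback f₁ g := pullback.lift σ₁ (jF (X.residueField η) L) hc₁
  let t₀ := ψ₁.base pt
  let C : Set (A : Scheme.{u}) := ⋃ t ∈ {t | t ≠ t₀}, closure {b.base t}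
  have hCc : IsClosed C := (Set.toFinite _).isClosed_biUnion (fun _ _ => isClosed_closure)
  let B : (A : Scheme.{u}).Opens := ⟨Cᶜ, hCc.isOpen_compl⟩
  have hbt : b.base t₀ = σ₁.base pt :=
    congrArg (fun m : Spec (CommRingCat.of L) ⟶ (A : Scheme.{u}) => m.base pt) (pullback.lift_fst _ _ _)
  let σ₂ : Spec (CommRingCat.of L) ⟶ (B : Scheme.{u}) := IsOpenImmersion.lift B.ι σ₁ (by
    rintro _ ⟨x, rfl⟩
    rw [Scheme.Opens.range_ι, show x = pt from Subsingleton.elim (α := PrimeSpectrum L) x pt, ← hbt]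
    simp only [B, C, TopologicalSpace.Opens.coe_mk, SetLike.mem_coe, TopologicalSpace.Opens.mem_mk,
      Set.mem_compl_iff, Set.mem_iUnion, not_exists]
    intro t ht hmem
    rw [← specializes_iff_mem_closure] at hmem
    exact ht (b.isEmbedding.isInducing.specializes_iff.1 hmem).eq)
  have hσ₂ : σ₂ ≫ B.ι = σ₁ := IsOpenImmersion.lift_fac _ _ _
  let f₂ : (B : Scheme.{u}) ⟶ X := B.ι ≫ f₁
  haveI : Etale f₂ := inferInstance
  let W : X.Etale := Scheme.Etale.mk f₂
  let r : W ⟶ V := MorphismProperty.Over.homMk (B.ι ≫ A.ι ≫ pullback.snd gU V.hom) (by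
    change (B.ι ≫ A.ι ≫ pullback.snd gU V.hom) ≫ V.hom = B.ι ≫ A.ι ≫ pullback.snd gU V.hom ≫ V.hom
    simp only [Category.assoc])
  let ψl : Spec (CommRingCat.of L) ⟶ pullback f₂ g := pullback.lift σ₂ (jF (X.residueField η) L)
    (by rw [reassoc_of% hσ₂]; exact hc₁)
  haveI : Etale (pullback.snd f₂ g) := inferInstance
  haveI : Etale (ψl ≫ pullback.snd f₂ g) := by rw [pullback.lift_snd]; exact etale_jF _ L
  haveI : Etale ψl := MorphismProperty.of_postcomp (W := @Etale) ψl (pullback.snd f₂ g) ‹_› ‹_›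
  haveI : Mono (ψl ≫ pullback.fst f₂ g ≫ B.ι ≫ A.ι ≫ pullback.fst gU V.hom) := by
    rw [pullback.lift_fst_assoc, reassoc_of% hσ₂, reassoc_of% hσ₁, pullback.lift_fst]; infer_instance
  haveI : Mono ψl := mono_of_mono ψl (pullback.fst f₂ g ≫ B.ι ≫ A.ι ≫ pullback.fst gU V.hom)
  haveI : IsOpenImmersion ψl := IsOpenImmersion.of_flat_of_mono ψl
  haveI : Surjective ψl := ⟨fun y => ⟨pt, by
    let m : pullback f₂ g ⟶ pullback f₁ g := pullback.lift (pullback.fst f₂ g ≫ B.ι) (pullback.snd f₂ g)
      (by rw [Category.assoc]; exact pullback.condition)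
    have hm : ∀ z, m.base z = t₀ := fun z => by
      by_contra hne
      have h1 : b.base (m.base z) = B.ι.base ((pullback.fst f₂ g).base z) := by
        rw [← Scheme.Hom.comp_apply, ← Scheme.Hom.comp_apply]
        exact congrArg (fun a : pullback f₂ g ⟶ (A : Scheme.{u}) => a.base z) (pullback.lift_fst _ _ _)
      have h2 : b.base (m.base z) ∈ B := h1 ▸ ((pullback.fst f₂ g).base z).2
      exact h2 (Set.mem_iUnion₂.2 ⟨_, hne, subset_closure rfl⟩)
    refine (pullback.fst f₂ g).isEmbedding.injective (B.ι.isOpenEmbedding.injective ?_)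
    have key : ∀ z, B.ι.base ((pullback.fst f₂ g).base z) = b.base t₀ := fun z => by
      rw [← hm z, ← Scheme.Hom.comp_apply, ← Scheme.Hom.comp_apply]
      exact (congrArg (fun a : pullback f₂ g ⟶ (A : Scheme.{u}) => a.base z) (pullback.lift_fst _ _ _)).symm
    exact (key _).trans (key _).symm⟩⟩
  haveI : IsIso ψl := (isIso_iff_isOpenImmersion_and_epi_base ψl).2 ⟨‹_›, (TopCat.epi_iff_surjective _).2 ψl.surjective⟩
  let ψ : O (X.residueField η) L ≅ (EtCoh.bc g).obj W :=
    MorphismProperty.Over.isoMk (@asIso _ _ _ _ ψl (show IsIso ψl from ‹_›)) ((pullback.lift_snd _ _ _).trans (Category.id_comp _).symm)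
  refine ⟨W, r, ψ.hom, inferInstance, MorphismProperty.Over.Hom.ext (pullback.hom_ext ?_ ?_)⟩
  · change (ψl ≫ ((EtCoh.bc g).map r).left) ≫ pullback.fst V.hom g = k₁ ≫ pullback.fst V.hom g
    refine (Category.assoc _ _ _).trans ((congrArg (ψl ≫ ·) (pullback.lift_fst _ _ _)).trans ?_)
    change ψl ≫ pullback.fst f₂ g ≫ B.ι ≫ A.ι ≫ pullback.snd gU V.hom = _
    rw [pullback.lift_fst_assoc, reassoc_of% hσ₂, reassoc_of% hσ₁, pullback.lift_snd]
  · exact (MorphismProperty.Over.w (ψ.hom ≫ (EtCoh.bc g).map r)).trans (MorphismProperty.Over.w k).symm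

end Groth.Agent.H88.EtMod.GenericLift
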