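import Groth.Agent.H88.EtMod.CurveCd
import Groth.Agent.H88.EtMod.GenericLift

/-!
Torsion sheaves on curves have no cohomology in degrees three and up.
-/

set_option autoImplicit false
set_option linter.style.haveILetI false

universe u

open CategoryTheory CategoryTheory.Limits AlgebraicGeometry Opposite Abelian

noncomputable section

namespace Groth.Agent.H88.EtMod.CurveTorsion

open Groth.Agent.H61 FieldCoh Groth.Agent.Lib.EtSite Groth.Agent.Lib.EtSite.Basic Groth.Agent.Lib.EtJ
open GenericStalk PointCohTorsion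

variable {X : Scheme.{u}}

/-- Stalks of torsion sheaves are torsion. -/
theorem isOfFinAddOrder_stalk {G : EtCoh.Ab X} (hG : EtCoh.IsTorsion G) {Ω : Type u} [Field Ω] [IsSepClosed Ω]
    (ξ : Spec (CommRingCat.of Ω) ⟶ X) (z : (EtCoh.stalk ξ).obj G) : IsOfFinAddOrder z := by
  obtain ⟨V, p, t, rfl⟩ := (Scheme.pointSmallEtale ξ).toPresheafFiber_jointly_surjective z
  obtain ⟨V', a, ⟨v, hv⟩, hfin⟩ := hG V t (fiberPt p)
  obtain ⟨q, hq, -⟩ := Fiber.exists_fiber_map ξ a p v hv
  refine (congrArg IsOfFinAddOrder ?_).mp ((Supp.germ (ξ := ξ) G V' q).hom.isOfFinAddOrder hfin)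
  rw [← hq]
  exact (GrothendieckTopology.Point.toPresheafFiber_w_apply (Scheme.pointSmallEtale ξ) a q G.obj t)

/-- Pull-backs of torsion sheaves are torsion. -/
theorem isTorsion_pull {Y : Scheme.{u}} (g : Y ⟶ X) {G : EtCoh.Ab X} (hG : EtCoh.IsTorsion G) :
    EtCoh.IsTorsion ((EtCoh.pull g).obj G) := by
  intro W s x
  let ξ : Spec (CommRingCat.of (SeparableClosure (W.left.residueField x))) ⟶ Y := geomPoint W.left x ≫ W.hom
  let l : (Scheme.pointSmallEtale ξ).fiber.obj W := mkFiber ξ W (geomPoint W.left x) rfl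
  obtain ⟨z, hz⟩ := ((ConcreteCategory.isIso_iff_bijective _).1
    (UnitStalk.isIso_unitStalk g ξ AddCommGrpCat.{u + 1} G)).2 (Supp.germ (ξ := ξ) _ W l s)
  obtain ⟨n, hn, hn0⟩ := isOfFinAddOrder_iff_nsmul_eq_zero.1 (isOfFinAddOrder_stalk hG (ξ ≫ g) z)
  have h0 : Supp.germ (ξ := ξ) ((EtCoh.pull g).obj G) W l (n • s) = 0 := by
    rw [map_nsmul]
    refine (congrArg (n • ·) hz.symm).trans ((map_nsmul _ n z).symm.trans ?_)
    exact (congrArg _ hn0).trans (map_zero _)
  obtain ⟨V, a, q, hq, hV⟩ := (Supp.germ_eq_zero_iff _ W l _).1 h0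
  refine ⟨V, a, ⟨fiberPt q, ?_⟩, isOfFinAddOrder_iff_nsmul_eq_zero.2 ⟨n, hn, ?_⟩⟩
  · rw [← fiberPt_map, hq]
    exact geomPoint_apply x _
  · exact (map_nsmul _ n s).symm.trans hV

variable (η : X) [QuasiCompact (X.fromSpecResidueField η)]

/-- Epimorphisms on the point stay surjective on the stalks of the direct image at the point. -/
theorem notMem_supp_coker {I Q : EtCoh.Ab (S (X.residueField η))} (π : I ⟶ Q) [Epi π] :
    η ∉ EtPBC.supp (cokernel ((EtCoh.push (X.fromSpecResidueField η)).map π)) := by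
  let g : S (X.residueField η) ⟶ X := X.fromSpecResidueField η
  haveI : IsPreimmersion g := inferInstanceAs (IsPreimmersion (X.fromSpecResidueField η))
  haveI : QuasiCompact g := ‹_›
  refine (notMem_supp_iff _ η).2 fun Ω i₁ i₂ ξ hξ => ?_
  obtain ⟨η', rfl⟩ := CurveCd.exists_factor ξ hξ
  haveI : PreservesColimitsOfSize.{0, 0} (EtCoh.stalk (η' ≫ g)) :=
    preservesColimitsOfSize_shrink.{0, u + 1, 0, u + 1} _
  haveI : Epi ((EtCoh.stalk (η' ≫ g)).map ((EtCoh.push g).map π)) := by
    refine ConcreteCategory.epi_of_surjective _ fun z => ?_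
    obtain ⟨V, p, s, rfl⟩ := (Scheme.pointSmallEtale (η' ≫ g)).toPresheafFiber_jointly_surjective z
    haveI : Presheaf.IsLocallySurjective (S (X.residueField η)).smallEtaleTopology π.hom :=
      (Sheaf.isLocallySurjective_iff_epi' _ π).2 inferInstance
    let t₀ : ↥((EtCoh.bc g).obj V).left := fiberPt (PushStalk.liftPt g rfl V p)
    obtain ⟨W', a, ⟨c, hc⟩, w, hw⟩ := (Basic.mem_topology_iff _).1
      (Presheaf.imageSieve_mem (S (X.residueField η)).smallEtaleTopology π.hom
        (U := op ((EtCoh.bc g).obj V)) s) t₀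
    obtain ⟨L, iL, iA, iE, k, -, hk⟩ := exists_open_point W' w
    obtain ⟨W, r, ψ, hψ, hψr⟩ := GenericLift.exists_nbhd η V L (k ≫ a)
    let pt : ↥(O (X.residueField η) L).left := IsLocalRing.closedPoint L
    let u₁ : W.left := (pullback.fst W.hom g).base (ψ.left.base pt)
    have hu₁ : r.left.base u₁ = fiberPt p := by
      have e1 : (pullback.fst V.hom g).base t₀ = fiberPt p :=
        congrArg (fun m : Spec (CommRingCat.of Ω) ⟶ V.left => m.base default)
          (pullback.lift_fst (f := V.hom) (g := g) (fiberHom p) η' (fiberHom_comp p))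
      have e2 : ((EtCoh.bc g).map r).left.base (ψ.left.base pt) = t₀ := by
        refine ((congrArg (fun m : O (X.residueField η) L ⟶ (EtCoh.bc g).obj V => m.left.base pt) hψr)).trans ?_
        exact (congrArg a.left.base (hk pt)).trans hw
      rw [← e1, ← e2]
      exact (congrArg (fun m : ((EtCoh.bc g).obj W).left ⟶ V.left => m.base (ψ.left.base pt))
        (show ((EtCoh.bc g).map r).left ≫ pullback.fst V.hom g = pullback.fst W.hom g ≫ r.left from
          pullback.lift_fst _ _ _)).symm
    obtain ⟨q, hq, -⟩ := Fiber.exists_fiber_map (η' ≫ g) r p u₁ hu₁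
    let d : I.obj.obj (op ((EtCoh.bc g).obj W)) := I.obj.map (inv ψ ≫ k).op c
    refine ⟨(Scheme.pointSmallEtale (η' ≫ g)).toPresheafFiber W q ((EtCoh.push g).obj I).obj d, ?_⟩
    refine (GrothendieckTopology.Point.toPresheafFiber_naturality_apply _ ((EtCoh.push g).map π).hom W q d).trans ?_
    have key : ((EtCoh.push g).map π).hom.app (op W) d = ((EtCoh.push g).obj Q).obj.map r.op s := by
      refine (NatTrans.naturality_apply π.hom (inv ψ ≫ k).op c).trans ?_
      rw [hc]
      change Q.obj.map (inv ψ ≫ k).op (Q.obj.map a.op s) = Q.obj.map ((EtCoh.bc g).map r).op s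
      rw [← ConcreteCategory.comp_apply, ← Functor.map_comp, ← op_comp, Category.assoc, ← hψr,
        IsIso.inv_hom_id_assoc]
    rw [key]
    exact (GrothendieckTopology.Point.toPresheafFiber_w_apply _ r q ((EtCoh.push g).obj Q).obj s).trans (by rw [hq]; rfl)
  exact IsZero.of_iso (isZero_cokernel_of_epi _) (PreservesCokernel.iso (EtCoh.stalk (η' ≫ g)) _)

variable {k : Type u} [Field k] [IsAlgClosed k] (f : X ⟶ Spec (CommRingCat.of k))
  [LocallyOfFiniteType f] [QuasiCompact f]

include f in
/-- The direct image of a sheaf acyclic from degree two. -/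
theorem subsingleton_H_push (hdim : topologicalKrullDim X ≤ 1) (hη : η ∈ CurveCd.M X)
    {F : EtCoh.Ab (S (X.residueField η))} (hF : FieldAcy.Acy 2 F) (m : ℕ) (hm : 3 ≤ m) :
    Subsingleton (EtCoh.H X ((EtCoh.push (X.fromSpecResidueField η)).obj F) m) := by
  let g : S (X.residueField η) ⟶ X := X.fromSpecResidueField η
  haveI : IsPreimmersion g := inferInstanceAs (IsPreimmersion (X.fromSpecResidueField η))
  haveI : QuasiCompact g := ‹_›
  haveI : QuasiSeparated g := inferInstance
  haveI : PreservesLimitsOfSize.{0, 0} (EtCoh.push g) := (EtCoh.pullPushAdj g).rightAdjoint_preservesLimits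
  haveI : PreservesFiniteLimits (EtCoh.push g) := ⟨fun J _ _ => inferInstance⟩
  let T := Lib.EtH1Gm.Class.seq F
  have hT : T.ShortExact := Lib.EtH1Gm.Class.seq_shortExact F
  have hQ : FieldAcy.Acy 1 T.X₃ := FieldAcy.Acy.shift le_rfl hF
  let φ : (EtCoh.push g).obj T.X₂ ⟶ (EtCoh.push g).obj T.X₃ := (EtCoh.push g).map T.g
  haveI := hT.mono_f
  haveI := hT.epi_g
  have hC : ∀ μ : X, closure {μ} ∈ irreducibleComponents ↥X → μ ∉ EtPBC.supp (cokernel φ) := fun μ hμ h => by
    by_cases he : μ = η
    · subst he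
      exact notMem_supp_coker μ T.g h
    · refine notMem_supp_push g _ μ (fun hc => he ?_) (supp_subset_of_epi (cokernel.π φ) h)
      rw [show Set.range g.base = {η} from X.range_fromSpecResidueField η, ← specializes_iff_mem_closure] at hc
      exact (Lib.SchTopo.Closure.eq_of_specializes_of_closure_mem hμ hc).symm
  let S₁ := ShortComplex.mk ((EtCoh.push g).map T.f) (Abelian.factorThruImage φ) (by
    rw [← cancel_mono (Abelian.image.ι φ), Category.assoc, Abelian.image.fac, zero_comp,
      ← Functor.map_comp, T.zero, Functor.map_zero])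
  have h₁ : S₁.ShortExact :=
    { exact := by
        have hex : (T.map (EtCoh.push g)).Exact := hT.exact.map_of_mono_of_preservesKernel (EtCoh.push g) hT.mono_f inferInstance
        have : Mono ((EtCoh.push g).map T.f) := inferInstance
        refine ShortComplex.exact_of_f_is_kernel _ (KernelFork.IsLimit.ofι' _ _ fun {W} w hw => ?_)
        have hw' : w ≫ φ = 0 := by
          rw [← Abelian.image.fac φ, ← Category.assoc]
          exact (congrArg (· ≫ Abelian.image.ι φ) hw).trans zero_comp
        haveI : Mono (T.map (EtCoh.push g)).f := this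
        exact ⟨hex.lift w hw', hex.lift_f w hw'⟩
      mono_f := inferInstanceAs (Mono ((EtCoh.push g).map T.f))
      epi_g := inferInstanceAs (Epi (Abelian.factorThruImage φ)) }
  let S₂ := ShortComplex.mk (Abelian.image.ι φ) (cokernel.π φ) (kernel.condition _)
  have h₂ : S₂.ShortExact :=
    { exact := ShortComplex.exact_of_f_is_kernel _ (kernelIsKernel _)
      mono_f := inferInstanceAs (Mono (kernel.ι _))
      epi_g := inferInstanceAs (Epi (cokernel.π φ)) }
  obtain ⟨j, rfl⟩ : ∃ j, m = j + 2 + 1 := ⟨m - 3, by omega⟩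
  refine subsingleton_of_forall_eq 0 fun x => ?_
  haveI : Injective S₁.X₂ := (EtCoh.pullPushAdj g).map_injective (Injective.under F) inferInstance
  obtain ⟨y, rfl⟩ := Ext.covariant_sequence_exact₁ _ h₁ x (Ext.eq_zero_of_injective _) (n₀ := j + 2) rfl
  haveI : Subsingleton (EtCoh.H X ((EtCoh.push g).obj T.X₃) (j + 2)) :=
    FieldAcy.subsingleton_H_push g (j + 1) _ hQ
  obtain ⟨w, hw⟩ := Ext.covariant_sequence_exact₁ _ h₂ y (Subsingleton.elim (α := EtCoh.H X _ (j + 2)) _ _) (n₀ := j + 1) rfl
  rw [← hw, show w = 0 from @Subsingleton.elim _ (CurveGeneric.subsingleton_H f hdim _ hC (j + 1) (by omega)) _ _,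
    Ext.zero_comp, Ext.zero_comp]
  rfl

omit [QuasiCompact (X.fromSpecResidueField η)]

include f in
/-- `H^{≥3}(X, G) = 0`. -/
theorem subsingleton_H (hdim : topologicalKrullDim X ≤ 1) {G : EtCoh.Ab X} (hG : EtCoh.IsTorsion G) (m : ℕ)
    (hm : 3 ≤ m) : Subsingleton (EtCoh.H X G m) := by
  refine CurveCd.subsingleton_H f hdim G 3 (fun η hη => ?_) m (by omega) hm
  let g : S (X.residueField η) ⟶ X := X.fromSpecResidueField η
  haveI : IsPreimmersion g := inferInstanceAs (IsPreimmersion (X.fromSpecResidueField η))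
  haveI : QuasiCompact (X.fromSpecResidueField η) := CurveCd.quasiCompact_point η
  haveI : QuasiCompact g := ‹_›
  have hr : Set.range g.base = {η} := X.range_fromSpecResidueField η
  refine ⟨_, (EtCoh.pullPushAdj g).unit.app G, fun Ω i₁ i₂ ξ hξ => ?_, fun μ hμ hne => ?_, fun i hi => ?_⟩
  · obtain ⟨η', rfl⟩ := CurveCd.exists_factor ξ hξ
    exact isIso_stalk_unit g η' G
  · refine notMem_supp_push g _ μ fun hc => hne ?_
    rw [hr, ← specializes_iff_mem_closure] at hc
    exact (Lib.SchTopo.Closure.eq_of_specializes_of_closure_mem hμ hc).symm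
  · exact subsingleton_H_push η f hdim hη
      (CurveField.acy_torsion (CurveTrdeg.trivBr_residueField f hdim η) (isTorsion_pull g hG)) i hi

end Groth.Agent.H88.EtMod.CurveTorsion
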