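import Groth.Agent.H88.EtMod.Descend

/-!
Constructibility descends along surjective morphisms locally of finite presentation.
-/

set_option autoImplicit false
set_option linter.style.haveILetI false

universe u

open CategoryTheory CategoryTheory.Limits AlgebraicGeometry Opposite Topology

noncomputable section

namespace Groth.Agent.H88.EtMod.Descend

open Groth.Agent.Lib.EtSite Groth.Agent.Lib.EtSite.Basic LCChart AbBridge TorsionColimit

variable {X Y : Scheme.{u}}

theorem cst_pull (f : X ⟶ Y) {F : EtModW.Mod Zl.{u} Y} (hF : Cst F) :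
    Cst ((EtModW.pull Zl.{u} f).obj F) :=
  ⟨Constr.isConstructible_pull f hF.1, PBCOps.finStalks_pull f hF.2⟩

/-- An affine open is covered by the image of an affine scheme mapping to the source. -/
theorem exists_affine_surjective (f : X ⟶ Y) [Surjective f] [LocallyOfFinitePresentation f] (V : Y.Opens)
    (hV : IsAffineOpen V) : ∃ (A : Scheme.{u}) (_ : IsAffine A) (σ : A ⟶ X) (π : A ⟶ V),
      Surjective π ∧ π ≫ V.ι = σ ≫ f := by
  haveI : IsAffine (V : Scheme.{u}) := hV
  haveI : SpectralSpace ↥(V : Scheme.{u}) := {}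
  have hW : ∀ v : (V : Scheme.{u}), ∃ W : X.Opens, IsAffineOpen W ∧ W ≤ f ⁻¹ᵁ V ∧ ∃ x ∈ W, f x = v.1 := by
    intro v
    obtain ⟨x, hx⟩ := f.surjective v.1
    obtain ⟨_, ⟨W, hW, rfl⟩, hxW, hle⟩ := X.isBasis_affineOpens.exists_subset_of_mem_open
      (show x ∈ (f ⁻¹ᵁ V : X.Opens) from show f x ∈ V from hx ▸ v.2) (f ⁻¹ᵁ V).2
    exact ⟨W, hW, hle, x, hxW, hx⟩
  choose W hW hle x hxW hx using hW
  haveI : ∀ v, IsAffine (W v : Scheme.{u}) := hW
  let π : ∀ v, (W v : Scheme.{u}) ⟶ V := fun v => f.resLE V (W v) (hle v)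
  have hπ : ∀ v, π v ≫ V.ι = (W v).ι ≫ f := fun v => Scheme.Hom.resLE_comp_ι f _
  haveI : ∀ v, LocallyOfFinitePresentation (π v) := fun v =>
    IsZariskiLocalAtSource.resLE (P := @LocallyOfFinitePresentation) _ ‹_›
  obtain ⟨t, ht⟩ := @IsCompact.elim_finite_subcover ↥(V : Scheme.{u}) (constructibleTopology _) Set.univ _
    (@isCompact_univ _ (constructibleTopology _) Lib.Spectral.Basic.compactSpace_cons)
    (fun v => Set.range (π v))
    (fun v => (Lib.Spectral.Basic.isClopen_cons_of_isConstructible (by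
      rw [← Set.image_univ]; exact (π v).isConstructible_image .univ)).2)
    (fun v _ => Set.mem_iUnion.2 ⟨v, ⟨x v, hxW v⟩, Subtype.ext
      (((Scheme.Hom.comp_apply _ _ _).symm.trans congr($(hπ v) ⟨x v, hxW v⟩)).trans (hx v))⟩)
  refine ⟨∐ fun v : t => (W v.1 : Scheme.{u}), inferInstance, Sigma.desc fun v : t => (W v.1).ι,
    Sigma.desc fun v : t => π v.1, ⟨fun v => ?_⟩, ?_⟩
  · obtain ⟨w, hw, z, hz⟩ := Set.mem_iUnion₂.1 (ht (Set.mem_univ v))
    exact ⟨Sigma.ι (fun v : t => (W v.1 : Scheme.{u})) ⟨w, hw⟩ z,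
      (congr($(Sigma.ι_desc (fun v : t => π v.1) ⟨w, hw⟩) z)).trans hz⟩
  · ext v
    simp [hπ]

theorem cst_of_pull_lfp (f : X ⟶ Y) [Surjective f] [LocallyOfFinitePresentation f]
    {F : EtModW.Mod Zl.{u} Y} (hc : Cst ((EtModW.pull Zl.{u} f).obj F)) : Cst F := by
  have key : ∀ V : Y.affineOpens, Cst ((EtModW.pull Zl.{u} V.1.ι).obj F) := by
    intro V
    haveI : IsAffine (V.1 : Scheme.{u}) := V.2
    obtain ⟨A, _, σ, π, hπ, h⟩ := exists_affine_surjective f V.1 V.2
    exact cst_of_pull π (cst_of_iso (((LCOps.pullComp (Λ := Zl.{u}) σ f).app F).symm ≪≫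
      eqToIso (by rw [h]) ≪≫ (LCOps.pullComp (Λ := Zl.{u}) π V.1.ι).app F) (cst_pull σ hc))
  have hcov : ∀ y : Y, ∃ V : Y.affineOpens, y ∈ V.1 := fun y => by
    obtain ⟨_, ⟨V, hV, rfl⟩, hyV, -⟩ :=
      Y.isBasis_affineOpens.exists_subset_of_mem_open (Set.mem_univ y) isOpen_univ
    exact ⟨⟨V, hV⟩, hyV⟩
  exact ⟨Constr.isConstructible_of_open_cover (fun V : Y.affineOpens => V.1) hcov fun V => (key V).1,
    PBCOps.finStalks_of_open_cover (fun V : Y.affineOpens => V.1) hcov fun V => (key V).2⟩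

/-- A sheaf whose pullback along a surjection locally of finite presentation is constructible is
constructible. -/
theorem isConstructible_of_pull_lfp (f : X ⟶ Y) [Surjective f] [LocallyOfFinitePresentation f]
    {F : EtCoh.Ab Y} (h : EtPBC.IsConstructible ((EtCoh.pull f).obj F)) : EtPBC.IsConstructible F := by
  obtain ⟨F', ⟨e⟩⟩ := exists_lift F
  exact PBCOps.isConstructible_of_iso e ((cst_iff _).2 (cst_of_pull_lfp f
    ((cst_iff _).1 (PBCOps.isConstructible_of_iso
      ((pullIso f).app F' ≪≫ (EtCoh.pull f).mapIso e).symm h))))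

end Groth.Agent.H88.EtMod.Descend
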