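import Groth.Agent.H88.EtMod.PointCohTorsion
import Groth.Agent.H61.FieldCoh.Fields
import Groth.Agent.Lib.EtJ.PullExact

/-!
Sheaves pushed forward from a separably closed point are acyclic.
-/

set_option autoImplicit false
set_option linter.style.haveILetI false

universe u

open CategoryTheory CategoryTheory.Limits AlgebraicGeometry Opposite

noncomputable section

namespace Groth.Agent.H88.EtMod.SepClosedPoint

open Groth.Agent.H61 FieldCoh PointCohTorsion Groth.Agent.Lib.EtSite

variable {K : Type u} [Field K] [IsSepClosed K]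

theorem isIso_homO {L M : Type u} [Field L] [Algebra K L] [Algebra.Etale K L] [Field M] [Algebra K M]
    [Algebra.Etale K M] [Algebra.IsSeparable K M] (φ : L →ₐ[K] M) : IsIso (homO φ) := by
  have hb : Function.Bijective φ := ⟨φ.toRingHom.injective, fun m => by
    obtain ⟨k, rfl⟩ := IsSepClosed.algebraMap_surjective K M m
    exact ⟨algebraMap K L k, φ.commutes k⟩⟩
  let e := AlgEquiv.ofBijective φ hb
  refine ⟨homO e.symm.toAlgHom, ?_, ?_⟩
  · rw [homO_comp, ← homO_id]
    exact congrArg homO (AlgHom.ext e.apply_symm_apply)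
  · rw [homO_comp, ← homO_id]
    exact congrArg homO (AlgHom.ext e.symm_apply_apply)

/-- Epimorphisms of sheaves are surjective on sections over a separably closed field. -/
theorem surjective_app {A B : EtCoh.Ab (S K)} (a : A ⟶ B) [Epi a] (V : (S K).Etale) :
    Function.Surjective (a.hom.app (op V)) := by
  intro t
  choose L hL hA hE k hk hkv using exists_open_point V
  have hD : DisjointCover.IsDisjointCover (fun v => O K (L v)) k :=
    { isOpenImmersion := hk
      exists_eq := fun x => ⟨x, IsLocalRing.closedPoint (L x), hkv x _⟩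
      disjoint := fun i j x y h => (hkv i x).symm.trans (h.trans (hkv j y)) }
  have hlift : ∀ v, ∃ r : EtCoh.sect A (O K (L v)), a.hom.app (op (O K (L v))) r = B.obj.map (k v).op t := by
    intro v
    haveI : Algebra.IsSeparable K (L v) := Algebra.FormallyUnramified.isSeparable K (L v)
    obtain ⟨M, _, _, _, _, _, φ, r, hr⟩ := exists_lift_fields (L := L v) a (B.obj.map (k v).op t)
    haveI := isIso_homO φ
    refine ⟨A.obj.map (inv (homO φ)).op r, ?_⟩
    rw [NatTrans.naturality_apply a.hom, hr, map_map, IsIso.inv_hom_id, op_id,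
      CategoryTheory.Functor.map_id]
    rfl
  choose r hr using hlift
  obtain ⟨s, hs⟩ := hD.exists_glue A r
  refine ⟨s, Stalk.sections_ext B _ _ fun x => ⟨O K (L x), k x, ?_, IsLocalRing.closedPoint (L x), hkv x _⟩⟩
  rw [← NatTrans.naturality_apply a.hom, hs, hr]

variable {X Y : Scheme.{u}} (u : S K ⟶ X)

theorem preservesEpimorphisms_comp (f : X ⟶ Y) :
    (EtCoh.push u ⋙ EtCoh.push f).PreservesEpimorphisms where
  preserves {A B} a h := by
    refine (Sheaf.isLocallySurjective_iff_epi' _ _).1 ⟨fun {V} t => ?_⟩
    obtain ⟨s, hs⟩ := surjective_app a ((EtCoh.bc u).obj ((EtCoh.bc f).obj V)) t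
    refine GrothendieckTopology.superset_covering _ ?_ (GrothendieckTopology.top_mem _ _)
    intro W g _
    exact ⟨((EtCoh.push u ⋙ EtCoh.push f).obj A).obj.map g.op s,
      (NatTrans.naturality_apply ((EtCoh.push u ⋙ EtCoh.push f).map a).hom g.op s).trans
        (congrArg (((EtCoh.push u ⋙ EtCoh.push f).obj B).obj.map g.op) hs)⟩

theorem preservesEpimorphisms : (EtCoh.push u).PreservesEpimorphisms where
  preserves {A B} a h := by
    refine (Sheaf.isLocallySurjective_iff_epi' _ _).1 ⟨fun {V} t => ?_⟩
    obtain ⟨s, hs⟩ := surjective_app a ((EtCoh.bc u).obj V) t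
    refine GrothendieckTopology.superset_covering _ ?_ (GrothendieckTopology.top_mem _ _)
    intro W g _
    exact ⟨((EtCoh.push u).obj A).obj.map g.op s,
      (NatTrans.naturality_apply ((EtCoh.push u).map a).hom g.op s).trans
        (congrArg (((EtCoh.push u).obj B).obj.map g.op) hs)⟩

/-- Higher direct images of sheaves pushed forward from a separably closed point vanish. -/
theorem isZero_rpush_push (f : X ⟶ Y) (G : EtCoh.Ab (S K)) (q : ℕ) (hq : 1 ≤ q) :
    IsZero ((EtCoh.Rpush f q).obj ((EtCoh.push u).obj G)) := by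
  obtain ⟨n, rfl⟩ : ∃ n, q = n + 1 := ⟨q - 1, by omega⟩
  haveI : PreservesLimitsOfSize.{0, 0} (EtCoh.push u) := (EtCoh.pullPushAdj u).rightAdjoint_preservesLimits
  haveI : PreservesLimitsOfSize.{0, 0} (EtCoh.push f) := (EtCoh.pullPushAdj f).rightAdjoint_preservesLimits
  haveI := preservesEpimorphisms u
  haveI := preservesEpimorphisms_comp u f
  haveI : (EtCoh.push u).PreservesHomology := Functor.preservesHomology_of_preservesEpis_and_kernels _
  haveI : PreservesLimitsOfSize.{0, 0} (EtCoh.push u ⋙ EtCoh.push f) := comp_preservesLimits _ _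
  haveI : PreservesFiniteLimits (EtCoh.push u) := ⟨fun _ _ _ => inferInstance⟩
  haveI : PreservesFiniteLimits (EtCoh.push f) := ⟨fun _ _ _ => inferInstance⟩
  haveI : PreservesFiniteLimits (EtCoh.push u ⋙ EtCoh.push f) := comp_preservesFiniteLimits _ _
  haveI : (EtCoh.push u ⋙ EtCoh.push f).Additive := Functor.additive_of_preserves_binary_products _
  haveI : ∀ {A B : EtCoh.Ab (S K)} (a : A ⟶ B),
      PreservesLimit (parallelPair a 0) (EtCoh.push u ⋙ EtCoh.push f) := fun a => inferInstance
  haveI : (EtCoh.push u ⋙ EtCoh.push f).PreservesHomology :=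
    Functor.preservesHomology_of_preservesEpis_and_kernels _
  let I := InjectiveResolution.of G
  let J : InjectiveResolution ((EtCoh.push u).obj G) :=
    { cocomplex := ((EtCoh.push u).mapHomologicalComplex (ComplexShape.up ℕ)).obj I.cocomplex
      injective := fun m => (EtCoh.pullPushAdj u).map_injective _ (I.injective m)
      ι := (HomologicalComplex.singleMapHomologicalComplex (EtCoh.push u) (ComplexShape.up ℕ) 0).inv.app G ≫
        ((EtCoh.push u).mapHomologicalComplex (ComplexShape.up ℕ)).map I.ι
      quasiIso := by infer_instance }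
  refine IsZero.of_iso ?_ (J.isoRightDerivedObj (EtCoh.push f) (n + 1))
  refine (HomologicalComplex.exactAt_iff_isZero_homology _ _).1 ?_
  exact (I.cocomplex_exactAt_succ n).map (EtCoh.push u ⋙ EtCoh.push f)

end Groth.Agent.H88.EtMod.SepClosedPoint
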