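import Groth.Agent.H88.EtMod.DivVanish
import Groth.Agent.H88.EtMod.SepClosedPoint

/-!
Above the dimension all cohomology is torsion; sheaves without stalks at the maximal points.
-/

set_option autoImplicit false
set_option linter.style.haveILetI false

universe u

open CategoryTheory CategoryTheory.Limits AlgebraicGeometry Opposite Abelian

noncomputable section

namespace Groth.Agent.H88.EtMod.DimTorsion

open Groth.Agent.H61 Groth.Agent.Lib.EtSite Groth.Agent.Lib.EtSite.Basic Groth.Agent.Lib.EtJ
open DivBasic GenericStalk DepthSec ExtColim DivVanish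

variable {X : Scheme.{u}}

/-- The reduced closed subscheme. -/
abbrev sub (Z : Idx X) : Scheme.{u} := (Scheme.IdealSheafData.vanishingIdeal (X := X) Z.1).subscheme

/-- Its inclusion. -/
abbrev subι (Z : Idx X) : sub Z ⟶ X := (Scheme.IdealSheafData.vanishingIdeal (X := X) Z.1).subschemeι

theorem range_subι (Z : Idx X) : Set.range (subι Z).base = (Z.1 : Set X) := by
  rw [Scheme.IdealSheafData.range_subschemeι, Scheme.IdealSheafData.coe_support_vanishingIdeal]

variable [IsNoetherian X]

/-- Classes of a sheaf without stalks at the maximal points come from the closed subsets. -/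
theorem exists_hom (G : EtCoh.Ab X)
    (hG : ∀ η : X, closure {η} ∈ irreducibleComponents ↥X → η ∉ EtPBC.supp G) (i : ℕ)
    (y : EtCoh.H X G i) :
    ∃ (Z : Idx X) (f : EtCoh.H (sub Z) ((EtCoh.pull (subι Z)).obj ((DivVanish.diag G).obj Z)) i →+ EtCoh.H X G i)
      (x : EtCoh.H (sub Z) ((EtCoh.pull (subι Z)).obj ((DivVanish.diag G).obj Z)) i), f x = y := by
  haveI := isIso_desc G hG
  let φ : colimit (DivVanish.diag G) ≅ G := asIso (desc G)
  obtain ⟨Z, x, hx⟩ := (good global (DivVanish.diag G) i).1 (y.comp (Ext.mk₀ φ.inv) (add_zero i))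
  haveI : IsIso ((EtCoh.pullPushAdj (subι Z)).unit.app ((DivVanish.diag G).obj Z)) := by
    refine ClosedEssImage.isIso_unit (A := AddCommGrpCat.{u + 1}) (subι Z) _ fun x hx => ?_
    refine ⟨_, inferInstance, inferInstance, geomPoint X x, geomPoint_apply x _, ?_, ⟨0⟩⟩
    refine AddCommGrpCat.isZero_iff_subsingleton.1
      ((notMem_supp_iff _ x).1 (notMem_supp_diag G Z x (range_subι Z ▸ hx)) _ inferInstance inferInstance _ ?_)
    exact (Supp.range_eq _).trans (congrArg (fun y => ({y} : Set X)) (geomPoint_apply x _))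
  obtain ⟨e⟩ := FieldCoh.PushInt.nonempty_Hequiv (subι Z) ((EtCoh.pull (subι Z)).obj ((DivVanish.diag G).obj Z)) i
  let u : (DivVanish.diag G).obj Z ≅ (EtCoh.push (subι Z)).obj ((EtCoh.pull (subι Z)).obj ((DivVanish.diag G).obj Z)) :=
    asIso ((EtCoh.pullPushAdj (subι Z)).unit.app ((DivVanish.diag G).obj Z))
  refine ⟨Z, ((Ext.mk₀ φ.hom).postcomp _ (add_zero i)).comp ((map global (colimit.ι (DivVanish.diag G) Z) i).comp
    (((Ext.mk₀ u.inv).postcomp _ (add_zero i)).comp e.symm.toAddMonoidHom)),
    e (x.comp (Ext.mk₀ u.hom) (add_zero i)), ?_⟩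
  have h1 : (x.comp (Ext.mk₀ u.hom) (add_zero i)).comp (Ext.mk₀ u.inv) (add_zero i) = x := by
    rw [Ext.comp_assoc_of_second_deg_zero, Ext.mk₀_comp_mk₀, u.hom_inv_id, Ext.comp_mk₀_id]
  have h2 : (y.comp (Ext.mk₀ φ.inv) (add_zero i)).comp (Ext.mk₀ φ.hom) (add_zero i) = y := by
    rw [Ext.comp_assoc_of_second_deg_zero, Ext.mk₀_comp_mk₀, φ.inv_hom_id, Ext.comp_mk₀_id]
  change (map global (colimit.ι (DivVanish.diag G) Z) i
    ((e.symm (e (x.comp (Ext.mk₀ u.hom) (add_zero i)))).comp (Ext.mk₀ u.inv) (add_zero i))).comp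
      (Ext.mk₀ φ.hom) (add_zero i) = y
  rw [e.symm_apply_apply]
  refine Eq.trans (congrArg (fun t => (map global (colimit.ι (DivVanish.diag G) Z) i t).comp (Ext.mk₀ φ.hom) (add_zero i)) h1) ?_
  exact (congrArg (fun t => t.comp (Ext.mk₀ φ.hom) (add_zero i)) hx).trans h2

omit [AlgebraicGeometry.IsNoetherian X] in
/-- Above the dimension every class is torsion. -/
theorem isAddTorsion_H (d : ℕ) : ∀ (X : Scheme.{u}) [IsNoetherian X],
    topologicalKrullDim ↥X ≤ (d : ℕ) → ∀ (F : EtCoh.Ab X) (i : ℕ), d < i → IsAddTorsion (EtCoh.H X F i) := by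
  induction d using Nat.strong_induction_on with
  | _ d ih =>
  intro X _ hd F
  let M : Set X := {η | closure {η} ∈ irreducibleComponents ↥X}
  have hfin : M.Finite := Set.Finite.of_finite_image
    (TopologicalSpace.NoetherianSpace.finite_irreducibleComponents.subset
      (by rintro _ ⟨η, hη, rfl⟩; exact hη))
    (fun a _ b _ h => ((specializes_iff_closure_subset.2 h.ge).antisymm (specializes_iff_closure_subset.2 h.le)).eq)
  have aux : ∀ G : EtCoh.Ab X, (∀ η ∈ M, η ∉ EtPBC.supp G) → ∀ i, d ≤ i → IsAddTorsion (EtCoh.H X G i) := by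
    intro G hG i hi y
    rcases d with _ | d
    · refine (congrArg IsOfFinAddOrder ?_).mpr .zero
      obtain ⟨Z, f, x, rfl⟩ := exists_hom G hG i y
      haveI : IsEmpty ↥(sub Z) := ⟨fun z => by
        have hz : (subι Z).base z ∈ (Z.1 : Set X) := range_subι Z ▸ Set.mem_range_self _
        obtain ⟨η, hη, hsp⟩ := Lib.SchTopo.Closure.exists_maximal_specializes X ((subι Z).base z)
        by_cases hne : η = (subι Z).base z
        · exact Z.2 η hη (hne ▸ hz)
        · exact absurd ((dim_pos hne hsp).trans hd) (by decide)⟩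
      have h0 : IsZero ((EtCoh.pull (subι Z)).obj ((DivVanish.diag G).obj Z)) := by
        refine (IsZero.iff_id_eq_zero _).2 (Sheaf.hom_ext ?_)
        ext V s
        induction V using Opposite.rec with
        | op V => exact ConstTorsionFree.section_eq_of_isEmpty ⟨fun v => IsEmpty.false (α := ↥(sub Z)) (V.hom.base v)⟩ _ _
      rw [show x = 0 from (x.comp_mk₀_id.symm.trans (by
        rw [(IsZero.iff_id_eq_zero _).1 h0, Ext.mk₀_zero, Ext.comp_zero])), map_zero]
    · obtain ⟨Z, f, x, rfl⟩ := exists_hom G hG i y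
      haveI : IsLocallyNoetherian (sub Z) := LocallyOfFiniteType.isLocallyNoetherian (subι Z)
      haveI : CompactSpace ↥(sub Z) := QuasiCompact.compactSpace_of_compactSpace (subι Z)
      haveI : IsNoetherian (sub Z) := {}
      exact f.isOfFinAddOrder (ih d d.lt_succ_self (sub Z) (dim_le_of_no_maximal hd (subι Z).base
        (subι Z).isClosedEmbedding fun η hη => range_subι Z ▸ Z.2 η hη) _ i (by omega) x)
  suffices key : ∀ s : Set X, s.Finite → ∀ G : EtCoh.Ab X,
      (∀ η ∈ M, η ∈ EtPBC.supp G → η ∈ s) → ∀ i, d < i → IsAddTorsion (EtCoh.H X G i) from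
    key M hfin F fun η hη _ => hη
  intro s hs
  induction s, hs using Set.Finite.induction_on with
  | empty => exact fun G hmax i hi => aux G (fun η hη h => hmax η hη h) i hi.le
  | @insert η s _ _ IH =>
    intro G hmax i hi
    by_cases hηM : η ∈ M
    swap
    · exact IH G (fun μ hμ h => ((hmax μ hμ h).resolve_left fun e => hηM (e ▸ hμ))) i hi
    let g : FieldCoh.S (X.residueField η) ⟶ X := X.fromSpecResidueField η
    haveI : IsPreimmersion g := inferInstanceAs (IsPreimmersion (X.fromSpecResidueField η))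
    haveI : QuasiCompact g :=
      ⟨fun _ _ _ => Set.Subsingleton.isCompact fun a _ b _ => g.isEmbedding.injective
        ((Scheme.fromSpecResidueField_apply η a).trans (Scheme.fromSpecResidueField_apply η b).symm)⟩
    haveI : QuasiSeparated g := inferInstance
    have hrg : ∀ y ∈ closure (Set.range g.base), η ⤳ y := fun y hy => by
      rw [show Set.range g.base = {η} from X.range_fromSpecResidueField η] at hy
      exact specializes_iff_mem_closure.2 hy
    let u₀ : G ⟶ (EtCoh.push g).obj ((EtCoh.pull g).obj G) := (EtCoh.pullPushAdj g).unit.app G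
    obtain ⟨hker, hcoker⟩ := notMem_supp_unit g G (x := η) (κ := 𝟙 _) (by
      rw [Spec.map_id]; exact Category.id_comp _)
    obtain ⟨k, rfl⟩ : ∃ k, i = k + 1 := ⟨i - 1, by omega⟩
    have hK := IH (kernel u₀) (fun μ hμ h =>
      (hmax μ hμ (supp_subset_of_mono (kernel.ι u₀) h)).resolve_left fun e => hker (by subst e; exact h)) (k + 1) hi
    have hC : IsAddTorsion (EtCoh.H X (cokernel u₀) k) :=
      aux _ (fun μ hμ h => by
        have h1 : μ ∈ closure (Set.range g.base) := by
          by_contra hne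
          exact notMem_supp_push g _ μ hne (supp_subset_of_epi (cokernel.π u₀) h)
        obtain rfl : η = μ := Lib.SchTopo.Closure.eq_of_specializes_of_closure_mem hμ (hrg μ h1)
        exact hcoker h) k (by omega)
    let S₁ := ShortComplex.mk (kernel.ι u₀) (Abelian.factorThruImage u₀) (by
      rw [← cancel_mono (Abelian.image.ι u₀), Category.assoc, Abelian.image.fac, kernel.condition, zero_comp])
    have h₁ : S₁.ShortExact :=
      { exact := by
          refine ShortComplex.exact_of_f_is_kernel _ (KernelFork.IsLimit.ofι' _ _ fun {W} w hw => ?_)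
          refine ⟨kernel.lift u₀ w ?_, kernel.lift_ι _ _ _⟩
          rw [← Abelian.image.fac u₀, ← Category.assoc]
          exact (congrArg (· ≫ Abelian.image.ι u₀) hw).trans zero_comp
        mono_f := inferInstanceAs (Mono (kernel.ι u₀))
        epi_g := inferInstanceAs (Epi (Abelian.factorThruImage u₀)) }
    let S₂ := ShortComplex.mk (Abelian.image.ι u₀) (cokernel.π u₀) (kernel.condition _)
    have h₂ : S₂.ShortExact :=
      { exact := ShortComplex.exact_of_f_is_kernel _ (kernelIsKernel _)
        mono_f := inferInstanceAs (Mono (kernel.ι _))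
        epi_g := inferInstanceAs (Epi (cokernel.π u₀)) }
    intro z
    let a := (Ext.mk₀ S₁.g).postcomp (EtCoh.const X ℤ) (add_zero (k + 1))
    let b := (Ext.mk₀ S₂.f).postcomp (EtCoh.const X ℤ) (add_zero (k + 1))
    have hI : IsOfFinAddOrder (a z) := by
      obtain ⟨m, hm, hm0⟩ := isOfFinAddOrder_iff_nsmul_eq_zero.1
        (PointCohTorsion.isAddTorsion_H_push g k _ (b (a z)))
      obtain ⟨w, hw⟩ := Ext.covariant_sequence_exact₁ _ h₂ (m • a z)
        (by change b (m • a z) = 0; rw [map_nsmul]; exact hm0) (n₀ := k) rfl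
      refine IsOfFinAddOrder.of_nsmul ?_ hm.ne'
      rw [← hw]
      exact AddMonoidHom.isOfFinAddOrder (h₂.extClass.postcomp _ rfl) (hC w)
    obtain ⟨m, hm, hm0⟩ := isOfFinAddOrder_iff_nsmul_eq_zero.1 hI
    obtain ⟨v, hv⟩ := Ext.covariant_sequence_exact₂ _ h₁ (m • z) (by change a (m • z) = 0; rw [map_nsmul, hm0])
    refine IsOfFinAddOrder.of_nsmul ?_ hm.ne'
    rw [← hv]
    exact AddMonoidHom.isOfFinAddOrder ((Ext.mk₀ S₁.f).postcomp _ (add_zero _)) (hK v)

end Groth.Agent.H88.EtMod.DimTorsion
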