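import Groth.Agent.H88.EtMod.PointCohTorsion
import Groth.Agent.Lib.SchTopo.Closure
import Mathlib.Topology.KrullDimension

/-!
Uniquely divisible sheaves; dimension of closed sets without maximal points.
-/

set_option autoImplicit false
set_option linter.style.haveILetI false

universe u

open CategoryTheory CategoryTheory.Limits AlgebraicGeometry Opposite Abelian

noncomputable section

namespace Groth.Agent.H88.EtMod.DivBasic

/-- Uniquely divisible object. -/
def Div {C : Type*} [Category C] [Preadditive C] (F : C) : Prop := ∀ n : ℕ, 0 < n → IsIso (n • 𝟙 F)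

theorem div_of_sect {X : Scheme.{u}} (F : EtCoh.Ab X)
    (hF : ∀ (U : X.Etale) (m : ℕ), 0 < m → Function.Bijective (fun s : EtCoh.sect F U => m • s)) : Div F := by
  intro n hn
  haveI : ∀ V : X.Etaleᵒᵖ, IsIso ((n • 𝟙 F).hom.app V) := fun V => by
    induction V using Opposite.rec with
    | op U =>
    refine (ConcreteCategory.isIso_iff_bijective _).2 ?_
    have : ∀ s, (n • 𝟙 F).hom.app (op U) s = n • s := fun s => by
      induction n with
      | zero => exact absurd hn (lt_irrefl 0)
      | succ m ih =>
        rcases Nat.eq_zero_or_pos m with rfl | hm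
        · rw [zero_add, one_nsmul, one_nsmul]; rfl
        · rw [succ_nsmul, succ_nsmul, ← ih hm]; rfl
    convert hF U n hn using 1
    exact funext this
  haveI : IsIso ((sheafToPresheaf _ _).map (n • 𝟙 F)) := NatIso.isIso_of_isIso_app (n • 𝟙 F).hom
  exact isIso_of_reflects_iso (n • 𝟙 F) (sheafToPresheaf _ _)

variable {C D : Type*} [Category C] [Category D] [Preadditive C] [Preadditive D]

theorem Div.map (G : C ⥤ D) [G.Additive] {F : C} (h : Div F) : Div (G.obj F) := fun n hn => by
  haveI := h n hn
  rw [← G.map_id F, ← G.map_nsmul]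
  infer_instance

theorem nsmul_comm {F F' : C} (a : F ⟶ F') (n : ℕ) : (n • 𝟙 F) ≫ a = a ≫ (n • 𝟙 F') := by
  rw [Preadditive.nsmul_comp, Preadditive.comp_nsmul, Category.id_comp, Category.comp_id]

theorem Div.cokernel {F F' : C} (a : F ⟶ F') [HasCokernel a] (h : Div F) (h' : Div F') :
    Div (Limits.cokernel a) := fun n hn => by
  haveI := h n hn; haveI := h' n hn
  have : n • 𝟙 (Limits.cokernel a) = cokernel.map a a (n • 𝟙 F) (n • 𝟙 F') (nsmul_comm a n).symm :=
    coequalizer.hom_ext (by simp [Preadditive.comp_nsmul])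
  rw [this]
  exact (cokernel.mapIso a a (asIso (n • 𝟙 F)) (asIso (n • 𝟙 F')) (nsmul_comm a n).symm).isIso_hom

theorem Div.kernel {F F' : C} (a : F ⟶ F') [HasKernel a] (h : Div F) (h' : Div F') :
    Div (Limits.kernel a) := fun n hn => by
  haveI := h n hn; haveI := h' n hn
  have : n • 𝟙 (Limits.kernel a) = kernel.map a a (n • 𝟙 F) (n • 𝟙 F') (nsmul_comm a n).symm :=
    equalizer.hom_ext (by simp [Preadditive.nsmul_comp])
  rw [this]
  exact (kernel.mapIso a a (asIso (n • 𝟙 F)) (asIso (n • 𝟙 F')) (nsmul_comm a n).symm).isIso_hom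

/-- Torsion classes with uniquely divisible coefficients vanish. -/
theorem eq_zero_of_torsion {A : Type*} [Category A] [Abelian A] [HasExt A] {P F : A} (hF : Div F) {i : ℕ}
    (e : Ext P F i) (he : IsOfFinAddOrder e) : e = 0 := by
  obtain ⟨n, hn, hne⟩ := isOfFinAddOrder_iff_nsmul_eq_zero.1 he
  haveI := hF n hn
  have h1 : ∀ m : ℕ, e.comp (Ext.mk₀ (m • 𝟙 F)) (add_zero i) = m • e := fun m => by
    induction m with
    | zero => simp
    | succ m ih => rw [succ_nsmul, succ_nsmul, Ext.mk₀_add, Ext.comp_add, Ext.comp_mk₀_id, ih]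
  have h2 : (e.comp (Ext.mk₀ (n • 𝟙 F)) (add_zero i)).comp (Ext.mk₀ (inv (n • 𝟙 F))) (add_zero i) = e := by
    rw [Ext.comp_assoc_of_second_deg_zero, Ext.mk₀_comp_mk₀, IsIso.hom_inv_id, Ext.comp_mk₀_id]
  rw [← h2, h1, hne, Ext.zero_comp]

/-- A closed set without maximal points has smaller dimension. -/
theorem dim_le_of_no_maximal {X : Scheme.{u}} {d : ℕ} (hd : topologicalKrullDim X ≤ (d + 1 : ℕ))
    {Z : Type*} [TopologicalSpace Z] (f : Z → X) (hf : Topology.IsClosedEmbedding f)
    (hmax : ∀ η : X, closure {η} ∈ irreducibleComponents ↥X → η ∉ Set.range f) :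
    topologicalKrullDim Z ≤ (d : ℕ) := by
  refine iSup_le fun p => ?_
  let φ : TopologicalSpace.IrreducibleCloseds Z → TopologicalSpace.IrreducibleCloseds X := fun C =>
    ⟨f '' C.carrier, C.isIrreducible'.image f hf.continuous.continuousOn, hf.isClosedMap _ C.isClosed'⟩
  have hφ : StrictMono φ := fun a b h => lt_of_le_of_ne (Set.image_mono h.le) fun e =>
    h.ne (SetLike.coe_injective (hf.injective.image_injective (congrArg TopologicalSpace.IrreducibleCloseds.carrier e)))
  let L := φ p.last
  obtain ⟨z, hz⟩ := L.isIrreducible'.1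
  obtain ⟨c, hc, hLc⟩ := exists_mem_irreducibleComponents_subset_of_isIrreducible L.carrier L.isIrreducible'
  let top : TopologicalSpace.IrreducibleCloseds X := ⟨c, hc.1, isClosed_of_mem_irreducibleComponents c hc⟩
  have hlt : (p.map φ hφ).last < top := by
    refine lt_of_le_of_ne hLc fun e => ?_
    have hη : closure {hc.1.genericPoint} = c := by
      rw [hc.1.closure_genericPoint (isClosed_of_mem_irreducibleComponents c hc)]
    refine hmax hc.1.genericPoint (by rw [hη]; exact hc) ?_
    have hmem : hc.1.genericPoint ∈ c := by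
      have := hc.1.isGenericPoint_genericPoint (isClosed_of_mem_irreducibleComponents c hc)
      exact this.mem
    have e' : f '' p.last.carrier = c := congrArg TopologicalSpace.IrreducibleCloseds.carrier e
    exact Set.image_subset_range _ _ (e'.ge hmem)
  have h := (Order.LTSeries.length_le_krullDim ((p.map φ hφ).snoc top hlt)).trans hd
  have h' : p.length + 1 ≤ d + 1 := by exact_mod_cast (by simpa using h : ((p.length : ℕ) : WithBot ℕ∞) + 1 ≤ (d : WithBot ℕ∞) + 1)
  exact_mod_cast Nat.le_of_succ_le_succ h'

/-- A nontrivial specialization makes the dimension positive. -/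
theorem dim_pos {X : Scheme.{u}} {η x : X} (hne : η ≠ x) (h : η ⤳ x) :
    (1 : WithBot ℕ∞) ≤ topologicalKrullDim X := by
  let a : TopologicalSpace.IrreducibleCloseds X := ⟨closure {x}, isIrreducible_singleton.closure, isClosed_closure⟩
  let b : TopologicalSpace.IrreducibleCloseds X := ⟨closure {η}, isIrreducible_singleton.closure, isClosed_closure⟩
  have hab : a < b := lt_of_le_of_ne (specializes_iff_closure_subset.1 h) fun e =>
    hne (h.antisymm (specializes_iff_closure_subset.2
      (congrArg TopologicalSpace.IrreducibleCloseds.carrier e).ge)).eq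
  have := Order.LTSeries.length_le_krullDim ((RelSeries.singleton _ a).snoc b hab)
  show (1 : WithBot ℕ∞) ≤ Order.krullDim _
  exact (by simpa using this)

end Groth.Agent.H88.EtMod.DivBasic
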