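import Groth.Agent.H88.EtMod.GenericStalk
import Groth.Agent.H88.DepthSec
import Groth.Agent.H61.FieldCoh.PushInt
import Groth.Agent.Lib.EtSite.ClosedEssImage

/-!
Vanishing of the cohomology of uniquely divisible sheaves above the dimension.
-/

set_option autoImplicit false
set_option linter.style.haveILetI false

universe u

open CategoryTheory CategoryTheory.Limits AlgebraicGeometry Opposite Abelian

noncomputable section

namespace Groth.Agent.H88.EtMod.DivVanish

open Groth.Agent.H61 Groth.Agent.Lib.EtSite Groth.Agent.Lib.EtSite.Basic Groth.Agent.Lib.EtJ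
open DivBasic GenericStalk DepthSec ExtColim

/-- Vanishing above `d` in dimension `≤ d`. -/
def P (d : ℕ) : Prop :=
  ∀ (X : Scheme.{u}) [IsNoetherian X], topologicalKrullDim ↥X ≤ (d : ℕ) →
    ∀ (F : EtCoh.Ab X), Div F → ∀ i, d < i → Subsingleton (EtCoh.H X F i)

variable {X : Scheme.{u}}

/-- Closed sets without maximal points. -/
def Idx (X : Scheme.{u}) : Type u :=
  {Z : TopologicalSpace.Closeds ↥X //
    ∀ η : X, closure {η} ∈ irreducibleComponents ↥X → η ∉ (Z : Set X)}

instance : Preorder (Idx X) := inferInstanceAs (Preorder (Subtype _))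

instance : IsFiltered (Idx X) := by
  haveI : Nonempty (Idx X) := ⟨⟨⊥, fun _ _ h => h⟩⟩
  haveI : IsDirectedOrder (Idx X) := ⟨fun a b => ⟨⟨a.1 ⊔ b.1, fun η hη h =>
    h.elim (a.2 η hη) (b.2 η hη)⟩, (le_sup_left : a.1 ≤ a.1 ⊔ b.1), (le_sup_right : b.1 ≤ a.1 ⊔ b.1)⟩⟩
  exact isFiltered_of_directed_le_nonempty _

/-- The complementary open. -/
abbrev cpl (Z : Idx X) : X.Opens := ⟨(Z.1 : Set X)ᶜ, Z.1.isClosed.isOpen_compl⟩

/-- The complement. -/
abbrev jo (Z : Idx X) : (cpl Z : Scheme.{u}) ⟶ X := (cpl Z).ι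

theorem range_jo (Z : Idx X) : Set.range (jo Z).base = (Z.1 : Set X)ᶜ := (cpl Z).range_ι

theorem cond {Z Z' : Idx X} (h : Z ≤ Z') (G : EtCoh.Ab X) :
    kernel.ι (EtDual.unitApp (jo Z) G) ≫ EtDual.unitApp (jo Z') G = 0 := by
  apply Sheaf.hom_ext
  ext V x
  induction V using Opposite.rec with
  | op V =>
  refine (sup_iff_unitApp (jo Z') _).1 (Sup.mono ?_ (sup_ι (jo Z) x))
  rw [range_jo, range_jo]
  exact Set.compl_subset_compl.2 h

/-- The subsheaves of sections supported in closed sets without maximal points. -/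
def diag (G : EtCoh.Ab X) : Idx X ⥤ EtCoh.Ab X where
  obj Z := kernel (EtDual.unitApp (jo Z) G)
  map {Z Z'} h := kernel.lift _ (kernel.ι _) (cond (leOfHom h) G)
  map_id Z := equalizer.hom_ext (by simp)
  map_comp f g := equalizer.hom_ext (by simp)

/-- The evident cocone. -/
def cocone (G : EtCoh.Ab X) : Cocone (diag G) where
  pt := G
  ι :=
    { app := fun Z => kernel.ι _
      naturality := fun Z Z' h => by simp [diag] }

/-- The comparison map. -/
abbrev desc (G : EtCoh.Ab X) : colimit (diag G) ⟶ G := colimit.desc (diag G) (cocone G)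

variable [IsNoetherian X]

theorem isIso_desc (G : EtCoh.Ab X)
    (hG : ∀ η : X, closure {η} ∈ irreducibleComponents ↥X → η ∉ EtPBC.supp G) :
    IsIso (desc G) := by
  haveI : AB5OfSize.{u, u} (EtCoh.Ab X) := AB5OfSize_shrink.{u, u, u + 1, u + 1} _
  haveI : HasExactColimitsOfShape (Idx X) (EtCoh.Ab X) := AB5OfSize.ofShape _
  let φ : colimit (diag G) ⟶ G := desc G
  haveI : Mono φ := by
    haveI : ∀ k, Mono ((cocone G).ι.app k) := fun k =>
      inferInstanceAs (Mono (kernel.ι (EtDual.unitApp (jo k) G)))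
    haveI : Mono ((cocone G).ι) := NatTrans.mono_of_mono_app _
    haveI : IsConnected (Idx X) := IsFiltered.isConnected _
    exact colim.map_mono' (cocone G).ι (colimit.isColimit _)
      (isColimitConstCocone (Idx X) G) φ (fun k =>
        (colimit.ι_desc (cocone G) k).trans (Category.comp_id _).symm)
  haveI : Epi φ := by
    refine Preadditive.epi_of_cancel_zero _ fun {T} a ha => ?_
    apply Sheaf.hom_ext
    ext V t
    induction V using Opposite.rec with
    | op V =>
    refine Stalk.sections_ext T _ _ fun v => ?_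
    obtain ⟨W, g, w, hw, hW⟩ := FiniteGen.exists_affine_nhd V v
    refine ⟨W, g, ?_, w, hw⟩
    change T.obj.map g.op (a.hom.app (op V) t) = T.obj.map g.op (0 : T.obj.obj (op V))
    rw [map_zero, ← NatTrans.naturality_apply a.hom g.op t]
    generalize G.obj.map g.op t = s
    haveI : IsAffine W.left := hW
    haveI : IsAffine ((𝟭 Scheme).obj W.left) := hW
    let S : TopologicalSpace.Closeds ↥W.left := ⟨_, Supp.isClosed_sectSupp G W s⟩
    let I := Scheme.IdealSheafData.vanishingIdeal (X := W.left) S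
    haveI : CompactSpace ↥I.subscheme := QuasiCompact.compactSpace_of_compactSpace I.subschemeι
    let f : I.subscheme ⟶ X := I.subschemeι ≫ W.hom
    haveI : QuasiCompact f := quasiCompact_of_compactSpace _
    have hrange : Set.range I.subschemeι.base = EtShriek.sectSupp G W s := by
      rw [Scheme.IdealSheafData.range_subschemeι, Scheme.IdealSheafData.coe_support_vanishingIdeal]
      rfl
    let Z : Idx X := ⟨⟨closure (Set.range f.base), isClosed_closure⟩, fun η hη hmem => by
      obtain ⟨l, hl⟩ := Lib.SchTopo.Closure.mem_range_of_mem_closure_range f hη hmem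
      refine hG η hη ?_
      rw [Supp.supp_eq_iUnion]
      refine Set.mem_iUnion₂.2 ⟨W, s, I.subschemeι.base l, hrange ▸ Set.mem_range_self l, ?_⟩
      rw [← hl]
      exact (Scheme.Hom.comp_apply _ _ _).symm⟩
    have hs : Sup (jo Z) (s : DepthSec.S G W) := by
      intro T' r hT
      refine Stalk.sections_ext_of_germ G _ _ (Stalk.enoughPts_pt fun y m => ?_)
      rw [map_zero]
      refine (GrothendieckTopology.Point.toPresheafFiber_w_apply _ _ m G.obj s).trans ?_
      refine (Supp.germ_eq_zero_iff_notMem G _ _ s).2 fun hm => ?_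
      rw [← hrange] at hm
      obtain ⟨l, hl⟩ := hm
      have h1 : T'.hom.base (fiberPt m) ∈ (Z.1 : Set X)ᶜ := range_jo Z ▸ hT (Set.mem_range_self _)
      refine h1 (subset_closure ⟨l, ?_⟩)
      rw [← MorphismProperty.Over.w r, Scheme.Hom.comp_apply, Scheme.Hom.comp_apply, hl, fiberPt_map]
    obtain ⟨x, hx⟩ := exists_lift (jo Z) hs
    have h0 : kernel.ι (EtDual.unitApp (jo Z) G) ≫ a = 0 := by
      exact (congrArg (· ≫ a) (colimit.ι_desc (cocone G) Z).symm).trans ((Category.assoc _ _ _).trans
        ((congrArg (colimit.ι (diag G) Z ≫ ·) ha).trans comp_zero))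
    exact (congrArg (a.hom.app (op W)) hx.symm).trans (congrArg (fun m => (m.hom.app (op W)).hom x) h0)
  exact isIso_of_mono_of_epi φ

omit [AlgebraicGeometry.IsNoetherian X] in
theorem notMem_supp_diag (G : EtCoh.Ab X) (Z : Idx X) (x : X) (hx : x ∉ (Z.1 : Set X)) :
    x ∉ EtPBC.supp ((diag G).obj Z) := by
  refine (notMem_supp_iff _ x).2 fun Ω _ _ ξ hξ => (Supp.stalk_isZero_iff _).2 fun V p s => ?_
  haveI : Etale V.hom := V.prop
  let O : V.left.Opens := ⟨V.hom.base ⁻¹' (Z.1 : Set X)ᶜ, Z.1.isClosed.isOpen_compl.preimage V.hom.continuous⟩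
  let W : X.Etale := Scheme.Etale.mk (O.ι ≫ V.hom)
  let r : W ⟶ V := MorphismProperty.Over.homMk O.ι rfl
  have hpO : fiberPt p ∈ O := by
    change V.hom.base (fiberPt p) ∈ (Z.1 : Set X)ᶜ
    rw [hom_fiberPt, show ξ.base default = x from Set.eq_of_mem_singleton (hξ ▸ Set.mem_range_self _)]
    exact hx
  obtain ⟨q, hq, -⟩ := Fiber.exists_fiber_map ξ r p ⟨fiberPt p, hpO⟩ rfl
  refine (Supp.germ_eq_zero_iff _ V p s).2 ⟨W, r, q, hq, injective_ι (jo Z) G W ?_⟩
  refine Eq.trans ?_ (map_zero _).symm
  refine (app_map (kernel.ι (EtDual.unitApp (jo Z) G)) r s).trans ?_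
  refine sup_ι (jo Z) s W r ?_
  rintro _ ⟨w, rfl⟩
  rw [range_jo]
  exact (w : ↥(O : Scheme.{u})).2

theorem subsingleton_diag {d : ℕ} (hP : P.{u} d) (hd : topologicalKrullDim ↥X ≤ ((d + 1 : ℕ) : WithBot ℕ∞))
    (G : EtCoh.Ab X) (hG : Div G) (Z : Idx X) (i : ℕ) (hi : d < i) :
    Subsingleton (EtCoh.H X ((diag G).obj Z) i) := by
  let I := Scheme.IdealSheafData.vanishingIdeal (X := X) Z.1
  let ι := I.subschemeι
  haveI : IsLocallyNoetherian I.subscheme := LocallyOfFiniteType.isLocallyNoetherian ι
  haveI : CompactSpace ↥I.subscheme := QuasiCompact.compactSpace_of_compactSpace ι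
  haveI : IsNoetherian I.subscheme := {}
  have hrange : Set.range ι.base = (Z.1 : Set X) := by
    rw [Scheme.IdealSheafData.range_subschemeι, Scheme.IdealSheafData.coe_support_vanishingIdeal]
  have hdim := dim_le_of_no_maximal hd ι.base ι.isClosedEmbedding fun η hη => hrange ▸ Z.2 η hη
  haveI : IsIso ((EtCoh.pullPushAdj ι).unit.app ((diag G).obj Z)) := by
    refine ClosedEssImage.isIso_unit (A := AddCommGrpCat.{u + 1}) ι _ fun x hx => ?_
    refine ⟨_, inferInstance, inferInstance, geomPoint X x, geomPoint_apply x _, ?_, ⟨0⟩⟩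
    refine AddCommGrpCat.isZero_iff_subsingleton.1
      ((notMem_supp_iff _ x).1 (notMem_supp_diag G Z x (hrange ▸ hx)) _ inferInstance inferInstance _ ?_)
    exact (Supp.range_eq _).trans (congrArg (fun y => ({y} : Set X)) (geomPoint_apply x _))
  haveI : PreservesColimitsOfSize.{0, 0} (EtCoh.pull (jo Z)) := (EtCoh.pullPushAdj (jo Z)).leftAdjoint_preservesColimits
  haveI : PreservesColimitsOfSize.{0, 0} (EtCoh.pull ι) := (EtCoh.pullPushAdj ι).leftAdjoint_preservesColimits
  haveI : (EtCoh.pull (jo Z)).Additive := Functor.additive_of_preserves_binary_products _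
  haveI : PreservesLimitsOfSize.{0, 0} (EtCoh.push (jo Z)) := (EtCoh.pullPushAdj (jo Z)).rightAdjoint_preservesLimits
  haveI : (EtCoh.push (jo Z)).Additive := Functor.additive_of_preserves_binary_products _
  haveI : (EtCoh.pull ι).Additive := Functor.additive_of_preserves_binary_products _
  have hD : Div ((diag G).obj Z) := Div.kernel _ hG ((hG.map (EtCoh.pull (jo Z))).map (EtCoh.push (jo Z)))
  haveI := hP _ hdim _ (hD.map (EtCoh.pull ι)) i hi
  obtain ⟨e⟩ := FieldCoh.PushInt.nonempty_Hequiv ι ((EtCoh.pull ι).obj ((diag G).obj Z)) i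
  have hs : Subsingleton (EtCoh.H X ((EtCoh.push ι).obj ((EtCoh.pull ι).obj ((diag G).obj Z))) i) :=
    e.toEquiv.subsingleton
  refine subsingleton_of_forall_eq 0 fun y => ?_
  let u := (EtCoh.pullPushAdj ι).unit.app ((diag G).obj Z)
  have : (y.comp (Ext.mk₀ u) (add_zero i)).comp (Ext.mk₀ (inv u)) (add_zero i) = y := by
    rw [Ext.comp_assoc_of_second_deg_zero, Ext.mk₀_comp_mk₀, IsIso.hom_inv_id, Ext.comp_mk₀_id]
  rw [← this, show y.comp (Ext.mk₀ u) (add_zero i) = 0 from @Subsingleton.elim _ hs _ _]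
  exact Ext.zero_comp _ _ _ _ _

/-- Sheaves without stalks at the maximal points. -/
theorem subsingleton_of_no_maximal {d : ℕ} (hP : ∀ e, e < d → P.{u} e)
    (hd : topologicalKrullDim ↥X ≤ ((d : ℕ) : WithBot ℕ∞))
    (G : EtCoh.Ab X) (hG : Div G)
    (hmax : ∀ η : X, closure {η} ∈ irreducibleComponents ↥X → η ∉ EtPBC.supp G) (i : ℕ) (hi : d ≤ i) :
    Subsingleton (EtCoh.H X G i) := by
  haveI := isIso_desc G hmax
  let φ : colimit (diag G) ≅ G := asIso (desc G)
  refine subsingleton_of_forall_eq 0 fun y => ?_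
  have hy : (y.comp (Ext.mk₀ φ.inv) (add_zero i)).comp (Ext.mk₀ φ.hom) (add_zero i) = y := by
    rw [Ext.comp_assoc_of_second_deg_zero, Ext.mk₀_comp_mk₀, φ.inv_hom_id, Ext.comp_mk₀_id]
  obtain ⟨Z, x, hx⟩ := (good global (diag G) i).1 (y.comp (Ext.mk₀ φ.inv) (add_zero i))
  suffices hx0 : x = 0 by
    rw [hx0, map_zero] at hx
    rw [← hy, ← hx]
    exact Ext.zero_comp _ _ _ _ _
  rcases d with _ | d
  · -- in dimension `0` every point is maximal
    have hz : IsZero ((diag G).obj Z) := by
      refine (IsZero.iff_id_eq_zero _).2 (Sheaf.hom_ext ?_)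
      ext V s
      induction V using Opposite.rec with
      | op V =>
      refine Stalk.sections_ext_of_germ _ _ _ (Stalk.enoughPts_pt fun x p => ?_)
      have hxmax : closure {x} ∈ irreducibleComponents ↥X := by
        obtain ⟨η, hη, hsp⟩ := Lib.SchTopo.Closure.exists_maximal_specializes X x
        by_cases hne : η = x
        · exact hne ▸ hη
        · exfalso
          have := DivBasic.dim_pos hne hsp
          exact absurd (this.trans hd) (by decide)
      have hnot : x ∉ EtPBC.supp ((diag G).obj Z) := fun h => hmax x hxmax (supp_subset_of_mono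
        (kernel.ι (EtDual.unitApp (jo Z) G)) h)
      have h0 := (notMem_supp_iff _ x).1 hnot _ inferInstance inferInstance (geomPoint X x)
        ((Supp.range_eq _).trans (congrArg (fun y => ({y} : Set X)) (geomPoint_apply x _)))
      exact ((Supp.stalk_isZero_iff _).1 h0 V p _).trans ((Supp.stalk_isZero_iff _).1 h0 V p _).symm
    have := (IsZero.iff_id_eq_zero _).1 hz
    rw [← x.comp_mk₀_id, this, Ext.mk₀_zero, Ext.comp_zero]
  · exact @Subsingleton.elim _ (subsingleton_diag (hP d d.lt_succ_self) hd G hG Z i hi) x 0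

omit [AlgebraicGeometry.IsNoetherian X] in
/-- Uniquely divisible sheaves have no cohomology above the dimension. -/
theorem vanish (d : ℕ) : P.{u} d := by
  induction d using Nat.strong_induction_on with
  | _ d ih =>
  intro X _ hd F hF
  let M : Set X := {η | closure {η} ∈ irreducibleComponents ↥X}
  have hfin : M.Finite := Set.Finite.of_finite_image
    (TopologicalSpace.NoetherianSpace.finite_irreducibleComponents.subset
      (by rintro _ ⟨η, hη, rfl⟩; exact hη))
    (fun a _ b _ h => ((specializes_iff_closure_subset.2 h.ge).antisymm (specializes_iff_closure_subset.2 h.le)).eq)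
  suffices key : ∀ s : Set X, s.Finite → ∀ G : EtCoh.Ab X, Div G →
      (∀ η ∈ M, η ∈ EtPBC.supp G → η ∈ s) → ∀ i, d < i → Subsingleton (EtCoh.H X G i) from
    key M hfin F hF fun η hη _ => hη
  intro s hs
  induction s, hs using Set.Finite.induction_on with
  | empty =>
    exact fun G hG hmax i hi => subsingleton_of_no_maximal ih hd G hG
      (fun η hη h => hmax η hη h) i hi.le
  | @insert η s _ _ IH =>
    intro G hG hmax i hi
    by_cases hηM : η ∈ M
    swap
    · exact IH G hG (fun μ hμ h => ((hmax μ hμ h).resolve_left fun e => hηM (e ▸ hμ))) i hi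
    let g : FieldCoh.S (X.residueField η) ⟶ X := X.fromSpecResidueField η
    haveI : IsPreimmersion g := inferInstanceAs (IsPreimmersion (X.fromSpecResidueField η))
    haveI : QuasiCompact g :=
      ⟨fun _ _ _ => Set.Subsingleton.isCompact fun a _ b _ => g.isEmbedding.injective
        ((Scheme.fromSpecResidueField_apply η a).trans (Scheme.fromSpecResidueField_apply η b).symm)⟩
    haveI : QuasiSeparated g := inferInstance
    have hrg : ∀ y ∈ closure (Set.range g.base), η ⤳ y := fun y hy => by
      rw [show Set.range g.base = {η} from X.range_fromSpecResidueField η] at hy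
      exact specializes_iff_mem_closure.2 hy
    haveI : PreservesColimitsOfSize.{0, 0} (EtCoh.pull g) := (EtCoh.pullPushAdj g).leftAdjoint_preservesColimits
    haveI : PreservesLimitsOfSize.{0, 0} (EtCoh.push g) := (EtCoh.pullPushAdj g).rightAdjoint_preservesLimits
    haveI : (EtCoh.pull g).Additive := Functor.additive_of_preserves_binary_products _
    haveI : (EtCoh.push g).Additive := Functor.additive_of_preserves_binary_products _
    let u₀ : G ⟶ (EtCoh.push g).obj ((EtCoh.pull g).obj G) := (EtCoh.pullPushAdj g).unit.app G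
    have hP' : Div ((EtCoh.push g).obj ((EtCoh.pull g).obj G)) := (hG.map (EtCoh.pull g)).map (EtCoh.push g)
    obtain ⟨hker, hcoker⟩ := notMem_supp_unit g G (x := η) (κ := 𝟙 _) (by
      rw [Spec.map_id]; exact Category.id_comp _)
    obtain ⟨k, rfl⟩ : ∃ k, i = k + 1 := ⟨i - 1, by omega⟩
    have hK := IH (kernel u₀) (Div.kernel u₀ hG hP') (fun μ hμ h =>
      (hmax μ hμ (supp_subset_of_mono (kernel.ι u₀) h)).resolve_left fun e => hker (by subst e; exact h)) (k + 1) hi
    have hC : Subsingleton (EtCoh.H X (cokernel u₀) k) :=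
      subsingleton_of_no_maximal ih hd _ (Div.cokernel u₀ hG hP') (fun μ hμ h => by
        have h1 : μ ∈ closure (Set.range g.base) := by
          by_contra hne
          exact notMem_supp_push g _ μ hne (supp_subset_of_epi (cokernel.π u₀) h)
        obtain rfl : η = μ := Lib.SchTopo.Closure.eq_of_specializes_of_closure_mem hμ (hrg μ h1)
        exact hcoker h) k (by omega)
    have hPv : ∀ y : EtCoh.H X ((EtCoh.push g).obj ((EtCoh.pull g).obj G)) (k + 1), y = 0 := fun y =>
      eq_zero_of_torsion hP' y (PointCohTorsion.isAddTorsion_H_push g k _ y)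
    let S₁ := ShortComplex.mk (kernel.ι u₀) (Abelian.factorThruImage u₀) (by
      rw [← cancel_mono (Abelian.image.ι u₀), Category.assoc, Abelian.image.fac, kernel.condition, zero_comp])
    have h₁ : S₁.ShortExact :=
      { exact := by
          refine ShortComplex.exact_of_f_is_kernel _ (KernelFork.IsLimit.ofι' _ _ fun {W} w hw => ?_)
          refine ⟨kernel.lift u₀ w ?_, kernel.lift_ι _ _ _⟩
          rw [← Abelian.image.fac u₀, ← Category.assoc]
          exact (congrArg (· ≫ Abelian.image.ι u₀) hw).trans zero_comp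
        mono_f := inferInstanceAs (Mono (kernel.ι u₀))
        epi_g := inferInstanceAs (Epi (Abelian.factorThruImage u₀)) }
    let S₂ := ShortComplex.mk (Abelian.image.ι u₀) (cokernel.π u₀) (kernel.condition _)
    have h₂ : S₂.ShortExact :=
      { exact := ShortComplex.exact_of_f_is_kernel _ (kernelIsKernel _)
        mono_f := inferInstanceAs (Mono (kernel.ι _))
        epi_g := inferInstanceAs (Epi (cokernel.π u₀)) }
    refine subsingleton_of_forall_eq 0 fun z => ?_
    have hI : z.comp (Ext.mk₀ S₁.g) (add_zero (k + 1)) = 0 := by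
      obtain ⟨w, hw⟩ := Ext.covariant_sequence_exact₁ _ h₂ (z.comp (Ext.mk₀ S₁.g) (add_zero (k + 1))) (hPv _)
        (n₀ := k) rfl
      rw [← hw, show w = 0 from @Subsingleton.elim _ hC _ _]
      exact Ext.zero_comp _ _ _ _ _
    obtain ⟨v, rfl⟩ := Ext.covariant_sequence_exact₂ _ h₁ z hI
    rw [show v = 0 from @Subsingleton.elim _ hK _ _]
    exact Ext.zero_comp _ _ _ _ _

end Groth.Agent.H88.EtMod.DivVanish
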