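import Groth.Agent.H88.EtMod.Compact
import Groth.Agent.H88.EtMod.PBCExtZero
import Groth.Agent.H88.EtMod.ARTransport
import Mathlib.GroupTheory.FiniteAbelian.Basic
import Mathlib.CategoryTheory.Comma.StructuredArrow.Basic
import Mathlib.Algebra.Category.ModuleCat.Biproducts

/-!
Torsion abelian sheaves are filtered colimits of constructible sheaves.
-/

set_option autoImplicit false
set_option linter.style.haveILetI false

universe u

open CategoryTheory CategoryTheory.Limits AlgebraicGeometry Opposite ZeroObject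

noncomputable section

namespace Groth.Agent.H88.EtMod.TorsionColimit

open Groth.Agent.Lib.EtSite Groth.Agent.Lib.EtSite.Basic AbBridge

variable {X : Scheme.{u}}

/-- Constructible with finite stalks. -/
def Cst (G : EtModW.Mod Zl.{u} X) : Prop :=
  EtModW.IsConstructible Zl.{u} G ∧ FinStalks G

theorem cst_iff (G : EtModW.Mod Zl.{u} X) : EtPBC.IsConstructible ((fg X).obj G) ↔ Cst G :=
  AbBridge.isConstructible_iff G

theorem cst_of_iso {G H : EtModW.Mod Zl.{u} X} (e : G ≅ H) (h : Cst G) : Cst H :=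
  (cst_iff H).1 (PBCOps.isConstructible_of_iso ((fg X).mapIso e) ((cst_iff G).2 h))

theorem cst_cokernel {A G : EtModW.Mod Zl.{u} X} (a : A ⟶ G) (hA : EtModW.IsConstructible Zl.{u} A)
    (hG : Cst G) : Cst (cokernel a) :=
  ⟨Constr.isConstructible_cokernel hA hG.1 a, fun Ω _ _ ξ =>
    haveI := hG.2 Ω ξ
    Finite.of_surjective _ (LCOps.stalk_map_surjective ξ (cokernel.π a))⟩

theorem cst_biprod {G H : EtModW.Mod Zl.{u} X} (hG : Cst G) (hH : Cst H) : Cst (G ⊞ H) := by
  refine ⟨Constr.isConstructible_ext (S := ShortComplex.mk biprod.inl biprod.snd biprod.inl_snd)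
    (ShortComplex.Splitting.ofHasBinaryBiproduct G H).shortExact hG.1 hH.1, fun Ω _ _ ξ => ?_⟩
  haveI := hG.2 Ω ξ
  haveI := hH.2 Ω ξ
  haveI : PreservesBinaryBiproduct G H (Scheme.pointSmallEtale ξ).sheafFiber :=
    preservesBinaryBiproduct_of_preservesBinaryCoproduct _
  exact Finite.of_equiv _ ((Scheme.pointSmallEtale ξ).sheafFiber.mapBiprod G H ≪≫
    ModuleCat.biprodIsoProd _ _).toLinearEquiv.symm.toEquiv

theorem cst_zero [CompactSpace X] [QuasiSeparatedSpace X] : Cst (0 : EtModW.Mod Zl.{u} X) :=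
  ⟨Constructible.isConstructible_of_isZero (isZero_zero _), fun _ _ _ ξ => by
    haveI := ModuleCat.subsingleton_of_isZero
      ((Scheme.pointSmallEtale ξ).sheafFiber.map_isZero (isZero_zero (EtModW.Mod Zl.{u} X)))
    infer_instance⟩

/-- The sum of free sheaves of a finite family. -/
abbrev sumObj {m : ℕ} (W : Fin m → X.Etale) : EtModW.Mod Zl.{u} X := ∐ fun k => Free.free Zl.{u} (W k)

/-- Presentations by finite sums of free sheaves. -/
def Pres (X : Scheme.{u}) : Type (u + 1) :=
  Σ (m : ℕ) (W : Fin m → X.Etale) (m' : ℕ) (W' : Fin m' → X.Etale), (sumObj W ⟶ sumObj W')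

/-- The sheaf of a presentation. -/
def Pres.val (p : Pres X) : EtModW.Mod Zl.{u} X := cokernel p.2.2.2.2

/-- A small type of representatives of constructible sheaves. -/
def Rep (X : Scheme.{u}) : Type (u + 1) := {p : Pres X // Cst p.val}

/-- The sheaf of a representative. -/
def Rep.val (p : Rep X) : EtModW.Mod Zl.{u} X := p.1.val

variable [CompactSpace X] [QuasiSeparatedSpace X]

theorem exists_rep {G : EtModW.Mod Zl.{u} X} (h : Cst G) : ∃ p : Rep X, Nonempty (p.val ≅ G) := by
  obtain ⟨L₁, L₀, φ, ⟨m, W, -, ⟨e₁⟩⟩, ⟨m', W', -, ⟨e₀⟩⟩, ⟨e⟩⟩ := Compact.exists_presentation h.1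
  let ψ : sumObj W ⟶ sumObj W' := e₁.inv ≫ φ ≫ e₀.hom
  have ε : cokernel ψ ≅ G := cokernel.mapIso ψ φ e₁.symm e₀.symm (by simp [ψ]) ≪≫ e
  exact ⟨⟨⟨m, W, m', W', ψ⟩, cst_of_iso ε.symm h⟩, ⟨ε⟩⟩

variable (F : EtModW.Mod Zl.{u} X)

/-- The index category. -/
abbrev Idx := CostructuredArrow (inducedFunctor (Rep.val (X := X))) F

/-- An object of the index category isomorphic to a given one. -/
theorem exists_idx {G : EtModW.Mod Zl.{u} X} (h : Cst G) (a : G ⟶ F) :
    ∃ (i : Idx F) (e : i.left.val ≅ G), i.hom = e.hom ≫ a := by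
  obtain ⟨p, ⟨e⟩⟩ := exists_rep h
  exact ⟨CostructuredArrow.mk (S := inducedFunctor (Rep.val (X := X))) (Y := @id (InducedCategory (EtModW.Mod Zl.{u} X) (Rep.val (X := X))) p) (e.hom ≫ a), e, rfl⟩

instance isFiltered_idx : IsFiltered (Idx F) := by
  haveI : IsFilteredOrEmpty (Idx F) := by
    refine ⟨fun A B => ?_, fun {A B} f g => ?_⟩
    · obtain ⟨i, e, hi⟩ := exists_idx F (cst_biprod A.left.2 B.left.2) (biprod.desc A.hom B.hom)
      refine ⟨i, CostructuredArrow.homMk (InducedCategory.homMk (biprod.inl ≫ e.inv)) ?_,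
        CostructuredArrow.homMk (InducedCategory.homMk (biprod.inr ≫ e.inv)) ?_, trivial⟩
      · change (biprod.inl ≫ e.inv) ≫ i.hom = A.hom
        rw [hi, Category.assoc, e.inv_hom_id_assoc, biprod.inl_desc]
      · change (biprod.inr ≫ e.inv) ≫ i.hom = B.hom
        rw [hi, Category.assoc, e.inv_hom_id_assoc, biprod.inr_desc]
    · let a : A.left.val ⟶ B.left.val := f.left.hom
      let b : A.left.val ⟶ B.left.val := g.left.hom
      have hw : (a - b) ≫ B.hom = 0 := by
        rw [Preadditive.sub_comp, sub_eq_zero]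
        exact (CostructuredArrow.w f).trans (CostructuredArrow.w g).symm
      obtain ⟨i, e, hi⟩ := exists_idx F (cst_cokernel (a - b) A.left.2.1 B.left.2) (cokernel.desc _ B.hom hw)
      refine ⟨i, CostructuredArrow.homMk (InducedCategory.homMk (cokernel.π (a - b) ≫ e.inv)) ?_, ?_⟩
      · change (cokernel.π (a - b) ≫ e.inv) ≫ i.hom = B.hom
        rw [hi, Category.assoc, e.inv_hom_id_assoc, cokernel.π_desc]
      · refine CostructuredArrow.ext _ _ (InducedCategory.hom_ext ?_)
        change a ≫ cokernel.π (a - b) ≫ e.inv = b ≫ cokernel.π (a - b) ≫ e.inv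
        rw [← sub_eq_zero, ← Preadditive.sub_comp, cokernel.condition_assoc, zero_comp]
  haveI : Nonempty (Idx F) := ⟨(exists_idx F cst_zero 0).choose⟩
  exact {}

/-- The tautological diagram. -/
def diag : Idx F ⥤ EtModW.Mod Zl.{u} X :=
  CostructuredArrow.proj _ F ⋙ inducedFunctor (Rep.val (X := X))

/-- The tautological cocone. -/
def cocone : Cocone (diag F) where
  pt := F
  ι :=
    { app := fun i => i.hom
      naturality := fun i j f => (CostructuredArrow.w f).trans (Category.comp_id _).symm }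

omit [CompactSpace X] [QuasiSeparatedSpace X] in
theorem ext_affine {G : EtModW.Mod Zl.{u} X} {V : X.Etale} (s t : G.obj.obj (op V))
    (h : ∀ (W : X.Etale) (g : W ⟶ V), IsAffine W.left → G.obj.map g.op s = G.obj.map g.op t) : s = t := by
  refine Stalk.sections_ext_of_germ G (U := V) _ _ (Stalk.enoughPts_pt fun x p => ?_)
  obtain ⟨W, g, w, hw, hW⟩ := FiniteGen.exists_affine_nhd V (fiberPt p)
  obtain ⟨r, hr, -⟩ := Fiber.exists_fiber_map (geomPoint X x) g p w hw
  rw [← hr]
  exact (GrothendieckTopology.Point.toPresheafFiber_w_apply _ g r G.obj _).symm.trans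
    ((congrArg _ (h W g hW)).trans (GrothendieckTopology.Point.toPresheafFiber_w_apply _ g r G.obj _))

omit [CompactSpace X] [QuasiSeparatedSpace X] in
theorem eq_zero_of_affine {G H : EtModW.Mod Zl.{u} X} (a : G ⟶ H)
    (h : ∀ (W : X.Etale), IsAffine W.left → ∀ t, a.hom.app (op W) t = 0) : a = 0 := by
  apply Sheaf.hom_ext
  ext V s
  induction V using Opposite.rec with
  | op V =>
  change a.hom.app (op V) s = (0 : H.obj.obj (op V))
  refine ext_affine _ _ fun W g hW => ?_
  rw [← NatTrans.naturality_apply a.hom g.op s, map_zero]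
  exact h W hW _

omit [CompactSpace X] [QuasiSeparatedSpace X] in
theorem exists_nsmul (hF : EtCoh.IsTorsion ((fg X).obj F)) (W : X.Etale) [CompactSpace W.left]
    (t : F.obj.obj (op W)) : ∃ n : ℕ, n ≠ 0 ∧ n • t = 0 := by
  let S : Sieve W :=
    { arrows := fun V g => IsOfFinAddOrder (F.obj.map g.op t)
      downward_closed := fun {V V'} g hg k => by
        rw [op_comp, Functor.map_comp, ConcreteCategory.comp_apply]
        exact (F.obj.map k.op).hom.toAddMonoidHom.isOfFinAddOrder hg }
  have hS : S ∈ X.smallEtaleTopology W := (mem_topology_iff S).2 fun u => by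
    obtain ⟨V, g, hv, hg⟩ := hF W t u
    exact ⟨V, g, hg, hv⟩
  obtain ⟨m, V, g, -, hg, hcov⟩ := FilteredSections.exists_affine_cover S hS
  refine ⟨∏ k, addOrderOf (F.obj.map (g k).op t),
    Finset.prod_ne_zero_iff.2 fun k _ => (IsOfFinAddOrder.addOrderOf_pos (hg k)).ne', ?_⟩
  refine (FilteredSections.existsUnique_glue F g hcov (fun k => 0) fun i j => by simp).unique
    (fun k => ?_) fun k => map_zero _
  rw [map_nsmul]
  obtain ⟨c, hc⟩ := Finset.dvd_prod_of_mem (fun k => addOrderOf (F.obj.map (g k).op t)) (Finset.mem_univ k)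
  rw [hc, mul_comm, mul_nsmul', addOrderOf_nsmul_eq_zero, nsmul_zero]

theorem cst_cokernel_nsmul (W : X.Etale) [IsAffine W.left] (n : ℕ) (hn : n ≠ 0) :
    Cst (cokernel (n • 𝟙 (Free.free Zl.{u} W))) := by
  have h := FreeResolve.isConstructible_free_of_affine (Λ := Zl.{u}) W inferInstance
  refine ⟨Constr.isConstructible_cokernel h h _, fun Ω _ _ ξ => ?_⟩
  have hc := Constr.isConstructible_cokernel h h (n • 𝟙 (Free.free Zl.{u} W))
  haveI := ARTransport.finite_stalk ξ hc
  let A := (Scheme.pointSmallEtale ξ).sheafFiber.obj (cokernel (n • 𝟙 (Free.free Zl.{u} W)))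
  haveI : Module.Finite ℤ Zl.{u} := Module.Finite.equiv (ULift.moduleEquiv (R := ℤ) (M := ℤ)).symm
  haveI : Module.Finite ℤ A := Module.Finite.trans Zl.{u} _
  haveI : AddGroup.FG A := Module.Finite.iff_addGroup_fg.1 inferInstance
  refine AddCommGroup.finite_of_fg_isAddTorsion A fun z => isOfFinAddOrder_iff_nsmul_eq_zero.2
    ⟨n, Nat.pos_of_ne_zero hn, ?_⟩
  have h0 : n • 𝟙 (cokernel (n • 𝟙 (Free.free Zl.{u} W))) = 0 := by
    refine (cancel_epi (cokernel.π _)).1 ?_
    rw [Preadditive.comp_nsmul, Category.comp_id, comp_zero]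
    exact (((Preadditive.nsmul_comp _ _ _).trans (congrArg (n • ·) (Category.id_comp _))).symm).trans
      (cokernel.condition (n • 𝟙 (Free.free Zl.{u} W)))
  haveI : PreservesBinaryBiproducts (Scheme.pointSmallEtale ξ).sheafFiber (C := EtModW.Mod Zl.{u} X) :=
    preservesBinaryBiproducts_of_preservesBinaryCoproducts _
  haveI : (Scheme.pointSmallEtale ξ).sheafFiber.Additive (C := EtModW.Mod Zl.{u} X) :=
    Functor.additive_of_preservesBinaryBiproducts _
  have := congrArg ((Scheme.pointSmallEtale ξ).sheafFiber.map) h0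
  rw [Functor.map_nsmul, Functor.map_zero, CategoryTheory.Functor.map_id] at this
  exact congrArg (fun f => f.hom z) this

/-- The tautological cocone is a colimit. -/
theorem nonempty_isColimit (hF : EtCoh.IsTorsion ((fg X).obj F)) : Nonempty (IsColimit (cocone F)) := by
  let φ := colimit.desc (diag F) (cocone F)
  have hmono : Mono φ := by
    refine Preadditive.mono_of_cancel_zero _ fun {Z} a ha => eq_zero_of_affine a fun W hW t => ?_
    haveI := hW
    haveI := FilteredSections.preservesColimits (I := Idx F) (A := ModuleCat.{u + 1} Zl.{u}) W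
    obtain ⟨i, y, hy⟩ := Concrete.isColimit_exists_rep _ (isColimitOfPreserves
      (sheafToPresheaf X.smallEtaleTopology (ModuleCat.{u + 1} Zl.{u}) ⋙ (evaluation _ _).obj (op W))
      (colimit.isColimit (diag F))) (a.hom.app (op W) t)
    change (colimit.ι (diag F) i).hom.app (op W) y = a.hom.app (op W) t at hy
    have hy0 : i.hom.hom.app (op W) y = 0 := by
      rw [show i.hom = colimit.ι (diag F) i ≫ φ from (colimit.ι_desc (cocone F) _).symm]
      change φ.hom.app (op W) ((colimit.ι (diag F) i).hom.app (op W) y) = 0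
      rw [hy]
      exact congrArg (fun f => f.hom.app (op W) t) ha
    let θ : Free.free Zl.{u} W ⟶ i.left.val := Free.ev.symm y
    have hθ : θ ≫ i.hom = 0 := Free.ev.injective (by
      rw [Free.ev_comp, Equiv.apply_symm_apply, Free.ev_zero]
      exact hy0)
    obtain ⟨j, e, hj⟩ := exists_idx F (cst_cokernel θ
      (FreeResolve.isConstructible_free_of_affine W hW) i.left.2) (cokernel.desc θ i.hom hθ)
    let f : i ⟶ j := CostructuredArrow.homMk (InducedCategory.homMk (cokernel.π θ ≫ e.inv)) (by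
      change (cokernel.π θ ≫ e.inv) ≫ j.hom = i.hom
      rw [hj, Category.assoc, e.inv_hom_id_assoc, cokernel.π_desc])
    rw [← hy, ← colimit.w (diag F) f]
    change (colimit.ι (diag F) j).hom.app (op W) ((cokernel.π θ ≫ e.inv).hom.app (op W) y) = 0
    have h0 := congrArg Free.ev (show θ ≫ cokernel.π θ ≫ e.inv = 0 by
      rw [cokernel.condition_assoc, zero_comp])
    rw [Free.ev_comp, Equiv.apply_symm_apply, Free.ev_zero] at h0
    exact (congrArg _ h0).trans (map_zero _)
  have hepi : Epi φ := by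
    refine Preadditive.epi_of_cancel_zero _ fun {Z} a ha => eq_zero_of_affine a fun W hW t => ?_
    haveI := hW
    obtain ⟨n, hn, hnt⟩ := exists_nsmul F hF W t
    let θ : Free.free Zl.{u} W ⟶ F := Free.ev.symm t
    have hθ : (n • 𝟙 (Free.free Zl.{u} W)) ≫ θ = 0 := Free.ev.injective (by
      rw [Preadditive.nsmul_comp, Category.id_comp, Free.ev_zero,
        show n • θ = θ ≫ (n • 𝟙 F) by simp, Free.ev_comp, Equiv.apply_symm_apply]
      have hn' : ∀ m : ℕ, (m • 𝟙 F).hom.app (op W) t = m • t := fun m => by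
        induction m with
        | zero => rw [zero_nsmul, zero_nsmul]; rfl
        | succ m ih => rw [succ_nsmul, succ_nsmul, ← ih]; rfl
      exact (hn' n).trans hnt)
    obtain ⟨j, e, hj⟩ := exists_idx F (cst_cokernel_nsmul W n hn) (cokernel.desc _ θ hθ)
    have hj0 : j.hom ≫ a = 0 := by
      exact (congrArg (· ≫ a) (colimit.ι_desc (cocone F) j).symm).trans
        ((Category.assoc _ _ _).trans ((congrArg _ ha).trans comp_zero))
    have hθa : θ ≫ a = 0 := by
      rw [← cokernel.π_desc _ θ hθ, Category.assoc,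
        show cokernel.desc _ θ hθ = e.inv ≫ j.hom by rw [hj, e.inv_hom_id_assoc], Category.assoc, hj0,
        comp_zero, comp_zero]
    rw [← Free.ev.apply_symm_apply t, ← Free.ev_comp]
    exact (congrArg Free.ev hθa).trans Free.ev_zero
  haveI := hmono
  haveI := hepi
  haveI : IsIso φ := isIso_of_mono_of_epi φ
  haveI : IsIso ((colimit.isColimit (diag F)).desc (cocone F)) := ‹IsIso φ›
  exact ⟨IsColimit.ofPointIso (colimit.isColimit (diag F))⟩

/-- Torsion abelian sheaves are filtered colimits of constructible sheaves. -/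
theorem exists_colimit (F : EtCoh.Ab X) (hF : EtCoh.IsTorsion F) :
    ∃ (J : Type (u + 1)) (_ : SmallCategory J) (_ : IsFiltered J) (D : J ⥤ EtCoh.Ab X)
      (c : Cocone D) (_ : IsColimit c), (∀ j, EtPBC.IsConstructible (D.obj j)) ∧ Nonempty (c.pt ≅ F) := by
  obtain ⟨F', ⟨e⟩⟩ := exists_lift F
  have hF' : EtCoh.IsTorsion ((fg X).obj F') := fun U s x => by
    obtain ⟨V, g, hv, hg⟩ := hF U (e.hom.hom.app (op U) s) x
    refine ⟨V, g, hv, ?_⟩
    have := (e.inv.hom.app (op V)).hom.isOfFinAddOrder hg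
    rwa [← NatTrans.naturality_apply e.hom.hom g.op s, ← ConcreteCategory.comp_apply, ← NatTrans.comp_app,
      ← ObjectProperty.FullSubcategory.comp_hom, e.hom_inv_id] at this
  obtain ⟨hc⟩ := nonempty_isColimit F' hF'
  exact ⟨Idx F', inferInstance, inferInstance, diag F' ⋙ fg X, (fg X).mapCocone (cocone F'),
    isColimitOfPreserves _ hc, fun j => (cst_iff _).2 j.left.2, ⟨e⟩⟩

end Groth.Agent.H88.EtMod.TorsionColimit
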