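import Groth.Agent.H88.EtMod.ExtColim
import Groth.Agent.H88.EtMod.TorsionColimit
import Groth.Agent.Lib.EtSite.Push
import Mathlib.CategoryTheory.Abelian.Injective.Ext
import Mathlib.CategoryTheory.Abelian.RightDerived

/-!
Cohomology of torsion sheaves is torsion.
-/

set_option autoImplicit false
set_option linter.style.haveILetI false

universe u

open CategoryTheory CategoryTheory.Limits AlgebraicGeometry Opposite Abelian

noncomputable section

namespace Groth.Agent.H88.EtMod.TorsionCoh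

open AbBridge TorsionColimit ExtColim

variable {X : Scheme.{u}}

/-- The subsheaves killed by factorials. -/
def chain (F : EtModW.Mod Zl.{u} X) : AsSmall.{u} ℕ ⥤ EtModW.Mod Zl.{u} X :=
  AsSmall.down ⋙
    { obj := fun k => kernel (k.factorial • 𝟙 F)
      map := fun {k l} h => kernel.lift _ (kernel.ι _) (by
        obtain ⟨c, hc⟩ := Nat.factorial_dvd_factorial (leOfHom h)
        rw [hc, mul_comm, mul_nsmul', Preadditive.comp_nsmul, kernel.condition, nsmul_zero])
      map_id := fun k => equalizer.hom_ext (by simp)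
      map_comp := fun f g => equalizer.hom_ext (by simp) }

/-- The cocone with point the sheaf. -/
def chainCocone (F : EtModW.Mod Zl.{u} X) : Cocone (chain F) where
  pt := F
  ι :=
    { app := fun k => kernel.ι _
      naturality := fun k l h => by simp [chain] }

theorem kernel_killed (n : ℕ) (F : EtModW.Mod Zl.{u} X) : n • 𝟙 (kernel (n • 𝟙 F)) = 0 := by
  refine (cancel_mono (kernel.ι (n • 𝟙 F))).1 ?_
  rw [zero_comp, Preadditive.nsmul_comp, Category.id_comp]
  have := kernel.condition (n • 𝟙 F)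
  rwa [Preadditive.comp_nsmul, Category.comp_id] at this

theorem chain_killed (F : EtModW.Mod Zl.{u} X) (k : AsSmall.{u} ℕ) :
    (AsSmall.down.obj k).factorial • 𝟙 ((chain F).obj k) = 0 :=
  kernel_killed _ F

variable [CompactSpace X] [QuasiSeparatedSpace X]

omit [CompactSpace X] [QuasiSeparatedSpace X] in
theorem nonempty_isColimit (F : EtModW.Mod Zl.{u} X) (hF : EtCoh.IsTorsion ((fg X).obj F)) :
    Nonempty (IsColimit (chainCocone F)) := by
  haveI : IsFiltered (AsSmall.{u} ℕ) := IsFiltered.of_equivalence AsSmall.equiv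
  haveI : AB5OfSize.{u, u} (EtModW.Mod Zl.{u} X) := AB5OfSize_shrink.{u, u, u + 1, u + 1} _
  haveI : HasExactColimitsOfShape (AsSmall.{u} ℕ) (EtModW.Mod Zl.{u} X) := AB5OfSize.ofShape _
  let φ := colimit.desc (chain F) (chainCocone F)
  have hmono : Mono φ := by
    haveI : ∀ k, Mono ((chainCocone F).ι.app k) := fun k =>
      inferInstanceAs (Mono (kernel.ι ((AsSmall.down.obj k).factorial • 𝟙 F)))
    haveI : Mono ((chainCocone F).ι) := NatTrans.mono_of_mono_app _
    haveI : IsConnected (AsSmall.{u} ℕ) := IsFiltered.isConnected _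
    exact colim.map_mono' (chainCocone F).ι (colimit.isColimit _)
      (isColimitConstCocone (AsSmall.{u} ℕ) F) φ (fun k =>
        (colimit.ι_desc (chainCocone F) k).trans (Category.comp_id _).symm)
  have hepi : Epi φ := by
    refine Preadditive.epi_of_cancel_zero _ fun {Z} a ha => eq_zero_of_affine a fun W hW t => ?_
    haveI := hW
    obtain ⟨n, hn, hnt⟩ := exists_nsmul F hF W t
    obtain ⟨c, hc⟩ := Nat.dvd_factorial (Nat.pos_of_ne_zero hn) le_rfl
    have hθ : Free.ev.symm t ≫ (n.factorial • 𝟙 F) = 0 := Free.ev.injective (by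
      have hn' : ∀ m : ℕ, (m • 𝟙 F).hom.app (op W) t = m • t := fun m => by
        induction m with
        | zero => rw [zero_nsmul, zero_nsmul]; rfl
        | succ m ih => rw [succ_nsmul, succ_nsmul, ← ih]; rfl
      rw [Free.ev_comp, Equiv.apply_symm_apply, Free.ev_zero]
      refine (hn' _).trans ?_
      rw [hc, mul_comm, mul_nsmul']
      exact (congrArg (c • ·) hnt).trans (nsmul_zero _))
    let k : AsSmall.{u} ℕ := AsSmall.up.obj n
    have h0 : Free.ev.symm t ≫ a = 0 := by
      have hk : kernel.ι (n.factorial • 𝟙 F) ≫ a = 0 :=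
        (congrArg (· ≫ a) (colimit.ι_desc (chainCocone F) k).symm).trans
          ((Category.assoc _ _ _).trans ((congrArg _ ha).trans comp_zero))
      exact ((congrArg (· ≫ a) (kernel.lift_ι _ _ hθ).symm).trans (Category.assoc _ _ _)).trans
        ((congrArg _ hk).trans comp_zero)
    rw [← Free.ev.apply_symm_apply t, ← Free.ev_comp]
    exact (congrArg Free.ev h0).trans Free.ev_zero
  haveI := hmono
  haveI := hepi
  haveI : IsIso φ := isIso_of_mono_of_epi φ
  haveI : IsIso ((colimit.isColimit (chain F)).desc (chainCocone F)) := ‹IsIso φ›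
  exact ⟨IsColimit.ofPointIso (colimit.isColimit (chain F))⟩

variable {U : X.Etale} [CompactSpace U.left] [QuasiSeparatedSpace U.left] (S : Sect U)

omit [CompactSpace X] [QuasiSeparatedSpace X] in
theorem isOfFinAddOrder_ext (F : EtCoh.Ab X) (hF : EtCoh.IsTorsion F) (n : ℕ) (x : Ext S.Z F n) :
    IsOfFinAddOrder x := by
  haveI : IsFiltered (AsSmall.{u} ℕ) := IsFiltered.of_equivalence AsSmall.equiv
  obtain ⟨F', ⟨e⟩⟩ := exists_lift F
  have hF' : EtCoh.IsTorsion ((fg X).obj F') := fun V s x => by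
    obtain ⟨W, g, hv, hg⟩ := hF V (e.hom.hom.app (op V) s) x
    refine ⟨W, g, hv, ?_⟩
    have := (e.inv.hom.app (op W)).hom.isOfFinAddOrder hg
    rwa [← NatTrans.naturality_apply e.hom.hom g.op s, ← ConcreteCategory.comp_apply, ← NatTrans.comp_app,
      ← ObjectProperty.FullSubcategory.comp_hom, e.hom_inv_id] at this
  obtain ⟨hc⟩ := nonempty_isColimit F' hF'
  let D := chain F' ⋙ fg X
  let ε : colimit D ≅ F :=
    (colimit.isColimit D).coconePointUniqueUpToIso (isColimitOfPreserves (fg X) hc) ≪≫ e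
  obtain ⟨k, y, hy⟩ := (good S D n).1 (map S ε.inv n x)
  have hx : x = map S ε.hom n (map S ε.inv n x) := by
    rw [← map_comp S, ε.inv_hom_id]
    exact x.comp_mk₀_id.symm
  rw [hx, ← hy]
  refine AddMonoidHom.isOfFinAddOrder _ (AddMonoidHom.isOfFinAddOrder _ ?_)
  refine isOfFinAddOrder_iff_nsmul_eq_zero.2
    ⟨(AsSmall.down.obj k).factorial, Nat.factorial_pos _, ?_⟩
  let φ : (D.obj k ⟶ D.obj k) →+ Ext S.Z (D.obj k) n :=
    AddMonoidHom.mk' (fun g => y.comp (Ext.mk₀ g) (add_zero n)) fun g g' => by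
      rw [Ext.mk₀_add, Ext.comp_add]
  have h0 : (AsSmall.down.obj k).factorial • 𝟙 (D.obj k) = 0 := by
    haveI : PreservesBinaryBiproducts (fg X) := preservesBinaryBiproducts_of_preservesBinaryCoproducts _
    haveI : (fg X).Additive := Functor.additive_of_preservesBinaryBiproducts _
    have := congrArg (fg X).map (chain_killed F' k)
    rwa [Functor.map_nsmul, Functor.map_zero, CategoryTheory.Functor.map_id] at this
  have := map_nsmul φ (AsSmall.down.obj k).factorial (𝟙 _)
  rw [h0, map_zero] at this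
  exact (congrArg ((AsSmall.down.obj k).factorial • ·) y.comp_mk₀_id.symm).trans this.symm

theorem isAddTorsion_H (F : EtCoh.Ab X) (hF : EtCoh.IsTorsion F) (n : ℕ) :
    IsAddTorsion (EtCoh.H X F n) :=
  fun x => isOfFinAddOrder_ext global F hF n x

section Rpush

open Groth.Agent.Lib.EtSite.Basic

variable {Y : Scheme.{u}} (f : X ⟶ Y) [QuasiCompact f] [QuasiSeparated f]

omit [CompactSpace X] [QuasiSeparatedSpace X] in
theorem qcqs_bc (V : Y.Etale) [IsAffine V.left] :
    CompactSpace ((EtCoh.bc f).obj V).left ∧ QuasiSeparatedSpace ((EtCoh.bc f).obj V).left := by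
  let v : V.left ⟶ Y := V.hom
  have h₁ := MorphismProperty.pullback_fst (P := @QuasiCompact) v f ‹QuasiCompact f›
  have h₂ := MorphismProperty.pullback_fst (P := @QuasiSeparated) v f ‹QuasiSeparated f›
  haveI := h₁
  haveI := h₂
  haveI : CompactSpace ↥(pullback v f) := QuasiCompact.compactSpace_of_compactSpace (pullback.fst v f)
  haveI : QuasiSeparatedSpace ↥(pullback v f) :=
    quasiSeparatedSpace_of_quasiSeparated (pullback.fst v f)
  exact ⟨‹CompactSpace ↥(pullback v f)›, ‹QuasiSeparatedSpace ↥(pullback v f)›⟩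

omit [CompactSpace X] [QuasiSeparatedSpace X] [QuasiCompact f] [QuasiSeparated f] in
theorem isTorsion_of_iso {F G : EtCoh.Ab X} (e : F ≅ G) (h : EtCoh.IsTorsion F) : EtCoh.IsTorsion G := by
  intro U s x
  obtain ⟨V, g, hv, hg⟩ := h U (e.inv.hom.app (op U) s) x
  refine ⟨V, g, hv, ?_⟩
  have := (e.hom.hom.app (op V)).hom.isOfFinAddOrder hg
  rwa [← NatTrans.naturality_apply e.inv.hom g.op s, ← ConcreteCategory.comp_apply, ← NatTrans.comp_app,
    ← ObjectProperty.FullSubcategory.comp_hom, e.inv_hom_id] at this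

omit [CompactSpace X] [QuasiSeparatedSpace X] [QuasiCompact f] [QuasiSeparated f] in
/-- A higher direct image is torsion as soon as the local cohomology classes are torsion. -/
theorem isTorsion_rpush_succ (F : EtCoh.Ab X) (n : ℕ)
    (hx : ∀ W : Y.Etale, IsAffine W.left →
      ∀ e : Ext (local' ((EtCoh.bc f).obj W)).Z F (n + 1), IsOfFinAddOrder e) :
    EtCoh.IsTorsion ((EtCoh.Rpush f (n + 1)).obj F) := by
  haveI : PreservesLimitsOfSize.{0, 0} (EtCoh.push f) :=
    (EtCoh.pullPushAdj f).rightAdjoint_preservesLimits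
  let I := InjectiveResolution.of F
  let K := ((EtCoh.push f).mapHomologicalComplex (ComplexShape.up ℕ)).obj I.cocomplex
  refine isTorsion_of_iso (F := K.homology (n + 1)) (I.isoRightDerivedObj (EtCoh.push f) (n + 1)).symm ?_
  intro V s x
  haveI : Epi (K.homologyπ (n + 1)) := inferInstance
  haveI : Presheaf.IsLocallySurjective Y.smallEtaleTopology (K.homologyπ (n + 1)).hom :=
    (Sheaf.isLocallySurjective_iff_epi' _ (K.homologyπ (n + 1))).2 inferInstance
  obtain ⟨V₁, g₁, ⟨c₁, hc₁⟩, v₁, hv₁⟩ := (mem_topology_iff _).1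
    (Presheaf.imageSieve_mem Y.smallEtaleTopology (K.homologyπ (n + 1)).hom (U := op V) s) x
  obtain ⟨W, g₂, w, hw, hW⟩ := FiniteGen.exists_affine_nhd V₁ v₁
  haveI := hW
  let g := g₂ ≫ g₁
  let c := (K.cycles (n + 1)).obj.map g₂.op c₁
  have hc : (K.homologyπ (n + 1)).hom.app (op W) c = (K.homology (n + 1)).obj.map g.op s := by
    refine (NatTrans.naturality_apply (K.homologyπ (n + 1)).hom g₂.op c₁).trans ?_
    rw [hc₁]
    change _ = (K.homology (n + 1)).obj.map (g₂ ≫ g₁).op s
    rw [op_comp, Functor.map_comp, ConcreteCategory.comp_apply]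
  refine ⟨W, g, ⟨w, (congrArg g₁.left.base hw).trans hv₁⟩, ?_⟩
  let S := local' ((EtCoh.bc f).obj W)
  let U := (EtCoh.bc f).obj W
  obtain ⟨φ, hφ⟩ : ∃ φ : (fg X).obj (Free.free Zl.{u} U) ⟶ I.cocomplex.X (n + 1),
      freeHom U _ φ = (K.iCycles (n + 1)).hom.app (op W) c :=
    (freeHom_bijective U _).2 _
  have hcomp : ∀ {A B : EtCoh.Ab X} (a : (fg X).obj (Free.free Zl.{u} U) ⟶ A) (b : A ⟶ B),
      freeHom U _ (a ≫ b) = b.hom.app (op U) (freeHom U _ a) := fun a b => rfl
  have hd : φ ≫ I.cocomplex.d (n + 1) (n + 2) = 0 := (freeHom_bijective U _).1 (by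
    rw [hcomp, hφ, map_zero]
    refine (ConcreteCategory.congr_hom (congrArg (fun a => a.hom.app (op W)) (K.iCycles_d (n + 1) (n + 2))) c).trans ?_
    rfl)
  obtain ⟨m, hm, hm0⟩ := isOfFinAddOrder_iff_nsmul_eq_zero.1
    (hx W inferInstance (I.extMk φ (n + 2) rfl hd))
  have hd' : ∀ j : ℕ, (j • φ) ≫ I.cocomplex.d (n + 1) (n + 2) = 0 := fun j => by
    rw [Preadditive.nsmul_comp, hd, nsmul_zero]
  have hmul : ∀ j : ℕ, j • I.extMk φ (n + 2) rfl hd = I.extMk (j • φ) (n + 2) rfl (hd' j) := fun j => by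
    induction j with
    | zero => simp only [zero_nsmul, InjectiveResolution.extMk_zero]
    | succ j ih => rw [succ_nsmul, ih, I.add_extMk]; simp only [succ_nsmul]
  replace hm0 := (hmul m).symm.trans hm0
  obtain ⟨ψ, hψ⟩ := (I.extMk_eq_zero_iff _ _ _ _ n rfl).1 hm0
  have hb : (K.toCycles n (n + 1)).hom.app (op W) (freeHom U _ ψ) = m • c := by
    haveI : Mono (K.iCycles (n + 1)) := inferInstance
    let G := sheafToPresheaf Y.smallEtaleTopology AddCommGrpCat.{u + 1} ⋙ (evaluation _ _).obj (op W)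
    haveI : PreservesFiniteLimits G := comp_preservesFiniteLimits _ _
    have hinj := (AddCommGrpCat.mono_iff_injective (G.map (K.iCycles (n + 1)))).1 inferInstance
    apply hinj
    change (K.iCycles (n + 1)).hom.app (op W) _ = (K.iCycles (n + 1)).hom.app (op W) _
    rw [map_nsmul, ← hφ]
    refine (ConcreteCategory.congr_hom (congrArg (fun a => a.hom.app (op W))
      (K.toCycles_i n (n + 1))) (freeHom U _ ψ)).trans ?_
    change (I.cocomplex.d n (n + 1)).hom.app (op U) (freeHom U _ ψ) = m • freeHom U _ φ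
    rw [← hcomp, hψ, map_nsmul]
  refine isOfFinAddOrder_iff_nsmul_eq_zero.2 ⟨m, hm, ?_⟩
  rw [← hc, ← map_nsmul, ← hb]
  exact (ConcreteCategory.congr_hom (congrArg (fun a => a.hom.app (op W))
    (K.toCycles_comp_homologyπ n (n + 1))) (freeHom U _ ψ)).trans rfl

omit [CompactSpace X] [QuasiSeparatedSpace X] in
theorem isTorsion_rpush [EtCoh.BCCont f] (F : EtCoh.Ab X) (hF : EtCoh.IsTorsion F) (n : ℕ) :
    EtCoh.IsTorsion ((EtCoh.Rpush f n).obj F) := by
  haveI : PreservesLimitsOfSize.{0, 0} (EtCoh.push f) :=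
    (EtCoh.pullPushAdj f).rightAdjoint_preservesLimits
  cases n with
  | zero =>
    refine isTorsion_of_iso ((EtCoh.push f).rightDerivedZeroIsoSelf.app F).symm ?_
    intro V s x
    obtain ⟨W, g, w, hw, hW⟩ := FiniteGen.exists_affine_nhd V x
    haveI := hW
    obtain ⟨_, _⟩ := qcqs_bc f W
    refine ⟨W, g, ⟨w, hw⟩, ?_⟩
    let S := local' ((EtCoh.bc f).obj W)
    let t : F.obj.obj (op ((EtCoh.bc f).obj W)) := ((EtCoh.push f).obj F).obj.map g.op s
    have := AddMonoidHom.isOfFinAddOrder (S.e F).toAddMonoidHom (isOfFinAddOrder_ext S F hF 0 ((S.e F).symm t))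
    change IsOfFinAddOrder (S.e F ((S.e F).symm t)) at this
    rwa [AddEquiv.apply_symm_apply] at this
  | succ n =>
    refine isTorsion_rpush_succ f F n fun W hW e => ?_
    haveI := hW
    obtain ⟨_, _⟩ := qcqs_bc f W
    exact isOfFinAddOrder_ext _ F hF (n + 1) e

end Rpush

end Groth.Agent.H88.EtMod.TorsionCoh
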