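import Groth.Agent.H88.EtMod.CohColimL
import Groth.Agent.H88.EtMod.TorsionColimit
import Groth.Agent.H88.EtMod.TorsionCoh
import Groth.Agent.H88.EtMod.Descend
import Groth.Agent.H88.EtMod.AbCompare
import Groth.Agent.H88.EtMod.PBCPresent

/-!
Higher cohomology is effaceable among constructible sheaves.
-/

set_option autoImplicit false
set_option linter.style.haveILetI false

universe u

open CategoryTheory CategoryTheory.Limits AlgebraicGeometry Opposite Abelian

noncomputable section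

namespace Groth.Agent.H88.EtMod.Efface

open AbBridge CohColim Groth.Agent.Lib.SiteCoh.CechAcyclic

variable {X : Scheme.{u}}

instance additive_fg (X : Scheme.{u}) : (fg X).Additive := by
  haveI : PreservesBinaryBiproducts (fg X) := preservesBinaryBiproducts_of_preservesBinaryCoproducts _
  exact Functor.additive_of_preservesBinaryBiproducts _

theorem nsmul_app (F : EtModW.Mod Zl.{u} X) (W : X.Etale) (t : F.obj.obj (op W)) (n : ℕ) :
    (n • 𝟙 F : F ⟶ F).hom.app (op W) t = n • t := by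
  induction n with
  | zero => rw [zero_nsmul, zero_nsmul]; rfl
  | succ m ih => rw [succ_nsmul, succ_nsmul, ← ih]; rfl

/-- A constructible sheaf on a quasi-compact quasi-separated scheme is killed by an integer. -/
theorem exists_killed [CompactSpace X] [QuasiSeparatedSpace X] (F : EtCoh.Ab X)
    (hF : EtPBC.IsConstructible F) : ∃ n : ℕ, n ≠ 0 ∧ n • 𝟙 F = 0 := by
  obtain ⟨F', ⟨e⟩⟩ := exists_lift F
  obtain ⟨hc, hfin⟩ := (TorsionColimit.cst_iff F').1 (PBCOps.isConstructible_of_iso e.symm hF)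
  obtain ⟨L₁, L₀, φ, -, ⟨m, W, hW, ⟨e₀⟩⟩, ⟨ε⟩⟩ := Compact.exists_presentation hc
  let π : (∐ fun k => Free.free Zl.{u} (W k)) ⟶ F' := e₀.inv ≫ cokernel.π φ ≫ ε.hom
  haveI : Epi π := inferInstance
  have key : ∀ k, ∃ n : ℕ, n ≠ 0 ∧ n • Free.ev (Sigma.ι (fun k => Free.free Zl.{u} (W k)) k ≫ π) = 0 :=
    fun k => by
      haveI := hW k
      exact TorsionColimit.exists_nsmul F' (Descend.isTorsion_of_finStalks hfin) (W k) _
  choose n hn h0 using key
  refine ⟨∏ k, n k, Finset.prod_ne_zero_iff.2 fun k _ => hn k, ?_⟩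
  have h : (∏ k, n k) • 𝟙 F' = 0 := by
    refine (cancel_epi π).1 (Sigma.hom_ext _ _ fun k => Free.ev.injective ?_)
    rw [← Category.assoc, Free.ev_comp, comp_zero, comp_zero, Free.ev_zero, nsmul_app]
    obtain ⟨c, hc⟩ := Finset.dvd_prod_of_mem n (Finset.mem_univ k)
    rw [hc, mul_comm, mul_nsmul', h0, nsmul_zero]
  have h' := congrArg (fg X).map h
  rw [Functor.map_nsmul, Functor.map_zero, CategoryTheory.Functor.map_id] at h'
  refine (cancel_epi e.hom).1 ?_
  rw [Preadditive.comp_nsmul, Category.comp_id, comp_zero,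
    ← Category.id_comp e.hom, ← Preadditive.nsmul_comp, h', zero_comp]

theorem mono_nsmul_of_tf {P : EtCoh.Ab X} (hP : AbCompare.TF P) {n : ℕ} (hn : n ≠ 0) : Mono (n • 𝟙 P) := by
  refine Preadditive.mono_of_cancel_zero _ fun {Z} f hf => ?_
  rw [Preadditive.comp_nsmul, Category.comp_id] at hf
  apply Sheaf.hom_ext
  ext U x
  refine hP U (n : ℤ) (by exact_mod_cast hn) ?_
  simp only [natCast_zsmul]
  have hsmul : ∀ m : ℕ, (m • f).hom.app U x = m • f.hom.app U x := fun m => by
    induction m with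
    | zero => rw [zero_nsmul, zero_nsmul]; rfl
    | succ m ih => rw [succ_nsmul, succ_nsmul, ← ih]; rfl
  rw [← hsmul, hf]
  exact (nsmul_zero n).symm

/-- Injective sheaves are divisible. -/
theorem exists_div {P J : EtCoh.Ab X} [Injective J] (hP : AbCompare.TF P) {n : ℕ} (hn : n ≠ 0)
    (p : P ⟶ J) : ∃ q : P ⟶ J, n • q = p := by
  haveI := mono_nsmul_of_tf hP hn
  refine ⟨Injective.factorThru p (n • 𝟙 P), ?_⟩
  conv_rhs => rw [← Injective.comp_factorThru p (n • 𝟙 P), Preadditive.nsmul_comp, Category.id_comp]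

theorem epi_nsmul (J : EtCoh.Ab X) [Injective J] {n : ℕ} (hn : n ≠ 0) : Epi (n • 𝟙 J) := by
  refine Preadditive.epi_of_cancel_zero _ fun {Z} a ha => ?_
  obtain ⟨P, p, hp, hP⟩ := AbCompare.exists_tf_epi J
  obtain ⟨q, rfl⟩ := exists_div hP hn p
  refine (cancel_epi (n • q)).1 ?_
  rw [Preadditive.nsmul_comp] at ha ⊢
  rw [Category.id_comp] at ha
  rw [← Preadditive.comp_nsmul, ha, comp_zero, comp_zero]

/-- The higher cohomology of the kernel of multiplication by `n` on an injective sheaf vanishes. -/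
theorem H_kernel_nsmul (J : EtCoh.Ab X) [Injective J] {n : ℕ} (hn : n ≠ 0) (q : ℕ)
    (x : Sheaf.H (kernel (n • 𝟙 J)) (q + 1)) : x = 0 := by
  haveI := epi_nsmul J hn
  have hS : (ShortComplex.mk (kernel.ι (n • 𝟙 J)) (n • 𝟙 J) (kernel.condition _)).ShortExact :=
    { exact := ShortComplex.exact_of_f_is_kernel _ (kernelIsKernel _) }
  obtain ⟨y, rfl⟩ := connHom_surjective hS _ q (fun z => Ext.eq_zero_of_injective z) x
  rcases q with _ | q
  · rw [connHom_eq_zero_iff]
    obtain ⟨f, rfl⟩ := (Ext.mk₀_bijective _ _).2 y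
    obtain ⟨g, hg⟩ := exists_div AbCompare.tf_int hn f
    refine ⟨Ext.mk₀ g, ?_⟩
    refine (Ext.mk₀_comp_mk₀ _ _).trans ?_
    rw [Preadditive.comp_nsmul, Category.comp_id, hg]
  · rw [Ext.eq_zero_of_injective y, map_zero]

/-- Classes of positive degree of a constructible sheaf are effaced by a constructible sheaf. -/
theorem exists_efface [CompactSpace X] [QuasiSeparatedSpace X] (F : EtCoh.Ab X)
    (hF : EtPBC.IsConstructible F) (q : ℕ) (hq : 0 < q) (α : EtCoh.H X F q) :
    ∃ (G : EtCoh.Ab X) (u : F ⟶ G), EtPBC.IsConstructible G ∧ Mono u ∧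
      (EtCoh.HF X q).map u α = 0 := by
  obtain ⟨q, rfl⟩ := Nat.exists_eq_succ_of_ne_zero hq.ne'
  obtain ⟨n, hn, hF0⟩ := exists_killed F hF
  let J := Injective.under F
  let K := kernel (n • 𝟙 J)
  let v : F ⟶ K := kernel.lift _ (Injective.ι F) (by
    rw [Preadditive.comp_nsmul, Category.comp_id, ← Category.id_comp (Injective.ι F),
      ← Preadditive.nsmul_comp, hF0, zero_comp])
  haveI : Mono v := mono_of_mono_fac (kernel.lift_ι _ _ _)
  have hK0 : n • 𝟙 K = 0 := by
    refine (cancel_mono (kernel.ι _)).1 ?_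
    rw [Preadditive.nsmul_comp, Category.id_comp, zero_comp]
    refine Eq.trans ?_ (kernel.condition (n • 𝟙 J))
    rw [Preadditive.comp_nsmul, Category.comp_id]
  obtain ⟨K', ⟨eK⟩⟩ := exists_lift K
  obtain ⟨F', ⟨eF⟩⟩ := exists_lift F
  have hcF := (TorsionColimit.cst_iff F').1 (PBCOps.isConstructible_of_iso eF.symm hF)
  have hKt : EtCoh.IsTorsion ((fg X).obj K') := TorsionCoh.isTorsion_of_iso eK.symm fun U s x =>
    ⟨U, 𝟙 U, ⟨x, rfl⟩, isOfFinAddOrder_iff_nsmul_eq_zero.2 ⟨n, Nat.pos_of_ne_zero hn,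
      (map_nsmul _ n s).symm.trans ((congrArg _ ((PBCPresent.killedBy_iff n K).2 hK0 U s)).trans (map_zero _))⟩⟩
  obtain ⟨hc⟩ := TorsionColimit.nonempty_isColimit K' hKt
  let a : F' ⟶ K' := (fg X).preimage (eF.hom ≫ v ≫ eK.inv)
  obtain ⟨i, e, hi⟩ := TorsionColimit.exists_idx K' hcF a
  let D := TorsionColimit.diag K' ⋙ fg X
  let E : colimit D ≅ K :=
    (colimit.isColimit D).coconePointUniqueUpToIso (isColimitOfPreserves (fg X) hc) ≪≫ eK
  let w : F ⟶ D.obj i := eF.inv ≫ (fg X).map e.inv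
  have hw : w ≫ colimit.ι D i ≫ E.hom = v := by
    have h₁ : colimit.ι D i ≫ E.hom = (fg X).map i.hom ≫ eK.hom := by
      rw [Iso.trans_hom, ← Category.assoc]
      exact congrArg (· ≫ eK.hom) (IsColimit.comp_coconePointUniqueUpToIso_hom _ _ i)
    simp only [w, h₁, Category.assoc]
    have h₂ : (fg X).map e.inv ≫ (fg X).map i.hom = eF.hom ≫ v ≫ eK.inv :=
      ((fg X).map_comp _ _).symm.trans ((congrArg (fg X).map ((congrArg (e.inv ≫ ·) hi).trans
        (e.inv_hom_id_assoc a))).trans ((fg X).map_preimage _))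
    erw [reassoc_of% h₂]
    simp
  have hx : Sheaf.H.map (colimit.ι D i) (q + 1) (Sheaf.H.map w (q + 1) α) = 0 := by
    have h0 : Sheaf.H.map v (q + 1) α = 0 := H_kernel_nsmul J hn q _
    rw [← hw, ← Category.assoc, Sheaf.H.map_comp_apply, Sheaf.H.map_comp_apply] at h0
    have := congrArg (Sheaf.H.map E.inv (q + 1)) h0
    rwa [← Sheaf.H.map_comp_apply, E.hom_inv_id, Sheaf.H.map_id_apply, map_zero] at this
  obtain ⟨k, f, hf⟩ := (CohColimL.good D (q + 1)).2 i _ hx
  refine ⟨D.obj k, w ≫ D.map f, (TorsionColimit.cst_iff _).2 k.left.2, ?_, ?_⟩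
  · haveI : Mono ((w ≫ D.map f) ≫ colimit.ι D k ≫ E.hom) := by
      rw [Category.assoc, colimit.w_assoc, hw]
      infer_instance
    exact mono_of_mono _ (colimit.ι D k ≫ E.hom)
  · exact (Sheaf.H.map_comp_apply _ _ _).trans hf

end Groth.Agent.H88.EtMod.Efface
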