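import Groth.Agent.H88.EtMod.CohColim
import Groth.Agent.H88.EtMod.AbBridge
import Groth.Agent.H88.EtMod.Free

/-!
Ext out of an object corepresenting sections over a quasi-compact quasi-separated étale scheme
commutes with filtered colimits.
-/

set_option autoImplicit false
set_option linter.style.haveILetI false

universe u

open CategoryTheory CategoryTheory.Limits AlgebraicGeometry Opposite Abelian

noncomputable section

namespace Groth.Agent.H88.EtMod.ExtColim

open Groth.Agent.Lib.SiteCoh.CechAcyclic CohColim AbBridge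

variable {X : Scheme.{u}}

/-- An object corepresenting sections over `U`. -/
structure Sect (U : X.Etale) where
  /-- The corepresenting object. -/
  Z : EtCoh.Ab X
  /-- The comparison. -/
  e : ∀ F : EtCoh.Ab X, Ext Z F 0 ≃+ F.obj.obj (op U)
  natural : ∀ {F G : EtCoh.Ab X} (φ : F ⟶ G) (x : Ext Z F 0),
    φ.hom.app (op U) (e F x) = e G (x.comp (Ext.mk₀ φ) (add_zero 0))

/-- Global sections. -/
def global : Sect (top X) where
  Z := (constantSheaf X.smallEtaleTopology AddCommGrpCat.{u + 1}).obj (AddCommGrpCat.of (ULift ℤ))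
  e F := Sheaf.H.equiv₀ F isTerminalTop
  natural φ x := Sheaf.H.equiv₀_naturality isTerminalTop φ x

/-- Evaluation at the tautological section. -/
def freeHom (U : X.Etale) (F : EtCoh.Ab X) :
    ((fg X).obj (Free.free Zl.{u} U) ⟶ F) →+ F.obj.obj (op U) :=
  AddMonoidHom.mk' (fun a => a.hom.app (op U) (Free.ev (𝟙 (Free.free Zl.{u} U)))) fun a b => rfl

theorem freeHom_bijective (U : X.Etale) (F : EtCoh.Ab X) : Function.Bijective (freeHom U F) := by
  obtain ⟨F', ⟨e⟩⟩ := exists_lift F
  have key : ∀ θ : Free.free Zl.{u} U ⟶ F', freeHom U F ((fg X).map θ ≫ e.hom) =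
      e.hom.hom.app (op U) (Free.ev θ) := fun θ => by
    change e.hom.hom.app (op U) (θ.hom.app (op U) (Free.ev (𝟙 _))) = _
    rw [← Free.ev_comp, Category.id_comp]
  have hinj : Function.Injective (e.hom.hom.app (op U)) := fun a b h => by
    have := congrArg (e.inv.hom.app (op U)) h
    simpa [← ConcreteCategory.comp_apply, ← NatTrans.comp_app, ← ObjectProperty.FullSubcategory.comp_hom] using this
  constructor
  · intro a b h
    obtain ⟨θ, hθ⟩ := (fg X).map_surjective (a ≫ e.inv)
    obtain ⟨θ', hθ'⟩ := (fg X).map_surjective (b ≫ e.inv)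
    have ha : a = (fg X).map θ ≫ e.hom := by rw [hθ, Category.assoc, e.inv_hom_id, Category.comp_id]
    have hb : b = (fg X).map θ' ≫ e.hom := by rw [hθ', Category.assoc, e.inv_hom_id, Category.comp_id]
    rw [ha, hb, key, key] at h
    rw [ha, hb, Free.ev.injective (hinj h)]
  · intro s
    refine ⟨(fg X).map (Free.ev.symm (e.inv.hom.app (op U) s)) ≫ e.hom, ?_⟩
    rw [key, Equiv.apply_symm_apply, ← ConcreteCategory.comp_apply, ← NatTrans.comp_app,
      ← ObjectProperty.FullSubcategory.comp_hom, e.inv_hom_id]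
    rfl

/-- Sections over `U`. -/
def local' (U : X.Etale) : Sect U where
  Z := (fg X).obj (Free.free Zl.{u} U)
  e F := Ext.addEquiv₀.trans (AddEquiv.ofBijective (freeHom U F) (freeHom_bijective U F))
  natural {F G} φ x := by
    obtain ⟨a, rfl⟩ := (Ext.mk₀_bijective _ _).2 x
    rw [Ext.mk₀_comp_mk₀]
    change φ.hom.app (op U) (freeHom U F (Ext.addEquiv₀ (Ext.mk₀ a))) =
      freeHom U G (Ext.addEquiv₀ (Ext.mk₀ (a ≫ φ)))
    simp only [Ext.addEquiv₀, Ext.homEquiv₀, AddEquiv.coe_mk, Equiv.ofBijective_symm_apply_apply]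
    rfl

variable [CompactSpace X] [QuasiSeparatedSpace X] {U : X.Etale} [CompactSpace U.left]
  [QuasiSeparatedSpace U.left] (S : Sect U)

/-- Functoriality of `Ext(Z, -)`. -/
def map {F G : EtCoh.Ab X} (φ : F ⟶ G) (n : ℕ) : Ext S.Z F n →+ Ext S.Z G n :=
  (Ext.mk₀ φ).postcomp S.Z (add_zero n)

omit [CompactSpace X] [QuasiSeparatedSpace X] [CompactSpace U.left] [QuasiSeparatedSpace U.left] in
theorem map_comp {F G K : EtCoh.Ab X} (φ : F ⟶ G) (ψ : G ⟶ K) (n : ℕ) (x : Ext S.Z F n) :
    map S (φ ≫ ψ) n x = map S ψ n (map S φ n x) := by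
  change x.comp (Ext.mk₀ (φ ≫ ψ)) (add_zero n) = (x.comp (Ext.mk₀ φ) (add_zero n)).comp (Ext.mk₀ ψ) (add_zero n)
  simp

omit [CompactSpace X] [QuasiSeparatedSpace X] in
theorem ext_succ_eq_zero {F : EtCoh.Ab X} (hF : Acy F) (n : ℕ) : ∀ x : Ext S.Z F (n + 1), x = 0 := by
  induction n generalizing F with
  | zero =>
    intro x
    obtain ⟨y, rfl⟩ := connHom_surjective (emb_shortExact F) _ 0 (fun x => Ext.eq_zero_of_injective x) x
    rw [connHom_eq_zero_iff]
    obtain ⟨t, ht⟩ := surjective_app (emb_shortExact F) hF U (S.e _ y)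
    refine ⟨(S.e _).symm t, (S.e _).injective ?_⟩
    refine (S.natural _ _).symm.trans ?_
    rw [AddEquiv.apply_symm_apply]
    exact ht
  | succ n ih =>
    intro x
    obtain ⟨y, rfl⟩ := connHom_surjective (emb_shortExact F) _ (n + 1) (fun x => Ext.eq_zero_of_injective x) x
    rw [ih (acy_right (emb_shortExact F) hF (acy_of_injective _)) y, map_zero]

variable {J : Type u} [SmallCategory J] [IsFiltered J]

/-- Classes over the colimit come from a stage, and classes dying in the colimit die at a stage. -/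
def Good (D : J ⥤ EtCoh.Ab X) (n : ℕ) : Prop :=
  (∀ x : Ext S.Z (colimit D) n, ∃ (j : J) (y : Ext S.Z (D.obj j) n), map S (colimit.ι D j) n y = x) ∧
    ∀ (j : J) (y : Ext S.Z (D.obj j) n), map S (colimit.ι D j) n y = 0 →
      ∃ (k : J) (a : j ⟶ k), map S (D.map a) n y = 0

omit [CompactSpace X] [QuasiSeparatedSpace X] in
theorem good_zero (D : J ⥤ EtCoh.Ab X) : Good S D 0 := by
  haveI : PreservesFilteredColimitsOfSize.{u, u} (forget AddCommGrpCat.{u + 1}) :=
    preservesFilteredColimitsOfSize_of_univLE.{u + 1, u + 1, u, u} _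
  haveI := FilteredSections.preservesColimits (I := J) (A := AddCommGrpCat.{u + 1}) U
  have h := isColimitOfPreserves (sheafToPresheaf X.smallEtaleTopology AddCommGrpCat.{u + 1} ⋙
    (evaluation _ _).obj (op U)) (colimit.isColimit D)
  refine ⟨fun x => ?_, fun j y hy => ?_⟩
  · obtain ⟨j, s, hs⟩ := Concrete.isColimit_exists_rep _ h (S.e _ x)
    refine ⟨j, (S.e _).symm s, (S.e _).injective ?_⟩
    refine (S.natural _ _).symm.trans ?_
    rw [AddEquiv.apply_symm_apply]
    exact hs
  · have hy' : y.comp (Ext.mk₀ (colimit.ι D j)) (add_zero 0) = 0 := hy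
    have h0 : (colimit.ι D j).hom.app (op U) (S.e _ y) = (colimit.ι D j).hom.app (op U) 0 := by
      rw [map_zero, S.natural, hy', map_zero]
    obtain ⟨k, a, b, hab⟩ := (Concrete.isColimit_rep_eq_iff_exists _ h _ _).1 h0
    refine ⟨k, a, (S.e _).injective ?_⟩
    rw [map_zero]
    exact (S.natural _ _).symm.trans (hab.trans (map_zero _))

omit [CompactSpace X] [QuasiSeparatedSpace X] [CompactSpace U.left] [QuasiSeparatedSpace U.left] in
theorem conn_naturality {S₁ S₂ : ShortComplex (EtCoh.Ab X)} (h₁ : S₁.ShortExact) (h₂ : S₂.ShortExact)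
    (τ : S₁ ⟶ S₂) (n : ℕ) (y : Ext S.Z S₁.X₃ n) :
    connHom h₂ _ n (map S τ.τ₃ n y) = map S τ.τ₁ (n + 1) (connHom h₁ _ n y) := by
  change (y.comp (Ext.mk₀ τ.τ₃) (add_zero n)).comp h₂.extClass rfl =
    (y.comp h₁.extClass rfl).comp (Ext.mk₀ τ.τ₁) (add_zero (n + 1))
  rw [Ext.comp_assoc (a₁₂ := n) (a₂₃ := 1) y _ _ (add_zero n) (zero_add 1) (by omega),
    Ext.comp_assoc (a₁₂ := n + 1) (a₂₃ := 1) y _ _ rfl (add_zero 1) (by omega),
    ShortComplex.ShortExact.extClass_naturality h₁ h₂ τ]

omit [CompactSpace X] [QuasiSeparatedSpace X] in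
theorem good (D : J ⥤ EtCoh.Ab X) (n : ℕ) : Good S D n := by
  induction n generalizing D with
  | zero => exact good_zero S D
  | succ n ih =>
    obtain ⟨E, η, hη, hE⟩ := exists_embedding D
    haveI := hη
    let T := ShortComplex.mk η (cokernel.π η) (cokernel.condition η)
    have hT : T.ShortExact :=
      { exact := ShortComplex.exact_of_g_is_cokernel _ (cokernelIsCokernel η) }
    have hj : ∀ j, (T.map ((evaluation J (EtCoh.Ab X)).obj j)).ShortExact := fun j => hT.map_of_exact _
    haveI : AB5OfSize.{u, u} (EtCoh.Ab X) := AB5OfSize_shrink.{u, u, u + 1, u + 1} _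
    haveI : HasExactColimitsOfShape J (EtCoh.Ab X) := AB5OfSize.ofShape J
    haveI : PreservesFiniteLimits (colim : (J ⥤ EtCoh.Ab X) ⥤ EtCoh.Ab X) :=
      HasExactColimitsOfShape.preservesFiniteLimits
    have hinf : (T.map (colim : (J ⥤ EtCoh.Ab X) ⥤ EtCoh.Ab X)).ShortExact := hT.map_of_exact _
    let τ : ∀ j, T.map ((evaluation J (EtCoh.Ab X)).obj j) ⟶ T.map (colim : (J ⥤ EtCoh.Ab X) ⥤ EtCoh.Ab X) :=
      fun j => ShortComplex.homMk (colimit.ι D j) (colimit.ι E j) (colimit.ι (cokernel η) j)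
        (colimit.ι_map η j) (colimit.ι_map (cokernel.π η) j)
    let σ : ∀ {i j : J}, (i ⟶ j) →
        (T.map ((evaluation J (EtCoh.Ab X)).obj i) ⟶ T.map ((evaluation J (EtCoh.Ab X)).obj j)) :=
      fun a => T.mapNatTrans ((evaluation J (EtCoh.Ab X)).map a)
    have hEz : ∀ j (x : Ext S.Z (E.obj j) (n + 1)), x = 0 := fun j x =>
      haveI := hE j
      Ext.eq_zero_of_injective x
    have hEinf : ∀ x : Ext S.Z (colimit E) (n + 1), x = 0 :=
      ext_succ_eq_zero S (acy_colimit E fun j => haveI := hE j; acy_of_injective _) n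
    obtain ⟨hQs, hQi⟩ := ih (cokernel η)
    obtain ⟨hEs, -⟩ := ih E
    refine ⟨fun x => ?_, fun j y hy => ?_⟩
    · obtain ⟨z, rfl⟩ := connHom_surjective hinf _ n hEinf x
      obtain ⟨j, z', rfl⟩ := hQs z
      exact ⟨j, connHom (hj j) _ n z', (conn_naturality S (hj j) hinf (τ j) n z').symm⟩
    · obtain ⟨z, rfl⟩ := connHom_surjective (hj j) _ n (hEz j) y
      have h0 : connHom hinf _ n (map S (τ j).τ₃ n z) = 0 :=
        (conn_naturality S (hj j) hinf (τ j) n z).trans hy
      obtain ⟨t, ht⟩ := (connHom_eq_zero_iff hinf _ n _).1 h0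
      obtain ⟨k, e, rfl⟩ := hEs t
      let a := IsFiltered.leftToMax j k
      let b := IsFiltered.rightToMax j k
      have hw : map S (colimit.ι (cokernel η) _) n (map S ((cokernel η).map a) n z -
          map S ((cokernel.π η).app _) n (map S (E.map b) n e)) = 0 := by
        rw [map_sub, sub_eq_zero, ← map_comp S, ← map_comp S, ← map_comp S, colimit.w,
          NatTrans.naturality_assoc, colimit.w, ← colimit.ι_map, map_comp S]
        exact ht.symm
      obtain ⟨m, c, hc⟩ := hQi _ _ hw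
      rw [map_sub, sub_eq_zero, ← map_comp S, ← Functor.map_comp, ← map_comp S,
        ← NatTrans.naturality, map_comp S] at hc
      refine ⟨m, a ≫ c, ?_⟩
      exact (conn_naturality S (hj j) (hj m) (σ (a ≫ c)) n z).symm.trans ((connHom_eq_zero_iff (hj m) _ n _).2
        ⟨map S (E.map c) n (map S (E.map b) n e), hc.symm⟩)

end Groth.Agent.H88.EtMod.ExtColim
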