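import Groth.Agent.H88.EtMod.PointCohTorsion

/-!
Direct images from a field whose small cohomology vanishes in high degree.
-/

set_option autoImplicit false
set_option linter.style.haveILetI false

universe u

open CategoryTheory CategoryTheory.Limits AlgebraicGeometry Opposite Abelian

noncomputable section

namespace Groth.Agent.H88.EtMod.FieldAcy

open Groth.Agent.H61 FieldCoh ExtColim TorsionCoh PointCohTorsion Groth.Agent.Lib.EtSite AbBridge

section General

variable {X Y : Scheme.{u}} (f : X ⟶ Y)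

/-- A higher direct image vanishes if the local classes vanish. -/
theorem isZero_rpush_succ (F : EtCoh.Ab X) (n : ℕ)
    (hx : ∀ W : Y.Etale, IsAffine W.left →
      ∀ e : Ext (local' ((EtCoh.bc f).obj W)).Z F (n + 1), e = 0) :
    IsZero ((EtCoh.Rpush f (n + 1)).obj F) := by
  haveI : PreservesLimitsOfSize.{0, 0} (EtCoh.push f) :=
    (EtCoh.pullPushAdj f).rightAdjoint_preservesLimits
  let I := InjectiveResolution.of F
  let K := ((EtCoh.push f).mapHomologicalComplex (ComplexShape.up ℕ)).obj I.cocomplex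
  refine IsZero.of_iso (Y := K.homology (n + 1)) ?_ (I.isoRightDerivedObj (EtCoh.push f) (n + 1))
  refine (IsZero.iff_id_eq_zero _).2 (Sheaf.hom_ext ?_)
  ext V s
  induction V using Opposite.rec with
  | op V =>
  change s = (0 : (K.homology (n + 1)).obj.obj (op V))
  refine Lib.EtSite.Stalk.sections_ext _ _ _ fun x => ?_
  haveI : Epi (K.homologyπ (n + 1)) := inferInstance
  haveI : Presheaf.IsLocallySurjective Y.smallEtaleTopology (K.homologyπ (n + 1)).hom :=
    (Sheaf.isLocallySurjective_iff_epi' _ (K.homologyπ (n + 1))).2 inferInstance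
  obtain ⟨V₁, g₁, ⟨c₁, hc₁⟩, v₁, hv₁⟩ := (Basic.mem_topology_iff _).1
    (Presheaf.imageSieve_mem Y.smallEtaleTopology (K.homologyπ (n + 1)).hom (U := op V) s) x
  obtain ⟨W, g₂, w, hw, hW⟩ := FiniteGen.exists_affine_nhd V₁ v₁
  haveI := hW
  let g := g₂ ≫ g₁
  let c := (K.cycles (n + 1)).obj.map g₂.op c₁
  have hc : (K.homologyπ (n + 1)).hom.app (op W) c = (K.homology (n + 1)).obj.map g.op s := by
    refine (NatTrans.naturality_apply (K.homologyπ (n + 1)).hom g₂.op c₁).trans ?_
    rw [hc₁]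
    change _ = (K.homology (n + 1)).obj.map (g₂ ≫ g₁).op s
    rw [op_comp, Functor.map_comp, ConcreteCategory.comp_apply]
  refine ⟨W, g, ?_, w, (congrArg g₁.left.base hw).trans hv₁⟩
  refine Eq.trans ?_ (map_zero _).symm
  let S := local' ((EtCoh.bc f).obj W)
  let U := (EtCoh.bc f).obj W
  obtain ⟨φ, hφ⟩ : ∃ φ : (fg X).obj (Free.free Zl.{u} U) ⟶ I.cocomplex.X (n + 1),
      freeHom U _ φ = (K.iCycles (n + 1)).hom.app (op W) c :=
    (freeHom_bijective U _).2 _
  have hcomp : ∀ {A B : EtCoh.Ab X} (a : (fg X).obj (Free.free Zl.{u} U) ⟶ A) (b : A ⟶ B),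
      freeHom U _ (a ≫ b) = b.hom.app (op U) (freeHom U _ a) := fun a b => rfl
  have hd : φ ≫ I.cocomplex.d (n + 1) (n + 2) = 0 := (freeHom_bijective U _).1 (by
    rw [hcomp, hφ, map_zero]
    refine (ConcreteCategory.congr_hom (congrArg (fun a => a.hom.app (op W)) (K.iCycles_d (n + 1) (n + 2))) c).trans ?_
    rfl)
  obtain ⟨ψ, hψ⟩ := (I.extMk_eq_zero_iff _ _ _ _ n rfl).1 (hx W inferInstance (I.extMk φ (n + 2) rfl hd))
  have hb : (K.toCycles n (n + 1)).hom.app (op W) (freeHom U _ ψ) = c := by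
    haveI : Mono (K.iCycles (n + 1)) := inferInstance
    let G := sheafToPresheaf Y.smallEtaleTopology AddCommGrpCat.{u + 1} ⋙ (evaluation _ _).obj (op W)
    haveI : PreservesFiniteLimits G := comp_preservesFiniteLimits _ _
    have hinj := (AddCommGrpCat.mono_iff_injective (G.map (K.iCycles (n + 1)))).1 inferInstance
    apply hinj
    change (K.iCycles (n + 1)).hom.app (op W) _ = (K.iCycles (n + 1)).hom.app (op W) _
    rw [← hφ]
    refine (ConcreteCategory.congr_hom (congrArg (fun a => a.hom.app (op W))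
      (K.toCycles_i n (n + 1))) (freeHom U _ ψ)).trans ?_
    change (I.cocomplex.d n (n + 1)).hom.app (op U) (freeHom U _ ψ) = freeHom U _ φ
    exact (hcomp _ _).symm.trans (congrArg (freeHom U (I.cocomplex.X (n + 1))) hψ)
  rw [← hc, ← hb]
  exact (ConcreteCategory.congr_hom (congrArg (fun a => a.hom.app (op W))
    (K.toCycles_comp_homologyπ n (n + 1))) (freeHom U _ ψ)).trans rfl

end General

variable {K : Type u} [Field K]

/-- The cohomology of the sheaf vanishes in degree `≥ c` over every quasi-compact étale object. -/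
def Acy (c : ℕ) (F : EtCoh.Ab (S K)) : Prop :=
  ∀ (V : (S K).Etale), CompactSpace V.left → ∀ (T : Sect V) (m : ℕ), c ≤ m → ∀ e : Ext T.Z F m, e = 0

/-- It suffices to look at finite separable extensions. -/
theorem acy_of_fields {c : ℕ} {F : EtCoh.Ab (S K)}
    (h : ∀ (L : Type u) (_ : Field L) (_ : Algebra K L) (_ : Algebra.Etale K L), ∀ m, c ≤ m →
      Subsingleton (EtCoh.H (S L) ((EtCoh.pull (jF K L)).obj F) m)) : Acy c F := by
  intro V hV T m hm e
  classical
  choose L hL hA hE k hk hkv using exists_open_point V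
  obtain ⟨s, hs⟩ := isCompact_univ.elim_finite_subcover (fun v => Set.range (k v).left.base)
    (fun v => (k v).left.isOpenEmbedding.isOpen_range) fun v _ => Set.mem_iUnion.2
      ⟨v, IsLocalRing.closedPoint (L v), hkv v (IsLocalRing.closedPoint (L v))⟩
  have hD : DisjointCover.IsDisjointCover (fun v : ↥s => obj (jF K (L v.1))) (fun v => k v.1) :=
    { isOpenImmersion := fun v => hk v.1
      exists_eq := fun x => by
        obtain ⟨v, hv, y, hy⟩ := Set.mem_iUnion₂.1 (hs (Set.mem_univ x))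
        exact ⟨⟨v, hv⟩, y, hy⟩
      disjoint := fun i j x y h => Subtype.ext ((hkv i.1 x).symm.trans (h.trans (hkv j.1 y))) }
  exact eq_zero_of_disjointCover (fun v : ↥s => jF K (L v.1)) (fun v => k v.1) hD T e
    fun v => h (L v.1) (hL v.1) (hA v.1) (hE v.1) m hm

/-- Cosyzygies lose one degree. -/
theorem Acy.shift {c : ℕ} {F : EtCoh.Ab (S K)} (hc : 1 ≤ c) (h : Acy (c + 1) F) :
    Acy c (Lib.EtH1Gm.Class.seq F).X₃ := by
  intro V hV T m hm e
  have hS := Lib.EtH1Gm.Class.seq_shortExact F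
  obtain ⟨w, rfl⟩ := Ext.covariant_sequence_exact₃ _ hS e (n₁ := m + 1) rfl
    (h V hV T (m + 1) (by omega) _)
  obtain ⟨m, rfl⟩ : ∃ k, m = k + 1 := ⟨m - 1, by omega⟩
  haveI : Injective (Lib.EtH1Gm.Class.seq F).X₂ := inferInstanceAs (Injective (Injective.under F))
  rw [Ext.eq_zero_of_injective w]
  exact Ext.zero_comp _ _ _ _ _

variable {X : Scheme.{u}} (u : S K ⟶ X) [QuasiCompact u] [QuasiSeparated u]

/-- No higher direct images. -/
theorem isZero_rpush {F : EtCoh.Ab (S K)} {c : ℕ} (h : Acy c F) (q : ℕ) (hq : c ≤ q) (hq' : 1 ≤ q) :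
    IsZero ((EtCoh.Rpush u q).obj F) := by
  obtain ⟨n, rfl⟩ : ∃ n, q = n + 1 := ⟨q - 1, by omega⟩
  refine isZero_rpush_succ u F n fun W hW e => ?_
  haveI := hW
  exact h _ (qcqs_bc u W).1 _ _ hq e

/-- The direct image of the resolving sequence of an acyclic sheaf stays exact. -/
theorem epi_push_seq {F : EtCoh.Ab (S K)} (h : Acy 1 F) :
    Epi ((EtCoh.push u).map (Lib.EtH1Gm.Class.seq F).g) := by
  refine (Sheaf.isLocallySurjective_iff_epi' _ _).1 ⟨fun {V} t => (Basic.mem_topology_iff _).2 fun v => ?_⟩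
  obtain ⟨W, g, w, hw, hW⟩ := FiniteGen.exists_affine_nhd V v
  haveI := hW
  refine ⟨W, g, ?_, w, hw⟩
  let Z := local' ((EtCoh.bc u).obj W)
  let c : (Lib.EtH1Gm.Class.seq F).X₃.obj.obj (op ((EtCoh.bc u).obj W)) :=
    ((EtCoh.push u).obj (Lib.EtH1Gm.Class.seq F).X₃).obj.map g.op t
  obtain ⟨r, hr⟩ := Ext.covariant_sequence_exact₃ _ (Lib.EtH1Gm.Class.seq_shortExact F) ((Z.e _).symm c)
    (zero_add 1) (h _ (qcqs_bc u W).1 Z 1 le_rfl _)
  refine ⟨Z.e _ r, (Z.natural _ r).trans ?_⟩
  rw [hr, AddEquiv.apply_symm_apply]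

/-- No cohomology in positive degree for a direct image of an acyclic sheaf. -/
theorem subsingleton_H_push : ∀ (m : ℕ) (F : EtCoh.Ab (S K)), Acy 1 F →
    Subsingleton (EtCoh.H X ((EtCoh.push u).obj F) (m + 1)) := by
  haveI : PreservesLimitsOfSize.{0, 0} (EtCoh.push u) := (EtCoh.pullPushAdj u).rightAdjoint_preservesLimits
  haveI : PreservesFiniteLimits (EtCoh.push u) := ⟨fun J _ _ => inferInstance⟩
  intro m
  induction m with
  | zero =>
    intro F hF
    haveI : Subsingleton (EtCoh.H (S K) F 1) := subsingleton_of_forall_eq 0 fun e =>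
      hF _ inferInstance global 1 le_rfl e
    exact PushH1.subsingleton_H_one_push u F
  | succ m ih =>
    intro F hF
    refine subsingleton_of_forall_eq 0 fun x => ?_
    have hT := Lib.EtH1Gm.Class.seq_shortExact F
    have hp : ((Lib.EtH1Gm.Class.seq F).map (EtCoh.push u)).ShortExact := by
      have := hT.mono_f
      have := epi_push_seq u hF
      exact { exact := hT.exact.map_of_mono_of_preservesKernel (EtCoh.push u) hT.mono_f inferInstance
              mono_f := inferInstanceAs (Mono ((EtCoh.push u).map _))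
              epi_g := inferInstanceAs (Epi ((EtCoh.push u).map _)) }
    haveI : Injective ((Lib.EtH1Gm.Class.seq F).map (EtCoh.push u)).X₂ :=
      (EtCoh.pullPushAdj u).map_injective (Injective.under F) inferInstance
    obtain ⟨y, rfl⟩ := Ext.covariant_sequence_exact₁ _ hp x (Ext.eq_zero_of_injective _) (n₀ := m + 1) rfl
    rw [show y = 0 from @Subsingleton.elim _ (ih _ (Acy.shift le_rfl fun V hV T m hm => hF V hV T m (by omega))) y 0]
    exact Ext.zero_comp _ _ _ _ _

end Groth.Agent.H88.EtMod.FieldAcy
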