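import Groth.Agent.Lib.EtSite.Basic
import Mathlib.CategoryTheory.Sites.Limits
import Mathlib.CategoryTheory.Sites.LocallyBijective
import Mathlib.CategoryTheory.Limits.ConcreteCategory.Basic
import Mathlib.AlgebraicGeometry.Morphisms.QuasiSeparated
import Mathlib.AlgebraicGeometry.Morphisms.UniversallyOpen
import Mathlib.AlgebraicGeometry.Morphisms.Etale

/-!
Sections over quasi-compact quasi-separated objects of the étale site commute with filtered
colimits of sheaves.
-/

set_option autoImplicit false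

universe w' w u v'

open CategoryTheory CategoryTheory.Limits AlgebraicGeometry Opposite

noncomputable section

namespace Groth.Agent.H88.EtMod.FilteredSections

variable {X : Scheme.{u}} {A : Type v'} [Category.{u + 1} A] {FA : A → A → Type*} {CA : A → Type (u + 1)}
  [∀ a b, FunLike (FA a b) (CA a) (CA b)] [ConcreteCategory.{u + 1} A FA]
  {I : Type w} [Category.{w'} I] [IsFiltered I]

/-- The fibre product of two objects over a third in the étale site. -/
def inter {U V W : X.Etale} (a : V ⟶ U) (b : W ⟶ U) : X.Etale :=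
  haveI : Etale U.hom := U.prop
  haveI : Etale W.hom := W.prop
  haveI : Etale V.hom := V.prop
  haveI : Etale b.left := by
    have : Etale (b.left ≫ U.hom) := by rw [MorphismProperty.Over.w b]; infer_instance
    exact Etale.of_comp b.left U.hom
  Scheme.Etale.mk (pullback.fst a.left b.left ≫ V.hom)

def interFst {U V W : X.Etale} (a : V ⟶ U) (b : W ⟶ U) : inter a b ⟶ V :=
  MorphismProperty.Over.homMk (pullback.fst a.left b.left) rfl

def interSnd {U V W : X.Etale} (a : V ⟶ U) (b : W ⟶ U) : inter a b ⟶ W :=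
  MorphismProperty.Over.homMk (pullback.snd a.left b.left) (by
    change pullback.snd a.left b.left ≫ W.hom = pullback.fst a.left b.left ≫ V.hom
    rw [← MorphismProperty.Over.w a, ← MorphismProperty.Over.w b, pullback.condition_assoc])

theorem inter_condition {U V W : X.Etale} (a : V ⟶ U) (b : W ⟶ U) :
    interFst a b ≫ a = interSnd a b ≫ b :=
  MorphismProperty.Over.Hom.ext (pullback.condition)

def interLift {U V W Z : X.Etale} (a : V ⟶ U) (b : W ⟶ U) (c : Z ⟶ V) (d : Z ⟶ W) (h : c ≫ a = d ≫ b) :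
    Z ⟶ inter a b :=
  MorphismProperty.Over.homMk (pullback.lift c.left d.left (congrArg (fun f => f.left) h)) (by
    change pullback.lift c.left d.left _ ≫ pullback.fst a.left b.left ≫ V.hom = Z.hom
    rw [pullback.lift_fst_assoc, MorphismProperty.Over.w c])

theorem exists_affine_cover {U : X.Etale} [CompactSpace U.left] (S : Sieve U)
    (hS : S ∈ X.smallEtaleTopology U) :
    ∃ (n : ℕ) (W : Fin n → X.Etale) (g : ∀ i, W i ⟶ U), (∀ i, IsAffine (W i).left) ∧ (∀ i, S (g i)) ∧
      Sieve.ofArrows W g ∈ X.smallEtaleTopology U := by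
  have key : ∀ u : U.left, ∃ (W : X.Etale) (g : W ⟶ U), IsAffine W.left ∧ S g ∧
      u ∈ Set.range g.left.base := by
    intro u
    obtain ⟨V, f, hf, v, hv⟩ := (Groth.Agent.Lib.EtSite.Basic.mem_topology_iff S).1 hS u
    obtain ⟨_, ⟨(O : V.left.Opens), hO, rfl⟩, hvO, -⟩ :=
      V.left.isBasis_affineOpens.exists_subset_of_mem_open (Set.mem_univ v) isOpen_univ
    haveI : Etale V.hom := V.prop
    refine ⟨Scheme.Etale.mk (O.ι ≫ V.hom), MorphismProperty.Over.homMk O.ι rfl ≫ f, hO,
      S.downward_closed hf _, ⟨v, hvO⟩, hv⟩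
  choose W g hW hg hu using key
  have hopen : ∀ u, IsOpen (Set.range (g u).left.base) := fun u => by
    haveI : Etale U.hom := U.prop
    haveI : Etale (W u).hom := (W u).prop
    haveI : Etale (g u).left := by
      have : Etale ((g u).left ≫ U.hom) := by rw [MorphismProperty.Over.w (g u)]; infer_instance
      exact Etale.of_comp (g u).left U.hom
    exact (g u).left.isOpenMap.isOpen_range
  obtain ⟨s, hs⟩ := isCompact_univ.elim_finite_subcover _ hopen fun u _ => Set.mem_iUnion.2 ⟨u, hu u⟩
  refine ⟨s.card, fun i => W (s.equivFin.symm i).1, fun i => g _, fun i => hW _, fun i => hg _,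
    Groth.Agent.Lib.EtSite.Basic.ofArrows_mem _ _ fun u => ?_⟩
  obtain ⟨t, ht, v, hv⟩ := Set.mem_iUnion₂.1 (hs (Set.mem_univ u))
  refine ⟨s.equivFin ⟨t, ht⟩, ?_⟩
  rw [Equiv.symm_apply_apply]
  exact ⟨v, hv⟩

variable [X.smallEtaleTopology.HasSheafCompose (forget A)]

/-- The sheaf condition for a covering family. -/
theorem existsUnique_glue (F : Sheaf X.smallEtaleTopology A) {U : X.Etale} {ι : Type*} {W : ι → X.Etale}
    (g : ∀ i, W i ⟶ U) (hg : Sieve.ofArrows W g ∈ X.smallEtaleTopology U)
    (x : ∀ i, ToType (F.obj.obj (op (W i))))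
    (hx : ∀ i j, F.obj.map (interFst (g i) (g j)).op (x i) = F.obj.map (interSnd (g i) (g j)).op (x j)) :
    ∃! s : ToType (F.obj.obj (op U)), ∀ i, F.obj.map (g i).op s = x i := by
  have hF := (isSheaf_iff_isSheaf_of_type _ _).1
    ((sheafCompose X.smallEtaleTopology (forget A)).obj F).property
  have h := (Presieve.isSheafFor_iff_generate (R := Presieve.ofArrows W g)).2 (hF _ hg)
  refine (Presieve.isSheafFor_arrows_iff _ _).1 h x ?_
  intro i j Z gi gj hij
  change F.obj.map gi.op (x i) = F.obj.map gj.op (x j)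
  have h₁ : interLift _ _ gi gj hij ≫ interFst (g i) (g j) = gi :=
    MorphismProperty.Over.Hom.ext (pullback.lift_fst _ _ _)
  have h₂ : interLift _ _ gi gj hij ≫ interSnd (g i) (g j) = gj :=
    MorphismProperty.Over.Hom.ext (pullback.lift_snd _ _ _)
  conv_lhs => rw [← h₁]
  conv_rhs => rw [← h₂]
  simp only [op_comp, Functor.map_comp, ConcreteCategory.comp_apply, hx]

section Colim

variable [PreservesColimitsOfShape I (forget A)] (D : I ⥤ Sheaf X.smallEtaleTopology A)
  {P : Cocone (D ⋙ sheafToPresheaf _ _)} (hP : ∀ W, IsColimit (((evaluation _ A).obj W).mapCocone P))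
  {T : Sheaf X.smallEtaleTopology A} (φ : P.pt ⟶ T.obj)

include hP

theorem exists_rep {W : X.Etale} (x : ToType (P.pt.obj (op W))) :
    ∃ (i : I) (y : ToType ((D.obj i).obj.obj (op W))), (P.ι.app i).app (op W) y = x :=
  Concrete.isColimit_exists_rep _ (hP (op W)) x

theorem rep_eq_iff {W : X.Etale} {i j : I} (x : ToType ((D.obj i).obj.obj (op W)))
    (y : ToType ((D.obj j).obj.obj (op W))) :
    (P.ι.app i).app (op W) x = (P.ι.app j).app (op W) y ↔ ∃ (k : I) (a : i ⟶ k) (b : j ⟶ k),
      (D.map a).hom.app (op W) x = (D.map b).hom.app (op W) y :=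
  Concrete.isColimit_rep_eq_iff_exists _ (hP (op W)) x y

omit [X.smallEtaleTopology.HasSheafCompose (forget A)] hP in
theorem ι_map {V W : X.Etale} (g : V ⟶ W) (i : I) (x : ToType ((D.obj i).obj.obj (op W))) :
    P.pt.map g.op ((P.ι.app i).app (op W) x) = (P.ι.app i).app (op V) ((D.obj i).obj.map g.op x) :=
  (NatTrans.naturality_apply (P.ι.app i) g.op x).symm

omit [IsFiltered I] [PreservesColimitsOfShape I (forget A)] hP [X.smallEtaleTopology.HasSheafCompose (forget A)] in
theorem D_map {V W : X.Etale} (g : V ⟶ W) {i k : I} (a : i ⟶ k) (x : ToType ((D.obj i).obj.obj (op W))) :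
    (D.obj k).obj.map g.op ((D.map a).hom.app (op W) x) =
      (D.map a).hom.app (op V) ((D.obj i).obj.map g.op x) :=
  (NatTrans.naturality_apply (D.map a).hom g.op x).symm

theorem injective_app [Presheaf.IsLocallyInjective X.smallEtaleTopology φ] (U : X.Etale)
    [CompactSpace U.left] : Function.Injective (φ.app (op U)) := by
  classical
  intro x y hxy
  obtain ⟨i₀, x₀, rfl⟩ := exists_rep D hP x
  obtain ⟨i₁, y₀, rfl⟩ := exists_rep D hP y
  obtain ⟨n, W, g, -, hg, hcov⟩ := exists_affine_cover _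
    (Presheaf.equalizerSieve_mem X.smallEtaleTopology φ _ _ hxy)
  have hl : ∀ l, ∃ (k : I) (a : i₀ ⟶ k) (b : i₁ ⟶ k),
      (D.map a).hom.app (op (W l)) ((D.obj i₀).obj.map (g l).op x₀) =
        (D.map b).hom.app (op (W l)) ((D.obj i₁).obj.map (g l).op y₀) := fun l => by
    rw [← rep_eq_iff D hP, ← ι_map D, ← ι_map D]
    exact hg l
  choose k a b hab using hl
  obtain ⟨K, α, β, hK⟩ : ∃ (K : I) (α : i₀ ⟶ K) (β : i₁ ⟶ K), ∀ l,
      (D.map α).hom.app (op (W l)) ((D.obj i₀).obj.map (g l).op x₀) =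
        (D.map β).hom.app (op (W l)) ((D.obj i₁).obj.map (g l).op y₀) := by
    obtain ⟨K, hK⟩ := IsFiltered.sup_objs_exists
      (insert i₀ (insert i₁ (Finset.univ.image k)))
    let c : ∀ l, k l ⟶ K := fun l => (hK (by simp)).some
    obtain ⟨K', α, β, hK'⟩ : ∃ (K' : I) (α : i₀ ⟶ K') (β : i₁ ⟶ K'), ∀ l, ∃ d : k l ⟶ K',
        a l ≫ d = α ∧ b l ≫ d = β := by
      let s₀ : Finset (Σ' (X Y : I) (_ : X ∈ insert i₀ (insert i₁ (insert K (Finset.univ.image k))))
          (_ : Y ∈ insert i₀ (insert i₁ (insert K (Finset.univ.image k)))), X ⟶ Y) :=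
        (Finset.univ.image fun l => ⟨i₀, k l, by simp, by simp, a l⟩) ∪
        (Finset.univ.image fun l => ⟨i₁, k l, by simp, by simp, b l⟩)
      obtain ⟨S, T, hT⟩ := IsFiltered.sup_exists _ s₀
      refine ⟨S, T (X := i₀) (by simp), T (X := i₁) (by simp), fun l => ⟨T (X := k l) (by simp), ?_, ?_⟩⟩
      · exact hT _ _ (f := a l) (Finset.mem_union_left _ (Finset.mem_image.2 ⟨l, Finset.mem_univ _, rfl⟩))
      · exact hT _ _ (f := b l) (Finset.mem_union_right _ (Finset.mem_image.2 ⟨l, Finset.mem_univ _, rfl⟩))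
    refine ⟨K', α, β, fun l => ?_⟩
    obtain ⟨d, rfl, rfl⟩ := hK' l
    simp only [Functor.map_comp, ObjectProperty.FullSubcategory.comp_hom, NatTrans.comp_app,
      ConcreteCategory.comp_apply, hab]
  refine (rep_eq_iff D hP _ _).2 ⟨K, α, β, ?_⟩
  refine (existsUnique_glue (D.obj K) g hcov (fun l => (D.obj K).obj.map (g l).op
    ((D.map α).hom.app (op U) x₀)) fun l m => ?_).unique (fun l => rfl) fun l => ?_
  · rw [← ConcreteCategory.comp_apply, ← Functor.map_comp, ← op_comp, inter_condition, op_comp,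
      Functor.map_comp, ConcreteCategory.comp_apply]
  · rw [D_map D, D_map D]
    exact (hK l).symm

theorem surjective_app [Presheaf.IsLocallyInjective X.smallEtaleTopology φ]
    [Presheaf.IsLocallySurjective X.smallEtaleTopology φ] (U : X.Etale)
    [CompactSpace U.left] [QuasiSeparatedSpace U.left] : Function.Surjective (φ.app (op U)) := by
  classical
  intro s
  obtain ⟨n, W, g, hW, hg, hcov⟩ := exists_affine_cover _
    (Presheaf.imageSieve_mem X.smallEtaleTopology φ (U := op U) s)
  choose t ht using hg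
  have hx : ∀ l, ∃ (i : I) (y : ToType ((D.obj i).obj.obj (op (W l)))),
      φ.app _ ((P.ι.app i).app (op (W l)) y) = T.obj.map (g l).op s := fun l => by
    obtain ⟨i, y, hy⟩ := exists_rep D hP (t l)
    exact ⟨i, y, hy ▸ ht l⟩
  choose i y hy using hx
  obtain ⟨K₀, hK₀⟩ := IsFiltered.sup_objs_exists (Finset.univ.image i)
  let y₀ : ∀ l, ToType ((D.obj K₀).obj.obj (op (W l))) := fun l =>
    (D.map (hK₀ (show i l ∈ Finset.univ.image i by simp)).some).hom.app _ (y l)
  have hy₀ : ∀ l, φ.app _ ((P.ι.app K₀).app (op (W l)) (y₀ l)) = T.obj.map (g l).op s := fun l => by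
    rw [← hy l]
    exact congrArg _ ((rep_eq_iff D hP _ _).2 ⟨K₀, 𝟙 _, _, by simp [y₀]; rfl⟩)
  have hov : ∀ p : Fin n × Fin n, ∃ (k : I) (a b : K₀ ⟶ k),
      (D.map a).hom.app _ ((D.obj K₀).obj.map (interFst (g p.1) (g p.2)).op (y₀ p.1)) =
        (D.map b).hom.app _ ((D.obj K₀).obj.map (interSnd (g p.1) (g p.2)).op (y₀ p.2)) := fun p => by
    haveI := hW p.1
    haveI := hW p.2
    haveI : QuasiCompact (g p.2).left := quasiCompact_of_compactSpace _
    have hq := MorphismProperty.pullback_fst (P := @QuasiCompact) (g p.1).left (g p.2).left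
      ‹QuasiCompact (g p.2).left›
    haveI : CompactSpace (inter (g p.1) (g p.2)).left :=
      inferInstanceAs (CompactSpace ↥(pullback (g p.1).left (g p.2).left))
    rw [← rep_eq_iff D hP, ← ι_map D, ← ι_map D]
    refine injective_app D hP φ (inter (g p.1) (g p.2)) ?_
    rw [NatTrans.naturality_apply φ (interFst (g p.1) (g p.2)).op,
      NatTrans.naturality_apply φ (interSnd (g p.1) (g p.2)).op, hy₀, hy₀, ← ConcreteCategory.comp_apply,
      ← Functor.map_comp, ← op_comp, inter_condition, op_comp, Functor.map_comp, ConcreteCategory.comp_apply]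
  choose k a b hab using hov
  obtain ⟨K, α, hK⟩ : ∃ (K : I) (α : K₀ ⟶ K), ∀ p, ∃ d : k p ⟶ K, a p ≫ d = α ∧ b p ≫ d = α := by
    let O : Finset I := insert K₀ (Finset.univ.image k)
    let s₀ : Finset (Σ' (X Y : I) (_ : X ∈ O) (_ : Y ∈ O), X ⟶ Y) :=
      (Finset.univ.image fun p => ⟨K₀, k p, by simp [O], by simp [O], a p⟩) ∪
      (Finset.univ.image fun p => ⟨K₀, k p, by simp [O], by simp [O], b p⟩)
    obtain ⟨S, T, hT⟩ := IsFiltered.sup_exists _ s₀
    exact ⟨S, T (X := K₀) (by simp [O]), fun p => ⟨T (X := k p) (by simp [O]),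
      hT _ _ (f := a p) (Finset.mem_union_left _ (Finset.mem_image.2 ⟨p, Finset.mem_univ _, rfl⟩)),
      hT _ _ (f := b p) (Finset.mem_union_right _ (Finset.mem_image.2 ⟨p, Finset.mem_univ _, rfl⟩))⟩⟩
  obtain ⟨z, hz, -⟩ := existsUnique_glue (D.obj K) g hcov (fun l => (D.map α).hom.app _ (y₀ l))
    fun l m => by
      obtain ⟨d, h₁, h₂⟩ := hK (l, m)
      have e : ∀ (e' : K₀ ⟶ k (l, m)), e' ≫ d = α → ∀ (W : X.Etaleᵒᵖ) z,
          (D.map α).hom.app W z = (D.map d).hom.app W ((D.map e').hom.app W z) := by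
        rintro e' rfl W z
        simp
      refine (D_map D _ α _).trans (Eq.trans ?_ (D_map D _ α _).symm)
      rw [e _ h₁, e _ h₂]
      exact congrArg _ (hab (l, m))
  refine ⟨(P.ι.app K).app (op U) z, ?_⟩
  refine (existsUnique_glue T g hcov (fun l => T.obj.map (g l).op s) fun l m => ?_).unique
    (fun l => ?_) fun l => rfl
  · rw [← ConcreteCategory.comp_apply, ← Functor.map_comp, ← op_comp, inter_condition, op_comp,
      Functor.map_comp, ConcreteCategory.comp_apply]
  · rw [← NatTrans.naturality_apply φ (g l).op, ι_map D, hz l]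
    refine Eq.trans (congrArg _ ?_) (hy₀ l)
    exact (rep_eq_iff D hP _ _).2 ⟨K, 𝟙 _, α, by simp⟩

end Colim

/-- Sections over a quasi-compact quasi-separated object commute with filtered colimits. -/
theorem preservesColimits [HasSheafify X.smallEtaleTopology A] [HasColimitsOfShape I A]
    [PreservesColimitsOfShape I (forget A)] [X.smallEtaleTopology.WEqualsLocallyBijective A]
    [(forget A).ReflectsIsomorphisms] (U : X.Etale) [CompactSpace U.left] [QuasiSeparatedSpace U.left] :
    PreservesColimitsOfShape I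
      (sheafToPresheaf X.smallEtaleTopology A ⋙ (evaluation X.Etaleᵒᵖ A).obj (op U)) := by
  refine ⟨fun {D} => preservesColimit_of_preserves_colimit_cocone
    (Sheaf.isColimitSheafifyCocone _ (colimit.isColimit (D ⋙ sheafToPresheaf _ A))) ?_⟩
  let P := colimit.cocone (D ⋙ sheafToPresheaf X.smallEtaleTopology A)
  have hP : ∀ W, IsColimit (((evaluation _ A).obj W).mapCocone P) := fun W =>
    isColimitOfPreserves _ (colimit.isColimit _)
  let φ := toSheafify X.smallEtaleTopology P.pt
  let T := (presheafToSheaf X.smallEtaleTopology A).obj P.pt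
  have : IsIso (φ.app (op U)) := (ConcreteCategory.isIso_iff_bijective _).2
    ⟨injective_app D hP (T := T) φ U, surjective_app D hP (T := T) φ U⟩
  refine IsColimit.ofIsoColimit (hP (op U)) (Cocone.ext (@asIso _ _ _ _ (φ.app (op U)) this) fun j => ?_)
  exact (congrArg (fun f => f.app (op U)) (Sheaf.sheafifyCocone_ι_app_val P j)).symm

end Groth.Agent.H88.EtMod.FilteredSections
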