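import Groth.Agent.H88.EtMod.Descend
import Groth.Agent.Lib.EtSite.BaseChange
import Groth.Agent.Lib.EtSite.Immersion
import Groth.Agent.Lib.EtSite.Push
import Groth.Agent.Lib.EtJ.PullExact
import Groth.Agent.H54.GeomBound
import Groth.Agent.Lib.Lim.OpenImm

/-!
Direct images of constructible sheaves along finite morphisms of finite presentation.
-/

set_option autoImplicit false
set_option linter.style.haveILetI false

universe u

open CategoryTheory CategoryTheory.Limits AlgebraicGeometry Opposite Topology ZeroObject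

noncomputable section

namespace Groth.Agent.H88.EtMod.FinitePush

open Groth.Agent.Lib.EtSite Groth.Agent.Lib.EtSite.Basic AbBridge

variable {X Y : Scheme.{u}}

/-- Inverse images compose. -/
def pullComp {W : Scheme.{u}} (g : W ⟶ X) (f : X ⟶ Y) :
    EtCoh.pull (g ≫ f) ≅ EtCoh.pull f ⋙ EtCoh.pull g :=
  Adjunction.leftAdjointUniq (EtCoh.pullPushAdj (g ≫ f))
    (((EtCoh.pullPushAdj f).comp (EtCoh.pullPushAdj g)).ofNatIsoRight (EtCoh.pushComp f g))

theorem isZero_stalk_of_not_mem {F : EtCoh.Ab X} {Ω : Type u} [Field Ω] [IsSepClosed Ω]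
    (ξ : Spec (CommRingCat.of Ω) ⟶ X) (h : ξ.base default ∉ EtPBC.supp F) :
    IsZero ((EtCoh.stalk ξ).obj F) := by
  by_contra hn
  refine h ⟨Ω, inferInstance, inferInstance, ξ, ?_, hn⟩
  ext z
  exact ⟨fun ⟨a, ha⟩ => ha ▸ congrArg ξ.base (Subsingleton.elim _ _), fun hz => ⟨default, hz.symm⟩⟩

theorem isZero_of_stalks {F : EtCoh.Ab X} (h : Stalk.EnoughPts X fun Ω _ _ ξ =>
    IsZero ((EtCoh.stalk ξ).obj F)) : IsZero F := by
  haveI : Mono (0 : F ⟶ 0) := Stalk.mono_of_stalks _ fun x => by
    obtain ⟨Ω, hΩ, hΩ', ξ, hξ, hz⟩ := h x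
    exact ⟨Ω, hΩ, hΩ', ξ, hξ, fun a b _ => @Subsingleton.elim _
      (AddCommGrpCat.subsingleton_of_isZero hz) a b⟩
  exact IsZero.of_mono_zero F 0

theorem isConstructible_of_isZero [CompactSpace X] [QuasiSeparatedSpace X] {F : EtCoh.Ab X}
    (h : IsZero F) : EtPBC.IsConstructible F :=
  PBCOps.isConstructible_of_iso ((isZero_zero _).iso h)
    (PBCOps.isConstructible_of_iso ((fg X).map_isZero (isZero_zero _) |>.iso (isZero_zero _))
      ((TorsionColimit.cst_iff _).2 TorsionColimit.cst_zero))

/-- A constructible subset of an affine scheme is the image of an affine scheme. -/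
theorem exists_affine_range [IsAffine Y] {S : Set Y} (hS : IsConstructible S) :
    ∃ (Z : Scheme.{u}) (_ : IsAffine Z) (a : Z ⟶ Y), Set.range a.base = S := by
  let e := Y.isoSpec
  have hS' : IsConstructible (X := PrimeSpectrum Γ(Y, ⊤)) (e.inv.base ⁻¹' S) :=
    hS.preimage_of_isOpenEmbedding e.inv.isOpenEmbedding
  obtain ⟨R, _, φ, hφ⟩ := PrimeSpectrum.exists_range_eq_of_isConstructible hS'
  refine ⟨Spec (CommRingCat.of R), inferInstance, Spec.map (CommRingCat.ofHom φ) ≫ e.inv, ?_⟩
  rw [Scheme.Hom.comp_base, TopCat.coe_comp, Set.range_comp]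
  erw [hφ]
  exact Set.image_preimage_eq _ e.inv.surjective

/-- Constructibility from two affine schemes jointly surjecting onto the base. -/
theorem isConstructible_of_two {Z Z' : Scheme.{u}} [IsAffine Z] [IsAffine Z'] [CompactSpace Y]
    [QuasiSeparatedSpace Y] (a : Z ⟶ Y) (a' : Z' ⟶ Y)
    (hs : ∀ y, y ∈ Set.range a.base ∨ y ∈ Set.range a'.base) {G : EtCoh.Ab Y}
    (h : EtPBC.IsConstructible ((EtCoh.pull a).obj G))
    (h' : EtPBC.IsConstructible ((EtCoh.pull a').obj G)) : EtPBC.IsConstructible G := by
  let π := coprod.desc a a'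
  haveI : Surjective π := ⟨fun y => by
    rcases hs y with ⟨z, hz⟩ | ⟨z, hz⟩
    · exact ⟨(coprod.inl : Z ⟶ Z ⨿ Z') z, (congr($(coprod.inl_desc a a') z)).trans hz⟩
    · exact ⟨(coprod.inr : Z' ⟶ Z ⨿ Z') z, (congr($(coprod.inr_desc a a') z)).trans hz⟩⟩
  refine Descend.isConstructible_of_pull π ?_
  have key : ∀ {A : Scheme.{u}} (i : A ⟶ Z ⨿ Z') [IsOpenImmersion i],
      EtPBC.IsConstructible ((EtCoh.pull (i ≫ π)).obj G) →
      EtPBC.IsConstructible ((EtCoh.pull i.opensRange.ι).obj ((EtCoh.pull π).obj G)) := fun i _ hi => by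
    have e : i.opensRange.ι = i.isoOpensRange.inv ≫ i := (Scheme.Hom.isoOpensRange_inv_comp i).symm
    rw [e]
    exact PBCOps.isConstructible_of_iso ((pullComp i.isoOpensRange.inv i).app _).symm
      (PBCOps.isConstructible_pull _ (PBCOps.isConstructible_of_iso ((pullComp i π).app G) hi))
  refine PBCOps.isConstructible_of_open_cover
    (fun b : Bool => bif b then (coprod.inl : Z ⟶ Z ⨿ Z').opensRange
      else (coprod.inr : Z' ⟶ Z ⨿ Z').opensRange) (fun x => ?_) fun b => ?_
  · obtain ⟨(z | z), rfl⟩ := (coprodMk Z Z').surjective x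
    · exact ⟨true, z, (coprodMk_inl Z Z' z).symm⟩
    · exact ⟨false, z, (coprodMk_inr Z Z' z).symm⟩
  · cases b
    · exact key coprod.inr (by rw [coprod.inr_desc]; exact h')
    · exact key coprod.inl (by rw [coprod.inl_desc]; exact h)

theorem isZero_pull_of_stalks {Z : Scheme.{u}} (a : Z ⟶ Y) {G : EtCoh.Ab Y}
    (h : ∀ (Ω : Type u) [Field Ω] [IsAlgClosed Ω] (η : Spec (CommRingCat.of Ω) ⟶ Y),
      η.base default ∈ Set.range a.base → IsZero ((EtCoh.stalk η).obj G)) :
    IsZero ((EtCoh.pull a).obj G) := by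
  refine isZero_of_stalks fun z => ⟨_, inferInstance, inferInstance, Push.algPoint Z z,
    Push.algPoint_apply Z z _, ?_⟩
  exact (h _ (Push.algPoint Z z ≫ a) ⟨_, (Scheme.Hom.comp_apply _ _ _).symm⟩).of_iso
    ((Pull.stalkPull a (Push.algPoint Z z)).app G)

/-- The stalk of a direct image vanishes if all stalks above vanish. -/
theorem isZero_stalk_push (f : X ⟶ Y) [IsFinite f] [EtCoh.BCCont f] {F : EtCoh.Ab X} {Ω : Type u}
    [Field Ω] [IsAlgClosed Ω] (η : Spec (CommRingCat.of Ω) ⟶ Y)
    (h : ∀ ξ : Spec (CommRingCat.of Ω) ⟶ X, ξ ≫ f = η → IsZero ((EtCoh.stalk ξ).obj F)) :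
    IsZero ((EtCoh.stalk η).obj ((EtCoh.push f).obj F)) := by
  haveI : ∀ ξ : {ξ : Spec (CommRingCat.of Ω) ⟶ X // ξ ≫ f = η},
      Subsingleton ↥((EtCoh.stalk ξ.1).obj F) := fun ξ =>
    AddCommGrpCat.subsingleton_of_isZero (h ξ.1 ξ.2)
  haveI : Subsingleton ↥((EtCoh.stalk η).obj ((EtCoh.push f).obj F)) := ⟨fun a b =>
    (PushStalk.germTo_bijective f η F).1 (funext fun ξ => @Subsingleton.elim _ (this ξ) _ _)⟩
  exact AddCommGrpCat.isZero_of_subsingleton _

/-- At most `n` geometric points of each fibre lie in the support. -/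
def Bound (f : X ⟶ Y) (F : EtCoh.Ab X) (n : ℕ) : Prop :=
  ∀ (Ω : Type u) [Field Ω] [IsAlgClosed Ω] (η : Spec (CommRingCat.of Ω) ⟶ Y),
    Nat.card {ξ : Spec (CommRingCat.of Ω) ⟶ X // ξ ≫ f = η ∧ ξ.base default ∈ EtPBC.supp F} ≤ n

theorem isConstructible_supp [CompactSpace X] [QuasiSeparatedSpace X] {F : EtCoh.Ab X}
    (hF : EtPBC.IsConstructible F) : IsConstructible (EtPBC.supp F) :=
  (Support.isLocallyConstructible_supp hF).isConstructible

/-- Direct images along closed immersions of finite presentation. -/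
theorem isConstructible_push_closedImmersion [IsAffine Y] (s : X ⟶ Y) [IsClosedImmersion s]
    [LocallyOfFinitePresentation s] [EtCoh.BCCont s] {G : EtCoh.Ab X} (hG : EtPBC.IsConstructible G) :
    EtPBC.IsConstructible ((EtCoh.push s).obj G) := by
  haveI : IsAffine X := isAffine_of_isAffineHom s
  have hr : IsConstructible (Set.range s.base) := by
    rw [← Set.image_univ]; exact s.isConstructible_image .univ
  obtain ⟨Z', _, a', ha'⟩ := exists_affine_range hr.compl
  refine isConstructible_of_two s a' (fun y => ?_) ?_ ?_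
  · by_cases hy : y ∈ Set.range s.base
    · exact Or.inl hy
    · exact Or.inr (ha'.symm ▸ hy)
  · haveI := Immersion.isIso_counit_of_isClosedImmersion s (A := AddCommGrpCat.{u + 1})
    haveI : IsIso (EtCoh.pullPushAdj s).counit := this
    exact PBCOps.isConstructible_of_iso (asIso ((EtCoh.pullPushAdj s).counit.app G)).symm hG
  · refine isConstructible_of_isZero (isZero_pull_of_stalks a' fun Ω _ _ η hη => ?_)
    refine isZero_stalk_push s η fun ξ hξ => absurd ?_ (show η.base default ∉ Set.range s.base from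
      fun h => (ha' ▸ hη : η.base default ∈ (Set.range s.base)ᶜ) h)
    exact ⟨ξ.base default, by rw [← Scheme.Hom.comp_apply, hξ]⟩

theorem main (n : ℕ) : ∀ {X Y : Scheme.{u}} [IsAffine Y] (f : X ⟶ Y) [IsFinite f]
    [LocallyOfFinitePresentation f] [EtCoh.BCCont f] (F : EtCoh.Ab X),
    EtPBC.IsConstructible F → Bound f F n → EtPBC.IsConstructible ((EtCoh.push f).obj F) := by
  induction n with
  | zero =>
    intro X Y _ f _ _ _ F hF hb
    refine isConstructible_of_isZero (isZero_of_stalks fun y =>
      ⟨_, inferInstance, inferInstance, Push.algPoint Y y, Push.algPoint_apply Y y _, ?_⟩)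
    refine isZero_stalk_push f _ fun ξ hξ => isZero_stalk_of_not_mem ξ fun hm => ?_
    haveI := PushStalk.finite_points f (Push.algPoint Y y)
    haveI : Finite {ξ' // ξ' ≫ f = Push.algPoint Y y ∧ ξ'.base default ∈ EtPBC.supp F} :=
      Finite.of_injective (fun ξ' => (⟨ξ'.1, ξ'.2.1⟩ : {x // x ≫ f = Push.algPoint Y y}))
        fun a b h => Subtype.ext (congrArg (·.1) h)
    haveI : Nonempty {ξ' // ξ' ≫ f = Push.algPoint Y y ∧ ξ'.base default ∈ EtPBC.supp F} :=
      ⟨⟨ξ, hξ, hm⟩⟩
    exact absurd (hb _ (Push.algPoint Y y)) (not_le.2 Nat.card_pos)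
  | succ n ih =>
    intro X Y _ f _ _ _ F hF hb
    haveI : IsAffine X := isAffine_of_isAffineHom f
    obtain ⟨Z, _, a, ha⟩ := exists_affine_range (isConstructible_supp hF)
    let b : Z ⟶ Y := a ≫ f
    obtain ⟨Z', _, a', ha'⟩ := exists_affine_range
      (f.isConstructible_image (isConstructible_supp hF)).compl
    have hr : Set.range b.base = f.base '' EtPBC.supp F := by
      rw [Scheme.Hom.comp_base, TopCat.coe_comp, Set.range_comp, ha]
    refine isConstructible_of_two b a' (fun y => ?_) ?_ ?_
    · by_cases hy : y ∈ f.base '' EtPBC.supp F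
      · exact Or.inl (hr.symm ▸ hy)
      · exact Or.inr (ha'.symm ▸ hy)
    · let P := pullback f b
      let f' : P ⟶ Z := pullback.snd f b
      let g' : P ⟶ X := pullback.fst f b
      haveI : IsFinite f' := MorphismProperty.pullback_snd _ _ ‹_›
      haveI : LocallyOfFinitePresentation f' := MorphismProperty.pullback_snd _ _ ‹_›
      haveI : IsAffine P := isAffine_of_isAffineHom f'
      haveI := BaseChange.isIso_baseChange0 (IsPullback.of_hasPullback f b) F
      refine PBCOps.isConstructible_of_iso (asIso (EtCoh.baseChange0 f b f' g'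
        (IsPullback.of_hasPullback f b).w F)).symm ?_
      let F' := (EtCoh.pull g').obj F
      have hF' : EtPBC.IsConstructible F' := PBCOps.isConstructible_pull g' hF
      let s : Z ⟶ P := pullback.lift a (𝟙 Z) (Category.id_comp b).symm
      have hs : s ≫ f' = 𝟙 Z := pullback.lift_snd _ _ _
      have hsa : s ≫ g' = a := pullback.lift_fst _ _ _
      haveI : IsClosedImmersion (s ≫ f') := hs ▸ inferInstance
      haveI : IsClosedImmersion s := IsClosedImmersion.of_comp s f'
      haveI : LocallyOfFinitePresentation (s ≫ f') := hs ▸ inferInstance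
      haveI : LocallyOfFinitePresentation s :=
        Lib.Lim.OpenImm.lfp_of_comp s f'
      let adj := EtCoh.pullPushAdj s
      haveI := Immersion.isIso_counit_of_isClosedImmersion s (A := AddCommGrpCat.{u + 1})
      haveI : IsIso adj.counit := this
      let u' : F' ⟶ (EtCoh.push s).obj ((EtCoh.pull s).obj F') := adj.unit.app F'
      haveI hu : IsIso ((EtCoh.pull s).map u') := by
        have h : (EtCoh.pull s).map u' = inv (adj.counit.app ((EtCoh.pull s).obj F')) :=
          IsIso.eq_inv_of_inv_hom_id (f := adj.counit.app ((EtCoh.pull s).obj F'))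
            (adj.left_triangle_components F')
        rw [h]; infer_instance
      have hsF : EtPBC.IsConstructible ((EtCoh.push s).obj ((EtCoh.pull s).obj F')) :=
        isConstructible_push_closedImmersion s (PBCOps.isConstructible_pull s hF')
      let K := kernel u'
      have hK : EtPBC.IsConstructible K := (PBCOps.isConstructible_kernel_cokernel u' hF' hsF).1
      have hK0 : IsZero ((EtCoh.pull s).obj K) := by
        have h0 : (EtCoh.pull s).map (kernel.ι u') = 0 := by
          rw [← cancel_mono ((EtCoh.pull s).map u'), ← Functor.map_comp, kernel.condition,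
            Functor.map_zero, zero_comp]
        exact IsZero.of_mono_eq_zero _ h0
      have hKn : Bound f' K n := by
        intro Ω _ _ η
        haveI := PushStalk.finite_points f (η ≫ b)
        have hmem : (η ≫ a).base default ∈ EtPBC.supp F := by
          rw [← ha]; exact ⟨η.base default, (Scheme.Hom.comp_apply _ _ _).symm⟩
        let T := {ξ : Spec (CommRingCat.of Ω) ⟶ X // ξ ≫ f = η ≫ b ∧ ξ.base default ∈ EtPBC.supp F}
        haveI : Finite T := Finite.of_injective (fun ξ => (⟨ξ.1, ξ.2.1⟩ : {x // x ≫ f = η ≫ b}))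
          fun a b h => Subtype.ext (congrArg (·.1) h)
        have hsub : ∀ ξ : Spec (CommRingCat.of Ω) ⟶ P, ξ.base default ∈ EtPBC.supp K →
            (ξ ≫ g').base default ∈ EtPBC.supp F ∧ ξ.base default ∉ Set.range s.base := by
          intro ξ ⟨Ω', _, _, ξ', hξ', hne⟩
          have hpt : ξ'.base default = ξ.base default := by
            have : ξ'.base default ∈ Set.range ξ'.base := ⟨default, rfl⟩
            rwa [hξ'] at this
          refine ⟨by_contra fun hn => hne ?_, fun hr => hne ?_⟩
          · have hz : IsZero ((EtCoh.stalk ξ').obj F') :=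
              (isZero_stalk_of_not_mem (ξ' ≫ g') (by
                rw [Scheme.Hom.comp_apply, hpt, ← Scheme.Hom.comp_apply]; exact hn)).of_iso
                ((Pull.stalkPull g' ξ').app F)
            exact IsZero.of_mono ((EtCoh.stalk ξ').map (kernel.ι u')) hz
          · obtain ⟨η', rfl⟩ : ∃ η', η' ≫ s = ξ' :=
              Groth.Agent.Lib.ActSep.Criterion.exists_lift_of_isImmersion ξ' s (by
                rintro _ ⟨p, rfl⟩
                rwa [Subsingleton.elim p default, hpt])
            exact ((EtCoh.stalk η').map_isZero hK0).of_iso ((Pull.stalkPull s η').app K).symm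
        have hcomp : ∀ ξ : Spec (CommRingCat.of Ω) ⟶ P, ξ ≫ f' = η → (ξ ≫ g') ≫ f = η ≫ b := by
          intro ξ h
          rw [Category.assoc, pullback.condition, reassoc_of% h]
        let φ : Option {ξ : Spec (CommRingCat.of Ω) ⟶ P // ξ ≫ f' = η ∧
            ξ.base default ∈ EtPBC.supp K} → T := fun o => o.elim ⟨η ≫ a, Category.assoc _ _ _, hmem⟩
          (fun ξ => ⟨ξ.1 ≫ g', hcomp ξ.1 ξ.2.1, (hsub ξ.1 ξ.2.2).1⟩)
        have hφ : Function.Injective φ := by
          have key : ∀ ξ : {ξ : Spec (CommRingCat.of Ω) ⟶ P // ξ ≫ f' = η ∧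
              ξ.base default ∈ EtPBC.supp K}, ξ.1 ≫ g' ≠ η ≫ a := fun ξ h => by
            refine (hsub ξ.1 ξ.2.2).2 ⟨η.base default, ?_⟩
            have : ξ.1 = η ≫ s := pullback.hom_ext
              (h.trans ((η ≫= hsa).symm.trans (Category.assoc _ _ _).symm))
              (ξ.2.1.trans ((Category.assoc _ _ _).trans ((η ≫= hs).trans (Category.comp_id _))).symm)
            rw [this, Scheme.Hom.comp_apply]
          rintro (_ | ξ) (_ | ξ') h
          · rfl
          · exact absurd (congrArg (·.1) h).symm (key ξ')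
          · exact absurd (congrArg (·.1) h) (key ξ)
          · exact congrArg some (Subtype.ext (pullback.hom_ext (congrArg (·.1) h)
              (ξ.2.1.trans ξ'.2.1.symm)))
        haveI : Finite {ξ : Spec (CommRingCat.of Ω) ⟶ P // ξ ≫ f' = η ∧
            ξ.base default ∈ EtPBC.supp K} :=
          Finite.of_injective _ (hφ.comp (Option.some_injective _))
        have h1 := (Nat.card_le_card_of_injective φ hφ).trans (hb Ω (η ≫ b))
        rw [Finite.card_option] at h1
        omega
      haveI := Push.preservesHomology_push f'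
      haveI : Epi u' := by
        refine Stalk.epi_of_stalks u' fun p => ?_
        refine ⟨_, inferInstance, inferInstance, Push.algPoint P p, Push.algPoint_apply P p _, ?_⟩
        by_cases hp : p ∈ Set.range s.base
        · obtain ⟨η', hη'⟩ : ∃ η', η' ≫ s = Push.algPoint P p :=
            Groth.Agent.Lib.ActSep.Criterion.exists_lift_of_isImmersion _ s (by
              rintro _ ⟨q, rfl⟩
              rwa [Push.algPoint_apply])
          rw [← hη']
          haveI : IsIso ((EtCoh.stalk (η' ≫ s)).map u') :=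
            (NatIso.isIso_map_iff (Pull.stalkPull s η') u').1
              (inferInstanceAs (IsIso ((EtCoh.stalk η').map ((EtCoh.pull s).map u'))))
          exact ((ConcreteCategory.isIso_iff_bijective ((EtCoh.stalk (η' ≫ s)).map u')).1
            inferInstance).2
        · intro z
          haveI := AddCommGrpCat.subsingleton_of_isZero (isZero_stalk_push s (Push.algPoint P p)
            (F := (EtCoh.pull s).obj F') fun ξ hξ => absurd
              ⟨ξ.base default, by rw [← Scheme.Hom.comp_apply, hξ, Push.algPoint_apply]⟩ hp)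
          exact ⟨0, Subsingleton.elim _ _⟩
      let S := ShortComplex.mk (kernel.ι u') u' (kernel.condition u')
      have hS : S.ShortExact :=
        { exact := ShortComplex.exact_of_f_is_kernel _ (kernelIsKernel u') }
      haveI : Mono ((EtCoh.push f').map S.f) := by
        haveI := (EtCoh.pullPushAdj f').isRightAdjoint
        infer_instance
      haveI : Epi ((EtCoh.push f').map S.g) :=
        (Push.preservesEpimorphisms_push f').preserves S.g
      haveI : Mono S.f := hS.mono_f
      have hS' : (S.map (EtCoh.push f')).ShortExact := hS.map (EtCoh.push f')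
      refine PBCOps.isConstructible_ext hS' (ih f' K hK hKn) ?_
      refine PBCOps.isConstructible_of_iso ((EtCoh.pushComp f' s ≪≫ EtCoh.pushCongr hs).app
        ((EtCoh.pull s).obj F')).symm ?_
      haveI : IsClosedImmersion (𝟙 Z) := inferInstance
      exact isConstructible_push_closedImmersion (𝟙 Z) (PBCOps.isConstructible_pull s hF')
    · refine isConstructible_of_isZero (isZero_pull_of_stalks a' fun Ω _ _ η hη => ?_)
      refine isZero_stalk_push f η fun ξ hξ => isZero_stalk_of_not_mem ξ fun hm => ?_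
      exact (ha' ▸ hη : η.base default ∈ (f.base '' EtPBC.supp F)ᶜ)
        ⟨_, hm, by rw [← hξ, Scheme.Hom.comp_apply]⟩

/-- Direct images along finite morphisms of finite presentation preserve constructibility. -/
theorem isConstructible_push (f : X ⟶ Y) [IsFinite f] [LocallyOfFinitePresentation f]
    [EtCoh.BCCont f] {F : EtCoh.Ab X} (hF : EtPBC.IsConstructible F) :
    EtPBC.IsConstructible ((EtCoh.push f).obj F) := by
  refine PBCOps.isConstructible_of_open_cover (fun V : Y.affineOpens => V.1) (fun y => ?_) fun V => ?_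
  · obtain ⟨_, ⟨V, hV, rfl⟩, hyV, -⟩ :=
      Y.isBasis_affineOpens.exists_subset_of_mem_open (Set.mem_univ y) isOpen_univ
    exact ⟨⟨V, hV⟩, hyV⟩
  · haveI : IsAffine (V.1 : Scheme.{u}) := V.2
    let P := pullback f V.1.ι
    let f' : P ⟶ V.1 := pullback.snd f V.1.ι
    let g' : P ⟶ X := pullback.fst f V.1.ι
    haveI : IsFinite f' := MorphismProperty.pullback_snd _ _ ‹_›
    haveI : LocallyOfFinitePresentation f' := MorphismProperty.pullback_snd _ _ ‹_›
    haveI : IsAffine P := isAffine_of_isAffineHom f'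
    haveI := BaseChange.isIso_baseChange0 (IsPullback.of_hasPullback f V.1.ι) F
    refine PBCOps.isConstructible_of_iso (asIso (EtCoh.baseChange0 f V.1.ι f' g'
      (IsPullback.of_hasPullback f V.1.ι).w F)).symm ?_
    obtain ⟨d, hd⟩ := H54.GeomBound.exists_bound f'
    refine main d f' _ (PBCOps.isConstructible_pull g' hF) fun Ω _ _ η => ?_
    haveI := (hd Ω η).1
    haveI : Finite {ξ // ξ ≫ f' = η} := (hd Ω η).1
    refine le_trans (Nat.card_le_card_of_injective
      (fun ξ => (⟨ξ.1, ξ.2.1⟩ : H54.GeomLift.Lift f' η))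
      (fun a b h => Subtype.ext (congrArg (·.1) h))) (hd Ω η).2

end Groth.Agent.H88.EtMod.FinitePush
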