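import Groth.Agent.Lib.EtH1Gm.HofPush
import Mathlib.AlgebraicGeometry.Artinian
import Mathlib.AlgebraicGeometry.Morphisms.Flat

/-!
`R¹u_* G_m = 0` for a morphism out of a scheme with discrete étale site.
-/

universe u

open CategoryTheory CategoryTheory.Limits AlgebraicGeometry Opposite CategoryTheory.Abelian

noncomputable section

namespace Groth.Agent.H88.EtMod.GmLocalRing

open Groth.Agent.Lib.EtH1Gm.Lift Groth.Agent.Lib.EtH1Gm.Class Groth.Agent.Lib.EtH1Gm.HofPush
open Groth.Agent.Lib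

variable {Z : Scheme.{u}}

/-- Over a field, sections of a quotient by `G_m` lift. -/
theorem surjective_app_of_discrete [hd : Fact (∀ T : Z.Etale, DiscreteTopology T.left)] {S : ShortComplex (EtCoh.Ab Z)}
    (hS : S.ShortExact) (i : EtCoh.Gm Z ≅ S.X₁)
    (T : Z.Etale) : Function.Surjective (S.g.hom.app (op T)) := by
  intro q
  have hdisc : DiscreteTopology T.left := hd.out T
  choose W r hx hr using exists_lift_at hS i q
  let Z : T.left → T.left.Opens := fun x => ⟨{x}, isOpen_discrete _⟩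
  have hZ : ∀ x, Z x ≤ W x := fun x y hy => by
    obtain rfl : y = x := hy
    exact hx y
  let a : ∀ x, sub T (Z x) ⟶ sub T (W x) := fun x =>
    MorphismProperty.Over.homMk (T.left.homOfLE (hZ x) : (Z x : Scheme.{u}) ⟶ W x)
      ((Category.assoc _ _ _).symm.trans (congrArg (· ≫ T.hom) (T.left.homOfLE_ι (hZ x))))
  have hpt : ∀ (x : T.left) (z : (sub T (Z x)).left), (subι T (Z x)).left.base z = x := fun x z => z.2
  have hD : EtSite.DisjointCover.IsDisjointCover (fun x => sub T (Z x)) (fun x => subι T (Z x)) :=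
    ⟨fun x => inferInstanceAs (IsOpenImmersion (Z x).ι), fun x => ⟨x, ⟨x, rfl⟩, rfl⟩,
      fun x y z z' h => (hpt x z).symm.trans (h.trans (hpt y z'))⟩
  obtain ⟨s, hs⟩ := hD.exists_glue S.X₂ fun x => S.X₂.obj.map (a x).op (r x)
  refine ⟨s, EtSite.Stalk.sections_ext S.X₃ _ _ fun x => ?_⟩
  refine ⟨sub T (Z x), subι T (Z x), ?_, ⟨x, rfl⟩, rfl⟩
  refine (NatTrans.naturality_apply S.g.hom (subι T (Z x)).op s).symm.trans ?_
  rw [hs, NatTrans.naturality_apply, hr, map_map_apply]
  refine congrArg (fun m => S.X₃.obj.map (Quiver.Hom.op m) q) (MorphismProperty.Over.Hom.ext ?_)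
  exact T.left.homOfLE_ι (hZ x)


section Sky

variable {X Z : Scheme.{u}} (u : Z ⟶ X) [PreservesFiniteLimits (EtCoh.pull u)]
  [hdisc : Fact (∀ T : Z.Etale, DiscreteTopology T.left)]

/-- The first higher direct image of `G_m` from a field vanishes. -/
theorem epi_push_seq :
    Epi ((EtCoh.push u).map (seq (EtCoh.Gm Z)).g) := by
  refine (Sheaf.isLocallySurjective_iff_epi' _ _).1 ⟨fun {V} t => ?_⟩
  obtain ⟨s, hs⟩ :=
    surjective_app_of_discrete (seq_shortExact _) (Iso.refl _) ((EtCoh.bc u).obj V) t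
  refine GrothendieckTopology.superset_covering _ ?_ (GrothendieckTopology.top_mem _ _)
  intro W g _
  exact ⟨((EtCoh.push u).obj _).obj.map g.op s,
    (NatTrans.naturality_apply ((EtCoh.push u).map (seq _).g).hom g.op s).trans
      (congrArg (((EtCoh.push u).obj _).obj.map g.op) hs)⟩

theorem push_shortExact :
    ((seq (EtCoh.Gm Z)).map (EtCoh.push u)).ShortExact := by
  have := epi_push_seq u
  have hl : PreservesFiniteLimits (EtCoh.push u) := by
    have := (EtCoh.pullPushAdj u).rightAdjoint_preservesLimits.{0, 0}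
    exact ⟨fun J _ _ => inferInstance⟩
  have hS := seq_shortExact (EtCoh.Gm Z)
  have := hS.mono_f
  exact { exact := hS.exact.map_of_mono_of_preservesKernel (EtCoh.push u) hS.mono_f inferInstance
          mono_f := inferInstanceAs (Mono ((EtCoh.push u).map _))
          epi_g := inferInstanceAs (Epi ((EtCoh.push u).map _)) }

theorem HofPush_δ {n n' : ℕ} (hn : n + 1 = n')
    (y : EtCoh.H X ((EtCoh.push u).obj (seq (EtCoh.Gm Z)).X₃) n) :
    EtLim.HofPush u (EtCoh.Gm Z) n'
        (Ext.comp y (push_shortExact u).extClass hn) =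
      Ext.comp (EtLim.HofPush u _ n y) (seq_shortExact _).extClass hn :=
  HofPush_comp_extClass u (seq_shortExact (EtCoh.Gm Z))
    _ _ _ (push_shortExact u) _ _
    ((EtCoh.pullPushAdj u).counit.naturality (seq (EtCoh.Gm _)).f).symm
    ((EtCoh.pullPushAdj u).counit.naturality (seq (EtCoh.Gm _)).g).symm hn y

theorem injective_push_X₂ :
    Injective ((seq (EtCoh.Gm Z)).map (EtCoh.push u)).X₂ := by
  have : (EtCoh.pull u).PreservesMonomorphisms := inferInstance
  exact (EtCoh.pullPushAdj u).map_injective _ inferInstance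

theorem HofPush_one_injective :
    Function.Injective (EtLim.HofPush u (EtCoh.Gm Z) 1) := by
  rw [injective_iff_map_eq_zero]
  intro x hx
  have := injective_push_X₂ u
  obtain ⟨y, hy⟩ := Ext.covariant_sequence_exact₁ _ (push_shortExact u) x
    (Ext.eq_zero_of_injective _) (zero_add 1)
  rw [← hy] at hx
  replace hx := (HofPush_δ u _ y).symm.trans hx
  obtain ⟨z, hz⟩ := Ext.covariant_sequence_exact₃ _ (seq_shortExact _) _ (zero_add 1) hx
  obtain ⟨φ, rfl⟩ := (Ext.mk₀_bijective _ _).2 z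
  obtain ⟨ζ, rfl⟩ := (Ext.mk₀_bijective _ _).2 y
  have hζ := adj_aux (EtCoh.pullPushAdj u) (EtCore.pullConst u ℤ).symm ζ
    (seq (EtCoh.Gm Z)).g φ
    ((Ext.mk₀_bijective _ _).1 (((Ext.mk₀_comp_mk₀ _ _).symm.trans hz).trans (HofPush_mk₀ u _ ζ)))
  rw [← hy, hζ]
  exact mk₀_g_comp_extClass (push_shortExact u) _

theorem HofPush_X₃_one_injective :
    ∀ y : EtCoh.H X ((EtCoh.push u).obj (seq (EtCoh.Gm Z)).X₃) 1,
      EtLim.HofPush u _ 1 y = 0 → y = 0 := by
  intro y hy
  let F := (seq (EtCoh.Gm Z)).X₃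
  let T : ShortComplex (EtCoh.Ab X) :=
    ShortComplex.mk ((EtCoh.push u).map (Injective.ι F))
      (Abelian.factorThruImage ((EtCoh.push u).map (cokernel.π (Injective.ι F)))) (by
        rw [← cancel_mono (Abelian.image.ι _), zero_comp, Category.assoc, Abelian.image.fac,
          ← Functor.map_comp, cokernel.condition, Functor.map_zero])
  have hl : PreservesFiniteLimits (EtCoh.push u) := by
    have := (EtCoh.pullPushAdj u).rightAdjoint_preservesLimits.{0, 0}
    exact ⟨fun J _ _ => inferInstance⟩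
  have hT : T.ShortExact := by
    have hm : Mono T.f := inferInstanceAs (Mono ((EtCoh.push u).map _))
    have he : ((seq F).map (EtCoh.push u)).Exact :=
      (seq_shortExact F).exact.map_of_mono_of_preservesKernel (EtCoh.push u)
        (seq_shortExact F).mono_f inferInstance
    refine { exact := ?_, mono_f := hm, epi_g := inferInstanceAs (Epi (Abelian.factorThruImage _)) }
    let φT : T ⟶ (seq F).map (EtCoh.push u) :=
      { τ₁ := 𝟙 _, τ₂ := 𝟙 _, τ₃ := Abelian.image.ι _
        comm₁₂ := (Category.id_comp _).trans (Category.comp_id _).symm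
        comm₂₃ := (Category.id_comp _).trans (Abelian.image.fac _).symm }
    have : Epi φT.τ₁ := inferInstanceAs (Epi (𝟙 _))
    have : IsIso φT.τ₂ := inferInstanceAs (IsIso (𝟙 _))
    have : Mono φT.τ₃ := show Mono (Abelian.image.ι ((EtCoh.push u).map (cokernel.π (Injective.ι F)))) from
      inferInstanceAs (Mono (kernel.ι _))
    exact (ShortComplex.exact_iff_of_epi_of_isIso_of_mono φT).2 he
  have : Injective T.X₂ := (EtCoh.pullPushAdj u).map_injective _ inferInstance
  obtain ⟨z, rfl⟩ := Ext.covariant_sequence_exact₁ _ hT y (Ext.eq_zero_of_injective _) (zero_add 1)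
  let ι₃ := Abelian.image.ι ((EtCoh.push u).map (cokernel.π (Injective.ι F)))
  let α₃ := (EtCoh.pull u).map ι₃ ≫ (EtCoh.pullPushAdj u).counit.app _
  have h := HofPush_comp_extClass u (seq_shortExact F) T.f T.g T.zero hT
    ((EtCoh.pullPushAdj u).counit.app _) α₃
    ((EtCoh.pullPushAdj u).counit.naturality (Injective.ι F)).symm (by
      refine Eq.trans ?_ (Category.assoc _ _ _)
      rw [← Functor.map_comp, Abelian.image.fac]
      exact ((EtCoh.pullPushAdj u).counit.naturality (cokernel.π (Injective.ι F))).symm)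
    (zero_add 1) z
  have h0 := h.symm.trans hy
  obtain ⟨w, hw⟩ := Ext.covariant_sequence_exact₃ _ (seq_shortExact F) _ (zero_add 1) h0
  obtain ⟨φ, rfl⟩ := (Ext.mk₀_bijective _ _).2 w
  obtain ⟨ζ, rfl⟩ := (Ext.mk₀_bijective _ _).2 z
  have hw' : φ ≫ cokernel.π (Injective.ι F) =
      ((EtCore.pullConst u ℤ).symm.hom ≫ (EtCoh.pull u).map (ζ ≫ ι₃)) ≫
        (EtCoh.pullPushAdj u).counit.app _ := by
    refine (Ext.mk₀_bijective _ _).1 (((Ext.mk₀_comp_mk₀ _ _).symm.trans hw).trans ?_)
    rw [Ext.mapExactFunctor_mk₀]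
    refine ((congrArg (fun e => Ext.comp e _ (add_zero 0)) (Ext.mk₀_comp_mk₀ _ _)).trans
      (Ext.mk₀_comp_mk₀ _ _)).trans (congrArg Ext.mk₀ ?_)
    simp [α₃]
    exact Category.assoc _ _ _
  have e1 := adj_aux (EtCoh.pullPushAdj u) (EtCore.pullConst u ℤ).symm (ζ ≫ ι₃)
    (cokernel.π (Injective.ι F)) φ hw'
  let ψ : EtCoh.const X ℤ ⟶ T.X₂ :=
    (EtCoh.pullPushAdj u).homEquiv _ _ ((EtCore.pullConst u ℤ).symm.inv ≫ φ)
  have : Mono ι₃ := inferInstanceAs (Mono (kernel.ι _))
  have hζ : ζ = ψ ≫ T.g := (cancel_mono ι₃).1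
    (e1.trans ((Category.assoc _ _ _).trans (congrArg (ψ ≫ ·) (Abelian.image.fac _))).symm)
  rw [hζ]
  exact mk₀_g_comp_extClass hT ψ

theorem HofPush_two_injective :
    Function.Injective (EtLim.HofPush u (EtCoh.Gm Z) 2) := by
  rw [injective_iff_map_eq_zero]
  intro x hx
  have := injective_push_X₂ u
  obtain ⟨y, hy⟩ := Ext.covariant_sequence_exact₁ _ (push_shortExact u) x
    (Ext.eq_zero_of_injective _) (show 1 + 1 = 2 from rfl)
  rw [← hy] at hx
  replace hx := (HofPush_δ u _ y).symm.trans hx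
  obtain ⟨z, hz⟩ := Ext.covariant_sequence_exact₃ _ (seq_shortExact _) _ (show 1 + 1 = 2 from rfl) hx
  rw [Ext.eq_zero_of_injective z, Ext.zero_comp] at hz
  rw [← hy]
  exact eq_zero_comp (HofPush_X₃_one_injective u y hz.symm) _ _

end Sky

end Groth.Agent.H88.EtMod.GmLocalRing
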