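import Groth.Agent.H88.EtMod.GmTorsion
import Groth.Agent.H88.EtMod.GmLocalPush
import Groth.Agent.S7179
import Mathlib.AlgebraicGeometry.Artinian

/-!
`G_m` at the local rings of the maximal points.
-/

set_option autoImplicit false
set_option linter.style.haveILetI false

universe u

open CategoryTheory CategoryTheory.Limits AlgebraicGeometry Opposite CategoryTheory.Abelian

noncomputable section

namespace Groth.Agent.H88.EtMod.GmLocalRing

open Groth.Agent.H61 Groth.Agent.Lib.EtSite Groth.Agent.Lib.EtSite.Basic Groth.Agent.Lib.EtJ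
open GenericStalk
open scoped ZeroObject

variable {X S : Scheme.{u}} (g : S ⟶ X)

theorem notMem_supp_push' (H : EtCoh.Ab S) (x : X) (hx : x ∉ closure (Set.range g.base)) :
    x ∉ EtPBC.supp ((EtCoh.push g).obj H) := by
  refine (notMem_supp_iff _ x).2 fun Ω _ _ ξ hξ => (Supp.stalk_isZero_iff _).2 fun V p s => ?_
  have hp : V.hom.base (fiberPt p) = x := by
    rw [hom_fiberPt]
    exact Set.eq_of_mem_singleton (hξ ▸ Set.mem_range_self _)
  let O : V.left.Opens := ⟨V.hom.base ⁻¹' (closure (Set.range g.base))ᶜ,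
    isClosed_closure.isOpen_compl.preimage V.hom.continuous⟩
  haveI : Etale V.hom := V.prop
  let W : X.Etale := Scheme.Etale.mk (O.ι ≫ V.hom)
  let r : W ⟶ V := MorphismProperty.Over.homMk O.ι rfl
  have hpO : fiberPt p ∈ O := by
    change V.hom.base (fiberPt p) ∈ (closure (Set.range g.base))ᶜ
    rw [hp]; exact hx
  obtain ⟨q, hq, -⟩ := Fiber.exists_fiber_map ξ r p ⟨fiberPt p, hpO⟩ rfl
  refine (Supp.germ_eq_zero_iff _ V p s).2 ⟨W, r, q, hq, ?_⟩
  have he : IsEmpty ((EtCoh.bc g).obj W).left := ⟨fun w => by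
    let a := (pullback.fst W.hom g).base w
    have h1 : W.hom.base a ∈ Set.range g.base := ⟨(pullback.snd W.hom g).base w,
      (congrArg (fun m => m.base w) (pullback.condition (f := W.hom) (g := g))).symm⟩
    exact (a : ↥(O : Scheme.{u})).2 (subset_closure h1)⟩
  exact ConstTorsionFree.section_eq_of_isEmpty (A := H) he _ _

theorem injective_stalkMap {A B : Scheme.{u}} (f : A ⟶ B) [Flat f] (x : A) :
    Function.Injective (f.stalkMap x) := by
  algebraize [(f.stalkMap x).hom]
  have : Module.FaithfullyFlat (B.presheaf.stalk (f x)) (A.presheaf.stalk x) :=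
    @Module.FaithfullyFlat.of_flat_of_isLocalHom _ _ _ _ _ _ _
      (Flat.stalkMap f x) (f.toLRSHom.prop x)
  exact ‹RingHom.FaithfullyFlat _›.injective

/-- Schemes over `X` whose map is injective on points and bijective on local rings. -/
theorem bijective_stalkMap_fst [Flat g] [IsPreimmersion g] (W : X.Etale) (t : ↥(pullback W.hom g)) :
    Function.Bijective ((pullback.fst W.hom g).stalkMap t) := by
  haveI : Flat (pullback.fst W.hom g) := inferInstance
  haveI : IsPreimmersion (pullback.fst W.hom g) := inferInstance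
  exact ⟨injective_stalkMap (pullback.fst W.hom g) t, (pullback.fst W.hom g).stalkMap_surjective t⟩

theorem val_push' (W : X.Etale) (a : (EtCoh.Gm X).obj.obj (op W)) :
    MuLocal.val (X := S) (T := (EtCoh.bc g).obj W) ((EtLim.GmPush g).hom.app (op W) a) =
      (pullback.fst W.hom g).appTop (MuLocal.val a) := rfl

theorem bijective_stalk [Flat g] [IsPreimmersion g] [QuasiCompact g]
    (hdisc : ∀ T : S.Etale, DiscreteTopology T.left) {Ω : Type u} [Field Ω] [IsSepClosed Ω]
    (η' : Spec (CommRingCat.of Ω) ⟶ S) :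
    Function.Bijective ((EtCoh.stalk (η' ≫ g)).map (EtLim.GmPush g)) := by
  constructor
  · refine (injective_iff_map_eq_zero ((EtCoh.stalk (η' ≫ g)).map (EtLim.GmPush g)).hom).2 fun z hz => ?_
    obtain ⟨V, p, a, rfl⟩ := (Scheme.pointSmallEtale (η' ≫ g)).toPresheafFiber_jointly_surjective z
    have h0 := (GrothendieckTopology.Point.toPresheafFiber_naturality_apply
      (Scheme.pointSmallEtale (η' ≫ g)) (EtLim.GmPush g).hom V p a).symm.trans hz
    obtain ⟨W, r, q, hq, hW⟩ := (Supp.germ_eq_zero_iff _ V p _).1 h0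
    have hW' : (EtLim.GmPush g).hom.app (op W) ((EtCoh.Gm X).obj.map r.op a) = 0 :=
      (NatTrans.naturality_apply (EtLim.GmPush g).hom r.op a).trans hW
    let a' := (EtCoh.Gm X).obj.map r.op a
    let b : pullback W.hom g ⟶ W.left := pullback.fst W.hom g
    let a₁ : Γ(W.left, ⊤) := MuLocal.val a'
    have hv : b.appTop a₁ = 1 :=
      (val_push' g W a').symm.trans ((congrArg _ hW').trans MuLocal.val_zero)
    let t : ↥(pullback W.hom g) := fiberPt (PushStalk.liftPt g rfl W q)
    have hbt : b.base t = fiberPt q :=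
      congrArg (fun m : Spec (CommRingCat.of Ω) ⟶ W.left => m.base default)
        (pullback.lift_fst (f := W.hom) (g := g) (fiberHom q) η' (fiberHom_comp q))
    have hg : W.left.presheaf.germ ⊤ (b t) trivial a₁ = W.left.presheaf.germ ⊤ (b t) trivial 1 := by
      refine (bijective_stalkMap_fst g W t).1 ?_
      refine (Scheme.Hom.germ_stalkMap_apply b ⊤ t trivial a₁).trans ?_
      refine Eq.trans ?_ (Scheme.Hom.germ_stalkMap_apply b ⊤ t trivial 1).symm
      exact congrArg _ (hv.trans (map_one b.appTop.hom).symm)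
    obtain ⟨O₀, hO, i₁, i₂, hOe⟩ := TopCat.Presheaf.germ_eq W.left.presheaf (U := ⊤) (V := ⊤) (b t) trivial trivial _ _ hg
    let O : W.left.Opens := O₀
    haveI : Etale W.hom := W.prop
    let W' : X.Etale := Scheme.Etale.mk (O.ι ≫ W.hom)
    let r' : W' ⟶ W := MorphismProperty.Over.homMk O.ι rfl
    obtain ⟨q', hq', -⟩ := Fiber.exists_fiber_map (η' ≫ g) r' q ⟨fiberPt q, hbt ▸ hO⟩ rfl
    refine (Supp.germ_eq_zero_iff (EtCoh.Gm X) V p a).2 ⟨W', r' ≫ r, q', ?_, ?_⟩
    · rw [Functor.map_comp, ConcreteCategory.comp_apply, hq', hq]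
    · rw [op_comp, Functor.map_comp, ConcreteCategory.comp_apply]
      refine MuLocal.val_injective ((MuLocal.val_map r' a').trans (Eq.trans ?_ MuLocal.val_zero.symm))
      have hle : ⊤ ≤ O.ι ⁻¹ᵁ O := fun x _ => x.2
      have hs : ∀ c : Γ(W.left, ⊤), O.ι.appTop c = O.ι.appLE O ⊤ hle (W.left.presheaf.map i₁.op c) := fun c => by
        rw [← CommRingCat.comp_apply, Scheme.Hom.map_appLE]
        exact (ConcreteCategory.congr_hom (Scheme.Hom.appLE_eq_app O.ι (U := ⊤)) c).symm
      exact (hs _).trans ((congrArg _ hOe).trans ((congrArg _ (map_one _)).trans (map_one _)))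
  · intro z
    obtain ⟨V₀, p₀, s₀, rfl⟩ := (Scheme.pointSmallEtale (η' ≫ g)).toPresheafFiber_jointly_surjective z
    obtain ⟨V, a, v, hv, hV⟩ := FiniteGen.exists_affine_nhd V₀ (fiberPt p₀)
    obtain ⟨p, hp, -⟩ := Fiber.exists_fiber_map (η' ≫ g) a p₀ v hv
    haveI : IsAffine V.left := hV
    haveI : IsAffine ((𝟭 Scheme).obj V.left) := hV
    let b : pullback V.hom g ⟶ V.left := pullback.fst V.hom g
    haveI : CompactSpace ↥(pullback V.hom g) := QuasiCompact.compactSpace_of_compactSpace b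
    haveI : DiscreteTopology ↥(pullback V.hom g) := hdisc ((EtCoh.bc g).obj V)
    haveI : Finite ↥(pullback V.hom g) := finite_of_compact_of_discrete
    let t₀ : ↥(pullback V.hom g) := fiberPt (PushStalk.liftPt g rfl V p)
    have hbt : b.base t₀ = fiberPt p :=
      congrArg (fun m : Spec (CommRingCat.of Ω) ⟶ V.left => m.base default)
        (pullback.lift_fst (f := V.hom) (g := g) (fiberHom p) η' (fiberHom_comp p))
    let s₁ : (EtCoh.Gm S).obj.obj (op ((EtCoh.bc g).obj V)) :=
      ((EtCoh.push g).obj (EtCoh.Gm S)).obj.map a.op s₀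
    obtain ⟨y, hy⟩ := (bijective_stalkMap_fst g V t₀).2
      ((pullback V.hom g).presheaf.germ ⊤ t₀ trivial (MuLocal.val s₁))
    obtain ⟨U, hU, a₀, rfl⟩ := TopCat.Presheaf.exists_germ_eq V.left.presheaf y
    have hu0 : IsUnit (V.left.presheaf.germ U (b t₀) hU a₀) := by
      refine IsUnit.of_map (b.stalkMap t₀).hom _ ?_
      rw [show (b.stalkMap t₀).hom (V.left.presheaf.germ U (b t₀) hU a₀) = _ from hy]
      exact ((Additive.toMul (ULift.down s₁ : Additive (Γ(pullback V.hom g, ⊤))ˣ)).isUnit).map _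
    let C : Set V.left := ⋃ t ∈ {t | t ≠ t₀}, closure {b.base t}
    have hCc : IsClosed C := (Set.toFinite _).isClosed_biUnion (fun _ _ => isClosed_closure)
    let O : V.left.Opens := V.left.basicOpen a₀ ⊓ ⟨Cᶜ, hCc.isOpen_compl⟩
    have htO : b.base t₀ ∈ O := by
      refine ⟨(V.left.mem_basicOpen a₀ (b t₀) hU).2 hu0, ?_⟩
      simp only [C, TopologicalSpace.Opens.coe_mk, SetLike.mem_coe, TopologicalSpace.Opens.mem_mk,
          Set.mem_compl_iff, Set.mem_iUnion, not_exists]
      intro t ht hmem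
      rw [← specializes_iff_mem_closure] at hmem
      exact ht (b.isEmbedding.isInducing.specializes_iff.1 hmem).eq
    have hOb : O ≤ V.left.basicOpen a₀ := inf_le_left
    haveI : Etale V.hom := V.prop
    let W : X.Etale := Scheme.Etale.mk (O.ι ≫ V.hom)
    let r : W ⟶ V := MorphismProperty.Over.homMk O.ι rfl
    obtain ⟨q, hq, -⟩ := Fiber.exists_fiber_map (η' ≫ g) r p ⟨fiberPt p, hbt ▸ htO⟩ rfl
    have hle : ⊤ ≤ O.ι ⁻¹ᵁ V.left.basicOpen a₀ := fun x _ => hOb x.2
    have hle' : ⊤ ≤ O.ι ⁻¹ᵁ U := fun x _ => V.left.basicOpen_le a₀ (hOb x.2)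
    have hu : IsUnit (O.ι.appLE U ⊤ hle' a₀) := by
      have := (V.left.toRingedSpace.isUnit_res_basicOpen a₀).map (O.ι.appLE _ ⊤ hle).hom
      exact (congrArg IsUnit (ConcreteCategory.congr_hom
        (Scheme.Hom.map_appLE O.ι hle (homOfLE (V.left.basicOpen_le a₀)).op) a₀)).mp this
    let c : (EtCoh.Gm X).obj.obj (op W) := ULift.up (Additive.ofMul hu.unit)
    refine ⟨(Scheme.pointSmallEtale (η' ≫ g)).toPresheafFiber W q (EtCoh.Gm X).obj c, ?_⟩
    refine (GrothendieckTopology.Point.toPresheafFiber_naturality_apply _ (EtLim.GmPush g).hom W q c).trans ?_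
    have key : (EtLim.GmPush g).hom.app (op W) c = ((EtCoh.push g).obj (EtCoh.Gm S)).obj.map r.op
        (((EtCoh.push g).obj (EtCoh.Gm S)).obj.map a.op s₀) := by
      refine MuLocal.val_injective (X := S) (T := (EtCoh.bc g).obj W) ?_
      refine (val_push' g W c).trans ?_
      refine Eq.trans ?_ (MuLocal.val_map ((EtCoh.bc g).map r) s₁).symm
      let j : ((EtCoh.bc g).obj W).left ⟶ pullback V.hom g := ((EtCoh.bc g).map r).left
      let bW : ((EtCoh.bc g).obj W).left ⟶ (O : Scheme.{u}) := pullback.fst W.hom g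
      have hfst : bW ≫ O.ι = j ≫ b := (pullback.lift_fst _ _ _).symm
      change bW.appTop (MuLocal.val c) = j.appTop (MuLocal.val s₁)
      refine TopCat.Presheaf.section_ext ((EtCoh.bc g).obj W).left.sheaf _ _ _ fun x hx => ?_
      have hj : j x = t₀ := by
        by_contra hne
        have hm : b.base (j x) ∈ O := by
          rw [← Scheme.Hom.comp_apply, ← hfst]
          exact (bW x).2
        exact hm.2 (Set.mem_iUnion₂.2 ⟨_, hne, subset_closure rfl⟩)
      have hxU : (bW ≫ O.ι) x ∈ U := hle' (x := bW x) trivial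
      have e1 : ((EtCoh.bc g).obj W).left.presheaf.germ ⊤ x trivial (bW.appTop (MuLocal.val c)) =
          (bW ≫ O.ι).stalkMap x (V.left.presheaf.germ U _ hxU a₀) := by
        rw [Scheme.Hom.stalkMap_comp]
        change _ = bW.stalkMap x (O.ι.stalkMap (bW x) (V.left.presheaf.germ U (O.ι (bW x)) hxU a₀))
        rw [Scheme.Hom.germ_stalkMap_apply]
        refine (Scheme.Hom.germ_stalkMap_apply bW ⊤ x trivial _).symm.trans (congrArg (bW.stalkMap x) ?_)
        refine (congrArg ((O : Scheme.{u}).presheaf.germ ⊤ (bW x) trivial) hu.unit_spec).trans ?_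
        rw [Scheme.Hom.appLE]
        exact TopCat.Presheaf.germ_res_apply (O : Scheme.{u}).presheaf (homOfLE hle') (bW x) _ (O.ι.app U a₀)
      have hall : ∀ (f : ((EtCoh.bc g).obj W).left ⟶ V.left) (hf : f x ∈ U), f = j ≫ b →
          f.stalkMap x (V.left.presheaf.germ U (f x) hf a₀) =
            ((EtCoh.bc g).obj W).left.presheaf.germ ⊤ x trivial (j.appTop (MuLocal.val s₁)) := by
        rintro f hf rfl
        rw [Scheme.Hom.stalkMap_comp]
        change j.stalkMap x (b.stalkMap (j x) (V.left.presheaf.germ U (b (j x)) hf a₀)) = _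
        refine Eq.trans (congrArg (j.stalkMap x) ?_) (Scheme.Hom.germ_stalkMap_apply j ⊤ x trivial _)
        have gen : ∀ (t : ↥(pullback V.hom g)) (h : b t ∈ U), t = t₀ →
            b.stalkMap t (V.left.presheaf.germ U (b t) h a₀) =
              (pullback V.hom g).presheaf.germ ⊤ t trivial (MuLocal.val s₁) := by
          rintro t h rfl
          exact hy
        exact gen _ _ hj
      exact e1.trans (hall _ _ hfst)
    refine (congrArg _ key).trans ?_
    rw [GrothendieckTopology.Point.toPresheafFiber_w_apply, hq, GrothendieckTopology.Point.toPresheafFiber_w_apply, hp]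
    rfl

section Maximal

open GmTorsion

/-- A map with a property bijective at one maximal point. -/
def GoodMap (G : EtCoh.Ab X) (R : ∀ P : EtCoh.Ab X, (G ⟶ P) → Prop) (η : X) : Prop :=
  ∃ (P : EtCoh.Ab X) (φ : G ⟶ P),
    (∀ (Ω : Type u) (_ : Field Ω) (_ : IsSepClosed Ω) (ξ : Spec (CommRingCat.of Ω) ⟶ X),
      Set.range ξ.base = {η} → IsIso ((EtCoh.stalk ξ).map φ)) ∧
    (∀ μ ∈ M X, μ ≠ η → μ ∉ EtPBC.supp P) ∧ R P φ

theorem exists_mapR {G : EtCoh.Ab X} (R : ∀ P : EtCoh.Ab X, (G ⟶ P) → Prop) (hR0 : ∀ (P : EtCoh.Ab X) (φ : G ⟶ P), 𝟙 P = 0 → R P φ)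
    (hR : ∀ (P Q : EtCoh.Ab X) (φ : G ⟶ P) (ψ : G ⟶ Q), R P φ → R Q ψ → R (P ⊞ Q) (biprod.lift φ ψ))
    (h : ∀ η ∈ M X, GoodMap G R η) {s : Set X} (hs : s.Finite) :
    ∃ (P : EtCoh.Ab X) (φ : G ⟶ P),
      (∀ η ∈ M X, η ∈ s → ∀ (Ω : Type u) (_ : Field Ω) (_ : IsSepClosed Ω) (ξ : Spec (CommRingCat.of Ω) ⟶ X),
        Set.range ξ.base = {η} → IsIso ((EtCoh.stalk ξ).map φ)) ∧
      (∀ μ ∈ M X, μ ∉ s → μ ∉ EtPBC.supp P) ∧ R P φ := by
  induction s, hs using Set.Finite.induction_on with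
  | empty =>
    refine ⟨(0 : EtCoh.Ab X), 0, fun _ _ h => absurd h (Set.notMem_empty _), fun μ _ _ => ?_, ?_⟩
    · refine (notMem_supp_iff _ μ).2 fun Ω _ _ ξ _ => ?_
      haveI : PreservesColimitsOfSize.{0, 0} (EtCoh.stalk ξ) := preservesColimitsOfSize_shrink.{0, u + 1, 0, u + 1} _
      exact Functor.map_isZero _ (isZero_zero _)
    · exact hR0 _ _ ((IsZero.iff_id_eq_zero _).1 (isZero_zero _))
  | @insert η s hηs _ IH =>
    obtain ⟨P₂, φ₂, iso₂, off₂, van₂⟩ := IH
    by_cases hηM : η ∈ M X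
    swap
    · exact ⟨P₂, φ₂, fun μ hμ h => iso₂ μ hμ (h.resolve_left fun e => hηM (e ▸ hμ)),
        fun μ hμ h => off₂ μ hμ fun hh => h (Or.inr hh), van₂⟩
    obtain ⟨P₁, φ₁, iso₁, off₁, van₁⟩ := h η hηM
    refine ⟨P₁ ⊞ P₂, biprod.lift φ₁ φ₂, fun μ hμ hμs Ω i₁ i₂ ξ hξ => ?_, fun μ hμ hμs => ?_,
      hR _ _ _ _ van₁ van₂⟩
    · haveI : PreservesColimitsOfSize.{0, 0} (EtCoh.stalk ξ) := preservesColimitsOfSize_shrink.{0, u + 1, 0, u + 1} _
      haveI : (EtCoh.stalk ξ).Additive := inferInstance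
      rcases hμs with rfl | hμs
      · have h0 := (IsZero.iff_id_eq_zero _).1 ((notMem_supp_iff P₂ μ).1 (off₂ μ hμ hηs) Ω i₁ i₂ ξ hξ)
        haveI : IsIso ((EtCoh.stalk ξ).map (biprod.fst : P₁ ⊞ P₂ ⟶ P₁)) := by
          refine ⟨(EtCoh.stalk ξ).map biprod.inl, ?_, ?_⟩
          · have hz : (EtCoh.stalk ξ).map ((biprod.snd : P₁ ⊞ P₂ ⟶ P₂) ≫ (biprod.inr : P₂ ⟶ P₁ ⊞ P₂)) = 0 := by
              rw [Functor.map_comp, ← Category.id_comp ((EtCoh.stalk ξ).map biprod.inr), h0, zero_comp, comp_zero]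
            rw [← Functor.map_comp, ← CategoryTheory.Functor.map_id, ← biprod.total, Functor.map_add, hz, add_zero]
          · rw [← Functor.map_comp, biprod.inl_fst, CategoryTheory.Functor.map_id]
        haveI := iso₁ Ω i₁ i₂ ξ hξ
        haveI : IsIso ((EtCoh.stalk ξ).map (biprod.lift φ₁ φ₂) ≫ (EtCoh.stalk ξ).map biprod.fst) := by
          rw [← Functor.map_comp, biprod.lift_fst]; infer_instance
        exact IsIso.of_isIso_comp_right _ ((EtCoh.stalk ξ).map biprod.fst)
      · have hne : μ ≠ η := fun e => hηs (e ▸ hμs)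
        have h0 := (IsZero.iff_id_eq_zero _).1 ((notMem_supp_iff P₁ μ).1 (off₁ μ hμ hne) Ω i₁ i₂ ξ hξ)
        haveI : IsIso ((EtCoh.stalk ξ).map (biprod.snd : P₁ ⊞ P₂ ⟶ P₂)) := by
          refine ⟨(EtCoh.stalk ξ).map biprod.inr, ?_, ?_⟩
          · have hz : (EtCoh.stalk ξ).map ((biprod.fst : P₁ ⊞ P₂ ⟶ P₁) ≫ (biprod.inl : P₁ ⟶ P₁ ⊞ P₂)) = 0 := by
              rw [Functor.map_comp, ← Category.id_comp ((EtCoh.stalk ξ).map biprod.inl), h0, zero_comp, comp_zero]
            rw [← Functor.map_comp, ← CategoryTheory.Functor.map_id, ← biprod.total, Functor.map_add, hz, zero_add]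
          · rw [← Functor.map_comp, biprod.inr_snd, CategoryTheory.Functor.map_id]
        haveI := iso₂ μ hμ hμs Ω i₁ i₂ ξ hξ
        haveI : IsIso ((EtCoh.stalk ξ).map (biprod.lift φ₁ φ₂) ≫ (EtCoh.stalk ξ).map biprod.snd) := by
          rw [← Functor.map_comp, biprod.lift_snd]; infer_instance
        exact IsIso.of_isIso_comp_right _ ((EtCoh.stalk ξ).map biprod.snd)
    · refine (notMem_supp_iff _ μ).2 fun Ω i₁ i₂ ξ hξ => (IsZero.iff_id_eq_zero _).2 ?_
      haveI : PreservesColimitsOfSize.{0, 0} (EtCoh.stalk ξ) := preservesColimitsOfSize_shrink.{0, u + 1, 0, u + 1} _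
      have h1 := (IsZero.iff_id_eq_zero _).1 ((notMem_supp_iff P₁ μ).1 (off₁ μ hμ fun e => hμs (Or.inl e)) Ω i₁ i₂ ξ hξ)
      have h2 := (IsZero.iff_id_eq_zero _).1 ((notMem_supp_iff P₂ μ).1 (off₂ μ hμ fun e => hμs (Or.inr e)) Ω i₁ i₂ ξ hξ)
      rw [← CategoryTheory.Functor.map_id, ← biprod.total, Functor.map_add, Functor.map_comp, Functor.map_comp,
        ← Category.id_comp ((EtCoh.stalk ξ).map biprod.inl), ← Category.id_comp ((EtCoh.stalk ξ).map biprod.inr),
        h1, h2, zero_comp, zero_comp, comp_zero, comp_zero, add_zero]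



theorem mem_M_iff (η : X) : η ∈ M X ↔ ∀ y : X, y ⤳ η → y = η := by
  refine ⟨fun h y hy => (Lib.SchTopo.Closure.eq_of_specializes_of_closure_mem h hy), fun h => ?_⟩
  have hi : IsIrreducible (closure {η}) := isIrreducible_singleton.closure
  refine ⟨hi, fun Y hY hle => ?_⟩
  have hY' : IsIrreducible (closure Y) := hY.closure
  obtain ⟨y, hy⟩ := QuasiSober.sober hY' isClosed_closure
  have hη : η ∈ closure Y := subset_closure (hle (subset_closure rfl))
  rw [← hy.def, ← specializes_iff_mem_closure] at hη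
  refine fun z hz => ?_
  rw [← h y hη, hy.def]
  exact subset_closure hz

theorem range_eq {η : X} (hη : ∀ y : X, y ⤳ η → y = η) : Set.range (X.fromSpecStalk η).base = {η} := by
  rw [show Set.range (X.fromSpecStalk η).base = {y | y ⤳ η} from Scheme.range_fromSpecStalk]
  exact Set.eq_singleton_iff_unique_mem.2 ⟨specializes_rfl, hη⟩

theorem subsingleton_spec {η : X} (hη : ∀ y : X, y ⤳ η → y = η) :
    Subsingleton ↥(Spec (X.presheaf.stalk η)) :=
  ⟨fun a b => (X.fromSpecStalk η).isEmbedding.injective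
    ((Set.eq_of_mem_singleton (range_eq hη ▸ Set.mem_range_self a)).trans
      (Set.eq_of_mem_singleton (range_eq hη ▸ Set.mem_range_self b)).symm)⟩

theorem discrete [IsLocallyNoetherian X] {η : X} (hη : ∀ y : X, y ⤳ η → y = η)
    (T : (Spec (X.presheaf.stalk η)).Etale) : DiscreteTopology T.left := by
  haveI := subsingleton_spec hη
  haveI : IsNoetherian (Spec (X.presheaf.stalk η)) := inferInstance
  haveI : IsLocallyArtinian (Spec (X.presheaf.stalk η)) :=
    IsLocallyArtinian.of_isLocallyNoetherian_of_discreteTopology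
  haveI : Etale T.hom := T.prop
  haveI := Groth.Agent.Lib.EtSite.FieldExt.locallyQuasiFinite_of_etale T.hom
  exact @IsLocallyArtinian.discreteTopology T.left
    (@IsLocallyArtinian.of_locallyQuasiFinite T.left (Spec (X.presheaf.stalk η)) T.hom _ _)

theorem flat_fromSpecStalk (η : X) : Flat (X.fromSpecStalk η) := by
  obtain ⟨U, hU, hηU, -⟩ := exists_isAffineOpen_mem_and_subset (x := η) (U := ⊤) trivial
  rw [← hU.fromSpecStalk_eq_fromSpecStalk hηU, IsAffineOpen.fromSpecStalk]
  haveI : Flat (Spec.map (X.presheaf.germ U η hηU)) := by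
    rw [HasRingHomProperty.Spec_iff (P := @Flat)]
    algebraize [(X.presheaf.germ U η hηU).hom]
    haveI := hU.isLocalization_stalk ⟨η, hηU⟩
    exact IsLocalization.flat (X.presheaf.stalk η) (hU.primeIdealOf ⟨η, hηU⟩).asIdeal.primeCompl
  infer_instance

variable [IsNoetherian X]

theorem eq_zero (hdim : topologicalKrullDim X ≤ 1)
    (hsep : ∀ x : X, IsClosed ({x} : Set X) → IsSepClosed (X.residueField x))
    [∀ x : X, PreservesFiniteLimits (EtCoh.pull (X.fromSpecStalk x))]
    (ξ : EtCoh.H X (EtCoh.Gm X) 2)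
    (hξ : ∀ x : X, (∀ y : X, y ⤳ x → y = x) → EtLim.HGmPull (X.fromSpecStalk x) 2 ξ = 0) : ξ = 0 := by
  have hfin : (M X).Finite := Set.Finite.of_finite_image
    (TopologicalSpace.NoetherianSpace.finite_irreducibleComponents.subset
      (by rintro _ ⟨η, hη, rfl⟩; exact hη))
    (fun a _ b _ h => ((specializes_iff_closure_subset.2 h.ge).antisymm (specializes_iff_closure_subset.2 h.le)).eq)
  obtain ⟨P, φ, hφ, -, hP⟩ := exists_mapR (G := EtCoh.Gm X) (fun P φ => ξ.comp (Ext.mk₀ φ) (add_zero 2) = 0)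
    (fun P φ h => @Subsingleton.elim _ (CurveCd.subsingleton_of_id_eq h) _ _)
    (fun P Q a b ha hb => by
      rw [← (ξ.comp (Ext.mk₀ (biprod.lift a b)) (add_zero 2)).comp_mk₀_id, ← biprod.total, Ext.mk₀_add,
        Ext.comp_add, ← Ext.mk₀_comp_mk₀, ← Ext.mk₀_comp_mk₀, ← Ext.comp_assoc_of_second_deg_zero,
        ← Ext.comp_assoc_of_second_deg_zero, Ext.comp_assoc_of_second_deg_zero ξ, Ext.mk₀_comp_mk₀,
        biprod.lift_fst, ha, Ext.comp_assoc_of_second_deg_zero ξ, Ext.mk₀_comp_mk₀, biprod.lift_snd, hb,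
        Ext.zero_comp, Ext.zero_comp, add_zero])
    (fun η hη => by
      have hη' := (mem_M_iff η).1 hη
      let g : Spec (X.presheaf.stalk η) ⟶ X := X.fromSpecStalk η
      haveI : Flat g := flat_fromSpecStalk η
      haveI : IsPreimmersion g := inferInstanceAs (IsPreimmersion (X.fromSpecStalk η))
      haveI := subsingleton_spec hη'
      haveI : QuasiCompact g := ⟨fun _ _ _ => (Set.subsingleton_of_subsingleton).isCompact⟩
      haveI : Fact (∀ T : (Spec (X.presheaf.stalk η)).Etale, DiscreteTopology T.left) := ⟨discrete hη'⟩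
      have hr : Set.range g.base = {η} := range_eq hη'
      refine ⟨_, EtLim.GmPush g, fun Ω i₁ i₂ ξ' hξ' => ?_, fun μ hμ hne => ?_, ?_⟩
      · obtain ⟨η₀, rfl⟩ := CurveCd.exists_factor ξ' hξ'
        obtain ⟨η₁, h₁⟩ : ∃ m, m ≫ g = X.fromSpecResidueField η := ⟨Spec.map (X.residue η), rfl⟩
        rw [← h₁, ← Category.assoc]
        exact (ConcreteCategory.isIso_iff_bijective _).2 (bijective_stalk g (discrete hη') _)
      · refine notMem_supp_push' g _ μ fun hc => hne ?_
        rw [hr, ← specializes_iff_mem_closure] at hc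
        exact (Lib.SchTopo.Closure.eq_of_specializes_of_closure_mem hμ hc).symm
      · exact GmLocalRing.HofPush_two_injective g ((hξ η hη').trans (map_zero _).symm)) hfin
  have hs := fun η (hη : η ∈ M X) => CurveGeneric.notMem_supp_of_isIso φ (hφ η hη hη)
  have hb := CurveGeneric.bijective_comp (P := EtCoh.const X ℤ) φ 1
    (NoethCurve.subsingleton_H_of_no_maximal hdim hsep _ (fun η hη => (hs η hη).1) 2 (by omega))
    (NoethCurve.subsingleton_H_of_no_maximal hdim hsep _ (fun η hη => (hs η hη).1) 3 (by omega))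
    (NoethCurve.subsingleton_H_of_no_maximal hdim hsep _ (fun η hη => (hs η hη).2) 1 (by omega))
    (NoethCurve.subsingleton_H_of_no_maximal hdim hsep _ (fun η hη => (hs η hη).2) 2 (by omega))
  exact hb.1 (hP.trans (Ext.zero_comp _ _ _ _ _).symm)

end Maximal

end Groth.Agent.H88.EtMod.GmLocalRing
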