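import Groth.Agent.H88.EtMod.Criterion
import Groth.Agent.H88.Hom.DerivedTensorGen

/-!
The standing hypotheses of the generic derived tensor product, for étale sheaves of `Λ`-modules.
-/

universe u

open CategoryTheory CategoryTheory.Limits AlgebraicGeometry HomologicalComplex

namespace Groth.Agent.H88.EtMod.KFlat

variable {Λ : Type (u + 1)} [CommRing Λ] {X : Scheme.{u}}

instance hasColimits_discrete (J : Type) : HasColimitsOfShape (Discrete J) (EtModW.Mod Λ X) :=
  EtModD.hasColimitsOfShape_discrete J

instance preservesFiniteLimits_gen (U : X.Etale) :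
    PreservesFiniteLimits ((EtModD.tensorBi Λ X).obj ((Criterion.gen Λ X).obj U)) :=
  Free.preservesFiniteLimits_tensor_free U

instance preservesFiniteLimits_gen_flip (U : X.Etale) :
    PreservesFiniteLimits ((EtModD.tensorBi Λ X).flip.obj ((Criterion.gen Λ X).obj U)) :=
  Free.preservesFiniteLimits_tensor_free_flip U

end Groth.Agent.H88.EtMod.KFlat
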