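import Groth.Agent.H88.EtMod.LocConst
import Mathlib.CategoryTheory.Sites.LocallyBijective

/-!
Charts of locally constant sheaves of modules of finite type, formulated on stalks.
-/

set_option autoImplicit false
set_option linter.style.haveILetI false

universe u

open CategoryTheory CategoryTheory.Limits AlgebraicGeometry Opposite

noncomputable section

namespace Groth.Agent.H88.EtMod.LCChart

open Groth.Agent.Lib.EtSite Groth.Agent.Lib.EtSite.Basic

variable {Λ : Type (u + 1)} [CommRing Λ] {X : Scheme.{u}}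

/-- The germ at a geometric point. -/
def germ (F : EtModW.Mod Λ X) (U : X.Etale) {Ω : Type u} [Field Ω] [IsSepClosed Ω]
    (ξ : Spec (CommRingCat.of Ω) ⟶ X) (p : (Scheme.pointSmallEtale ξ).fiber.obj U) :
    F.obj.obj (op U) →ₗ[Λ] ↥((Scheme.pointSmallEtale ξ).sheafFiber.obj F) :=
  ((Scheme.pointSmallEtale ξ).toPresheafFiber U p F.obj).hom

theorem germ_map (F : EtModW.Mod Λ X) {U V : X.Etale} (g : V ⟶ U) {Ω : Type u} [Field Ω]
    [IsSepClosed Ω] (ξ : Spec (CommRingCat.of Ω) ⟶ X)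
    (q : (Scheme.pointSmallEtale ξ).fiber.obj V) (s : F.obj.obj (op U)) :
    germ F V ξ q (F.obj.map g.op s) = germ F U ξ ((Scheme.pointSmallEtale ξ).fiber.map g q) s :=
  GrothendieckTopology.Point.toPresheafFiber_w_apply _ g q F.obj s

theorem germ_naturality {F G : EtModW.Mod Λ X} (α : F ⟶ G) (U : X.Etale) {Ω : Type u} [Field Ω]
    [IsSepClosed Ω] (ξ : Spec (CommRingCat.of Ω) ⟶ X) (p : (Scheme.pointSmallEtale ξ).fiber.obj U)
    (s : F.obj.obj (op U)) :
    (Scheme.pointSmallEtale ξ).sheafFiber.map α (germ F U ξ p s) =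
      germ G U ξ p (α.hom.app (op U) s) :=
  (Scheme.pointSmallEtale ξ).toPresheafFiber_naturality_apply α.hom U p s

theorem exists_germ_eq (F : EtModW.Mod Λ X) (U : X.Etale) {Ω : Type u} [Field Ω] [IsSepClosed Ω]
    (ξ : Spec (CommRingCat.of Ω) ⟶ X) (p : (Scheme.pointSmallEtale ξ).fiber.obj U)
    (z : ↥((Scheme.pointSmallEtale ξ).sheafFiber.obj F)) :
    ∃ (V : X.Etale) (g : V ⟶ U) (q : (Scheme.pointSmallEtale ξ).fiber.obj V) (s : F.obj.obj (op V)),
      (Scheme.pointSmallEtale ξ).fiber.map g q = p ∧ germ F V ξ q s = z := by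
  obtain ⟨V, q, s, rfl⟩ := (Scheme.pointSmallEtale ξ).toPresheafFiber_jointly_surjective z
  obtain ⟨W, a, b, w, hw, hw'⟩ := LocConst.exists_min p q
  refine ⟨W, a, w, F.obj.map b.op s, hw, ?_⟩
  rw [germ_map, hw']
  rfl

variable {F : EtModW.Mod Λ X} {U : X.Etale} {M : Type (u + 1)} [AddCommGroup M] [Module Λ M]

/-- A chart: a module mapping to sections which is bijective on all stalks. -/
def IsChart (F : EtModW.Mod Λ X) (U : X.Etale) (φ : M →ₗ[Λ] F.obj.obj (op U)) : Prop :=
  ∀ (Ω : Type u) [Field Ω] [IsSepClosed Ω] (ξ : Spec (CommRingCat.of Ω) ⟶ X)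
    (p : (Scheme.pointSmallEtale ξ).fiber.obj U), Function.Bijective fun m => germ F U ξ p (φ m)

/-- Restriction of a chart. -/
theorem IsChart.restrict {φ : M →ₗ[Λ] F.obj.obj (op U)} (h : IsChart F U φ) {V : X.Etale}
    (g : V ⟶ U) : IsChart F V ((F.obj.map g.op).hom ∘ₗ φ) := by
  intro Ω _ _ ξ q
  convert h Ω ξ ((Scheme.pointSmallEtale ξ).fiber.map g q) using 1
  funext m
  exact germ_map F g ξ q (φ m)

variable [Module.Finite Λ M]

/-- The map of presheaves on the over site given by a chart. -/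
def chartHom (φ : M →ₗ[Λ] F.obj.obj (op U)) :
    (Functor.const (Over U)ᵒᵖ).obj (ModuleCat.of Λ M) ⟶ (EtModW.restr Λ F U).obj where
  app W := ModuleCat.ofHom ((F.obj.map W.unop.hom.op).hom ∘ₗ φ)
  naturality {W W'} g := by
    ext m
    change F.obj.map W'.unop.hom.op (φ m) = F.obj.map g.unop.left.op (F.obj.map W.unop.hom.op (φ m))
    rw [← ConcreteCategory.comp_apply, ← Functor.map_comp, ← op_comp, Over.w]

/-- The map from the constant sheaf given by a chart. -/
def chartMap (φ : M →ₗ[Λ] F.obj.obj (op U)) :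
    (constantSheaf (X.smallEtaleTopology.over U) (ModuleCat.{u + 1} Λ)).obj (ModuleCat.of Λ M) ⟶
      EtModW.restr Λ F U :=
  ((sheafificationAdjunction (X.smallEtaleTopology.over U) (ModuleCat.{u + 1} Λ)).homEquiv _ _).symm
    (chartHom φ)

omit [Module.Finite Λ M] in
theorem IsChart.isIso_chartMap {φ : M →ₗ[Λ] F.obj.obj (op U)} (h : IsChart F U φ) :
    IsIso (chartMap φ) := by
  let J := X.smallEtaleTopology.over U
  let τ := chartHom φ
  haveI hinj : Presheaf.IsLocallyInjective J τ := by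
    refine ⟨fun {W} m m' hm => ?_⟩
    refine (GrothendieckTopology.mem_over_iff _ _).2 ((mem_topology_iff _).2 fun w => ?_)
    obtain ⟨p, -⟩ := exists_fiber_geomPoint W.unop.left w
    have hmm : m = m' := (h _ _ ((Scheme.pointSmallEtale _).fiber.map W.unop.hom p)).1 (by
      change germ F U _ _ (φ m) = germ F U _ _ (φ m')
      rw [← germ_map, ← germ_map]
      exact congrArg _ hm)
    subst hmm
    exact ⟨W.unop.left, 𝟙 _, (Sieve.overEquiv_iff _ _).2 rfl, w, rfl⟩
  haveI hsurj : Presheaf.IsLocallySurjective J τ := by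
    refine ⟨fun {W} s => ?_⟩
    refine (GrothendieckTopology.mem_over_iff _ _).2 ((mem_topology_iff _).2 fun w => ?_)
    obtain ⟨p, hp⟩ := exists_fiber_geomPoint W.left w
    obtain ⟨m, hm⟩ := (h _ _ ((Scheme.pointSmallEtale _).fiber.map W.hom p)).2 (germ F W.left _ p s)
    have hm' : germ F W.left _ p (F.obj.map W.hom.op (φ m)) = germ F W.left _ p s := by
      rw [germ_map]; exact hm
    obtain ⟨V, g, q, hq, hV⟩ := ((Scheme.pointSmallEtale _).toPresheafFiber_eq_iff' W.left p _ _).1 hm'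
    refine ⟨V, g, (Sieve.overEquiv_iff _ _).2 ⟨m, ?_⟩, fiberPt q,
      (fiberPt_map g q).symm.trans ((congrArg fiberPt hq).trans hp)⟩
    refine Eq.trans ?_ hV
    change F.obj.map (g ≫ W.hom).op (φ m) = _
    rw [op_comp, Functor.map_comp, ConcreteCategory.comp_apply]
  have hW : J.W τ := (J.W_iff_isLocallyBijective τ).2 ⟨hinj, hsurj⟩
  haveI : IsIso ((presheafToSheaf J (ModuleCat.{u + 1} Λ)).map τ) :=
    (J.W_iff τ).1 hW
  have hχ : chartMap φ = (presheafToSheaf J (ModuleCat.{u + 1} Λ)).map τ ≫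
      (sheafificationAdjunction J (ModuleCat.{u + 1} Λ)).counit.app (EtModW.restr Λ F U) :=
    Adjunction.homEquiv_counit ..
  rw [hχ]
  exact IsIso.comp_isIso' this inferInstance

omit [Module.Finite Λ M] in
/-- A chart gives an isomorphism with the constant sheaf. -/
theorem IsChart.nonempty_iso {φ : M →ₗ[Λ] F.obj.obj (op U)} (h : IsChart F U φ) :
    Nonempty (EtModW.restr Λ F U ≅
      (constantSheaf (X.smallEtaleTopology.over U) (ModuleCat.{u + 1} Λ)).obj (ModuleCat.of Λ M)) :=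
  haveI := h.isIso_chartMap
  ⟨(asIso (chartMap φ)).symm⟩

omit [Module.Finite Λ M] in
/-- Charts of source and target intertwining a linear map intertwine the constant sheaves. -/
theorem chartMap_naturality {G : EtModW.Mod Λ X} {N : Type (u + 1)} [AddCommGroup N] [Module Λ N]
    (φ : M →ₗ[Λ] F.obj.obj (op U)) (ψ : N →ₗ[Λ] G.obj.obj (op U)) (α : F ⟶ G) (a : M →ₗ[Λ] N)
    (h : ∀ m, α.hom.app (op U) (φ m) = ψ (a m)) :
    chartMap φ ≫ (X.smallEtaleTopology.overPullback (ModuleCat.{u + 1} Λ) U).map α =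
      (constantSheaf (X.smallEtaleTopology.over U) (ModuleCat.{u + 1} Λ)).map (ModuleCat.ofHom a) ≫
        chartMap ψ := by
  let A := sheafificationAdjunction (X.smallEtaleTopology.over U) (ModuleCat.{u + 1} Λ)
  have hτ : chartHom φ ≫ ((X.smallEtaleTopology.overPullback (ModuleCat.{u + 1} Λ) U).map α).hom =
      (Functor.const (Over U)ᵒᵖ).map (ModuleCat.ofHom a) ≫ chartHom ψ := by
    ext W m
    exact (NatTrans.naturality_apply α.hom W.unop.hom.op (φ m)).trans (congrArg _ (h m))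
  refine (A.homEquiv_naturality_right_symm _ _).symm.trans ?_
  refine Eq.trans ?_ (A.homEquiv_naturality_left_symm _ _)
  exact congrArg _ hτ

omit [Module.Finite Λ M] in
/-- An isomorphism with a constant sheaf gives a chart. -/
theorem exists_isChart (e : EtModW.restr Λ F U ≅
    (constantSheaf (X.smallEtaleTopology.over U) (ModuleCat.{u + 1} Λ)).obj (ModuleCat.of Λ M)) :
    ∃ φ : M →ₗ[Λ] F.obj.obj (op U), IsChart F U φ := by
  let J := X.smallEtaleTopology.over U
  let P : (Over U)ᵒᵖ ⥤ ModuleCat.{u + 1} Λ := (Functor.const _).obj (ModuleCat.of Λ M)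
  let η : P ⟶ ((constantSheaf J (ModuleCat.{u + 1} Λ)).obj (ModuleCat.of Λ M)).obj := toSheafify J P
  let τ : P ⟶ (EtModW.restr Λ F U).obj := η ≫ e.inv.hom
  haveI : IsIso e.inv.hom := inferInstanceAs (IsIso ((sheafToPresheaf _ _).map e.inv))
  haveI : Sheaf.IsLocallySurjective e.inv := inferInstance
  haveI : Sheaf.IsLocallyInjective e.inv := inferInstance
  haveI hsurj : Presheaf.IsLocallySurjective J τ := by
    haveI : Presheaf.IsLocallySurjective J η :=
      inferInstanceAs (Presheaf.IsLocallySurjective J (toSheafify J P))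
    exact Presheaf.isLocallySurjective_comp J η e.inv.hom
  haveI hinj : Presheaf.IsLocallyInjective J τ := by
    haveI : Presheaf.IsLocallyInjective J η :=
      inferInstanceAs (Presheaf.IsLocallyInjective J (toSheafify J P))
    exact Presheaf.isLocallyInjective_comp J η e.inv.hom
  let φ : M →ₗ[Λ] F.obj.obj (op U) := (τ.app (op (Over.mk (𝟙 U)))).hom
  have hφ : ∀ {V : X.Etale} (g : V ⟶ U) (m : M), τ.app (op (Over.mk g)) m = F.obj.map g.op (φ m) :=
    fun {V} g m => ConcreteCategory.congr_hom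
      (τ.naturality (Over.homMk g : Over.mk g ⟶ Over.mk (𝟙 U)).op) m
  refine ⟨φ, fun Ω _ _ ξ p => ⟨fun m m' hm => ?_, fun z => ?_⟩⟩
  · obtain ⟨V, g, q, hq, hV⟩ := ((Scheme.pointSmallEtale ξ).toPresheafFiber_eq_iff' U p _ _).1 hm
    have hS : Sieve.overEquiv _ (Presheaf.equalizerSieve (F := P) (X := op (Over.mk g)) m m') ∈
        X.smallEtaleTopology V :=
      (GrothendieckTopology.mem_over_iff _ (Presheaf.equalizerSieve (F := P)
          (X := op (Over.mk g)) m m')).1
        (Presheaf.equalizerSieve_mem J τ (X := op (Over.mk g)) m m'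
          ((hφ g m).trans (hV.trans (hφ g m').symm)))
    obtain ⟨W, k, hk, -⟩ := (mem_topology_iff _).1 hS (fiberPt q)
    exact (Sieve.overEquiv_iff _ _).1 hk
  · obtain ⟨V, g, q, s, hq, rfl⟩ := exists_germ_eq F U ξ p z
    have hS : Sieve.overEquiv _ (Presheaf.imageSieve τ (U := Over.mk g) s) ∈ X.smallEtaleTopology V :=
      (GrothendieckTopology.mem_over_iff _ _).1
        (Presheaf.imageSieve_mem J τ (U := op (Over.mk g)) s)
    obtain ⟨W, k, hk, w, hw⟩ := (mem_topology_iff _).1 hS (fiberPt q)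
    obtain ⟨r, hr, -⟩ := Fiber.exists_fiber_map ξ k q w hw
    obtain ⟨m, hm⟩ := (Sieve.overEquiv_iff _ _).1 hk
    refine ⟨m, ?_⟩
    have h1 : F.obj.map (k ≫ g).op (φ m) = F.obj.map k.op s := (hφ (k ≫ g) m).symm.trans hm
    change germ F U ξ p (φ m) = germ F V ξ q s
    have h2 := congrArg (germ F W ξ r) h1
    rw [germ_map, germ_map, Functor.map_comp, ConcreteCategory.comp_apply, hr, hq] at h2
    exact h2

/-- Locally constant of finite type, pointwise. -/
theorem isFTLocConst_iff : EtModW.IsFTLocConst Λ F ↔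
    ∀ x : X, ∃ (U : X.Etale) (_ : ∃ u : U.left, U.hom.base u = x) (M : Type (u + 1)) (_ : AddCommGroup M)
      (_ : Module Λ M) (_ : Module.Finite Λ M) (φ : M →ₗ[Λ] F.obj.obj (op U)), IsChart F U φ := by
  constructor
  · rintro ⟨ι, V, hV, hc⟩ x
    obtain ⟨i, v, hv⟩ := hV x
    obtain ⟨N, _, _, _, ⟨e⟩⟩ := hc i
    obtain ⟨φ, hφ⟩ := exists_isChart e
    exact ⟨V i, ⟨v, hv⟩, N, inferInstance, inferInstance, inferInstance, φ, hφ⟩
  · intro h
    choose V hV N i1 i2 i3 φ hφ using h
    refine ⟨X, V, fun x => ?_, fun x => ⟨N x, i1 x, i2 x, i3 x, (hφ x).nonempty_iso⟩⟩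
    obtain ⟨u, hu⟩ := hV x
    exact ⟨x, u, hu⟩

end Groth.Agent.H88.EtMod.LCChart
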