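import Groth.Agent.H88.EtMod.KFlat

/-!
The derived tensor product of complexes of étale sheaves of `Λ`-modules exists and agrees with
the tensor product at complexes which preserve quasi-isomorphisms.
-/

universe u

open CategoryTheory CategoryTheory.Limits AlgebraicGeometry
open Groth.Agent.Lib.DerivedOX Groth.Agent.Lib.DerivedOX.LeftRes
open ZeroObject

attribute [local instance] HasDerivedCategory.standard

namespace Groth.Agent.H88.EtMod.LTensor

variable {Λ : Type (u + 1)} [CommRing Λ] {X : Scheme.{u}}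

instance hasLTensorCx (E : CochainComplex (EtModW.Mod Λ X) ℤ) : EtModD.HasLTensorCx E :=
  Hom.DerivedTensorGen.hasLeftDerivedFunctor (EtModD.tensorBi Λ X) Criterion.isSeparating E

/-- `K` is K-flat: tensoring with it preserves quasi-isomorphisms. -/
abbrev IsKFlat (K : CochainComplex (EtModW.Mod Λ X) ℤ) : Prop :=
  Hom.DerivedTensorGen.IsKFlat (EtModD.tensorBi Λ X) K

theorem isKFlat_of_cof {K : CochainComplex (EtModW.Mod Λ X) ℤ}
    (hK : cof (Criterion.gen Λ X).obj (0 : 0 ⟶ K)) : IsKFlat K :=
  Hom.DerivedTensorGen.isKFlat_of_cof (EtModD.tensorBi Λ X) Criterion.isSeparating hK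

theorem isIso_counit_app {K : CochainComplex (EtModW.Mod Λ X) ℤ} (hK : IsKFlat K)
    (E : CochainComplex (EtModW.Mod Λ X) ℤ) [EtModD.HasLTensorCx E] :
    IsIso (((EtModD.tensorCxQ E).totalLeftDerivedCounit DerivedCategory.Q
      (HomologicalComplex.quasiIso (EtModW.Mod Λ X) (ComplexShape.up ℤ))).app K) :=
  Hom.DerivedTensorGen.isIso_counit_app (EtModD.tensorBi Λ X) Criterion.isSeparating hK E
    (EtModD.LTensorCx E)
    ((EtModD.tensorCxQ E).totalLeftDerivedCounit DerivedCategory.Q
      (HomologicalComplex.quasiIso (EtModW.Mod Λ X) (ComplexShape.up ℤ)))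

/-- The derived tensor product at a K-flat complex. -/
noncomputable def ltensorIso {K : CochainComplex (EtModW.Mod Λ X) ℤ} (hK : IsKFlat K)
    (E : CochainComplex (EtModW.Mod Λ X) ℤ) [EtModD.HasLTensorCx E] :
    (EtModD.LTensorCx E).obj (DerivedCategory.Q.obj K) ≅
      DerivedCategory.Q.obj (((EtModD.tensorCx Λ X).obj K).obj E) :=
  @asIso _ _ _ _ _ (isIso_counit_app hK E)

end Groth.Agent.H88.EtMod.LTensor
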