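import Groth.Prelude.Def_EtMod2
import Groth.Agent.Lib.EtSite.Stalk
import Groth.Agent.Lib.EtSite.Fiber
import Groth.Agent.Lib.EtSite.Pull
import Mathlib.Algebra.Category.ModuleCat.FilteredColimits
import Mathlib.CategoryTheory.Sites.LocallyBijective
import Mathlib.RingTheory.Finiteness.Basic

/-!
Locally constant sheaves of modules of finite type: locally generated by finitely many sections, and
surjectivity of a morphism onto such a sheaf is an open condition.
-/

set_option autoImplicit false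
set_option linter.style.haveILetI false

universe u

open CategoryTheory CategoryTheory.Limits AlgebraicGeometry Opposite

noncomputable section

namespace Groth.Agent.H88.EtMod.LocConst

open Groth.Agent.Lib.EtSite Groth.Agent.Lib.EtSite.Basic

variable {Λ : Type (u + 1)} [CommRing Λ] {X : Scheme.{u}}

instance preservesFilteredColimits_forget :
    PreservesFilteredColimitsOfSize.{u, u} (forget (ModuleCat.{u + 1} Λ)) :=
  preservesFilteredColimitsOfSize_shrink.{u, u + 1, u, u + 1} _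

/-- The morphism is surjective on the stalk at `ξ`. -/
def SurjAt {F G : EtModW.Mod Λ X} (ψ : G ⟶ F) {Ω : Type u} [Field Ω] [IsSepClosed Ω]
    (ξ : Spec (CommRingCat.of Ω) ⟶ X) : Prop :=
  Function.Surjective ((Scheme.pointSmallEtale ξ).sheafFiber.map ψ)

theorem surjAt_of_comp {F G H : EtModW.Mod Λ X} (χ : H ⟶ G) (ψ : G ⟶ F) {Ω : Type u} [Field Ω]
    [IsSepClosed Ω] {ξ : Spec (CommRingCat.of Ω) ⟶ X} (h : SurjAt (χ ≫ ψ) ξ) : SurjAt ψ ξ := by
  intro z
  obtain ⟨w, hw⟩ := h z
  refine ⟨(Scheme.pointSmallEtale ξ).sheafFiber.map χ w, ?_⟩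
  rw [← hw, Functor.map_comp, ConcreteCategory.comp_apply]

/-- Sections generating every section locally on the étale schemes over `U`. -/
def LocGen {r : ℕ} (F : EtModW.Mod Λ X) (U : X.Etale) (e : Fin r → F.obj.obj (op U)) : Prop :=
  ∀ (V : X.Etale) (f : V ⟶ U) (s : F.obj.obj (op V)) (w : V.left),
    ∃ (V' : X.Etale) (g : V' ⟶ V), (∃ w' : V'.left, g.left.base w' = w) ∧
      F.obj.map g.op s ∈ Submodule.span Λ (Set.range fun k => F.obj.map (g ≫ f).op (e k))

/-- A sheaf constant of finite type on `U` is locally generated by finitely many sections there. -/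
theorem exists_locGen {F : EtModW.Mod Λ X} {U : X.Etale} {M : Type (u + 1)} [AddCommGroup M]
    [Module Λ M] [Module.Finite Λ M] (e : EtModW.restr Λ F U ≅
      (constantSheaf (X.smallEtaleTopology.over U) (ModuleCat.{u + 1} Λ)).obj (ModuleCat.of Λ M)) :
    ∃ (r : ℕ) (s : Fin r → F.obj.obj (op U)), LocGen F U s := by
  obtain ⟨r, m, hm⟩ := Module.Finite.exists_fin (R := Λ) (M := M)
  let P : (Over U)ᵒᵖ ⥤ ModuleCat.{u + 1} Λ := (Functor.const _).obj (ModuleCat.of Λ M)
  let η : P ⟶ ((constantSheaf (X.smallEtaleTopology.over U) (ModuleCat.{u + 1} Λ)).obj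
      (ModuleCat.of Λ M)).obj :=
    toSheafify (X.smallEtaleTopology.over U) P
  let τ : P ⟶ (EtModW.restr Λ F U).obj := η ≫ e.inv.hom
  haveI : Presheaf.IsLocallySurjective (X.smallEtaleTopology.over U) τ := by
    haveI : Presheaf.IsLocallySurjective (X.smallEtaleTopology.over U) η :=
      inferInstanceAs (Presheaf.IsLocallySurjective _ (toSheafify (X.smallEtaleTopology.over U) P))
    haveI : IsIso e.inv.hom :=
      inferInstanceAs (IsIso ((sheafToPresheaf _ _).map e.inv))
    haveI : Sheaf.IsLocallySurjective e.inv := inferInstance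
    exact Presheaf.isLocallySurjective_comp (X.smallEtaleTopology.over U) η e.inv.hom
  refine ⟨r, fun k => τ.app (op (Over.mk (𝟙 U))) (m k), fun V f s w => ?_⟩
  have hS : Sieve.overEquiv _ (Presheaf.imageSieve τ (U := Over.mk f) s) ∈
      X.smallEtaleTopology V :=
    (GrothendieckTopology.mem_over_iff _ _).1
      (Presheaf.imageSieve_mem (X.smallEtaleTopology.over U) τ (U := op (Over.mk f)) s)
  obtain ⟨V', g, hg, w', hw'⟩ := (mem_topology_iff _).1 hS w
  rw [Sieve.overEquiv_iff] at hg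
  obtain ⟨t, ht⟩ := hg
  refine ⟨V', g, ⟨w', hw'⟩, ?_⟩
  let φ : M →ₗ[Λ] F.obj.obj (op V') := (τ.app (op (Over.mk (g ≫ f)))).hom
  have hts : φ t = F.obj.map g.op s := ht
  have hmem : t ∈ Submodule.span Λ (Set.range m) := by rw [hm]; trivial
  have := Submodule.mem_map_of_mem (f := φ) hmem
  rw [hts, Submodule.map_span, ← Set.range_comp] at this
  refine Submodule.span_mono ?_ this
  rintro _ ⟨k, rfl⟩
  refine ⟨k, ?_⟩
  exact (ConcreteCategory.congr_hom
    (τ.naturality (Over.homMk (g ≫ f) : Over.mk (g ≫ f) ⟶ Over.mk (𝟙 U)).op) (m k)).symm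

theorem exists_min {Ω : Type u} [Field Ω] [IsSepClosed Ω] {ξ : Spec (CommRingCat.of Ω) ⟶ X}
    {U V : X.Etale} (p : (Scheme.pointSmallEtale ξ).fiber.obj U)
    (q : (Scheme.pointSmallEtale ξ).fiber.obj V) :
    ∃ (W : X.Etale) (a : W ⟶ U) (b : W ⟶ V) (w : (Scheme.pointSmallEtale ξ).fiber.obj W),
      (Scheme.pointSmallEtale ξ).fiber.map a w = p ∧ (Scheme.pointSmallEtale ξ).fiber.map b w = q :=
  let W := IsCofiltered.min ((Scheme.pointSmallEtale ξ).fiber.elementsMk U p)
    ((Scheme.pointSmallEtale ξ).fiber.elementsMk V q)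
  let a : W ⟶ (Scheme.pointSmallEtale ξ).fiber.elementsMk U p := IsCofiltered.minToLeft _ _
  let b : W ⟶ (Scheme.pointSmallEtale ξ).fiber.elementsMk V q := IsCofiltered.minToRight _ _
  ⟨W.1, a.1, b.1, W.2, a.2, b.2⟩

/-- Every germ at a point over `U` is a combination of the germs of the generators. -/
theorem germ_mem_span {r : ℕ} {F : EtModW.Mod Λ X} {U : X.Etale} {e : Fin r → F.obj.obj (op U)}
    (he : LocGen F U e) {Ω : Type u} [Field Ω] [IsSepClosed Ω] {ξ : Spec (CommRingCat.of Ω) ⟶ X}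
    (p : (Scheme.pointSmallEtale ξ).fiber.obj U) (z : ↥((Scheme.pointSmallEtale ξ).sheafFiber.obj F)) :
    z ∈ Submodule.span Λ
      (Set.range fun k => (Scheme.pointSmallEtale ξ).toPresheafFiber U p F.obj (e k)) := by
  obtain ⟨V, q, s, rfl⟩ := (Scheme.pointSmallEtale ξ).toPresheafFiber_jointly_surjective z
  obtain ⟨W, a, b, w, hw, hw'⟩ := exists_min p q
  obtain ⟨V', g, ⟨v', hv'⟩, hmem⟩ := he W a (F.obj.map b.op s) (fiberPt w)
  obtain ⟨q', hq', -⟩ := Fiber.exists_fiber_map ξ g w v' hv'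
  have hs : (Scheme.pointSmallEtale ξ).toPresheafFiber V' q' F.obj (F.obj.map g.op (F.obj.map b.op s)) =
      (Scheme.pointSmallEtale ξ).toPresheafFiber V q F.obj s := by
    rw [← hw', ← hq']
    erw [GrothendieckTopology.Point.toPresheafFiber_w_apply,
      GrothendieckTopology.Point.toPresheafFiber_w_apply]
  change (Scheme.pointSmallEtale ξ).toPresheafFiber V q F.obj s ∈ _
  rw [← hs]
  have := Submodule.mem_map_of_mem
    (f := ((Scheme.pointSmallEtale ξ).toPresheafFiber V' q' F.obj).hom) hmem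
  rw [Submodule.map_span, ← Set.range_comp] at this
  refine Submodule.span_mono ?_ this
  rintro _ ⟨k, rfl⟩
  refine ⟨k, ?_⟩
  rw [← hw, ← hq', ← ConcreteCategory.comp_apply, ← Functor.map_comp]
  exact (GrothendieckTopology.Point.toPresheafFiber_w_apply _ (g ≫ a) q' F.obj (e k)).symm

/-- Surjectivity onto a locally constant sheaf of finite type is an open condition. -/
theorem exists_open_surjAt {F G : EtModW.Mod Λ X} (hF : EtModW.IsFTLocConst Λ F) (ψ : G ⟶ F)
    {Ω : Type u} [Field Ω] [IsSepClosed Ω] (ξ : Spec (CommRingCat.of Ω) ⟶ X) (h : SurjAt ψ ξ) :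
    ∃ W : Set X, IsOpen W ∧ ξ.base default ∈ W ∧
      ∀ (Ω' : Type u) [Field Ω'] [IsSepClosed Ω'] (ξ' : Spec (CommRingCat.of Ω') ⟶ X),
        ξ'.base default ∈ W → SurjAt ψ ξ' := by
  classical
  obtain ⟨ι, U, hU, hUc⟩ := hF
  obtain ⟨i, v, hv⟩ := hU (ξ.base default)
  obtain ⟨M, _, _, _, ⟨e⟩⟩ := hUc i
  obtain ⟨r, s, hs⟩ := exists_locGen e
  obtain ⟨p, -⟩ := exists_fiber ξ (U i) v hv
  have key : ∀ T : Finset (Fin r), ∃ (W : X.Etale) (a : W ⟶ U i)
      (w : (Scheme.pointSmallEtale ξ).fiber.obj W), (Scheme.pointSmallEtale ξ).fiber.map a w = p ∧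
        ∀ k ∈ T, ∃ t : G.obj.obj (op W), ψ.hom.app (op W) t = F.obj.map a.op (s k) := by
    intro T
    induction T using Finset.induction with
    | empty => exact ⟨U i, 𝟙 _, p, by simp, by simp⟩
    | insert k T hk ih =>
      obtain ⟨W, a, w, hw, hT⟩ := ih
      obtain ⟨z, hz⟩ := h ((Scheme.pointSmallEtale ξ).toPresheafFiber (U i) p F.obj (s k))
      obtain ⟨V, q, t, rfl⟩ := (Scheme.pointSmallEtale ξ).toPresheafFiber_jointly_surjective z
      obtain ⟨W', a', b', w', hw₁, hw₂⟩ := exists_min w q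
      have h1 : (Scheme.pointSmallEtale ξ).toPresheafFiber W' w' F.obj
          (ψ.hom.app (op W') (G.obj.map b'.op t)) =
          (Scheme.pointSmallEtale ξ).toPresheafFiber W' w' F.obj
            (F.obj.map (a' ≫ a).op (s k)) := by
        refine ((Scheme.pointSmallEtale ξ).toPresheafFiber_naturality_apply ψ.hom W' w' _).symm.trans ?_
        erw [GrothendieckTopology.Point.toPresheafFiber_w_apply,
          GrothendieckTopology.Point.toPresheafFiber_w_apply]
        rw [Functor.map_comp, ConcreteCategory.comp_apply, hw₁, hw₂, hw]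
        exact hz
      obtain ⟨Z, g, w'', hw'', hg⟩ :=
        ((Scheme.pointSmallEtale ξ).toPresheafFiber_eq_iff' W' w' _ _).1 h1
      refine ⟨Z, g ≫ a' ≫ a, w'', by
        simp [Functor.map_comp, hw'', hw₁, hw], fun l hl => ?_⟩
      rcases Finset.mem_insert.1 hl with rfl | hl
      · refine ⟨G.obj.map g.op (G.obj.map b'.op t), ?_⟩
        refine (NatTrans.naturality_apply ψ.hom g.op _).trans (hg.trans ?_)
        simp
      · obtain ⟨t', ht'⟩ := hT l hl
        refine ⟨G.obj.map g.op (G.obj.map a'.op t'), ?_⟩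
        refine (NatTrans.naturality_apply ψ.hom g.op _).trans ?_
        refine (congrArg _ ((NatTrans.naturality_apply ψ.hom a'.op t').trans
          (congrArg _ ht'))).trans ?_
        simp
  obtain ⟨W, a, w, hw, hW⟩ := key Finset.univ
  haveI : Etale W.hom := W.prop
  refine ⟨Set.range W.hom.base, W.hom.isOpenMap.isOpen_range, ⟨fiberPt w, hom_fiberPt w⟩,
    fun Ω' _ _ ξ' hξ' => ?_⟩
  obtain ⟨y, hy⟩ := hξ'
  obtain ⟨q, -⟩ := exists_fiber ξ' W y hy
  intro z
  have hz := germ_mem_span hs ((Scheme.pointSmallEtale ξ').fiber.map a q) z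
  let L := ((Scheme.pointSmallEtale ξ').sheafFiber.map ψ).hom
  change z ∈ LinearMap.range L
  refine Submodule.span_le.2 ?_ hz
  rintro _ ⟨k, rfl⟩
  obtain ⟨t, ht⟩ := hW k (Finset.mem_univ k)
  refine ⟨(Scheme.pointSmallEtale ξ').toPresheafFiber W q G.obj t, ?_⟩
  refine ((Scheme.pointSmallEtale ξ').toPresheafFiber_naturality_apply ψ.hom W q t).trans ?_
  rw [ht]
  exact GrothendieckTopology.Point.toPresheafFiber_w_apply _ a q F.obj (s k)

/-- The stalks of a sheaf whose pullback is locally constant of finite type are finitely generated,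
at geometric points which factor. -/
theorem exists_generators {Y : Scheme.{u}} (g : Y ⟶ X) (F : EtModW.Mod Λ X)
    (hF : EtModW.IsFTLocConst Λ ((EtModW.pull Λ g).obj F)) {Ω : Type u} [Field Ω] [IsSepClosed Ω]
    (ξ : Spec (CommRingCat.of Ω) ⟶ Y) :
    ∃ (r : ℕ) (z : Fin r → ↥((Scheme.pointSmallEtale (ξ ≫ g)).sheafFiber.obj F)),
      Submodule.span Λ (Set.range z) = ⊤ := by
  obtain ⟨ι, U, hU, hUc⟩ := hF
  obtain ⟨i, v, hv⟩ := hU (ξ.base default)
  obtain ⟨M, _, _, _, ⟨e⟩⟩ := hUc i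
  obtain ⟨r, s, hs⟩ := exists_locGen e
  obtain ⟨p, -⟩ := exists_fiber ξ (U i) v hv
  haveI : HasLimitsOfSize.{u, u} (ModuleCat.{u + 1} Λ) := hasLimitsOfSizeShrink.{u, u, u + 1, u + 1} _
  haveI : HasColimitsOfSize.{u, u} (ModuleCat.{u + 1} Λ) :=
    hasColimitsOfSizeShrink.{u, u, u + 1, u + 1} _
  let k := ((Pull.stalkPullIso.{u} g ξ (ModuleCat.{u + 1} Λ)).app F).toLinearEquiv
  let z' : Fin r → ↥((Scheme.pointSmallEtale ξ).sheafFiber.obj ((EtModW.pull Λ g).obj F)) :=
    fun j => (Scheme.pointSmallEtale ξ).toPresheafFiber (U i) p ((EtModW.pull Λ g).obj F).obj (s j)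
  refine ⟨r, fun j => k (z' j), ?_⟩
  rw [eq_top_iff]
  intro z _
  have h : k.symm z ∈ Submodule.span Λ (Set.range z') := germ_mem_span hs p (k.symm z)
  refine Submodule.span_induction (p := fun a _ => k a ∈ Submodule.span Λ (Set.range fun j => k (z' j)))
    ?_ ?_ ?_ ?_ h |> fun h' => (k.apply_symm_apply z) ▸ h'
  · rintro _ ⟨j, rfl⟩
    exact Submodule.subset_span ⟨j, rfl⟩
  · rw [map_zero]; exact zero_mem _
  · intro a b _ _ ha hb
    rw [map_add]; exact add_mem ha hb
  · intro c a _ ha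
    rw [map_smul]; exact Submodule.smul_mem _ c ha

end Groth.Agent.H88.EtMod.LocConst
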