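import Groth.Agent.H88.EtMod.CurveTorsion
import Groth.Agent.Lib.Henselian.StrictHenselization
import Groth.Prelude.Def_Dix

/-!
Noetherian schemes of dimension at most one with separably closed residue fields at the closed points.
-/

set_option autoImplicit false
set_option linter.style.haveILetI false

universe u

open CategoryTheory CategoryTheory.Limits AlgebraicGeometry Opposite Abelian

noncomputable section

namespace Groth.Agent.H88.EtMod.NoethCurve

open Groth.Agent.H61 FieldCoh Groth.Agent.Lib.EtSite DivBasic ExtColim DimTorsion GenericStalk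

/-- A zero-dimensional reduced scheme of finite type over a separably closed field is acyclic. -/
theorem subsingleton_H_zero (Z : Scheme.{u}) [IsNoetherian Z] [IsReduced Z]
    (hsep : ∀ z : Z, IsSepClosed (Z.residueField z))
    (hd : topologicalKrullDim ↥Z ≤ ((0 : ℕ) : WithBot ℕ∞)) (G : EtCoh.Ab Z) (n : ℕ) (hn : 0 < n) :
    Subsingleton (EtCoh.H Z G n) := by
  have hmax : ∀ z : Z, closure {z} ∈ irreducibleComponents ↥Z := fun z => by
    obtain ⟨η, hη, hsp⟩ := Lib.SchTopo.Closure.exists_maximal_specializes Z z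
    by_cases hne : η = z
    · exact hne ▸ hη
    · exact absurd ((dim_pos hne hsp).trans hd) (by decide)
  have hclosed : ∀ z : Z, closure {z} = ({z} : Set Z) := fun z => by
    refine Set.Subset.antisymm (fun y hy => ?_) subset_closure
    exact (Lib.SchTopo.Closure.eq_of_specializes_of_closure_mem (hmax y) (specializes_iff_mem_closure.2 hy)).symm
  have hfin : (Set.univ : Set Z).Finite := Set.Finite.of_finite_image
    (TopologicalSpace.NoetherianSpace.finite_irreducibleComponents.subset
      (by rintro _ ⟨η, -, rfl⟩; exact hmax η))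
    (fun a _ b _ h => ((specializes_iff_closure_subset.2 h.ge).antisymm (specializes_iff_closure_subset.2 h.le)).eq)
  haveI : Finite ↥Z := Set.finite_univ_iff.1 hfin
  haveI : DiscreteTopology ↥Z := by
    haveI : T1Space ↥Z := ⟨fun z => by rw [← hclosed z]; exact isClosed_closure⟩
    exact Finite.instDiscreteTopology
  haveI : Fintype ↥Z := Fintype.ofFinite _
  have haff : ∀ z : Z, IsAffineOpen (⟨{z}, isOpen_discrete _⟩ : Z.Opens) := fun z => by
    obtain ⟨_, ⟨W, (hW : IsAffineOpen W), rfl⟩, hzW, hsub⟩ :=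
      Z.isBasis_affineOpens.exists_subset_of_mem_open (Set.mem_singleton z) (isOpen_discrete ({z} : Set Z))
    have : W = ⟨{z}, isOpen_discrete _⟩ := TopologicalSpace.Opens.ext
      (Set.Subset.antisymm hsub (Set.singleton_subset_iff.2 hzW))
    exact this ▸ hW
  let j : ∀ z : Z, Spec Γ(Z, ⟨{z}, isOpen_discrete _⟩) ⟶ Z := fun z => (haff z).fromSpec
  let o : ∀ z : Z, obj (j z) ⟶ EtCoh.top Z := fun z => (EtCore.topIsTerminal Z).from _
  have he : ∀ z, (o z).left = 𝟙 _ ≫ j z := fun z =>
    (Category.comp_id _).symm.trans (MorphismProperty.Over.w (o z))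
  have hD : DisjointCover.IsDisjointCover (fun z => obj (j z)) o :=
    { isOpenImmersion := fun z => by rw [he]; exact inferInstanceAs (IsOpenImmersion (𝟙 _ ≫ (haff z).fromSpec))
      exists_eq := fun x => by
        obtain ⟨d, hd⟩ : x ∈ Set.range (j x).base := by rw [(haff x).range_fromSpec]; exact rfl
        refine ⟨x, d, ?_⟩
        rw [he, Category.id_comp]
        exact hd
      disjoint := fun a b x y h => by
        rw [he, he, Category.id_comp, Category.id_comp] at h
        have hx : (j a).base x ∈ ({a} : Set Z) := (haff a).range_fromSpec.le (Set.mem_range_self x)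
        have hy : (j b).base y ∈ ({b} : Set Z) := (haff b).range_fromSpec.le (Set.mem_range_self y)
        exact hx.symm.trans (h.trans hy) }
  refine subsingleton_of_forall_eq 0 fun e =>
    PointCohTorsion.eq_zero_of_disjointCover j o hD global e fun z => ?_
  let C := Γ(Z, ⟨{z}, isOpen_discrete _⟩)
  haveI : _root_.IsReduced C := IsReduced.component_reduced _
  haveI hs : Subsingleton ↥(Spec C) := ⟨fun a b => (j z).isOpenEmbedding.injective
    (((haff z).range_fromSpec.le (Set.mem_range_self a) : (j z).base a ∈ ({z} : Set Z)).trans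
      ((haff z).range_fromSpec.le (Set.mem_range_self b) : (j z).base b ∈ ({z} : Set Z)).symm)⟩
  obtain ⟨p, -⟩ : z ∈ Set.range (j z).base := by rw [(haff z).range_fromSpec]; exact rfl
  haveI : Nontrivial C := PrimeSpectrum.nonempty_iff_nontrivial.1 ⟨p⟩
  have hfield : IsField C := by
    refine ⟨⟨0, 1, zero_ne_one⟩, mul_comm, fun {a} ha => ?_⟩
    by_contra hc
    have hu : ¬ IsUnit a := fun ⟨u, hu⟩ => hc ⟨↑u⁻¹, hu ▸ u.mul_inv⟩
    obtain ⟨M, hM, haM⟩ := exists_max_ideal_of_mem_nonunits hu
    refine ha (IsReduced.eq_zero a ?_)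
    rw [nilpotent_iff_mem_prime]
    intro P hP
    have : (⟨P, hP⟩ : PrimeSpectrum C) = ⟨M, hM.isPrime⟩ := @Subsingleton.elim _ hs _ _
    rw [show P = M from congrArg PrimeSpectrum.asIdeal this]
    exact haM
  letI : Field C := hfield.toField
  let U : Z.Opens := ⟨{z}, isOpen_discrete _⟩
  let φ : C →+* Z.residueField z := (Z.evaluation U z rfl).hom
  have hbij : Function.Bijective φ := ⟨φ.injective, fun v => by
    obtain ⟨y, rfl⟩ := Z.residue_surjective z v
    obtain ⟨W, hzW, w, rfl⟩ := TopCat.Presheaf.exists_germ_eq Z.presheaf y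
    have hle : U ≤ W := fun x (hx : x = z) => hx ▸ hzW
    exact ⟨Z.presheaf.map (homOfLE hle).op w,
      congrArg (Z.residue z) (TopCat.Presheaf.germ_res_apply Z.presheaf (homOfLE hle) z rfl w)⟩⟩
  haveI := hsep z
  haveI : IsSepClosed C :=
    Groth.Agent.Lib.Henselian.StrictHenselization.isSepClosed_of_ringEquiv (RingEquiv.ofBijective φ hbij).symm
  exact DimZero.subsingleton_H_field C C _ n hn

variable {X : Scheme.{u}} [IsNoetherian X]

/-- No stalks at the maximal points: acyclic. -/
theorem subsingleton_H_of_no_maximal (hdim : topologicalKrullDim X ≤ 1)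
    (hsep : ∀ x : X, IsClosed ({x} : Set X) → IsSepClosed (X.residueField x)) (F : EtCoh.Ab X)
    (hF : ∀ η : X, closure {η} ∈ irreducibleComponents ↥X → η ∉ EtPBC.supp F) (q : ℕ) (hq : 0 < q) :
    Subsingleton (EtCoh.H X F q) := by
  refine subsingleton_of_forall_eq 0 fun y => ?_
  obtain ⟨Z, g, x, rfl⟩ := exists_hom F hF q y
  have hdim' : topologicalKrullDim X ≤ (((0 + 1 : ℕ)) : WithBot ℕ∞) := hdim.trans (by simp)
  have hd := dim_le_of_no_maximal hdim' (subι Z).base (subι Z).isClosedEmbedding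
    fun η hη => range_subι Z ▸ Z.2 η hη
  haveI : AlgebraicGeometry.IsReduced (sub Z) := Groth.Agent.H75.RedSub.isReduced_vanishingIdeal _
  haveI : IsLocallyNoetherian (sub Z) := LocallyOfFiniteType.isLocallyNoetherian (subι Z)
  haveI : CompactSpace ↥(sub Z) := QuasiCompact.compactSpace_of_compactSpace (subι Z)
  haveI : IsNoetherian (sub Z) := {}
  have hcl : ∀ z : ↥(sub Z), IsClosed ({z} : Set ↥(sub Z)) := fun z => by
    rw [← closure_subset_iff_isClosed]
    intro w hw
    by_contra hne
    exact absurd ((dim_pos (fun e => hne e.symm) (specializes_iff_mem_closure.2 hw)).trans hd) (by decide)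
  have hres : ∀ z : ↥(sub Z), IsSepClosed ((sub Z).residueField z) := fun z => by
    haveI := hsep ((subι Z).base z) (by
      rw [← Set.image_singleton]; exact (subι Z).isClosedEmbedding.isClosedMap _ (hcl z))
    exact Groth.Agent.Lib.Henselian.StrictHenselization.isSepClosed_of_ringEquiv
      (RingEquiv.ofBijective ((subι Z).residueFieldMap z).hom
        ⟨((subι Z).residueFieldMap z).hom.injective, GmGeneric.residueFieldMap_surjective (subι Z) z⟩)
  rw [show x = 0 from @Subsingleton.elim _ (subsingleton_H_zero (sub Z) hres hd _ q hq) x 0, map_zero]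

/-- The reduction to the maximal points. -/
theorem subsingleton_H_good (hdim : topologicalKrullDim X ≤ 1)
    (hsep : ∀ x : X, IsClosed ({x} : Set X) → IsSepClosed (X.residueField x)) (G : EtCoh.Ab X) (N : ℕ)
    (h : ∀ η ∈ CurveCd.M X, CurveCd.Good G N η) (m : ℕ) (hm : 2 ≤ m) (hN : N ≤ m) :
    Subsingleton (EtCoh.H X G m) := by
  have hfin : (CurveCd.M X).Finite := Set.Finite.of_finite_image
    (TopologicalSpace.NoetherianSpace.finite_irreducibleComponents.subset
      (by rintro _ ⟨η, hη, rfl⟩; exact hη))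
    (fun a _ b _ h => ((specializes_iff_closure_subset.2 h.ge).antisymm (specializes_iff_closure_subset.2 h.le)).eq)
  obtain ⟨P, φ, iso, -, van⟩ := CurveCd.exists_map h hfin
  obtain ⟨q, rfl⟩ : ∃ q, m = q + 1 := ⟨m - 1, by omega⟩
  have hs := fun η (hη : η ∈ CurveCd.M X) => CurveGeneric.notMem_supp_of_isIso φ (iso η hη hη)
  have hK := fun i hi => subsingleton_H_of_no_maximal hdim hsep (kernel φ) (fun η hη => (hs η hη).1) i hi
  have hC := fun i hi => subsingleton_H_of_no_maximal hdim hsep (cokernel φ) (fun η hη => (hs η hη).2) i hi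
  have hb := CurveGeneric.bijective_comp φ q (hK _ (by omega)) (hK _ (by omega)) (hC _ (by omega))
    (hC _ (by omega)) (P := EtCoh.const X ℤ)
  haveI := van (q + 1) hN
  exact hb.1.subsingleton

/-- The direct image of a sheaf acyclic from degree two. -/
theorem subsingleton_H_push (hdim : topologicalKrullDim X ≤ 1)
    (hsep : ∀ x : X, IsClosed ({x} : Set X) → IsSepClosed (X.residueField x)) (η : X)
    [QuasiCompact (X.fromSpecResidueField η)] (hη : η ∈ CurveCd.M X)
    {F : EtCoh.Ab (S (X.residueField η))} (hF : FieldAcy.Acy 2 F) (m : ℕ) (hm : 3 ≤ m) :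
    Subsingleton (EtCoh.H X ((EtCoh.push (X.fromSpecResidueField η)).obj F) m) := by
  let g : S (X.residueField η) ⟶ X := X.fromSpecResidueField η
  haveI : IsPreimmersion g := inferInstanceAs (IsPreimmersion (X.fromSpecResidueField η))
  haveI : QuasiCompact g := ‹_›
  haveI : QuasiSeparated g := inferInstance
  haveI : PreservesLimitsOfSize.{0, 0} (EtCoh.push g) := (EtCoh.pullPushAdj g).rightAdjoint_preservesLimits
  haveI : PreservesFiniteLimits (EtCoh.push g) := ⟨fun J _ _ => inferInstance⟩
  let T := Lib.EtH1Gm.Class.seq F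
  have hT : T.ShortExact := Lib.EtH1Gm.Class.seq_shortExact F
  have hQ : FieldAcy.Acy 1 T.X₃ := FieldAcy.Acy.shift le_rfl hF
  let φ : (EtCoh.push g).obj T.X₂ ⟶ (EtCoh.push g).obj T.X₃ := (EtCoh.push g).map T.g
  haveI := hT.mono_f
  haveI := hT.epi_g
  have hC : ∀ μ : X, closure {μ} ∈ irreducibleComponents ↥X → μ ∉ EtPBC.supp (cokernel φ) := fun μ hμ h => by
    by_cases he : μ = η
    · subst he
      exact CurveTorsion.notMem_supp_coker μ T.g h
    · refine notMem_supp_push g _ μ (fun hc => he ?_) (supp_subset_of_epi (cokernel.π φ) h)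
      rw [show Set.range g.base = {η} from X.range_fromSpecResidueField η, ← specializes_iff_mem_closure] at hc
      exact (Lib.SchTopo.Closure.eq_of_specializes_of_closure_mem hμ hc).symm
  let S₁ := ShortComplex.mk ((EtCoh.push g).map T.f) (Abelian.factorThruImage φ) (by
    rw [← cancel_mono (Abelian.image.ι φ), Category.assoc, Abelian.image.fac, zero_comp,
      ← Functor.map_comp, T.zero, Functor.map_zero])
  have h₁ : S₁.ShortExact :=
    { exact := by
        have hex : (T.map (EtCoh.push g)).Exact := hT.exact.map_of_mono_of_preservesKernel (EtCoh.push g) hT.mono_f inferInstance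
        have : Mono ((EtCoh.push g).map T.f) := inferInstance
        refine ShortComplex.exact_of_f_is_kernel _ (KernelFork.IsLimit.ofι' _ _ fun {W} w hw => ?_)
        have hw' : w ≫ φ = 0 := by
          rw [← Abelian.image.fac φ, ← Category.assoc]
          exact (congrArg (· ≫ Abelian.image.ι φ) hw).trans zero_comp
        haveI : Mono (T.map (EtCoh.push g)).f := this
        exact ⟨hex.lift w hw', hex.lift_f w hw'⟩
      mono_f := inferInstanceAs (Mono ((EtCoh.push g).map T.f))
      epi_g := inferInstanceAs (Epi (Abelian.factorThruImage φ)) }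
  let S₂ := ShortComplex.mk (Abelian.image.ι φ) (cokernel.π φ) (kernel.condition _)
  have h₂ : S₂.ShortExact :=
    { exact := ShortComplex.exact_of_f_is_kernel _ (kernelIsKernel _)
      mono_f := inferInstanceAs (Mono (kernel.ι _))
      epi_g := inferInstanceAs (Epi (cokernel.π φ)) }
  obtain ⟨j, rfl⟩ : ∃ j, m = j + 2 + 1 := ⟨m - 3, by omega⟩
  refine subsingleton_of_forall_eq 0 fun x => ?_
  haveI : Injective S₁.X₂ := (EtCoh.pullPushAdj g).map_injective (Injective.under F) inferInstance
  obtain ⟨y, rfl⟩ := Ext.covariant_sequence_exact₁ _ h₁ x (Ext.eq_zero_of_injective _) (n₀ := j + 2) rfl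
  haveI : Subsingleton (EtCoh.H X ((EtCoh.push g).obj T.X₃) (j + 2)) :=
    FieldAcy.subsingleton_H_push g (j + 1) _ hQ
  obtain ⟨w, hw⟩ := Ext.covariant_sequence_exact₁ _ h₂ y (Subsingleton.elim (α := EtCoh.H X _ (j + 2)) _ _) (n₀ := j + 1) rfl
  rw [← hw, show w = 0 from @Subsingleton.elim _ (subsingleton_H_of_no_maximal hdim hsep _ hC (j + 1) (by omega)) _ _,
    Ext.zero_comp, Ext.zero_comp]
  rfl


section Killed

variable {Y : Scheme.{u}}

/-- `n • 𝟙 = 0` and sections. -/
theorem nsmul_sect {F : EtCoh.Ab Y} {n : ℕ} (h : n • 𝟙 F = 0) (V : Y.Etale) (s : F.obj.obj (op V)) : n • s = 0 := by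
  have h1 := congrArg (fun m : F ⟶ F => m.hom.app (op V) s) h
  exact (congrArg (fun m => m.hom s) (map_nsmul ((sheafToPresheaf Y.smallEtaleTopology AddCommGrpCat.{u + 1} ⋙
    (evaluation _ _).obj (op V)).mapAddHom (X := F) (Y := F)) n (𝟙 F))).symm.trans (h1.trans rfl)

/-- Dévissage along the prime factors. -/
theorem subsingleton_of_killed (Q : ℕ → Prop) (hQ : ∀ ℓ n, ℓ ∣ n → Q n → Q ℓ) {q : ℕ}
    (hp : ∀ ℓ : ℕ, ℓ.Prime → Q ℓ → ∀ F : EtCoh.Ab Y, ℓ • 𝟙 F = 0 → Subsingleton (EtCoh.H Y F q)) :
    ∀ n : ℕ, 0 < n → Q n → ∀ F : EtCoh.Ab Y, n • 𝟙 F = 0 → Subsingleton (EtCoh.H Y F q) := by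
  intro n
  induction n using Nat.strong_induction_on with
  | _ n ih =>
  intro hn hQn F hF
  by_cases h1 : n = 1
  · subst h1; rw [one_nsmul] at hF; exact CurveCd.subsingleton_of_id_eq hF
  obtain ⟨ℓ, hℓ, m, rfl⟩ := Nat.exists_prime_and_dvd h1
  have hm : 0 < m := Nat.pos_of_mul_pos_left hn
  let α : F ⟶ F := ℓ • 𝟙 F
  let K := kernel α
  have hK : ℓ • 𝟙 K = 0 := by
    rw [← cancel_mono (kernel.ι α), Preadditive.nsmul_comp, Category.id_comp, zero_comp]
    refine Eq.trans ?_ (kernel.condition α)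
    rw [Preadditive.comp_nsmul, Category.comp_id]
  have hI : m • 𝟙 (Abelian.image α) = 0 := by
    rw [← cancel_epi (Abelian.factorThruImage α), ← cancel_mono (Abelian.image.ι α),
      Preadditive.comp_nsmul, Category.comp_id, Preadditive.nsmul_comp, Abelian.image.fac, comp_zero, zero_comp]
    rw [← mul_nsmul] 
    exact hF
  let S₁ := ShortComplex.mk (kernel.ι α) (Abelian.factorThruImage α) (by
    rw [← cancel_mono (Abelian.image.ι α), Category.assoc, Abelian.image.fac, kernel.condition, zero_comp])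
  have h₁ : S₁.ShortExact :=
    { exact := by
        refine ShortComplex.exact_of_f_is_kernel _ (KernelFork.IsLimit.ofι' _ _ fun {W} w hw => ?_)
        refine ⟨kernel.lift α w ?_, kernel.lift_ι _ _ _⟩
        rw [← Abelian.image.fac α, ← Category.assoc]
        exact (congrArg (· ≫ Abelian.image.ι α) hw).trans zero_comp
      mono_f := inferInstanceAs (Mono (kernel.ι α))
      epi_g := inferInstanceAs (Epi (Abelian.factorThruImage α)) }
  have s1 := hp ℓ hℓ (hQ ℓ _ (dvd_mul_right ℓ m) hQn) K hK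
  have s2 := ih m (by nlinarith [hℓ.two_le]) hm (hQ m _ (dvd_mul_left m ℓ) hQn) _ hI
  refine subsingleton_of_forall_eq 0 fun z => ?_
  obtain ⟨v, rfl⟩ := Ext.covariant_sequence_exact₂ _ h₁ z (@Subsingleton.elim _ s2 _ _)
  rw [show v = 0 from @Subsingleton.elim _ s1 _ _]
  exact Ext.zero_comp _ _ _ _ _

theorem map_nsmul_id {Y' : Scheme.{u}} (G : EtCoh.Ab Y ⥤ EtCoh.Ab Y') [G.Additive] {F : EtCoh.Ab Y} {n : ℕ}
    (h : n • 𝟙 F = 0) : n • 𝟙 (G.obj F) = 0 := by
  rw [← CategoryTheory.Functor.map_id, ← Functor.map_nsmul, h, Functor.map_zero]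

end Killed

/-- Sheaves killed by `n` at a field of small cohomological dimension. -/
theorem acy_of_killed {K : Type u} [Field K] (n : ℕ) (hn : 0 < n)
    (hcd : ∀ ℓ : ℕ, ℓ.Prime → ℓ ∣ n → Dix.CohDimLEAt (S K) ℓ 1) {F : EtCoh.Ab (S K)} (hF : n • 𝟙 F = 0) :
    FieldAcy.Acy 2 F := FieldAcy.acy_of_fields fun L _ _ _ m hm => by
  haveI : Module.Finite K L := Algebra.FormallyUnramified.finite_of_free K L
  haveI : IsFinite (jF K L) := (IsFinite.SpecMap_iff _).2 (RingHom.finite_algebraMap.2 inferInstance)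
  haveI : PreservesColimitsOfSize.{0, 0} (EtCoh.pull (jF K L)) := (EtCoh.pullPushAdj (jF K L)).leftAdjoint_preservesColimits
  haveI : (EtCoh.pull (jF K L)).Additive := Functor.additive_of_preserves_binary_products _
  haveI : PreservesLimitsOfSize.{0, 0} (EtCoh.push (jF K L)) := (EtCoh.pullPushAdj (jF K L)).rightAdjoint_preservesLimits
  haveI : (EtCoh.push (jF K L)).Additive := Functor.additive_of_preserves_binary_products _
  refine subsingleton_of_killed (fun i => i ∣ n) (fun a b h h' => h.trans h') (fun ℓ hℓ hdvd G hG => ?_) n hn dvd_rfl _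
    (map_nsmul_id (EtCoh.pull (jF K L)) hF)
  obtain ⟨e⟩ := FieldCoh.PushInt.nonempty_Hequiv (jF K L) G m
  haveI : Subsingleton (EtCoh.H (S K) ((EtCoh.push (jF K L)).obj G) m) :=
    hcd ℓ hℓ hdvd _ (fun U s x => ⟨U, 𝟙 U, ⟨x, rfl⟩, 1, by
      rw [pow_one]; exact nsmul_sect (map_nsmul_id (EtCoh.push (jF K L)) hG) U _⟩) m (by omega)
  exact e.symm.toEquiv.subsingleton

/-- `H^{≥3}` of a sheaf killed by `n`. -/
theorem subsingleton_H_killed (hdim : topologicalKrullDim X ≤ 1)
    (hsep : ∀ x : X, IsClosed ({x} : Set X) → IsSepClosed (X.residueField x)) (n : ℕ) (hn : 0 < n)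
    (hcd : ∀ η ∈ CurveCd.M X, ∀ ℓ : ℕ, ℓ.Prime → ℓ ∣ n → Dix.CohDimLEAt (Spec (X.residueField η)) ℓ 1)
    {G : EtCoh.Ab X} (hG : n • 𝟙 G = 0) (m : ℕ) (hm : 3 ≤ m) : Subsingleton (EtCoh.H X G m) := by
  refine subsingleton_H_good hdim hsep G 3 (fun η hη => ?_) m (by omega) hm
  let g : S (X.residueField η) ⟶ X := X.fromSpecResidueField η
  haveI : IsPreimmersion g := inferInstanceAs (IsPreimmersion (X.fromSpecResidueField η))
  haveI : QuasiCompact (X.fromSpecResidueField η) := CurveCd.quasiCompact_point η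
  haveI : QuasiCompact g := ‹_›
  haveI : PreservesColimitsOfSize.{0, 0} (EtCoh.pull g) := (EtCoh.pullPushAdj g).leftAdjoint_preservesColimits
  haveI : (EtCoh.pull g).Additive := Functor.additive_of_preserves_binary_products _
  have hr : Set.range g.base = {η} := X.range_fromSpecResidueField η
  refine ⟨_, (EtCoh.pullPushAdj g).unit.app G, fun Ω i₁ i₂ ξ hξ => ?_, fun μ hμ hne => ?_, fun i hi => ?_⟩
  · obtain ⟨η', rfl⟩ := CurveCd.exists_factor ξ hξ
    exact isIso_stalk_unit g η' G
  · refine notMem_supp_push g _ μ fun hc => hne ?_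
    rw [hr, ← specializes_iff_mem_closure] at hc
    exact (Lib.SchTopo.Closure.eq_of_specializes_of_closure_mem hμ hc).symm
  · exact subsingleton_H_push hdim hsep η hη (acy_of_killed n hn (hcd η hη) (map_nsmul_id (EtCoh.pull g) hG)) i hi

theorem nsmul_mu (Y : Scheme.{u}) (n : ℕ) : n • 𝟙 (EtCoh.mu Y n) = 0 := by
  haveI : Mono (EtCoh.muι Y n) := inferInstanceAs (Mono (kernel.ι (EtCoh.powMap Y n)))
  rw [← cancel_mono (EtCoh.muι Y n), Preadditive.nsmul_comp, Category.id_comp, zero_comp]
  refine Eq.trans ?_ (kernel.condition (EtCoh.powMap Y n))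
  change _ = EtCoh.muι Y n ≫ (n • 𝟙 (EtCoh.Gm Y))
  rw [Preadditive.comp_nsmul, Category.comp_id]

end Groth.Agent.H88.EtMod.NoethCurve
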