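import Groth.Agent.H88.EtMod.PBCOps

/-!
Constructibility may be checked on a covering by constructible immersed subschemes.
-/

set_option autoImplicit false
set_option linter.style.haveILetI false

universe u

open CategoryTheory CategoryTheory.Limits AlgebraicGeometry Opposite Topology

noncomputable section

namespace Groth.Agent.H88.EtMod.PBCImmersion

variable {Λ : Type (u + 1)} [CommRing Λ] {X : Scheme.{u}}

theorem isConstructible_of_immersion_cover [QuasiSeparatedSpace X] {F : EtModW.Mod Λ X} {ι : Type*}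
    {T : ι → Scheme.{u}} (g : ∀ i, T i ⟶ X) [∀ i, IsImmersion (g i)]
    (hc : ∀ i, Topology.IsConstructible (Set.range (g i)))
    (hcov : ∀ x, ∃ i, x ∈ Set.range (g i))
    (h : ∀ i, EtModW.IsConstructible Λ ((EtModW.pull Λ (g i)).obj F)) :
    EtModW.IsConstructible Λ F := by
  refine Constr.isConstructible_iff.2 fun U hU y => ?_
  obtain ⟨i, t, ht⟩ := hcov y.1
  obtain ⟨_, ⟨(U' : (T i).Opens), hU', rfl⟩, htU', hU'le⟩ :=
    (T i).isBasis_affineOpens.exists_subset_of_mem_open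
      (show t ∈ ((g i ⁻¹ᵁ U : (T i).Opens) : Set (T i)) from show g i t ∈ U from ht ▸ y.2) (g i ⁻¹ᵁ U).2
  obtain ⟨O, hO, hOU'⟩ := (g i).isEmbedding.isInducing.isOpen_iff.1 U'.2
  have hyO : y.1 ∈ O := ht ▸ (Set.ext_iff.1 hOU' t).2 htU'
  obtain ⟨_, ⟨(O' : X.Opens), hO', rfl⟩, hyO', hO'le⟩ :=
    X.isBasis_affineOpens.exists_subset_of_mem_open (show y.1 ∈ O ∩ (U : Set X) from ⟨hyO, y.2⟩)
      (hO.inter U.2)
  haveI : IsAffine (U : Scheme.{u}) := hU
  haveI : PrespectralSpace ↥(U : Set X) := inferInstanceAs (PrespectralSpace (U : Scheme.{u}))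
  let E : Set ↥(U : Set X) := Subtype.val ⁻¹' (Set.range (g i) ∩ O')
  have hE : IsConstructible E :=
    Lib.Spectral.Constructible.preimage_val (hU.isCompact.isRetrocompact U.2)
      ((hc i).inter ((hO'.isCompact.isRetrocompact O'.2).isConstructible O'.2))
  obtain ⟨C₀, S, h', hC₀, htC₀, hh', hr, hlc⟩ :=
    Constr.isConstructible_iff.1 (h i) U' hU' ⟨t, htU'⟩
  have hpre : ∀ z : E, ∃ w : ↥(U' : Set (T i)), g i w.1 = z.1.1 := by
    rintro ⟨z, ⟨w, hw⟩, hzO'⟩
    exact ⟨⟨w, (Set.ext_iff.1 hOU' w).1 (show g i w ∈ O from hw ▸ (hO'le hzO').1)⟩, hw⟩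
  choose q hq using hpre
  have hgU : IsEmbedding fun w : ↥(U' : Set (T i)) => g i w.1 :=
    (g i).isEmbedding.comp IsEmbedding.subtypeVal
  have hqe : IsOpenEmbedding q := by
    refine ⟨IsEmbedding.of_comp_iff hgU |>.1 ?_, ?_⟩
    · have : (fun w : ↥(U' : Set (T i)) => g i w.1) ∘ q = Subtype.val ∘ Subtype.val := funext hq
      rw [this]
      exact IsEmbedding.subtypeVal.comp IsEmbedding.subtypeVal
    · have : Set.range q = (fun w : ↥(U' : Set (T i)) => g i w.1) ⁻¹' (O' : Set X) := by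
        ext w
        constructor
        · rintro ⟨z, rfl⟩
          change g i (q z).1 ∈ O'
          rw [hq]; exact z.2.2
        · intro hw
          exact ⟨⟨⟨g i w.1, (hO'le hw).2⟩, ⟨w.1, rfl⟩, hw⟩, hgU.injective (hq _)⟩
      rw [this]
      exact O'.2.preimage hgU.continuous
  refine ⟨Subtype.val '' (q ⁻¹' C₀), S, h' ≫ g i,
    Lib.Spectral.Constructible.image_val hE (hC₀.preimage_of_isOpenEmbedding hqe),
    ⟨⟨y, ⟨t, ht⟩, hyO'⟩, ?_, rfl⟩, inferInstance, ?_,
    Constructible.isFTLocConst_of_iso ((LCOps.pullComp h' (g i)).app F).symm hlc⟩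
  · have : q ⟨y, ⟨t, ht⟩, hyO'⟩ = ⟨t, htU'⟩ := hgU.injective ((hq _).trans ht.symm)
    change q _ ∈ C₀
    rw [this]; exact htC₀
  · rintro _ ⟨_, ⟨z, hz, rfl⟩, rfl⟩
    obtain ⟨s, hs⟩ := hr ⟨q z, hz, rfl⟩
    refine ⟨s, ?_⟩
    rw [Scheme.Hom.comp_apply, hs]
    exact hq z

open AbBridge in
/-- The abelian version. -/
theorem pbc_isConstructible_of_immersion_cover [QuasiSeparatedSpace X] {F : EtCoh.Ab X} {ι : Type*}
    {T : ι → Scheme.{u}} (g : ∀ i, T i ⟶ X) [∀ i, IsImmersion (g i)]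
    (hc : ∀ i, Topology.IsConstructible (Set.range (g i)))
    (hcov : ∀ x, ∃ i, x ∈ Set.range (g i))
    (h : ∀ i, EtPBC.IsConstructible ((EtCoh.pull (g i)).obj F)) : EtPBC.IsConstructible F := by
  obtain ⟨F', ⟨e⟩⟩ := exists_lift F
  have h' := fun i => (isConstructible_iff ((EtModW.pull Zl.{u} (g i)).obj F')).1
    (PBCOps.isConstructible_of_iso (((pullIso (g i)).app F' ≪≫ (EtCoh.pull (g i)).mapIso e).symm) (h i))
  refine PBCOps.isConstructible_of_iso e ((isConstructible_iff F').2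
    ⟨isConstructible_of_immersion_cover g hc hcov fun i => (h' i).1, fun Ω _ _ ξ => ?_⟩)
  obtain ⟨i, hi⟩ := hcov (ξ.base default)
  exact finite_stalk_of_range (g i) ξ hi (h' i).2

end Groth.Agent.H88.EtMod.PBCImmersion
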