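import Groth.Agent.H88.EtMod.TorsionCoh
import Groth.Agent.H88.EtMod.PushH1
import Groth.Agent.H61.FieldCoh.Efface
import Groth.Agent.Lib.EtSite.DisjointCover
import Mathlib.AlgebraicGeometry.Morphisms.FlatMono
import Mathlib.RingTheory.Unramified.Finite

/-!
Torsion of the cohomology of sheaves pushed forward from points.
-/

set_option autoImplicit false
set_option linter.style.haveILetI false

universe u

open CategoryTheory CategoryTheory.Limits AlgebraicGeometry Opposite Abelian

noncomputable section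

namespace Groth.Agent.H88.EtMod.PointCohTorsion

open Groth.Agent.H61 FieldCoh ExtColim TorsionCoh Groth.Agent.Lib.EtSite

variable {K : Type u} [Field K]

/-- Every point of an étale object over a field is an open copy of a finite separable extension. -/
theorem exists_open_point (V : (S K).Etale) (v : V.left) :
    ∃ (L : Type u) (_ : Field L) (_ : Algebra K L) (_ : Algebra.Etale K L) (k : O K L ⟶ V),
      IsOpenImmersion k.left ∧ ∀ y, k.left.base y = v := by
  obtain ⟨_, ⟨W, (hW : IsAffineOpen W), rfl⟩, hvW, -⟩ :=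
    V.left.isBasis_affineOpens.exists_subset_of_mem_open (Set.mem_univ v) isOpen_univ
  haveI : Etale V.hom := V.prop
  let f : Spec Γ(V.left, W) ⟶ S K := hW.fromSpec ≫ V.hom
  haveI : Etale f := inferInstance
  obtain ⟨φ, hφ⟩ := Spec.map_surjective f
  let C : Type u := Γ(V.left, W)
  letI : Algebra K C := φ.hom.toAlgebra
  haveI : Algebra.Etale K C := RingHom.etale_algebraMap.1 ((HasRingHomProperty.Spec_iff (P := @Etale)).1
    (show Etale (Spec.map φ) by rw [hφ]; infer_instance))
  haveI : Module.Finite K C := Algebra.FormallyUnramified.finite_of_free K C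
  haveI : IsArtinianRing C := IsArtinianRing.of_finite K C
  let p := hW.primeIdealOf ⟨v, hvW⟩
  let M : Ideal C := p.asIdeal
  haveI : M.IsPrime := p.isPrime
  haveI : M.IsMaximal := IsArtinianRing.isMaximal_of_isPrime M
  letI : Field (C ⧸ M) := Ideal.Quotient.field M
  haveI : Algebra.FiniteType K (C ⧸ M) := Algebra.FiniteType.trans (S := C) inferInstance inferInstance
  haveI : Algebra.FormallyUnramified K (C ⧸ M) :=
    Algebra.FormallyUnramified.of_surjective (IsScalarTower.toAlgHom K C (C ⧸ M)) Ideal.Quotient.mk_surjective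
  haveI : Algebra.IsSeparable K (C ⧸ M) := Algebra.FormallyUnramified.isSeparable K (C ⧸ M)
  haveI : FiniteDimensional K (C ⧸ M) := finite_of_finite_type_of_isJacobsonRing K (C ⧸ M)
  haveI := etale_of_finite K (C ⧸ M)
  let l : Spec (CommRingCat.of (C ⧸ M)) ⟶ V.left :=
    Spec.map (CommRingCat.ofHom (Ideal.Quotient.mk M)) ≫ hW.fromSpec
  have hl : l ≫ V.hom = jF K (C ⧸ M) := by
    show (Spec.map (CommRingCat.ofHom (Ideal.Quotient.mk M)) ≫ hW.fromSpec) ≫ V.hom = jF K (C ⧸ M)
    rw [Category.assoc, show hW.fromSpec ≫ V.hom = Spec.map φ from hφ.symm, ← Spec.map_comp]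
    rfl
  haveI : Etale (l ≫ V.hom) := hl ▸ etale_jF K (C ⧸ M)
  haveI : Etale l := MorphismProperty.of_postcomp (W := @Etale) l V.hom ‹_› ‹Etale (l ≫ V.hom)›
  haveI : Mono l := inferInstance
  refine ⟨C ⧸ M, inferInstance, inferInstance, inferInstance,
    MorphismProperty.Over.homMk l (hl.trans (Category.id_comp _).symm),
    IsOpenImmersion.of_flat_of_mono l, fun y => ?_⟩
  change (Spec.map (CommRingCat.ofHom (Ideal.Quotient.mk M)) ≫ hW.fromSpec).base y = v
  rw [Scheme.Hom.comp_apply]
  have hy : (Spec.map (CommRingCat.ofHom (Ideal.Quotient.mk M))).base y = p := by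
    apply PrimeSpectrum.ext
    change Ideal.comap (Ideal.Quotient.mk M) (y : PrimeSpectrum (C ⧸ M)).asIdeal = M
    rw [(Ideal.eq_bot_or_top (y : PrimeSpectrum (C ⧸ M)).asIdeal).resolve_right
      (y : PrimeSpectrum (C ⧸ M)).isPrime.ne_top]
    exact Ideal.mk_ker
  rw [hy]
  exact hW.fromSpec_primeIdealOf ⟨v, hvW⟩

section Cover

variable {X : Scheme.{u}} {ι : Type*} [Fintype ι] {U : ι → Scheme.{u}} (j : ∀ v, U v ⟶ X)
  [∀ v, Etale (j v)] {V : X.Etale} (o : ∀ v, obj (j v) ⟶ V)

/-- Classes on a finite disjoint union are sums of classes on the pieces. -/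
theorem exists_sum_of_disjointCover (hD : DisjointCover.IsDisjointCover (fun v => obj (j v)) o)
    (T : Sect V) {G : EtCoh.Ab X} {n : ℕ} (e : Ext T.Z G n) :
    ∃ (π : ∀ v, T.Z ⟶ free (j v)) (y : ∀ v, EtCoh.H (U v) ((EtCoh.pull (j v)).obj G) n),
      e = ∑ v, (Ext.mk₀ (π v)).comp ((Φ (j v) G n).symm (y v)) (zero_add n) := by
  classical
  -- sections of any sheaf on the pieces
  let gen : EtCoh.sect T.Z V := T.e T.Z (Ext.mk₀ (𝟙 T.Z))
  let g : ∀ v : ι, free (j v) ⟶ T.Z := fun v =>
    (ev (j v) T.Z).symm (T.Z.obj.map (o v).op gen)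
  have hgen : ∀ {A : EtCoh.Ab X} (a : T.Z ⟶ A), T.e A (Ext.mk₀ a) = a.hom.app (op V) gen := fun a => by
    have := T.natural a (Ext.mk₀ (𝟙 T.Z))
    rw [Ext.mk₀_comp_mk₀, Category.id_comp] at this
    exact this.symm
  choose q hq using fun v : ι => hD.exists_glue (free (j v))
    (fun w => if h : w = v then h ▸ ev (j v) _ (𝟙 _) else 0)
  let π : ∀ v : ι, T.Z ⟶ free (j v) := fun v =>
    (Ext.mk₀_bijective T.Z (free (j v))).2 ((T.e _).symm (q v)) |>.choose
  have hπ : ∀ v, (π v).hom.app (op V) gen = q v := fun v => by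
    rw [← hgen, ((Ext.mk₀_bijective T.Z (free (j v))).2 ((T.e _).symm (q v))).choose_spec,
      AddEquiv.apply_symm_apply]
  have hsum : ∑ v, π v ≫ g v = 𝟙 T.Z := by
    refine (Ext.mk₀_bijective _ _).1 ((T.e _).injective ?_)
    rw [Ext.mk₀_sum, map_sum]
    simp only [hgen]
    refine Stalk.sections_ext T.Z _ _ fun x => ?_
    obtain ⟨w, y, hy⟩ := hD.exists_eq x
    refine ⟨obj (j w), o w, ?_, y, hy⟩
    rw [map_sum, Finset.sum_eq_single w]
    · refine (NatTrans.naturality_apply (π w ≫ g w).hom (o w).op gen).symm.trans ?_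
      change (g w).hom.app (op (obj (j w))) ((π w).hom.app (op (obj (j w))) (T.Z.obj.map (o w).op gen)) = _
      rw [NatTrans.naturality_apply (π w).hom (o w).op gen]
      erw [hπ, hq]
      rw [dif_pos rfl]
      refine (ev_comp (j w) (𝟙 _) (g w)).symm.trans ?_
      rw [Category.id_comp]
      exact Equiv.apply_symm_apply _ _
    · intro v _ hvw
      refine (NatTrans.naturality_apply (π v ≫ g v).hom (o w).op gen).symm.trans ?_
      change (g v).hom.app (op (obj (j w))) ((π v).hom.app (op (obj (j w))) (T.Z.obj.map (o w).op gen)) = _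
      rw [NatTrans.naturality_apply (π v).hom (o w).op gen]
      erw [hπ, hq]
      rw [dif_neg (Ne.symm hvw), map_zero]
    · simp
  have he : e = ∑ v, (Ext.mk₀ (π v)).comp ((Ext.mk₀ (g v)).comp e (zero_add n)) (zero_add n) := by
    simp only [Ext.mk₀_comp_mk₀_assoc]
    rw [← Ext.sum_comp, ← Ext.mk₀_sum, hsum, Ext.mk₀_id_comp]
  refine ⟨π, fun v => Φ (j v) G n ((Ext.mk₀ (g v)).comp e (zero_add n)), he.trans ?_⟩
  exact Finset.sum_congr rfl fun v _ => by rw [AddEquiv.symm_apply_apply]

/-- Classes on a finite disjoint union are torsion if they are torsion on the pieces. -/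
theorem isOfFinAddOrder_of_disjointCover (hD : DisjointCover.IsDisjointCover (fun v => obj (j v)) o)
    (T : Sect V) {G : EtCoh.Ab X} {n : ℕ} (e : Ext T.Z G n)
    (h : ∀ v, ∀ y : EtCoh.H (U v) ((EtCoh.pull (j v)).obj G) n, IsOfFinAddOrder y) :
    IsOfFinAddOrder e := by
  obtain ⟨π, y, rfl⟩ := exists_sum_of_disjointCover j o hD T e
  refine Finset.sum_induction _ IsOfFinAddOrder (fun a b ha hb => ha.add hb) .zero fun v _ => ?_
  exact AddMonoidHom.isOfFinAddOrder
    (((Ext.mk₀ (π v)).precomp G (zero_add n)).comp (Φ (j v) G n).symm.toAddMonoidHom) (h v _)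

/-- A finite disjoint union has no classes if the pieces have none. -/
theorem eq_zero_of_disjointCover (hD : DisjointCover.IsDisjointCover (fun v => obj (j v)) o)
    (T : Sect V) {G : EtCoh.Ab X} {n : ℕ} (e : Ext T.Z G n)
    (h : ∀ v, Subsingleton (EtCoh.H (U v) ((EtCoh.pull (j v)).obj G) n)) : e = 0 := by
  obtain ⟨π, y, rfl⟩ := exists_sum_of_disjointCover j o hD T e
  refine Finset.sum_eq_zero fun v _ => ?_
  rw [show y v = 0 from @Subsingleton.elim _ (h v) _ _, map_zero, Ext.comp_zero]

end Cover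

/-- Positive degree classes over a quasi-compact étale object of a field are torsion. -/
theorem isOfFinAddOrder_ext_field {V : (S K).Etale} [CompactSpace V.left] (T : Sect V)
    {G : EtCoh.Ab (S K)} {n : ℕ} (hn : 0 < n) (e : Ext T.Z G n) : IsOfFinAddOrder e := by
  classical
  choose L hL hA hE k hk hkv using exists_open_point V
  obtain ⟨s, hs⟩ := isCompact_univ.elim_finite_subcover (fun v => Set.range (k v).left.base)
    (fun v => (k v).left.isOpenEmbedding.isOpen_range) fun v _ => Set.mem_iUnion.2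
      ⟨v, IsLocalRing.closedPoint (L v), hkv v (IsLocalRing.closedPoint (L v))⟩
  have hD : DisjointCover.IsDisjointCover (fun v : ↥s => obj (jF K (L v.1))) (fun v => k v.1) :=
    { isOpenImmersion := fun v => hk v.1
      exists_eq := fun x => by
        obtain ⟨v, hv, y, hy⟩ := Set.mem_iUnion₂.1 (hs (Set.mem_univ x))
        exact ⟨⟨v, hv⟩, y, hy⟩
      disjoint := fun i j x y h => Subtype.ext ((hkv i.1 x).symm.trans (h.trans (hkv j.1 y))) }
  exact isOfFinAddOrder_of_disjointCover (fun v : ↥s => jF K (L v.1)) (fun v => k v.1) hD T e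
    fun v y => FieldCoh.isOfFinAddOrder hn y

variable {X : Scheme.{u}} (u : S K ⟶ X) [QuasiCompact u] [QuasiSeparated u]

/-- Higher direct images from a field are torsion. -/
theorem isTorsion_rpush (F : EtCoh.Ab (S K)) (q : ℕ) (hq : 1 ≤ q) :
    EtCoh.IsTorsion ((EtCoh.Rpush u q).obj F) := by
  obtain ⟨n, rfl⟩ : ∃ n, q = n + 1 := ⟨q - 1, by omega⟩
  refine isTorsion_rpush_succ u F n fun W hW e => ?_
  haveI := hW
  haveI := (qcqs_bc u W).1
  exact isOfFinAddOrder_ext_field _ n.succ_pos e

variable [CompactSpace X] [QuasiSeparatedSpace X]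

/-- Positive degree cohomology of a sheaf pushed forward from a field is torsion. -/
theorem isAddTorsion_H_push : ∀ (n : ℕ) (F : EtCoh.Ab (S K)),
    IsAddTorsion (EtCoh.H X ((EtCoh.push u).obj F) (n + 1)) := by
  haveI : PreservesLimitsOfSize.{0, 0} (EtCoh.push u) := (EtCoh.pullPushAdj u).rightAdjoint_preservesLimits
  haveI : PreservesFiniteLimits (EtCoh.push u) := ⟨fun J _ _ => inferInstance⟩
  intro n
  induction n with
  | zero =>
    intro F x
    obtain ⟨m, hm, hm0⟩ := isOfFinAddOrder_iff_nsmul_eq_zero.1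
      (FieldCoh.isOfFinAddOrder Nat.one_pos (EtLim.HofPush u F 1 x))
    refine isOfFinAddOrder_iff_nsmul_eq_zero.2 ⟨m, hm, ?_⟩
    refine PushH1.eq_zero_of_HofPush_eq_zero u F _ ?_
    rw [map_nsmul, hm0]
  | succ n ih =>
    intro F x
    let T := Lib.EtH1Gm.Class.seq F
    have hT : T.ShortExact := Lib.EtH1Gm.Class.seq_shortExact F
    let b := (EtCoh.push u).map T.g
    let q : (EtCoh.push u).obj T.X₂ ⟶ Abelian.image b := Abelian.factorThruImage b
    haveI : Mono T.f := hT.mono_f
    have hw : (EtCoh.push u).map T.f ≫ q = 0 := by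
      rw [← cancel_mono (Abelian.image.ι b), zero_comp, Category.assoc, Abelian.image.fac,
        ← Functor.map_comp, T.zero, Functor.map_zero]
    have hS : (ShortComplex.mk _ q hw).ShortExact := by
      have he : (T.map (EtCoh.push u)).Exact :=
        hT.exact.map_of_mono_of_preservesKernel (EtCoh.push u) hT.mono_f inferInstance
      refine { exact := ?_, mono_f := inferInstanceAs (Mono ((EtCoh.push u).map T.f))
               epi_g := inferInstanceAs (Epi (Abelian.factorThruImage b)) }
      let φT : ShortComplex.mk _ q hw ⟶ T.map (EtCoh.push u) :=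
        { τ₁ := 𝟙 _, τ₂ := 𝟙 _, τ₃ := Abelian.image.ι b
          comm₁₂ := (Category.id_comp _).trans (Category.comp_id _).symm
          comm₂₃ := (Category.id_comp _).trans (Abelian.image.fac _).symm }
      haveI : Epi φT.τ₁ := inferInstanceAs (Epi (𝟙 _))
      haveI : IsIso φT.τ₂ := inferInstanceAs (IsIso (𝟙 _))
      haveI : Mono φT.τ₃ := inferInstanceAs (Mono (kernel.ι _))
      exact (ShortComplex.exact_iff_of_epi_of_isIso_of_mono φT).2 he
    haveI : Injective (ShortComplex.mk _ q hw).X₂ :=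
      (EtCoh.pullPushAdj u).map_injective (Injective.under F) inferInstance
    obtain ⟨y, hy⟩ := Ext.covariant_sequence_exact₁ _ hS x (Ext.eq_zero_of_injective _)
      (n₀ := n + 1) rfl
    -- the cokernel is torsion
    let C := cokernel b
    have hC : EtCoh.IsTorsion C := by
      intro V s v
      haveI : Presheaf.IsLocallySurjective X.smallEtaleTopology (cokernel.π b).hom :=
        (Sheaf.isLocallySurjective_iff_epi' _ (cokernel.π b)).2 inferInstance
      obtain ⟨V₁, g₁, ⟨c₁, hc₁⟩, v₁, hv₁⟩ := (Basic.mem_topology_iff _).1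
        (Presheaf.imageSieve_mem X.smallEtaleTopology (cokernel.π b).hom (U := op V) s) v
      obtain ⟨W, g₂, w, hw₂, hW⟩ := FiniteGen.exists_affine_nhd V₁ v₁
      haveI := hW
      haveI := (qcqs_bc u W).1
      refine ⟨W, g₂ ≫ g₁, ⟨w, (congrArg g₁.left.base hw₂).trans hv₁⟩, ?_⟩
      let Z := local' ((EtCoh.bc u).obj W)
      let c : T.X₃.obj.obj (op ((EtCoh.bc u).obj W)) := ((EtCoh.push u).obj T.X₃).obj.map g₂.op c₁
      let τ := (Z.e T.X₃).symm c
      obtain ⟨m, hm, hm0⟩ := isOfFinAddOrder_iff_nsmul_eq_zero.1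
        (isOfFinAddOrder_ext_field Z Nat.one_pos (τ.comp hT.extClass (zero_add 1)))
      have hm' : (m • τ).comp hT.extClass (zero_add 1) = 0 := by
        rw [← hm0]
        exact map_nsmul (hT.extClass.postcomp Z.Z (zero_add 1)) m τ
      obtain ⟨r, hr⟩ := Ext.covariant_sequence_exact₃ _ hT _ (zero_add 1) hm'
      refine isOfFinAddOrder_iff_nsmul_eq_zero.2 ⟨m, hm, ?_⟩
      have hc : (cokernel.π b).hom.app (op W) c = C.obj.map (g₂ ≫ g₁).op s := by
        refine (NatTrans.naturality_apply (cokernel.π b).hom g₂.op c₁).trans ?_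
        rw [hc₁]
        change _ = C.obj.map (g₂ ≫ g₁).op s
        rw [op_comp, Functor.map_comp, ConcreteCategory.comp_apply]
      have hb : b.hom.app (op W) (Z.e T.X₂ r) = m • c := by
        refine (Z.natural T.g r).trans ?_
        rw [hr, map_nsmul, AddEquiv.apply_symm_apply]
      rw [← hc]
      refine ((map_nsmul ((cokernel.π b).hom.app (op W)).hom m c).symm).trans ?_
      refine (congrArg ((cokernel.π b).hom.app (op W)) hb.symm).trans ?_
      exact ConcreteCategory.congr_hom
        (congrArg (fun a => a.hom.app (op W)) (cokernel.condition b)) (Z.e T.X₂ r)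
    -- the image is squeezed between torsion groups
    let R := ShortComplex.mk (Abelian.image.ι b) (cokernel.π b) (kernel.condition _)
    have hR : R.ShortExact :=
      { exact := ShortComplex.exact_of_f_is_kernel _ (kernelIsKernel _)
        mono_f := inferInstanceAs (Mono (kernel.ι _))
        epi_g := inferInstanceAs (Epi (cokernel.π b)) }
    obtain ⟨m, hm, hm0⟩ := isOfFinAddOrder_iff_nsmul_eq_zero.1
      (ih T.X₃ (y.comp (Ext.mk₀ R.f) (add_zero (n + 1))))
    have hm' : (m • y).comp (Ext.mk₀ R.f) (add_zero (n + 1)) = 0 := by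
      rw [← hm0]
      exact map_nsmul ((Ext.mk₀ R.f).postcomp _ (add_zero (n + 1))) m y
    obtain ⟨z, hz⟩ := Ext.covariant_sequence_exact₁ _ hR (m • y) hm' (n₀ := n) rfl
    have hyt : IsOfFinAddOrder (m • y) := by
      rw [← hz]
      exact AddMonoidHom.isOfFinAddOrder (hR.extClass.postcomp _ rfl) (isAddTorsion_H C hC n z)
    rw [← hy]
    refine AddMonoidHom.isOfFinAddOrder (hS.extClass.postcomp _ rfl) ?_
    exact hyt.of_nsmul hm.ne'

end Groth.Agent.H88.EtMod.PointCohTorsion
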