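import Groth.Agent.H88.EtMod.CohColim
import Groth.Agent.Lib.EtSite.ExtCompare
import Groth.Agent.Lib.EtSite.StrictHens
import Mathlib.AlgebraicGeometry.AlgClosed.Basic
import Mathlib.CategoryTheory.Limits.Constructions.Filtered
import Mathlib.RingTheory.Henselian

/-!
Cohomology of sums of skyscraper sheaves at closed points vanishes.
-/

set_option autoImplicit false
set_option linter.style.haveILetI false

universe u

open CategoryTheory CategoryTheory.Limits AlgebraicGeometry Opposite Abelian

noncomputable section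

namespace Groth.Agent.H88.EtMod.PointSum

variable {X : Scheme.{u}}

open CoproductsFromFiniteFiltered in
theorem subsingleton_H_cofan [CompactSpace X] [QuasiSeparatedSpace X] {ι : Type u} (G : ι → EtCoh.Ab X)
    (n : ℕ) (hG : ∀ i, ∀ x : Sheaf.H (G i) n, x = 0) (c : Cofan G) (hc : IsColimit c) :
    Subsingleton (Sheaf.H c.pt n) := by
  classical
  let L := liftToFinsetColimitCocone (Discrete.functor G)
  let e : L.cocone.pt ≅ c.pt := L.isColimit.coconePointUniqueUpToIso hc
  refine subsingleton_of_forall_eq 0 fun x => ?_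
  obtain ⟨x', rfl⟩ : ∃ x' : Sheaf.H L.cocone.pt n, Sheaf.H.map e.hom n x' = x :=
    ⟨Sheaf.H.map e.inv n x, by rw [← Sheaf.H.map_comp_apply, e.inv_hom_id, Sheaf.H.map_id_apply]⟩
  obtain ⟨s, y, hy⟩ := (CohColim.good (liftToFinsetObj (Discrete.functor G)) n).1 x'
  suffices y = 0 from (congrArg (Sheaf.H.map e.hom n) (hy.symm.trans
    ((congrArg (Sheaf.H.map (colimit.ι (liftToFinsetObj (Discrete.functor G)) s) n) this).trans
      (map_zero _)))).trans (map_zero _)
  let f : s → EtCoh.Ab X := fun j => G j.1.as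
  let ψ : ⨁ f ≅ (liftToFinsetObj (Discrete.functor G)).obj s := biproduct.isoCoproduct f
  obtain ⟨z, rfl⟩ : ∃ z : Sheaf.H (⨁ f) n, Sheaf.H.map ψ.hom n z = y :=
    ⟨Sheaf.H.map ψ.inv n y, (Sheaf.H.map_comp_apply _ _ _).symm.trans
      ((congrArg (fun g => Sheaf.H.map g n y) ψ.inv_hom_id).trans (Sheaf.H.map_id_apply _))⟩
  suffices z = 0 by rw [this, map_zero]
  haveI : Fintype s := Fintype.ofFinite _
  let φ : ((⨁ f) ⟶ (⨁ f)) →+ Sheaf.H (⨁ f) n :=
    AddMonoidHom.mk' (fun g => Sheaf.H.map g n z) fun g g' => Sheaf.H.map_add_apply g g' z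
  have h1 : φ (𝟙 _) = z := Sheaf.H.map_id_apply z
  have ht : ∑ j, biproduct.π f j ≫ biproduct.ι f j = 𝟙 (⨁ f) := by
    refine biproduct.hom_ext' _ _ fun i => ?_
    rw [Preadditive.comp_sum, Category.comp_id, Finset.sum_eq_single i
      (fun j _ hj => by rw [biproduct.ι_π_ne_assoc _ (Ne.symm hj), zero_comp])
      (fun h => absurd (Finset.mem_univ i) h), biproduct.ι_π_self_assoc]
  replace h1 := (congrArg φ ht).trans h1
  rw [map_sum] at h1
  refine h1.symm.trans (Finset.sum_eq_zero fun j _ => ?_)
  change Sheaf.H.map (biproduct.π f j ≫ biproduct.ι f j) n z = 0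
  rw [Sheaf.H.map_comp_apply]
  exact (congrArg _ (hG j.1.as _)).trans (map_zero _)

/-- The residue field of a closed point on a scheme of finite type over an algebraically closed field. -/
theorem gsec_residueField {k : Type u} [Field k] [IsAlgClosed k] (f : X ⟶ Spec (CommRingCat.of k))
    [LocallyOfFiniteType f] (x : X) (hx : IsClosed ({x} : Set X)) :
    (EtCore.gsec (Spec (X.residueField x))).PreservesEpimorphisms := by
  let K := X.residueField x
  haveI : IsAlgClosed K := IsAlgClosed.of_ringEquiv (k := k) K (residueFieldIsoBase f x hx).commRingCatIsoToRingEquiv.symm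
  haveI : IsAlgClosed (IsLocalRing.ResidueField K) := IsAlgClosed.of_ringEquiv (k := K) _
    (RingEquiv.ofBijective (IsLocalRing.residue K)
      ⟨(IsLocalRing.residue K).injective, IsLocalRing.residue_surjective⟩)
  exact Groth.Agent.Lib.EtSite.StrictHens.gsec_preservesEpimorphisms K

theorem subsingleton_H {k : Type u} [Field k] [IsAlgClosed k] (f : X ⟶ Spec (CommRingCat.of k))
    [LocallyOfFiniteType f] [CompactSpace X] [QuasiSeparatedSpace X]
    (c : Cofan fun x : {x : X // IsClosed ({x} : Set X)} =>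
      (EtCoh.push (X.fromSpecResidueField x.1)).obj (EtCoh.const (Spec (X.residueField x.1)) ℤ))
    (hc : IsColimit c) (q : ℕ) (hq : 0 < q) :
    Subsingleton (EtCoh.H X c.pt q) := by
  obtain ⟨n, rfl⟩ := Nat.exists_eq_succ_of_ne_zero hq.ne'
  refine subsingleton_H_cofan _ (n + 1) (fun x y => ?_) c hc
  haveI : IsClosedImmersion (X.fromSpecResidueField x.1) := isClosed_singleton_iff_isClosedImmersion.1 x.2
  haveI := Groth.Agent.Lib.EtSite.ExtCompare.H_push_subsingleton (X.fromSpecResidueField x.1)
    (gsec_residueField f x.1 x.2) n (EtCoh.const (Spec (X.residueField x.1)) ℤ)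
  exact Subsingleton.elim (α := EtCoh.H X ((EtCoh.push (X.fromSpecResidueField x.1)).obj
    (EtCoh.const (Spec (X.residueField x.1)) ℤ)) (n + 1)) y 0

end Groth.Agent.H88.EtMod.PointSum
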