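import Groth.Agent.H88.EtMod.Specialize
import Groth.Agent.H88.EtMod.LCOps
import Groth.Agent.H88.EtMod.PBCOps
import Groth.Agent.H88.EtMod.ClosureCriterion
import Groth.Agent.H88.EtMod.Descend

/-!
Local constancy and constructibility through specialization maps on stalks.
-/

set_option autoImplicit false
set_option linter.style.haveILetI false

universe u

open CategoryTheory CategoryTheory.Limits AlgebraicGeometry Opposite Topology

noncomputable section

namespace Groth.Agent.H88.EtMod.SpecCriteria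

open Groth.Agent.Lib.EtSite Groth.Agent.Lib.EtSite.Basic LCChart AbBridge Specialize

variable {X : Scheme.{u}} {F : EtModW.Mod Zl.{u} X}
variable {Ω Ω' : Type u} [Field Ω] [IsSepClosed Ω] [Field Ω'] [IsSepClosed Ω']
  {ξ : Spec (CommRingCat.of Ω) ⟶ X} {ξ' : Spec (CommRingCat.of Ω') ⟶ X} {U : X.Etale}

/-- Restriction to a neighbourhood of a geometric point on which a section vanishes. -/
theorem exists_zero {p : (Scheme.pointSmallEtale ξ).fiber.obj U} {s : F.obj.obj (op U)}
    (h : germ F U ξ p s = 0) :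
    ∃ (V : X.Etale) (g : V ⟶ U) (q : (Scheme.pointSmallEtale ξ).fiber.obj V),
      (Scheme.pointSmallEtale ξ).fiber.map g q = p ∧ F.obj.map g.op s = 0 := by
  obtain ⟨V, g, q, hq, hs⟩ := LCOps.exists_nhd_eq ξ F p (ι := Unit) (fun _ => s) (fun _ => 0)
    (fun _ => h.trans (map_zero _).symm)
  exact ⟨V, g, q, hq, (hs ()).trans (map_zero _)⟩

theorem germ_eq_zero_of_generization (p : (Scheme.pointSmallEtale ξ).fiber.obj U)
    (p' : (Scheme.pointSmallEtale ξ').fiber.obj U) (h : fiberPt p' ⤳ fiberPt p)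
    {s : F.obj.obj (op U)} (hs : germ F U ξ p s = 0) : germ F U ξ' p' s = 0 := by
  obtain ⟨φ, rfl⟩ := exists_hom p p' h
  rw [← germ_sheafFiber, hs, map_zero]

variable {M : Type (u + 1)} [AddCommGroup M] [Module Zl.{u} M]

/-- Bijectivity of a chart only depends on the point. -/
theorem bijective_of_eq (φ : M →ₗ[Zl.{u}] F.obj.obj (op U))
    (p : (Scheme.pointSmallEtale ξ).fiber.obj U) (p' : (Scheme.pointSmallEtale ξ').fiber.obj U)
    (h : fiberPt p' = fiberPt p) (hb : Function.Bijective fun m => germ F U ξ p (φ m)) :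
    Function.Bijective fun m => germ F U ξ' p' (φ m) := by
  constructor
  · intro m m' hm
    simp only at hm
    refine hb.1 ?_
    simp only
    rw [← sub_eq_zero, ← map_sub, ← map_sub] at hm ⊢
    exact germ_eq_zero_of_generization p' p (h ▸ specializes_rfl) hm
  · intro z
    obtain ⟨V, g, q', t, hq', ht⟩ := exists_germ_eq F U ξ' p' z
    obtain ⟨q, hq, hqv⟩ := Fiber.exists_fiber_map ξ g p (fiberPt q')
      (((fiberPt_map g q').symm.trans (congrArg fiberPt hq')).trans h)
    obtain ⟨m, hm⟩ := hb.2 (germ F V ξ q t)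
    refine ⟨m, ?_⟩
    simp only at hm ⊢
    rw [← ht, ← hq', ← germ_map, ← sub_eq_zero, ← map_sub]
    refine germ_eq_zero_of_generization q q' (hqv ▸ specializes_rfl) ?_
    rw [map_sub, germ_map, hq, hm, sub_self]

theorem isChart_of_points (φ : M →ₗ[Zl.{u}] F.obj.obj (op U))
    (h : ∀ w : U.left, ∃ (Ω : Type u) (_ : Field Ω) (_ : IsSepClosed Ω)
      (ξ : Spec (CommRingCat.of Ω) ⟶ X) (p : (Scheme.pointSmallEtale ξ).fiber.obj U),
      fiberPt p = w ∧ Function.Bijective fun m => germ F U ξ p (φ m)) : IsChart F U φ := by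
  intro Ω' _ _ ξ' p'
  obtain ⟨Ω, _, _, ξ, p, hp, hb⟩ := h (fiberPt p')
  exact bijective_of_eq φ p p' hp.symm hb

omit [IsSepClosed Ω'] in
/-- A finite stalk is the stalk of a chart at that point. -/
theorem exists_chart_at (ξ : Spec (CommRingCat.of Ω) ⟶ X)
    [Finite ↥((Scheme.pointSmallEtale ξ).sheafFiber.obj F)] :
    ∃ (V : X.Etale) (q : (Scheme.pointSmallEtale ξ).fiber.obj V)
      (L : ↥((Scheme.pointSmallEtale ξ).sheafFiber.obj F) →ₗ[Zl.{u}] F.obj.obj (op V)),
      IsGood V ∧ Function.Bijective fun m => germ F V ξ q (L m) := by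
  haveI : Module.Finite Zl.{u} ↥((Scheme.pointSmallEtale ξ).sheafFiber.obj F) := inferInstance
  obtain ⟨p, -⟩ := exists_fiber ξ (EtCoh.top X) (ξ.base default) rfl
  obtain ⟨V, g, q, L, -, hL⟩ := LCOps.exists_lift_linear ξ F p LinearMap.id
  obtain ⟨W, a, w, hw, hW⟩ := exists_good V (fiberPt q)
  obtain ⟨r, hr, -⟩ := Fiber.exists_fiber_map ξ a q w hw
  refine ⟨W, r, (F.obj.map a.op).hom ∘ₗ L, hW, ?_⟩
  convert Function.bijective_id using 1
  funext m
  refine (germ_map F a ξ r (L m)).trans ?_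
  rw [hr]
  exact hL m

theorem natCard_eq_of_eq (ξ : Spec (CommRingCat.of Ω) ⟶ X) (ξ' : Spec (CommRingCat.of Ω') ⟶ X)
    (h : ξ'.base default = ξ.base default) [Finite ↥((Scheme.pointSmallEtale ξ).sheafFiber.obj F)] :
    Nat.card ↥((Scheme.pointSmallEtale ξ).sheafFiber.obj F) =
      Nat.card ↥((Scheme.pointSmallEtale ξ').sheafFiber.obj F) := by
  obtain ⟨V, q, L, -, hL⟩ := exists_chart_at (F := F) ξ
  obtain ⟨q', hq'⟩ := exists_fiber ξ' V (fiberPt q) ((hom_fiberPt q).trans
    ((congrArg ξ.base (Subsingleton.elim _ _)).trans h.symm))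
  exact Nat.card_congr (Equiv.ofBijective _ (bijective_of_eq L q q' hq' hL))

/-- Injectivity of the specialization maps. -/
def SpecInj (F : EtModW.Mod Zl.{u} X) : Prop :=
  ∀ (Ω Ω' : Type u) [Field Ω] [IsSepClosed Ω] [Field Ω'] [IsSepClosed Ω']
    (ξ : Spec (CommRingCat.of Ω) ⟶ X) (ξ' : Spec (CommRingCat.of Ω') ⟶ X) (U : X.Etale)
    (p : (Scheme.pointSmallEtale ξ).fiber.obj U) (p' : (Scheme.pointSmallEtale ξ').fiber.obj U),
    fiberPt p' ⤳ fiberPt p → ∀ s, germ F U ξ' p' s = 0 → germ F U ξ p s = 0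

/-- Going down along a specialization with injective specialization maps. -/
theorem bijective_of_spec (hF : SpecInj F) (φ : M →ₗ[Zl.{u}] F.obj.obj (op U))
    (p : (Scheme.pointSmallEtale ξ).fiber.obj U) (p' : (Scheme.pointSmallEtale ξ').fiber.obj U)
    (h : fiberPt p' ⤳ fiberPt p) (hb : Function.Bijective fun m => germ F U ξ' p' (φ m)) :
    Function.Bijective fun m => germ F U ξ p (φ m) := by
  constructor
  · intro m m' hm
    simp only at hm
    refine hb.1 ?_
    simp only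
    rw [← sub_eq_zero, ← map_sub, ← map_sub] at hm ⊢
    exact germ_eq_zero_of_generization p p' h hm
  · intro z
    obtain ⟨V, g, q, t, hq, ht⟩ := exists_germ_eq F U ξ p z
    haveI : Etale g.left := Fiber.etale_left g
    obtain ⟨v', hv', hgv'⟩ := exists_lift_specializes g.left (fiberPt q) (fiberPt p')
      (((fiberPt_map g q).symm.trans (congrArg fiberPt hq)).symm ▸ h)
    obtain ⟨q', hq', hqv⟩ := Fiber.exists_fiber_map ξ' g p' v' hgv'
    obtain ⟨m, hm⟩ := hb.2 (germ F V ξ' q' t)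
    refine ⟨m, ?_⟩
    simp only at hm ⊢
    rw [← ht, ← hq, ← germ_map, ← sub_eq_zero, ← map_sub]
    refine hF _ _ ξ ξ' V q q' (hqv.symm ▸ hv') _ ?_
    rw [map_sub, germ_map, hq', hm, sub_self]

theorem bijective_of_injective_of_card {A B : Type*} [Finite B] (f : A → B) (hf : Function.Injective f)
    (hc : Nat.card A = Nat.card B) : Function.Bijective f :=
  hf.bijective_of_nat_card_le hc.ge

theorem specInj_of_isFTLocConst (hF : EtModW.IsFTLocConst Zl.{u} F) : SpecInj F := by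
  intro Ω Ω' _ _ _ _ ξ ξ' V p p' hpp s hs
  obtain ⟨U₀, ⟨u₀, hu₀⟩, M, _, _, _, φ, hφ⟩ := LCChart.isFTLocConst_iff.1 hF (ξ.base default)
  obtain ⟨q₀, -⟩ := exists_fiber ξ U₀ u₀ hu₀
  obtain ⟨W, a, b, w, hw, -⟩ := LocConst.exists_min p q₀
  obtain ⟨m, hm⟩ := (hφ _ ξ ((Scheme.pointSmallEtale ξ).fiber.map b w)).2 (germ F V ξ p s)
  simp only at hm
  obtain ⟨Z, g, z, hz, hZ⟩ := exists_zero (F := F) (p := w)
    (s := F.obj.map a.op s - F.obj.map b.op (φ m)) (by rw [map_sub, germ_map, germ_map, hw, hm, sub_self])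
  have hz' : (Scheme.pointSmallEtale ξ).fiber.map (g ≫ a) z = p := by
    rw [Functor.map_comp, ConcreteCategory.comp_apply, hz, hw]
  haveI : Etale (g ≫ a).left := Fiber.etale_left (g ≫ a)
  obtain ⟨v', -, hgv'⟩ := exists_lift_specializes (g ≫ a).left (fiberPt z) (fiberPt p')
    (((fiberPt_map (g ≫ a) z).symm.trans (congrArg fiberPt hz')).symm ▸ hpp)
  obtain ⟨z', hz'', -⟩ := Fiber.exists_fiber_map ξ' (g ≫ a) p' v' hgv'
  rw [map_sub, sub_eq_zero] at hZ
  have h0 : germ F U₀ ξ' ((Scheme.pointSmallEtale ξ').fiber.map (g ≫ b) z') (φ m) = 0 := by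
    rw [Functor.map_comp, ConcreteCategory.comp_apply, ← germ_map, ← germ_map, ← hZ, germ_map,
      germ_map, ← ConcreteCategory.comp_apply, ← Functor.map_comp, hz'']
    exact hs
  have hm0 : m = 0 := (hφ _ ξ' _).1 (h0.trans (by simp))
  rw [← hm, hm0, map_zero, map_zero]

/-- The number of elements of the stalks is constant along specializations for locally constant
sheaves. -/
theorem natCard_eq_of_isFTLocConst (hF : EtModW.IsFTLocConst Zl.{u} F)
    (ξ : Spec (CommRingCat.of Ω) ⟶ X) (ξ' : Spec (CommRingCat.of Ω') ⟶ X)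
    (h : ξ'.base default ⤳ ξ.base default) :
    Nat.card ↥((Scheme.pointSmallEtale ξ').sheafFiber.obj F) =
      Nat.card ↥((Scheme.pointSmallEtale ξ).sheafFiber.obj F) := by
  obtain ⟨U₀, ⟨u₀, hu₀⟩, M, _, _, _, φ, hφ⟩ := LCChart.isFTLocConst_iff.1 hF (ξ.base default)
  haveI : Etale U₀.hom := U₀.prop
  obtain ⟨v, -, hv⟩ := exists_lift_specializes U₀.hom u₀ (ξ'.base default) (hu₀.symm ▸ h)
  obtain ⟨q, -⟩ := exists_fiber ξ U₀ u₀ hu₀
  obtain ⟨q', -⟩ := exists_fiber ξ' U₀ v hv
  exact (Nat.card_congr (Equiv.ofBijective _ (hφ _ ξ' q'))).symm.trans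
    (Nat.card_congr (Equiv.ofBijective _ (hφ _ ξ q)))

section Pull

variable {T : Scheme.{u}} (g : T ⟶ X)

theorem bijective_pull (φ : M →ₗ[Zl.{u}] F.obj.obj (op U)) {η : Spec (CommRingCat.of Ω) ⟶ T}
    (p : (Scheme.pointSmallEtale (η ≫ g)).fiber.obj U)
    (hb : Function.Bijective fun m => germ F U (η ≫ g) p (φ m)) :
    Function.Bijective fun m => germ ((EtModW.pull Zl.{u} g).obj F) ((EtCoh.bc g).obj U) η
      (PushStalk.liftPt g rfl U p) (((EtSix.pullPushModAdj Zl.{u} g).unit.app F).hom.app (op U) (φ m)) := by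
  let c := ((EtSix.pullPushModAdj Zl.{u} g).unit.app F).hom.app (op U)
  haveI : HasLimitsOfSize.{u, u} (ModuleCat.{u + 1} Zl.{u}) := LCOps.hasLimits_small
  let k := UnitStalk.unitStalk.{u} g η (ModuleCat.{u + 1} Zl.{u}) F
  haveI : IsIso k := UnitStalk.isIso_unitStalk.{u} g η (ModuleCat.{u + 1} Zl.{u}) F
  have hk : ∀ s, k (germ F U (η ≫ g) p s) =
      germ ((EtModW.pull Zl.{u} g).obj F) _ η (PushStalk.liftPt g rfl U p) (c s) := by
    intro s
    refine (ConcreteCategory.comp_apply _ _ _).trans ?_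
    refine (congrArg _ ((Scheme.pointSmallEtale (η ≫ g)).toPresheafFiber_naturality_apply
      ((EtSix.pullPushModAdj Zl.{u} g).unit.app F).hom U p s)).trans ?_
    exact PushStalk.germTo_toPresheafFiber g (rfl : η ≫ g = η ≫ g) ((EtModW.pull Zl.{u} g).obj F) U p (c s)
  have hb' := ((ConcreteCategory.isIso_iff_bijective k).1 inferInstance).comp hb
  convert hb' using 1
  funext m
  exact (hk (φ m)).symm

theorem exists_liftPt (η : Spec (CommRingCat.of Ω) ⟶ T)
    (p' : (Scheme.pointSmallEtale η).fiber.obj ((EtCoh.bc g).obj U)) :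
    ∃ p, PushStalk.liftPt g (rfl : η ≫ g = η ≫ g) U p = p' := by
  refine ⟨mkFiber (η ≫ g) U (fiberHom p' ≫ pullback.fst U.hom g)
    ((Category.assoc _ _ _).trans ((_ ≫= pullback.condition).trans
      ((Category.assoc _ _ _).symm.trans (congrArg (· ≫ g) (fiberHom_comp p'))))), ?_⟩
  apply Over.OverMorphism.ext
  apply pullback.hom_ext
  · exact pullback.lift_fst _ _ _
  · exact (pullback.lift_snd _ _ _).trans (fiberHom_comp p').symm

end Pull

end Groth.Agent.H88.EtMod.SpecCriteria
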