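import Groth.Agent.H88.EtMod.SpecLC

/-!
Local constancy through specialization isomorphisms, and level sets of stalk cardinalities.
-/

set_option autoImplicit false
set_option linter.style.haveILetI false

universe u

open CategoryTheory CategoryTheory.Limits AlgebraicGeometry Opposite Topology

noncomputable section

namespace Groth.Agent.H88.EtMod.SpecIso

open Groth.Agent.Lib.EtSite Groth.Agent.Lib.EtSite.Basic LCChart AbBridge Specialize SpecCriteria SpecLC

variable {X : Scheme.{u}}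

/-- Every point of a locally noetherian scheme has a neighbourhood all of whose points specialize
from a generization of the given point. -/
theorem exists_nhd_generization {Y : Scheme.{u}} [IsLocallyNoetherian Y] (u : Y) :
    ∃ O : Y.Opens, u ∈ O ∧ ∀ w ∈ O, ∃ η : Y, η ⤳ w ∧ η ⤳ u := by
  obtain ⟨_, ⟨(A : Y.Opens), hA, rfl⟩, huA, -⟩ :=
    Y.isBasis_affineOpens.exists_subset_of_mem_open (Set.mem_univ u) isOpen_univ
  haveI : IsAffine (A : Scheme.{u}) := hA
  haveI : IsLocallyNoetherian (A : Scheme.{u}) := inferInstance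
  haveI : IsNoetherian (A : Scheme.{u}) := {}
  let u' : ↥(A : Scheme.{u}) := ⟨u, huA⟩
  let S : Set (Set ↥(A : Scheme.{u})) := {Z ∈ irreducibleComponents ↥(A : Scheme.{u}) | u' ∉ Z}
  have hS : S.Finite := TopologicalSpace.NoetherianSpace.finite_irreducibleComponents.subset fun Z hZ => hZ.1
  let O' : (A : Scheme.{u}).Opens := ⟨(⋃ Z ∈ S, Z)ᶜ,
    (hS.isClosed_biUnion fun Z hZ => isClosed_of_mem_irreducibleComponents Z hZ.1).isOpen_compl⟩
  refine ⟨A.ι ''ᵁ O', ⟨u', fun hmem => ?_, rfl⟩, ?_⟩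
  · obtain ⟨Z, hZ, hu⟩ := Set.mem_iUnion₂.1 hmem
    exact hZ.2 hu
  · rintro _ ⟨w, hw, rfl⟩
    have hZ := irreducibleComponent_mem_irreducibleComponents w
    have hu : u' ∈ irreducibleComponent w := by
      by_contra hn
      exact hw (Set.mem_iUnion₂.2 ⟨_, ⟨hZ, hn⟩, mem_irreducibleComponent⟩)
    have hgen := hZ.1.isGenericPoint_genericPoint_closure
    rw [(isClosed_of_mem_irreducibleComponents _ hZ).closure_eq] at hgen
    exact ⟨A.ι.base hZ.1.genericPoint, (hgen.specializes mem_irreducibleComponent).map A.ι.continuous,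
      (hgen.specializes hu).map A.ι.continuous⟩

theorem isFiniteLocallyConstant_of_isIso [IsLocallyNoetherian X] (F : EtCoh.Ab X)
    (hfin : ∀ (Ω : Type u) [Field Ω] [IsSepClosed Ω] (ξ : Spec (CommRingCat.of Ω) ⟶ X),
      Finite ((EtCoh.stalk ξ).obj F))
    (hiso : ∀ (Ω Ω' : Type u) [Field Ω] [IsSepClosed Ω] [Field Ω'] [IsSepClosed Ω']
      (ξ : Spec (CommRingCat.of Ω) ⟶ X) (ξ' : Spec (CommRingCat.of Ω') ⟶ X)
      (φ : Scheme.pointSmallEtale ξ' ⟶ Scheme.pointSmallEtale ξ),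
      IsIso ((GrothendieckTopology.Point.Hom.sheafFiber (A := AddCommGrpCat.{u + 1}) φ).app F)) :
    EtCoh.IsFiniteLocallyConstant F := by
  obtain ⟨F', ⟨e⟩⟩ := exists_lift F
  have hF : SpecInj F' := specInj_of_mono e fun Ω Ω' _ _ _ _ ξ ξ' φ =>
    haveI := hiso Ω Ω' ξ ξ' φ; inferInstance
  have hfin' := finStalks_of_ab e hfin
  refine isFiniteLC_of_iso e ((isFiniteLocallyConstant_iff' F').2 ⟨LCChart.isFTLocConst_iff.2 fun x => ?_, hfin'⟩)
  let ξ := geomPoint X x
  haveI := hfin' _ ξ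
  obtain ⟨U, p, φ, -, hφ⟩ := exists_chart_at (F := F') ξ
  haveI : Etale U.hom := U.prop
  haveI : IsLocallyNoetherian ((Functor.fromPUnit X).obj U.right) := ‹IsLocallyNoetherian X›
  haveI : IsLocallyNoetherian U.left := LocallyOfFiniteType.isLocallyNoetherian U.hom
  obtain ⟨O, hpO, hO⟩ := exists_nhd_generization (fiberPt p)
  let U' : X.Etale := Scheme.Etale.mk (O.ι ≫ U.hom)
  let r : U' ⟶ U := MorphismProperty.Over.homMk O.ι rfl
  refine ⟨U', ⟨⟨fiberPt p, hpO⟩, (Scheme.Hom.comp_apply _ _ _).trans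
    ((hom_fiberPt p).trans (geomPoint_apply x _))⟩, _, inferInstance, inferInstance, inferInstance,
    (F'.obj.map r.op).hom ∘ₗ φ, ?_⟩
  intro Ω _ _ η q
  suffices h : Function.Bijective fun m => germ F' U η ((Scheme.pointSmallEtale η).fiber.map r q) (φ m) by
    convert h using 1
    funext m
    exact germ_map F' r η q (φ m)
  generalize hq' : (Scheme.pointSmallEtale η).fiber.map r q = q'
  have hw : fiberPt q' ∈ O := by
    rw [← hq', fiberPt_map]
    exact (fiberPt q : ↥(U'.left)).2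
  obtain ⟨v, hvw, hvu⟩ := hO _ hw
  let η₁ := geomPoint X (U.hom.base v)
  obtain ⟨q₁, hq₁⟩ := exists_fiber η₁ U v (geomPoint_apply _ default).symm
  have hx : η₁.base default ⤳ ξ.base default := by
    rw [geomPoint_apply, geomPoint_apply, ← geomPoint_apply x (default : ↥(Spec _)),
      ← (hom_fiberPt p).trans (congrArg ξ.base (Subsingleton.elim _ default))]
    exact hvu.map U.hom.continuous
  have hb₁ : Function.Bijective fun m => germ F' U η₁ q₁ (φ m) := by
    haveI := hfin' _ η₁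
    refine bijective_of_injective_of_card _ (fun m m' hm => hφ.1 ?_) ?_
    · simp only at hm ⊢
      rw [← sub_eq_zero, ← map_sub, ← map_sub] at hm ⊢
      exact hF _ _ ξ η₁ U p q₁ (hq₁.symm ▸ hvu) _ hm
    · obtain ⟨ψ, -⟩ := exists_hom p q₁ (hq₁.symm ▸ hvu)
      haveI := hiso _ _ ξ η₁ ψ
      rw [← natCard_ab e, ← natCard_ab e]
      exact Nat.card_congr (asIso ((GrothendieckTopology.Point.Hom.sheafFiber
        (A := AddCommGrpCat.{u + 1}) ψ).app F)).addCommGroupIsoToAddEquiv.toEquiv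
  exact bijective_of_spec hF φ q' q₁ (hq₁.symm ▸ hvw) hb₁

theorem isIso_app_of_isFiniteLC (F : EtCoh.Ab X) (hF : EtCoh.IsFiniteLocallyConstant F)
    {Ω Ω' : Type u} [Field Ω] [IsSepClosed Ω] [Field Ω'] [IsSepClosed Ω']
    {ξ : Spec (CommRingCat.of Ω) ⟶ X} {ξ' : Spec (CommRingCat.of Ω') ⟶ X}
    (φ : Scheme.pointSmallEtale ξ' ⟶ Scheme.pointSmallEtale ξ) :
    IsIso ((GrothendieckTopology.Point.Hom.sheafFiber (A := AddCommGrpCat.{u + 1}) φ).app F) := by
  obtain ⟨F', ⟨e⟩⟩ := exists_lift F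
  refine (NatTrans.isIso_app_iff_of_iso _ e).1 ?_
  obtain ⟨h1, h2⟩ := (isFiniteLocallyConstant_iff' F').1 (isFiniteLC_of_iso e.symm hF)
  rw [ConcreteCategory.isIso_iff_bijective]
  haveI : Finite ↥((EtCoh.stalk ξ').obj ((fg X).obj F')) := (PBCExtZero.finite_stalk_iff F' ξ').2 (h2 _ ξ')
  refine bijective_of_injective_of_card _ (injective_app (specInj_of_isFTLocConst h1) φ) ?_
  refine (natCard_stalk F' ξ).trans (Eq.trans ?_ (natCard_stalk F' ξ').symm)
  refine (natCard_eq_of_isFTLocConst h1 ξ ξ' ?_).symm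
  obtain ⟨p, -⟩ := exists_fiber ξ (EtCoh.top X) (ξ.base default) rfl
  have := (specializes_app p φ).map (EtCoh.top X).hom.continuous
  rwa [hom_fiberPt, hom_fiberPt] at this

/-- The level sets of the stalk cardinality of a constructible sheaf. -/
theorem isLocallyConstructible_card [IsLocallyNoetherian X] (F : EtCoh.Ab X)
    (hF : EtPBC.IsConstructible F) (n : ℕ) : IsLocallyConstructible
      {x : X | ∃ (Ω : Type u) (_ : Field Ω) (_ : IsSepClosed Ω) (ξ : Spec (CommRingCat.of Ω) ⟶ X),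
        Set.range ξ = {x} ∧ Nat.card ((EtCoh.stalk ξ).obj F) = n} := by
  obtain ⟨F', ⟨e⟩⟩ := exists_lift F
  set L := {x : X | ∃ (Ω : Type u) (_ : Field Ω) (_ : IsSepClosed Ω) (ξ : Spec (CommRingCat.of Ω) ⟶ X),
    Set.range ξ = {x} ∧ Nat.card ((EtCoh.stalk ξ).obj F) = n}
  have hcrit := (ClosureCriterion.isConstructible_iff F).1 hF
  have key : ∀ y : X, ∃ V : X.Opens, y ∈ V ∧
      ∀ z ∈ (V : Set X) ∩ closure {y}, z ∈ L → (V : Set X) ∩ closure {y} ⊆ L := by
    intro y
    obtain ⟨V, T, g, hg, hy, hr, hl⟩ := hcrit y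
    haveI := hg
    refine ⟨V, hy, fun z hz ⟨Ω, _, _, η, hη, hn⟩ z' hz' => ?_⟩
    refine ⟨_, inferInstance, inferInstance, geomPoint X z', range_geomPoint z', ?_⟩
    have h1 : EtModW.IsFTLocConst Zl.{u} ((EtModW.pull Zl.{u} g).obj F') :=
      ((isFiniteLocallyConstant_iff' _).1 (isFiniteLC_of_iso ((pullIso g).app F' ≪≫
        (EtCoh.pull g).mapIso e).symm hl)).1
    haveI := LCOps.hasLimits_small (Λ := Zl.{u})
    have hcard : ∀ (Ω : Type u) [Field Ω] [IsSepClosed Ω] (ζ : Spec (CommRingCat.of Ω) ⟶ X),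
        ζ.base default ∈ (V : Set X) ∩ closure {y} →
        Nat.card ((EtCoh.stalk ζ).obj F) = Nat.card ((EtCoh.stalk (geomPoint X y)).obj F) := by
      intro Ω _ _ ζ hζ
      have hlift : ∀ (Ω : Type u) [Field Ω] [IsSepClosed Ω] (ζ : Spec (CommRingCat.of Ω) ⟶ X),
          ζ.base default ∈ (V : Set X) ∩ closure {y} → ∃ ζ', ζ' ≫ g = ζ := fun Ω _ _ ζ hζ =>
        Groth.Agent.Lib.ActSep.Criterion.exists_lift_of_isImmersion ζ g (by
          rintro _ ⟨p, rfl⟩
          rw [Subsingleton.elim p default]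
          exact hr ▸ hζ)
      obtain ⟨ζ', rfl⟩ := hlift Ω ζ hζ
      obtain ⟨θ, hθ⟩ := hlift _ (geomPoint X y) (by
        rw [geomPoint_apply]; exact ⟨hy, subset_closure rfl⟩)
      rw [natCard_ab e, natCard_ab e, ← hθ,
        ← Nat.card_congr ((Pull.stalkPullIso.{u} g ζ' (ModuleCat.{u + 1} Zl.{u})).app F').toLinearEquiv.toEquiv,
        ← Nat.card_congr ((Pull.stalkPullIso.{u} g θ (ModuleCat.{u + 1} Zl.{u})).app F').toLinearEquiv.toEquiv]
      refine (natCard_eq_of_isFTLocConst h1 ζ' θ (g.isEmbedding.isInducing.specializes_iff.1 ?_)).symm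
      rw [← Scheme.Hom.comp_apply, ← Scheme.Hom.comp_apply, hθ, geomPoint_apply]
      exact specializes_iff_mem_closure.2 hζ.2
    have hηz : η.base default = z := by
      have : η.base default ∈ Set.range η.base := ⟨default, rfl⟩
      rwa [hη] at this
    exact (hcard _ _ (by rw [geomPoint_apply]; exact hz')).trans ((hcard _ η (hηz ▸ hz)).symm.trans hn)
  intro x
  obtain ⟨_, ⟨(A : X.Opens), hA, rfl⟩, hxA, -⟩ :=
    X.isBasis_affineOpens.exists_subset_of_mem_open (Set.mem_univ x) isOpen_univ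
  haveI : IsAffine (A : Scheme.{u}) := hA
  haveI : IsLocallyNoetherian (A : Scheme.{u}) := inferInstance
  haveI : IsNoetherian (A : Scheme.{u}) := {}
  refine ⟨A, A.2.mem_nhds hxA, A.2, ?_⟩
  haveI : TopologicalSpace.NoetherianSpace ↥(A : Set X) :=
    inferInstanceAs (TopologicalSpace.NoetherianSpace (A : Scheme.{u}))
  haveI : QuasiSober ↥(A : Set X) := inferInstanceAs (QuasiSober (A : Scheme.{u}))
  refine Lib.Spectral.Noetherian.isConstructible_of_forall _ fun Y hY hYi hd => ?_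
  have hgen := hYi.isGenericPoint_genericPoint hY
  let y := hYi.genericPoint
  obtain ⟨V, hyV, hV⟩ := key y.1
  have hcl : ∀ z ∈ Y, (z : X) ∈ closure {(y : X)} := fun z hz =>
    ((hgen.specializes hz).map continuous_subtype_val).mem_closure
  have hyY : y ∈ Y := hgen.mem
  obtain ⟨z, hzV, hzL, hzY⟩ := mem_closure_iff.1 (hd hyY) (Subtype.val ⁻¹' (V : Set X))
    (V.2.preimage continuous_subtype_val) hyV
  exact ⟨Subtype.val ⁻¹' (V : Set X), V.2.preimage continuous_subtype_val, ⟨y, hyV, hyY⟩,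
    fun z' hz' => hV z.1 ⟨hzV, hcl z hzY⟩ hzL ⟨hz'.1, hcl z' hz'.2⟩⟩

end Groth.Agent.H88.EtMod.SpecIso
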