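import Groth.Agent.H88.EtMod.SpecCriteria
import Groth.Agent.H54.EtaleSep

/-!
Constructibility and local constancy criteria by specialization maps and stalk cardinalities.
-/

set_option autoImplicit false
set_option linter.style.haveILetI false

universe u

open CategoryTheory CategoryTheory.Limits AlgebraicGeometry Opposite Topology

noncomputable section

namespace Groth.Agent.H88.EtMod.SpecLC

open Groth.Agent.Lib.EtSite Groth.Agent.Lib.EtSite.Basic LCChart AbBridge Specialize SpecCriteria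

variable {X : Scheme.{u}}

section Ab

variable {F : EtModW.Mod Zl.{u} X} {Ω Ω' : Type u} [Field Ω] [IsSepClosed Ω] [Field Ω'] [IsSepClosed Ω']
  {ξ : Spec (CommRingCat.of Ω) ⟶ X} {ξ' : Spec (CommRingCat.of Ω') ⟶ X} {U : X.Etale}

/-- The germ of a section of the underlying abelian sheaf. -/
def germAb (F : EtModW.Mod Zl.{u} X) (U : X.Etale) (ξ : Spec (CommRingCat.of Ω) ⟶ X)
    (p : (Scheme.pointSmallEtale ξ).fiber.obj U) :
    ((fg X).obj F).obj.obj (op U) ⟶ (Scheme.pointSmallEtale ξ).sheafFiber.obj ((fg X).obj F) :=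
  (Scheme.pointSmallEtale ξ).toPresheafFiber U p ((fg X).obj F).obj

theorem germAb_eq_zero_iff (p : (Scheme.pointSmallEtale ξ).fiber.obj U) (s : F.obj.obj (op U)) :
    germAb F U ξ p s = 0 ↔ germ F U ξ p s = 0 := by
  constructor
  · intro h
    obtain ⟨V, g, q, hq, he⟩ := ((Scheme.pointSmallEtale ξ).toPresheafFiber_eq_iff'
      (P := ((fg X).obj F).obj) U p s (0 : F.obj.obj (op U))).1 (h.trans (map_zero (germAb F U ξ p).hom).symm)
    rw [← hq, ← germ_map]
    exact (congrArg (germ F V ξ q) (he.trans (map_zero (F.obj.map g.op).hom))).trans (map_zero _)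
  · intro h
    obtain ⟨V, g, q, hq, hs⟩ := exists_zero h
    refine ((Scheme.pointSmallEtale ξ).toPresheafFiber_eq_iff'
      (P := ((fg X).obj F).obj) U p s (0 : F.obj.obj (op U))).2 ⟨V, g, q, hq, ?_⟩ |>.trans
        (map_zero (germAb F U ξ p).hom)
    exact hs.trans (map_zero (F.obj.map g.op).hom).symm

theorem germAb_sheafFiber (φ : Scheme.pointSmallEtale ξ' ⟶ Scheme.pointSmallEtale ξ)
    (p : (Scheme.pointSmallEtale ξ).fiber.obj U) (s : F.obj.obj (op U)) :
    (GrothendieckTopology.Point.Hom.sheafFiber (A := AddCommGrpCat.{u + 1}) φ).app ((fg X).obj F)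
      (germAb F U ξ p s) = germAb F U ξ' (φ.hom.app U p) s :=
  ConcreteCategory.congr_hom ((Scheme.pointSmallEtale ξ).toPresheafFiber_presheafFiberDesc
    (P := ((fg X).obj F).obj) _ _ U p) s

theorem natCard_stalk (F : EtModW.Mod Zl.{u} X) (ξ : Spec (CommRingCat.of Ω) ⟶ X) :
    Nat.card ↥((EtCoh.stalk ξ).obj ((fg X).obj F)) =
      Nat.card ↥((Scheme.pointSmallEtale ξ).sheafFiber.obj F) :=
  Nat.card_congr (PBCExtZero.stalkFgIso F ξ).addCommGroupIsoToAddEquiv.toEquiv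

theorem injective_app (hF : SpecInj F) (φ : Scheme.pointSmallEtale ξ' ⟶ Scheme.pointSmallEtale ξ) :
    Function.Injective
      ((GrothendieckTopology.Point.Hom.sheafFiber (A := AddCommGrpCat.{u + 1}) φ).app ((fg X).obj F)) := by
  refine (injective_iff_map_eq_zero
    ((GrothendieckTopology.Point.Hom.sheafFiber (A := AddCommGrpCat.{u + 1}) φ).app ((fg X).obj F)).hom).2
    fun z hz => ?_
  obtain ⟨U, p, s, rfl⟩ := (Scheme.pointSmallEtale ξ).toPresheafFiber_jointly_surjective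
    (P := ((fg X).obj F).obj) z
  exact (germAb_eq_zero_iff p s).2 (hF _ _ ξ ξ' U p _ (specializes_app p φ) s
    ((germAb_eq_zero_iff _ s).1 ((germAb_sheafFiber φ p s).symm.trans hz)))

end Ab

theorem specInj_of_mono {F : EtCoh.Ab X} {F' : EtModW.Mod Zl.{u} X} (e : (fg X).obj F' ≅ F)
    (h : ∀ (Ω Ω' : Type u) [Field Ω] [IsSepClosed Ω] [Field Ω'] [IsSepClosed Ω']
      (ξ : Spec (CommRingCat.of Ω) ⟶ X) (ξ' : Spec (CommRingCat.of Ω') ⟶ X)
      (φ : Scheme.pointSmallEtale ξ' ⟶ Scheme.pointSmallEtale ξ),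
      Mono ((GrothendieckTopology.Point.Hom.sheafFiber (A := AddCommGrpCat.{u + 1}) φ).app F)) :
    SpecInj F' := by
  intro Ω Ω' _ _ _ _ ξ ξ' U p p' hpp s hs
  obtain ⟨φ, rfl⟩ := exists_hom p p' hpp
  haveI := h Ω Ω' ξ ξ' φ
  let Ψ := GrothendieckTopology.Point.Hom.sheafFiber (A := AddCommGrpCat.{u + 1}) φ
  haveI : Mono (Ψ.app ((fg X).obj F')) := by
    haveI : Mono (Ψ.app ((fg X).obj F') ≫ (Scheme.pointSmallEtale ξ').sheafFiber.map e.hom) := by
      rw [← Ψ.naturality]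
      infer_instance
    exact mono_of_mono _ ((Scheme.pointSmallEtale ξ').sheafFiber.map e.hom)
  rw [← germAb_eq_zero_iff] at hs ⊢
  refine (AddCommGrpCat.mono_iff_injective (Ψ.app ((fg X).obj F'))).1 inferInstance ?_
  exact (germAb_sheafFiber φ p s).trans (hs.trans (map_zero (Ψ.app ((fg X).obj F')).hom).symm)

theorem finStalks_of_ab {F : EtCoh.Ab X} {F' : EtModW.Mod Zl.{u} X} (e : (fg X).obj F' ≅ F)
    (hfin : ∀ (Ω : Type u) [Field Ω] [IsSepClosed Ω] (ξ : Spec (CommRingCat.of Ω) ⟶ X),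
      Finite ((EtCoh.stalk ξ).obj F)) : FinStalks F' := fun Ω _ _ ξ => by
  haveI := hfin Ω ξ
  rw [← PBCExtZero.finite_stalk_iff]
  exact Finite.of_equiv _ ((EtCoh.stalk ξ).mapIso e).addCommGroupIsoToAddEquiv.symm.toEquiv

theorem natCard_ab {F : EtCoh.Ab X} {F' : EtModW.Mod Zl.{u} X} (e : (fg X).obj F' ≅ F) {Ω : Type u}
    [Field Ω] [IsSepClosed Ω] (ξ : Spec (CommRingCat.of Ω) ⟶ X) :
    Nat.card ((EtCoh.stalk ξ).obj F) = Nat.card ↥((Scheme.pointSmallEtale ξ).sheafFiber.obj F') :=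
  (Nat.card_congr ((EtCoh.stalk ξ).mapIso e).addCommGroupIsoToAddEquiv.toEquiv).symm.trans
    (natCard_stalk F' ξ)

theorem range_geomPoint (x : X) : Set.range (geomPoint X x).base = {x} := by
  ext z
  exact ⟨fun ⟨a, ha⟩ => ha ▸ geomPoint_apply x a, fun hz => ⟨default, (geomPoint_apply x _).trans hz.symm⟩⟩

/-- The key construction: a neighbourhood of a point in its closure on which the sheaf is locally
constant, given control of the charts at the points specializing it. -/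
theorem exists_stratum {F : EtModW.Mod Zl.{u} X} (hfin : FinStalks F) (x : X) (V₁ : X.Opens) (hxV₁ : x ∈ V₁)
    (hstep : ∀ (U : X.Etale) (p : (Scheme.pointSmallEtale (geomPoint X x)).fiber.obj U)
      (φ : ↥((Scheme.pointSmallEtale (geomPoint X x)).sheafFiber.obj F) →ₗ[Zl.{u}] F.obj.obj (op U)),
      (Function.Bijective fun m => germ F U (geomPoint X x) p (φ m)) →
      ∀ (w : U.left), U.hom.base w ∈ closure {x} → U.hom.base w ∈ V₁ → fiberPt p ⤳ w →
      ∀ (Ω : Type u) [Field Ω] [IsSepClosed Ω] (η : Spec (CommRingCat.of Ω) ⟶ X)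
        (q : (Scheme.pointSmallEtale η).fiber.obj U), fiberPt q = w →
        Function.Bijective fun m => germ F U η q (φ m)) :
    ∃ (V : X.Opens) (T : Scheme.{u}) (g : T ⟶ X), IsImmersion g ∧ x ∈ V ∧
      Set.range g.base = (V : Set X) ∩ closure {x} ∧
      EtModW.IsFTLocConst Zl.{u} ((EtModW.pull Zl.{u} g).obj F) := by
  let ξ := geomPoint X x
  haveI := hfin _ ξ
  obtain ⟨U, p, φ, hU, hφ⟩ := exists_chart_at (F := F) ξ
  have hu : U.hom.base (fiberPt p) = x := (hom_fiberPt p).trans (geomPoint_apply x _)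
  obtain ⟨hU₁, A, hA, hle⟩ := hU
  haveI : IsAffine (A : Scheme.{u}) := hA
  haveI : IsAffine U.left := hU₁
  haveI : Etale U.hom := U.prop
  obtain ⟨j, hj⟩ : ∃ j : U.left ⟶ A, j ≫ A.ι = U.hom :=
    ⟨IsOpenImmersion.lift A.ι U.hom (by
      rw [Scheme.Opens.range_ι]; rintro _ ⟨w, rfl⟩; exact hle w), IsOpenImmersion.lift_fac _ _ _⟩
  haveI : Etale (j ≫ A.ι) := hj ▸ U.prop
  haveI : Etale j := Etale.of_comp j A.ι
  haveI : LocallyQuasiFinite j :=
    Groth.Agent.H54.EtaleSep.locallyQuasiFinite_of_formallyUnramified j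
  have hxA : x ∈ A := hu ▸ hle (fiberPt p)
  have hpre : U.hom.base ⁻¹' {x} = j.base ⁻¹' {⟨x, hxA⟩} := by
    ext w
    simp only [Set.mem_preimage, Set.mem_singleton_iff]
    rw [← hj, Scheme.Hom.comp_apply]
    exact ⟨fun h => Subtype.ext h, fun h => congrArg Subtype.val h⟩
  have hfinF : (U.hom.base ⁻¹' {x}).Finite := hpre ▸ j.finite_preimage_singleton _
  have hdisc : _root_.IsDiscrete (U.hom.base ⁻¹' {x}) := hpre ▸ j.isDiscrete_preimage_singleton _
  let O : U.left.Opens := ⟨(⋃ v ∈ U.hom.base ⁻¹' {x} \ {fiberPt p}, closure {v})ᶜ ∩ U.hom.base ⁻¹' (V₁ : Set X),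
    (Set.Finite.isClosed_biUnion (hfinF.subset Set.sdiff_subset) fun v _ => isClosed_closure).isOpen_compl.inter
      (V₁.2.preimage U.hom.continuous)⟩
  have hpO : fiberPt p ∈ O := by
    refine ⟨fun hmem => ?_, show U.hom.base (fiberPt p) ∈ V₁ from hu.symm ▸ hxV₁⟩
    obtain ⟨v, ⟨hv, hvp⟩, hcl⟩ := Set.mem_iUnion₂.1 hmem
    refine hvp (Set.mem_singleton_iff.2 ?_)
    haveI : DiscreteTopology (U.hom.base ⁻¹' {x}) := isDiscrete_iff_discreteTopology.1 hdisc
    have hsp : (⟨v, hv⟩ : (U.hom.base ⁻¹' {x})) ⤳ ⟨fiberPt p, hu⟩ :=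
      (subtype_specializes_iff _ _).2 (specializes_iff_mem_closure.2 hcl)
    exact congrArg Subtype.val hsp.eq
  let U' : X.Etale := Scheme.Etale.mk (O.ι ≫ U.hom)
  let r : U' ⟶ U := MorphismProperty.Over.homMk O.ι rfl
  let φ' : ↥((Scheme.pointSmallEtale ξ).sheafFiber.obj F) →ₗ[Zl.{u}] F.obj.obj (op U') :=
    (F.obj.map r.op).hom ∘ₗ φ
  have hpts : ∀ (w : U'.left), U'.hom.base w ∈ closure {x} →
      ∀ (Ω : Type u) [Field Ω] [IsSepClosed Ω] (η : Spec (CommRingCat.of Ω) ⟶ X)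
        (q : (Scheme.pointSmallEtale η).fiber.obj U'), fiberPt q = w →
        Function.Bijective fun m => germ F U' η q (φ' m) := by
    intro w hw Ω _ _ η q hq
    have hw' : U.hom.base (r.left.base w) ∈ closure {x} := by
      change U.hom.base (O.ι.base w) ∈ closure {x}
      rwa [← Scheme.Hom.comp_apply]
    obtain ⟨v, hv, hvx⟩ := exists_lift_specializes U.hom (r.left.base w) x
      (specializes_iff_mem_closure.2 hw')
    have hv' : v = fiberPt p := by
      by_contra hne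
      exact (w : ↥(O : Scheme.{u})).2.1 (Set.mem_iUnion₂.2 ⟨v, ⟨hvx, hne⟩, hv.mem_closure⟩)
    have := hstep U p φ hφ (r.left.base w) hw' (w : ↥(O : Scheme.{u})).2.2 (hv' ▸ hv) Ω η ((Scheme.pointSmallEtale η).fiber.map r q)
      ((fiberPt_map r q).trans (congrArg r.left.base hq))
    convert this using 1
    funext m
    exact germ_map F r η q (φ m)
  haveI : Etale U'.hom := U'.prop
  let V : X.Opens := ⟨Set.range U'.hom.base, U'.hom.isOpenMap.isOpen_range⟩
  have hxV : x ∈ V := ⟨⟨fiberPt p, hpO⟩, (Scheme.Hom.comp_apply _ _ _).trans hu⟩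
  obtain ⟨T, g, hg, hr⟩ := Strata.exists_immersion_range
    (V.2.isLocallyClosed.inter (isClosed_closure (s := ({x} : Set X))).isLocallyClosed)
  refine ⟨V, T, g, hg, hxV, hr, LCChart.isFTLocConst_iff.2 fun t => ?_⟩
  have ht : g.base t ∈ (V : Set X) ∩ closure {x} := hr ▸ ⟨t, rfl⟩
  obtain ⟨w, hw⟩ := ht.1
  refine ⟨(EtCoh.bc g).obj U', LCOps.exists_pt_bc g t ⟨w, hw⟩, _, inferInstance, inferInstance,
    inferInstance, (((EtSix.pullPushModAdj Zl.{u} g).unit.app F).hom.app (op U')).hom ∘ₗ φ', ?_⟩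
  intro Ω _ _ η q'
  obtain ⟨q, rfl⟩ := exists_liftPt g η q'
  refine bijective_pull g φ' q (hpts _ ?_ Ω (η ≫ g) q rfl)
  rw [hom_fiberPt, Scheme.Hom.comp_apply]
  exact (hr.le (Set.mem_range_self _)).2

/-- Injective specialization maps and finite stalks give constructibility. -/
theorem isConstructible_of_mono [IsLocallyNoetherian X] (F : EtCoh.Ab X)
    (hfin : ∀ (Ω : Type u) [Field Ω] [IsSepClosed Ω] (ξ : Spec (CommRingCat.of Ω) ⟶ X),
      Finite ((EtCoh.stalk ξ).obj F))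
    (hmono : ∀ (Ω Ω' : Type u) [Field Ω] [IsSepClosed Ω] [Field Ω'] [IsSepClosed Ω']
      (ξ : Spec (CommRingCat.of Ω) ⟶ X) (ξ' : Spec (CommRingCat.of Ω') ⟶ X)
      (φ : Scheme.pointSmallEtale ξ' ⟶ Scheme.pointSmallEtale ξ),
      Mono ((GrothendieckTopology.Point.Hom.sheafFiber (A := AddCommGrpCat.{u + 1}) φ).app F)) :
    EtPBC.IsConstructible F := by
  obtain ⟨F', ⟨e⟩⟩ := exists_lift F
  have hF := specInj_of_mono e hmono
  have hfin' := finStalks_of_ab e hfin
  rw [ClosureCriterion.isConstructible_iff]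
  intro x
  obtain ⟨V, T, g, hg, hx, hr, hl⟩ := exists_stratum hfin' x ⊤ trivial fun U p φ hφ w _ _ hw Ω _ _ η q hq =>
    bijective_of_spec hF φ q p (hq.symm ▸ hw) hφ
  exact ⟨V, T, g, hg, hx, hr, isFiniteLC_of_iso ((pullIso g).app F' ≪≫ (EtCoh.pull g).mapIso e)
    ((isFiniteLocallyConstant_iff' _).2 ⟨hl, PBCOps.finStalks_pull g hfin'⟩)⟩

/-- Near a point, inside its closure, membership in a locally constructible set is constant. -/
theorem exists_nhd_mem [IsLocallyNoetherian X] {L : Set X} (hL : IsLocallyConstructible L) {x : X}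
    (hx : x ∈ L) : ∃ V : X.Opens, x ∈ V ∧ (V : Set X) ∩ closure {x} ⊆ L := by
  obtain ⟨_, ⟨(A : X.Opens), hA, rfl⟩, hxA, -⟩ :=
    X.isBasis_affineOpens.exists_subset_of_mem_open (Set.mem_univ x) isOpen_univ
  haveI : IsAffine (A : Scheme.{u}) := hA
  haveI : SpectralSpace ↥(A : Scheme.{u}) := {}
  let B : Set ↥(A : Scheme.{u}) := A.ι.base ⁻¹' (Lᶜ ∩ closure {x})
  have hB : IsConstructible B := by
    have h1 : IsLocallyConstructible (A.ι.base ⁻¹' L) :=
      hL.preimage_of_isOpenEmbedding A.ι.isOpenEmbedding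
    haveI : IsLocallyNoetherian (A : Scheme.{u}) := inferInstance
    haveI : IsNoetherian (A : Scheme.{u}) := {}
    exact (h1.isConstructible.compl).inter
      (Lib.Spectral.Noetherian.isConstructible_of_isClosed (isClosed_closure.preimage A.ι.continuous))
  have hnot : (⟨x, hxA⟩ : (A : Scheme.{u})) ∉ closure B := by
    intro h
    obtain ⟨y, hy, hyx⟩ := Lib.Spectral.Basic.exists_specializes_of_mem_closure
      ((Lib.Spectral.Basic.isClopen_cons_of_isConstructible hB).1) h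
    have : A.ι.base y = x := ((hyx.map A.ι.continuous).antisymm (specializes_iff_mem_closure.2 hy.2)).eq
    exact hy.1 (show A.ι.base y ∈ L from this.symm ▸ hx)
  refine ⟨A.ι ''ᵁ ⟨(closure B)ᶜ, isClosed_closure.isOpen_compl⟩, ⟨⟨x, hxA⟩, hnot, rfl⟩, ?_⟩
  rintro _ ⟨⟨y, hy, rfl⟩, hcl⟩
  by_contra hn
  exact hy (subset_closure ⟨hn, hcl⟩)

/-- Constructibility in terms of stalk cardinalities. -/
theorem isConstructible_of_card [IsLocallyNoetherian X] (F : EtCoh.Ab X)
    (hfin : ∀ (Ω : Type u) [Field Ω] [IsSepClosed Ω] (ξ : Spec (CommRingCat.of Ω) ⟶ X),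
      Finite ((EtCoh.stalk ξ).obj F))
    (h : ∀ n : ℕ, IsLocallyConstructible
      {x : X | ∃ (Ω : Type u) (_ : Field Ω) (_ : IsSepClosed Ω) (ξ : Spec (CommRingCat.of Ω) ⟶ X),
        Set.range ξ = {x} ∧ Nat.card ((EtCoh.stalk ξ).obj F) = n}) :
    EtPBC.IsConstructible F := by
  obtain ⟨F', ⟨e⟩⟩ := exists_lift F
  have hfin' := finStalks_of_ab e hfin
  rw [ClosureCriterion.isConstructible_iff]
  intro x
  obtain ⟨V₁, hxV₁, hV₁⟩ := exists_nhd_mem (h (Nat.card ((EtCoh.stalk (geomPoint X x)).obj F)))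
    (show x ∈ _ from ⟨_, inferInstance, inferInstance, geomPoint X x, range_geomPoint x, rfl⟩)
  obtain ⟨V, T, g, hg, hx, hr, hl⟩ := exists_stratum hfin' x V₁ hxV₁
    fun U p φ hφ w hwx hwV hw Ω _ _ η q hq => by
      obtain ⟨Ω₁, _, _, η₁, hη₁, hn⟩ := hV₁ ⟨hwV, hwx⟩
      have hηw : η₁.base default = η.base default := by
        have h1 : η₁.base default ∈ Set.range η₁.base := ⟨default, rfl⟩
        rw [hη₁] at h1
        exact h1.trans ((congrArg U.hom.base hq.symm).trans ((hom_fiberPt q).trans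
          (congrArg η.base (Subsingleton.elim _ _))))
      haveI := hfin' _ η
      haveI := hfin' _ η₁
      refine bijective_of_injective_of_card _ (fun m m' hm => ?_) ?_
      · refine hφ.1 ?_
        simp only at hm ⊢
        rw [← sub_eq_zero, ← map_sub, ← map_sub] at hm ⊢
        exact germ_eq_zero_of_generization q p (hq.symm ▸ hw) hm
      · rw [natCard_eq_of_eq η η₁ hηw, ← natCard_ab e, ← natCard_ab e, hn]
  exact ⟨V, T, g, hg, hx, hr, isFiniteLC_of_iso ((pullIso g).app F' ≪≫ (EtCoh.pull g).mapIso e)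
    ((isFiniteLocallyConstant_iff' _).2 ⟨hl, PBCOps.finStalks_pull g hfin'⟩)⟩

end Groth.Agent.H88.EtMod.SpecLC
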