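import Groth.Agent.H88.EtMod.SpecIso
import Groth.Agent.H88.EtMod.FiniteGen
import Groth.Agent.H88.EtMod.Quotient

/-!
The locus where a constructible sheaf is locally constant, through specialization maps.
-/

set_option autoImplicit false
set_option linter.style.haveILetI false

universe u

open CategoryTheory CategoryTheory.Limits AlgebraicGeometry Opposite Topology

noncomputable section

namespace Groth.Agent.H88.EtMod.SpecNhd

open Groth.Agent.Lib.EtSite Groth.Agent.Lib.EtSite.Basic LCChart AbBridge Specialize SpecCriteria SpecLC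

variable {X Y : Scheme.{u}}

theorem subsingleton_fiber_top {Ω : Type u} [Field Ω] [IsSepClosed Ω] (η : Spec (CommRingCat.of Ω) ⟶ Y) :
    Subsingleton ((Scheme.pointSmallEtale η).fiber.obj (EtCoh.top Y)) :=
  ⟨fun a b => Over.OverMorphism.ext (((Category.comp_id _).symm.trans (fiberHom_comp a)).trans
    ((Category.comp_id _).symm.trans (fiberHom_comp b)).symm)⟩

section Global

variable (G : EtModW.Mod Zl.{u} Y) {M : Type (u + 1)} [AddCommGroup M] [Module Zl.{u} M]
  (L : M →ₗ[Zl.{u}] G.obj.obj (op (EtCoh.top Y)))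

/-- The points where the global sections are a basis of the stalk. -/
def good : Set Y :=
  {w | ∀ (Ω : Type u) [Field Ω] [IsSepClosed Ω] (η : Spec (CommRingCat.of Ω) ⟶ Y)
    (q : (Scheme.pointSmallEtale η).fiber.obj (EtCoh.top Y)), η.base default = w →
      Function.Bijective fun m => germ G (EtCoh.top Y) η q (L m)}

/-- The map from the free sheaf given by one section. -/
def secMap (t : G.obj.obj (op (EtCoh.top Y))) : Free.free Zl.{u} (EtCoh.top Y) ⟶ G := Free.ev.symm t

theorem sheafFiber_secMap_gen (t : G.obj.obj (op (EtCoh.top Y))) {Ω : Type u} [Field Ω] [IsSepClosed Ω]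
    (η : Spec (CommRingCat.of Ω) ⟶ Y) (q : (Scheme.pointSmallEtale η).fiber.obj (EtCoh.top Y)) :
    (Scheme.pointSmallEtale η).sheafFiber.map (secMap G t)
      (germ (Free.free Zl.{u} (EtCoh.top Y)) _ η q (FreeStalk.gen Zl.{u} _)) = germ G _ η q t := by
  rw [germ_naturality, ← FreeStalk.ev_eq]
  exact congrArg _ (Equiv.apply_symm_apply _ _)

theorem hom_ext_gen {Ω : Type u} [Field Ω] [IsSepClosed Ω]
    (η : Spec (CommRingCat.of Ω) ⟶ Y) (q : (Scheme.pointSmallEtale η).fiber.obj (EtCoh.top Y))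
    {N : ModuleCat.{u + 1} Zl.{u}}
    (a b : (Scheme.pointSmallEtale η).sheafFiber.obj (Free.free Zl.{u} (EtCoh.top Y)) ⟶ N)
    (h : a (germ (Free.free Zl.{u} (EtCoh.top Y)) _ η q (FreeStalk.gen Zl.{u} _)) =
      b (germ (Free.free Zl.{u} (EtCoh.top Y)) _ η q (FreeStalk.gen Zl.{u} _))) : a = b := by
  haveI := subsingleton_fiber_top η
  refine ConcreteCategory.hom_ext _ _ fun z => ?_
  obtain ⟨f, rfl⟩ := (FreeStalk.bijective_germ_gen (Λ := Zl.{u}) (EtCoh.top Y) η).2 z
  refine congrArg (fun g : _ →ₗ[Zl.{u}] N => g f) (Finsupp.lhom_ext' (φ := a.hom ∘ₗ _) (ψ := b.hom ∘ₗ _)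
    fun q' => LinearMap.ext_ring ?_)
  simp only [LinearMap.comp_apply, Finsupp.lsingle_apply, Finsupp.linearCombination_single]
  erw [one_smul]
  rw [Subsingleton.elim q' q]
  exact h

theorem mem_Nz_image_iff (t : G.obj.obj (op (EtCoh.top Y))) {Ω : Type u} [Field Ω] [IsSepClosed Ω]
    (η : Spec (CommRingCat.of Ω) ⟶ Y) (q : (Scheme.pointSmallEtale η).fiber.obj (EtCoh.top Y)) :
    η.base default ∈ Support.Nz (Limits.image (secMap G t)) ↔ germ G _ η q t ≠ 0 := by
  haveI := LCOps.hasLimits_small (Λ := Zl.{u})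
  rw [← not_iff_comm.1 (Descend.not_mem_Nz_iff _ η), not_iff_not]
  have hfac : (Scheme.pointSmallEtale η).sheafFiber.map (secMap G t) =
      (Scheme.pointSmallEtale η).sheafFiber.map (factorThruImage (secMap G t)) ≫
        (Scheme.pointSmallEtale η).sheafFiber.map (image.ι (secMap G t)) := by
    rw [← Functor.map_comp, image.fac]
  constructor
  · intro h
    rw [← sheafFiber_secMap_gen G t η q, hfac, ConcreteCategory.comp_apply, h.elim
      ((Scheme.pointSmallEtale η).sheafFiber.map (factorThruImage (secMap G t)) _) 0, map_zero]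
  · intro h
    refine subsingleton_of_forall_eq 0 fun y => LCOps.stalk_map_injective η (image.ι (secMap G t)) ?_
    obtain ⟨z, rfl⟩ := LCOps.stalk_map_surjective η (factorThruImage (secMap G t)) y
    rw [← ConcreteCategory.comp_apply, ← hfac, hom_ext_gen η q ((Scheme.pointSmallEtale η).sheafFiber.map
      (secMap G t)) 0 ((sheafFiber_secMap_gen G t η q).trans h), map_zero]
    rfl

theorem isConstructible_good [IsAffine Y] [Finite M] (hG : TorsionColimit.Cst G) :
    IsConstructible (good G L) := by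
  classical
  haveI := LCOps.hasLimits_small (Λ := Zl.{u})
  haveI : IsAffine ((EtCoh.top Y).left) := ‹IsAffine Y›
  obtain ⟨n, ⟨e⟩⟩ := Finite.exists_equiv_fin M
  let Lf : Fin n → FiniteGen.Gen G := fun k => ⟨EtCoh.top Y, ‹_›, secMap G (L (e.symm k))⟩
  let a := FiniteGen.desc Lf
  have hQ : IsConstructible (Support.Nz (cokernel a)) := by
    rw [← Support.supp_fg]
    exact (Support.isLocallyConstructible_supp ((TorsionColimit.cst_iff _).2
      (TorsionColimit.cst_cokernel a (FreeResolve.isConstructible_of_freeSum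
        (FreeResolve.freeSum_sigma (Λ := Zl.{u}) (fun k => (Lf k).V) fun k => (Lf k).isAffine)) hG))).isConstructible
  have hI : ∀ m, IsConstructible (Support.Nz (Limits.image (secMap G (L m)))) := fun m => by
    rw [← Support.supp_fg]
    refine (Support.isLocallyConstructible_supp ((TorsionColimit.cst_iff _).2
      ⟨Constructible.isConstructible_of_iso (Abelian.imageIsoImage (secMap G (L m)))
        (Constr.isConstructible_kernel hG.1 (TorsionColimit.cst_cokernel (secMap G (L m))
          (FreeResolve.isConstructible_free_of_affine (Λ := Zl.{u}) (EtCoh.top Y) inferInstance) hG).1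
          (cokernel.π _)),
      fun Ω _ _ η => haveI := hG.2 Ω η
        Finite.of_injective _ (LCOps.stalk_map_injective η (image.ι (secMap G (L m))))⟩)).isConstructible
  have hrange : ∀ {Ω : Type u} [Field Ω] [IsSepClosed Ω] (η : Spec (CommRingCat.of Ω) ⟶ Y)
      (q : (Scheme.pointSmallEtale η).fiber.obj (EtCoh.top Y)),
      η.base default ∉ Support.Nz (cokernel a) ↔ Function.Surjective fun m => germ G _ η q (L m) := by
    intro Ω _ _ η q
    rw [Descend.not_mem_Nz_iff]
    let R := LinearMap.range ((germ G (EtCoh.top Y) η q) ∘ₗ L)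
    constructor
    · intro h z
      obtain ⟨y, rfl⟩ : z ∈ Set.range ((Scheme.pointSmallEtale η).sheafFiber.map a) :=
        LCOps.stalk_exact η (S := ShortComplex.mk _ _ (cokernel.condition a))
          (ShortComplex.exact_of_g_is_cokernel _ (cokernelIsCokernel _)) z (Subsingleton.elim _ _)
      have h0 : (Scheme.pointSmallEtale η).sheafFiber.map a ≫
          @ModuleCat.ofHom Zl.{u} _ _ _ _ _ _ (Submodule.Quotient.module R) R.mkQ = 0 := by
        refine (isColimitOfPreserves (Scheme.pointSmallEtale η).sheafFiber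
          (coproductIsCoproduct fun k => Free.free Zl.{u} (Lf k).V)).hom_ext fun ⟨k⟩ => ?_
        simp only [Functor.mapCocone_ι_app, comp_zero]
        rw [← Category.assoc, ← Functor.map_comp]
        simp only [Cofan.mk_ι_app, a, FiniteGen.desc, Sigma.ι_desc]
        refine hom_ext_gen η q _ _ ((congrArg R.mkQ (sheafFiber_secMap_gen G _ η q)).trans ?_)
        exact (Submodule.Quotient.mk_eq_zero R).2 ⟨e.symm k, rfl⟩
      have := ConcreteCategory.congr_hom h0 y
      exact (Submodule.Quotient.mk_eq_zero R).1 this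
    · intro h
      refine subsingleton_of_forall_eq 0 fun y => ?_
      obtain ⟨z, rfl⟩ := LCOps.stalk_map_surjective η (cokernel.π a) y
      obtain ⟨m, rfl⟩ := h z
      have hz : germ G _ η q (L m) = (Scheme.pointSmallEtale η).sheafFiber.map a
          ((Scheme.pointSmallEtale η).sheafFiber.map (Sigma.ι (fun k => Free.free Zl.{u} (Lf k).V) (e m))
            (germ (Free.free Zl.{u} (EtCoh.top Y)) (EtCoh.top Y) η q (FreeStalk.gen Zl.{u} _))) := by
        rw [← ConcreteCategory.comp_apply, ← Functor.map_comp]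
        simp only [a, FiniteGen.desc, Sigma.ι_desc]
        change _ = (Scheme.pointSmallEtale η).sheafFiber.map (secMap G (L (e.symm (e m)))) _
        rw [Equiv.symm_apply_apply, sheafFiber_secMap_gen]
      simp only
      rw [hz]
      exact LCOps.stalk_comp_zero (ξ := η) (S := ShortComplex.mk _ _ (cokernel.condition a)) _
  have heq : good G L = (Support.Nz (cokernel a))ᶜ ∩
      ⋂ m : {m : M // m ≠ 0}, Support.Nz (Limits.image (secMap G (L m.1))) := by
    ext w
    constructor
    · intro hw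
      obtain ⟨q, -⟩ := exists_fiber (geomPoint Y w) (EtCoh.top Y) ((geomPoint Y w).base default) rfl
      have hb := hw _ (geomPoint Y w) q (geomPoint_apply w _)
      rw [← geomPoint_apply w default]
      refine ⟨(hrange _ q).2 hb.2, Set.mem_iInter.2 fun m => (mem_Nz_image_iff G _ _ q).2 fun h0 => m.2 ?_⟩
      exact hb.1 (h0.trans (by simp))
    · rintro ⟨hC, hI'⟩ Ω _ _ η q rfl
      refine ⟨fun m m' hm => ?_, (hrange η q).1 hC⟩
      by_contra hne
      refine (mem_Nz_image_iff G _ η q).1 (Set.mem_iInter.1 hI' ⟨m - m', sub_ne_zero.2 hne⟩) ?_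
      rw [map_sub, map_sub]
      exact sub_eq_zero.2 hm
  rw [heq]
  exact hQ.compl.inter (IsConstructible.iInter fun m => hI m.1)

end Global

variable {F : EtModW.Mod Zl.{u} X}

/-- Global sections of the pullback of a sheaf to an étale scheme. -/
def diagSec (U : X.Etale) : F.obj.obj (op U) →ₗ[Zl.{u}]
    ((EtModW.pull Zl.{u} U.hom).obj F).obj.obj (op (EtCoh.top U.left)) :=
  let d : EtCoh.top U.left ⟶ (EtCoh.bc U.hom).obj U :=
    MorphismProperty.Over.homMk (pullback.lift (𝟙 _) (𝟙 _) rfl) (pullback.lift_snd _ _ _)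
  (((EtModW.pull Zl.{u} U.hom).obj F).obj.map d.op).hom ∘ₗ
    (((EtSix.pullPushModAdj Zl.{u} U.hom).unit.app F).hom.app (op U)).hom

theorem exists_unitStalk_diag (U : X.Etale) {Ω : Type u} [Field Ω] [IsSepClosed Ω]
    (η : Spec (CommRingCat.of Ω) ⟶ U.left) (q : (Scheme.pointSmallEtale η).fiber.obj (EtCoh.top U.left)) :
    ∃ k : ↥((Scheme.pointSmallEtale (η ≫ U.hom)).sheafFiber.obj F) →
        ↥((Scheme.pointSmallEtale η).sheafFiber.obj ((EtModW.pull Zl.{u} U.hom).obj F)),
      Function.Bijective k ∧ ∀ s, germ ((EtModW.pull Zl.{u} U.hom).obj F) _ η q (diagSec U s) =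
        k (germ F U (η ≫ U.hom) (mkFiber (η ≫ U.hom) U η rfl) s) := by
  haveI : HasLimitsOfSize.{u, u} (ModuleCat.{u + 1} Zl.{u}) := LCOps.hasLimits_small
  let k := UnitStalk.unitStalk.{u} U.hom η (ModuleCat.{u + 1} Zl.{u}) F
  haveI : IsIso k := UnitStalk.isIso_unitStalk.{u} U.hom η (ModuleCat.{u + 1} Zl.{u}) F
  refine ⟨k, (ConcreteCategory.isIso_iff_bijective k).1 inferInstance, fun s => ?_⟩
  refine (germ_map _ _ η q _).trans (Eq.trans ?_ ((ConcreteCategory.comp_apply _ _ _).trans
    ((congrArg _ ((Scheme.pointSmallEtale (η ≫ U.hom)).toPresheafFiber_naturality_apply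
      ((EtSix.pullPushModAdj Zl.{u} U.hom).unit.app F).hom U (mkFiber (η ≫ U.hom) U η rfl) s)).trans
      (PushStalk.germTo_toPresheafFiber U.hom (rfl : η ≫ U.hom = η ≫ U.hom)
        ((EtModW.pull Zl.{u} U.hom).obj F) U _ _))).symm)
  refine congrArg (fun r => germ ((EtModW.pull Zl.{u} U.hom).obj F) ((EtCoh.bc U.hom).obj U) η r
    (((EtSix.pullPushModAdj Zl.{u} U.hom).unit.app F).hom.app (op U) s)) ?_
  apply Over.OverMorphism.ext
  apply pullback.hom_ext
  · refine (Category.assoc _ _ _).trans ((_ ≫= pullback.lift_fst _ _ _).trans ?_)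
    refine ((Category.comp_id _).trans ?_).trans (pullback.lift_fst _ _ _).symm
    exact (Category.comp_id _).symm.trans (fiberHom_comp q)
  · refine (Category.assoc _ _ _).trans ((_ ≫= pullback.lift_snd _ _ _).trans ?_)
    exact (fiberHom_comp q).trans (pullback.lift_snd _ _ _).symm

/-- If the chart at a point is bijective at all generizations, there is a chart near it. -/
theorem exists_chart_nhd (hF : EtModW.IsConstructible Zl.{u} F) (hfin : FinStalks F) {x : X}
    {Ω : Type u} [Field Ω] [IsSepClosed Ω] (ξ : Spec (CommRingCat.of Ω) ⟶ X) (hξ : ξ.base default = x)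
    (h : ∀ (U : X.Etale) (p : (Scheme.pointSmallEtale ξ).fiber.obj U)
      (φ : ↥((Scheme.pointSmallEtale ξ).sheafFiber.obj F) →ₗ[Zl.{u}] F.obj.obj (op U)),
      (Function.Bijective fun m => germ F U ξ p (φ m)) →
      ∀ (Ω' : Type u) [Field Ω'] [IsSepClosed Ω'] (η : Spec (CommRingCat.of Ω') ⟶ X)
        (q : (Scheme.pointSmallEtale η).fiber.obj U), fiberPt q ⤳ fiberPt p →
        Function.Bijective fun m => germ F U η q (φ m)) :
    ∃ (U : X.Etale) (M : Type (u + 1)) (_ : AddCommGroup M) (_ : Module Zl.{u} M)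
      (_ : Module.Finite Zl.{u} M) (φ : M →ₗ[Zl.{u}] F.obj.obj (op U)),
      x ∈ Set.range U.hom.base ∧ IsChart F U φ := by
  haveI := hfin _ ξ
  obtain ⟨U, p, φ, hU, hφ⟩ := exists_chart_at (F := F) ξ
  haveI : IsAffine U.left := hU.1
  haveI : IsAffine ((𝟭 Scheme).obj U.left) := hU.1
  haveI : SpectralSpace U.left := {}
  haveI : SpectralSpace ↥((𝟭 Scheme).obj U.left) := ‹SpectralSpace U.left›
  let G := (EtModW.pull Zl.{u} U.hom).obj F
  let L := diagSec U ∘ₗ φ
  have hiff : ∀ (Ω' : Type u) [Field Ω'] [IsSepClosed Ω'] (η : Spec (CommRingCat.of Ω') ⟶ U.left)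
      (q : (Scheme.pointSmallEtale η).fiber.obj (EtCoh.top U.left)),
      (Function.Bijective fun m => germ G _ η q (L m)) ↔
        Function.Bijective fun m => germ F U (η ≫ U.hom) (mkFiber (η ≫ U.hom) U η rfl) (φ m) := by
    intro Ω' _ _ η q
    obtain ⟨k, hk, hks⟩ := exists_unitStalk_diag (F := F) U η q
    rw [show (fun m => germ G _ η q (L m)) =
      k ∘ fun m => germ F U (η ≫ U.hom) (mkFiber (η ≫ U.hom) U η rfl) (φ m) from funext fun m => hks (φ m)]
    exact ⟨fun h => ⟨h.1.of_comp, fun z => by obtain ⟨m, hm⟩ := h.2 (k z); exact ⟨m, hk.1 hm⟩⟩,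
      fun h => hk.comp h⟩
  have hgen : ∀ w : U.left, w ⤳ fiberPt p → w ∈ good G L := by
    intro w hw Ω' _ _ η q hη
    refine (hiff Ω' η q).2 (h U p φ hφ Ω' _ _ ?_)
    show η.base default ⤳ _
    rw [show η.base default = w from hη]
    exact hw
  have hgood := isConstructible_good G L
    ⟨Constr.isConstructible_pull U.hom hF, PBCOps.finStalks_pull U.hom hfin⟩
  have hnot : fiberPt p ∉ closure (good G L)ᶜ := fun hmem => by
    obtain ⟨y, hy, hyp⟩ := Lib.Spectral.Basic.exists_specializes_of_mem_closure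
      (Lib.Spectral.Basic.isClopen_cons_of_isConstructible hgood.compl).1 hmem
    exact hy (hgen y hyp)
  haveI : Etale U.hom := U.prop
  let O : U.left.Opens := ⟨(closure (good G L)ᶜ)ᶜ, isClosed_closure.isOpen_compl⟩
  let U' : X.Etale := Scheme.Etale.mk (O.ι ≫ U.hom)
  let r : U' ⟶ U := MorphismProperty.Over.homMk O.ι rfl
  haveI : Etale U'.hom := U'.prop
  have hxV : x ∈ Set.range U'.hom.base := ⟨⟨fiberPt p, hnot⟩, (Scheme.Hom.comp_apply _ _ _).trans
    ((hom_fiberPt p).trans ((congrArg ξ.base (Subsingleton.elim _ _)).trans hξ))⟩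
  have hchart : IsChart F U' ((F.obj.map r.op).hom ∘ₗ φ) := by
    refine isChart_of_points _ fun w => ?_
    let η := geomPoint U.left (O.ι.base w)
    obtain ⟨q₀, -⟩ := exists_fiber η (EtCoh.top U.left) (η.base default) rfl
    have hwgood : O.ι.base w ∈ good G L := by
      by_contra hn
      exact (w : ↥(O : Scheme.{u})).2 (subset_closure hn)
    have hb := (hiff _ η q₀).1 (hwgood _ η q₀ (geomPoint_apply _ _))
    obtain ⟨q', hq', hq'w⟩ := Fiber.exists_fiber_map (η ≫ U.hom) r (mkFiber (η ≫ U.hom) U η rfl) w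
      (geomPoint_apply (O.ι.base w) default).symm
    refine ⟨_, inferInstance, inferInstance, η ≫ U.hom, q', hq'w, ?_⟩
    convert hb using 1
    funext m
    exact (germ_map F r _ q' (φ m)).trans (by rw [hq'])
  exact ⟨U', _, inferInstance, inferInstance, inferInstance, _, hxV, hchart⟩

/-- If the chart at a point is bijective at all generizations, the sheaf is locally constant near it. -/
theorem exists_nhd_isFTLocConst (hF : EtModW.IsConstructible Zl.{u} F) (hfin : FinStalks F) {x : X}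
    {Ω : Type u} [Field Ω] [IsSepClosed Ω] (ξ : Spec (CommRingCat.of Ω) ⟶ X) (hξ : ξ.base default = x)
    (h : ∀ (U : X.Etale) (p : (Scheme.pointSmallEtale ξ).fiber.obj U)
      (φ : ↥((Scheme.pointSmallEtale ξ).sheafFiber.obj F) →ₗ[Zl.{u}] F.obj.obj (op U)),
      (Function.Bijective fun m => germ F U ξ p (φ m)) →
      ∀ (Ω' : Type u) [Field Ω'] [IsSepClosed Ω'] (η : Spec (CommRingCat.of Ω') ⟶ X)
        (q : (Scheme.pointSmallEtale η).fiber.obj U), fiberPt q ⤳ fiberPt p →
        Function.Bijective fun m => germ F U η q (φ m)) :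
    ∃ V : X.Opens, x ∈ V ∧ EtModW.IsFTLocConst Zl.{u} ((EtModW.pull Zl.{u} V.ι).obj F) := by
  obtain ⟨U', M, _, _, _, φ', hxV, hchart⟩ := exists_chart_nhd hF hfin ξ hξ h
  haveI : Etale U'.hom := U'.prop
  let V : X.Opens := ⟨Set.range U'.hom.base, U'.hom.isOpenMap.isOpen_range⟩
  refine ⟨V, hxV, LCChart.isFTLocConst_iff.2 fun v => ?_⟩
  obtain ⟨w, hw⟩ : V.ι.base v ∈ Set.range U'.hom.base := (v : ↥(V : Scheme.{u})).2
  exact ⟨(EtCoh.bc V.ι).obj U', LCOps.exists_pt_bc V.ι v ⟨w, hw⟩, _, inferInstance, inferInstance,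
    inferInstance, _, LCOps.isChart_pull V.ι hchart⟩

/-- Local constancy on an open gives injectivity of the specialization maps to points in it. -/
theorem specInj_at {U : X.Opens} (hF : EtModW.IsFTLocConst Zl.{u} ((EtModW.pull Zl.{u} U.ι).obj F))
    {Ω Ω' : Type u} [Field Ω] [IsSepClosed Ω] [Field Ω'] [IsSepClosed Ω']
    (η : Spec (CommRingCat.of Ω) ⟶ U) (η' : Spec (CommRingCat.of Ω') ⟶ U) {V : X.Etale}
    (p : (Scheme.pointSmallEtale (η ≫ U.ι)).fiber.obj V)
    (p' : (Scheme.pointSmallEtale (η' ≫ U.ι)).fiber.obj V) (h : fiberPt p' ⤳ fiberPt p)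
    (s : F.obj.obj (op V)) (hs : germ F V (η' ≫ U.ι) p' s = 0) : germ F V (η ≫ U.ι) p s = 0 := by
  haveI : HasLimitsOfSize.{u, u} (ModuleCat.{u + 1} Zl.{u}) := LCOps.hasLimits_small
  let G := (EtModW.pull Zl.{u} U.ι).obj F
  let c := ((EtSix.pullPushModAdj Zl.{u} U.ι).unit.app F).hom.app (op V)
  have key : ∀ {Ω : Type u} [Field Ω] [IsSepClosed Ω] (η : Spec (CommRingCat.of Ω) ⟶ U)
      (p : (Scheme.pointSmallEtale (η ≫ U.ι)).fiber.obj V),
      germ F V (η ≫ U.ι) p s = 0 ↔ germ G _ η (PushStalk.liftPt U.ι rfl V p) (c s) = 0 := by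
    intro Ω _ _ η p
    let k := UnitStalk.unitStalk.{u} U.ι η (ModuleCat.{u + 1} Zl.{u}) F
    haveI : IsIso k := UnitStalk.isIso_unitStalk.{u} U.ι η (ModuleCat.{u + 1} Zl.{u}) F
    have hk : k (germ F V (η ≫ U.ι) p s) = germ G _ η (PushStalk.liftPt U.ι rfl V p) (c s) := by
      refine (ConcreteCategory.comp_apply _ _ _).trans ?_
      refine (congrArg _ ((Scheme.pointSmallEtale (η ≫ U.ι)).toPresheafFiber_naturality_apply
        ((EtSix.pullPushModAdj Zl.{u} U.ι).unit.app F).hom V p s)).trans ?_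
      exact PushStalk.germTo_toPresheafFiber U.ι (rfl : η ≫ U.ι = η ≫ U.ι) G V p (c s)
    rw [← hk]
    exact (map_eq_zero_iff k.hom ((ConcreteCategory.isIso_iff_bijective k).1 inferInstance).1).symm
  rw [key] at hs ⊢
  refine specInj_of_isFTLocConst hF _ _ η η' _ _ _ ?_ _ hs
  refine (pullback.fst V.hom U.ι).isEmbedding.isInducing.specializes_iff.1 ?_
  have e : ∀ {Ω : Type u} [Field Ω] [IsSepClosed Ω] (η : Spec (CommRingCat.of Ω) ⟶ U)
      (p : (Scheme.pointSmallEtale (η ≫ U.ι)).fiber.obj V),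
      (pullback.fst V.hom U.ι).base (fiberPt (PushStalk.liftPt U.ι (rfl : η ≫ U.ι = η ≫ U.ι) V p)) =
        fiberPt p := fun η p => (Scheme.Hom.comp_apply _ _ _).symm.trans
    (congrArg (fun k : Spec (CommRingCat.of _) ⟶ V.left => k.base default) (pullback.lift_fst _ _ _))
  rwa [e, e]

theorem near_iff {F' : EtModW.Mod Zl.{u} X} {F₀ : EtCoh.Ab X} (e : (fg X).obj F' ≅ F₀)
    (hF : EtPBC.IsConstructible F₀) (x : X) {Ω : Type u} [Field Ω] [IsSepClosed Ω]
    (ξ : Spec (CommRingCat.of Ω) ⟶ X) (hξ : Set.range ξ.base = {x}) :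
    (∃ U : X.Opens, x ∈ U ∧ EtCoh.IsFiniteLocallyConstant ((EtCoh.pull U.ι).obj F₀)) ↔
      ∀ (Ω' : Type u) [Field Ω'] [IsSepClosed Ω'] (ξ' : Spec (CommRingCat.of Ω') ⟶ X)
        (φ : Scheme.pointSmallEtale ξ' ⟶ Scheme.pointSmallEtale ξ),
        IsIso ((GrothendieckTopology.Point.Hom.sheafFiber (A := AddCommGrpCat.{u + 1}) φ).app F₀) := by
  have hx : ξ.base default = x := by
    have : ξ.base default ∈ Set.range ξ.base := ⟨default, rfl⟩
    rwa [hξ] at this
  obtain ⟨hc, hfin⟩ := (TorsionColimit.cst_iff F').1 (PBCOps.isConstructible_of_iso e.symm hF)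
  constructor
  · rintro ⟨U, hxU, hl⟩ Ω' _ _ ξ' φ
    haveI := LCOps.hasLimits_small (Λ := Zl.{u})
    have h1 : EtModW.IsFTLocConst Zl.{u} ((EtModW.pull Zl.{u} U.ι).obj F') :=
      ((isFiniteLocallyConstant_iff' _).1 (isFiniteLC_of_iso ((pullIso U.ι).app F' ≪≫
        (EtCoh.pull U.ι).mapIso e).symm hl)).1
    obtain ⟨p₀, -⟩ := exists_fiber ξ (EtCoh.top X) (ξ.base default) rfl
    have hsp : ξ'.base default ⤳ ξ.base default := by
      have := (specializes_app p₀ φ).map (EtCoh.top X).hom.continuous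
      rwa [hom_fiberPt, hom_fiberPt] at this
    have hlift : ∀ (Ω : Type u) [Field Ω] [IsSepClosed Ω] (ζ : Spec (CommRingCat.of Ω) ⟶ X),
        ζ.base default ∈ U → ∃ ζ', ζ' ≫ U.ι = ζ := fun Ω _ _ ζ hζ =>
      Groth.Agent.Lib.ActSep.Criterion.exists_lift_of_isImmersion ζ U.ι (by
        rintro _ ⟨p, rfl⟩
        rw [Subsingleton.elim p default, Scheme.Opens.range_ι]
        exact hζ)
    obtain ⟨η, rfl⟩ := hlift _ ξ (hx.symm ▸ hxU)
    obtain ⟨η', rfl⟩ := hlift _ ξ' (hsp.mem_open U.2 (hx.symm ▸ hxU))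
    refine (NatTrans.isIso_app_iff_of_iso _ e).1 ?_
    rw [ConcreteCategory.isIso_iff_bijective]
    haveI : Finite ↥((EtCoh.stalk (η' ≫ U.ι)).obj ((fg X).obj F')) :=
      (PBCExtZero.finite_stalk_iff F' _).2 (hfin _ _)
    refine bijective_of_injective_of_card _ ?_ ?_
    · refine (injective_iff_map_eq_zero ((GrothendieckTopology.Point.Hom.sheafFiber
        (A := AddCommGrpCat.{u + 1}) φ).app ((fg X).obj F')).hom).2 fun z hz => ?_
      obtain ⟨V, p, s, rfl⟩ := (Scheme.pointSmallEtale (η ≫ U.ι)).toPresheafFiber_jointly_surjective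
        (P := ((fg X).obj F').obj) z
      exact (germAb_eq_zero_iff p s).2 (specInj_at h1 η η' p _ (specializes_app p φ) s
        ((germAb_eq_zero_iff _ s).1 ((germAb_sheafFiber φ p s).symm.trans hz)))
    · refine (natCard_stalk F' _).trans (Eq.trans ?_ (natCard_stalk F' _).symm)
      rw [← Nat.card_congr ((Pull.stalkPullIso.{u} U.ι η (ModuleCat.{u + 1} Zl.{u})).app F').toLinearEquiv.toEquiv,
        ← Nat.card_congr ((Pull.stalkPullIso.{u} U.ι η' (ModuleCat.{u + 1} Zl.{u})).app F').toLinearEquiv.toEquiv]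
      refine (natCard_eq_of_isFTLocConst h1 η η' (U.ι.isEmbedding.isInducing.specializes_iff.1 ?_)).symm
      simpa only [← Scheme.Hom.comp_apply] using hsp
  · intro hiso
    obtain ⟨V, hxV, hV⟩ := exists_nhd_isFTLocConst hc hfin ξ hx fun U p φ hφ Ω' _ _ η q hqp => by
      obtain ⟨ψ, hψ⟩ := exists_hom p q hqp
      haveI := hiso Ω' η ψ
      haveI : IsIso ((GrothendieckTopology.Point.Hom.sheafFiber (A := AddCommGrpCat.{u + 1}) ψ).app
        ((fg X).obj F')) := (NatTrans.isIso_app_iff_of_iso _ e).2 inferInstance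
      haveI := hfin Ω' η
      refine bijective_of_injective_of_card _ (fun m m' hm => hφ.1 ?_) ?_
      · simp only at hm ⊢
        rw [← sub_eq_zero, ← map_sub, ← map_sub, ← germAb_eq_zero_iff] at hm ⊢
        refine ((ConcreteCategory.isIso_iff_bijective ((GrothendieckTopology.Point.Hom.sheafFiber
          (A := AddCommGrpCat.{u + 1}) ψ).app ((fg X).obj F'))).1 inferInstance).1 ?_
        refine (germAb_sheafFiber ψ p _).trans ?_
        rw [hψ, hm]
        exact (map_zero ((GrothendieckTopology.Point.Hom.sheafFiber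
          (A := AddCommGrpCat.{u + 1}) ψ).app ((fg X).obj F')).hom).symm
      · rw [← natCard_ab e, ← natCard_ab e]
        exact Nat.card_congr (asIso ((GrothendieckTopology.Point.Hom.sheafFiber
          (A := AddCommGrpCat.{u + 1}) ψ).app F₀)).addCommGroupIsoToAddEquiv.toEquiv
    exact ⟨V, hxV, isFiniteLC_of_iso ((pullIso V.ι).app F' ≪≫ (EtCoh.pull V.ι).mapIso e)
      ((isFiniteLocallyConstant_iff' _).2 ⟨hV, PBCOps.finStalks_pull V.ι hfin⟩)⟩

end Groth.Agent.H88.EtMod.SpecNhd
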