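import Groth.Agent.H88.EtMod.LCChart
import Groth.Agent.H88.EtMod.PBCExtZero
import Groth.Agent.Lib.EtSite.Fiber
import Mathlib.CategoryTheory.CofilteredSystem
import Mathlib.CategoryTheory.Filtered.Final
import Mathlib.AlgebraicGeometry.Morphisms.Flat

/-!
Specialization arrows between geometric points of the small étale site.
-/

set_option autoImplicit false
set_option linter.style.haveILetI false

universe u

open CategoryTheory CategoryTheory.Limits AlgebraicGeometry Opposite Topology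

noncomputable section

namespace Groth.Agent.H88.EtMod.Specialize

open Groth.Agent.Lib.EtSite Groth.Agent.Lib.EtSite.Basic LCChart

variable {X : Scheme.{u}}

/-- Étale morphisms lift generizations. -/
theorem exists_lift_specializes {Y : Scheme.{u}} (f : Y ⟶ X) [Etale f] (y : Y) (x : X)
    (h : x ⤳ f.base y) : ∃ y' : Y, y' ⤳ y ∧ f.base y' = x := by
  have hf : GeneralizingMap f.base := Flat.generalizingMap f
  obtain ⟨y', hy', hy''⟩ := hf h
  exact ⟨y', hy', hy''⟩

/-- An étale scheme which is affine over an affine open of the base. -/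
def IsGood (W : X.Etale) : Prop :=
  IsAffine W.left ∧ ∃ A : X.Opens, IsAffineOpen A ∧ ∀ w : W.left, W.hom.base w ∈ A

theorem exists_good (V : X.Etale) (v : V.left) :
    ∃ (W : X.Etale) (g : W ⟶ V) (w : W.left), g.left.base w = v ∧ IsGood W := by
  obtain ⟨_, ⟨(A : X.Opens), hA, rfl⟩, hvA, -⟩ :=
    X.isBasis_affineOpens.exists_subset_of_mem_open (Set.mem_univ (V.hom.base v)) isOpen_univ
  obtain ⟨_, ⟨(O : V.left.Opens), hO, rfl⟩, hv, hle⟩ :=
    V.left.isBasis_affineOpens.exists_subset_of_mem_open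
      (show v ∈ (V.hom.base ⁻¹' (A : Set X)) from hvA) (A.2.preimage V.hom.continuous)
  haveI : Etale V.hom := V.prop
  refine ⟨Scheme.Etale.mk (O.ι ≫ V.hom), MorphismProperty.Over.homMk O.ι rfl, ⟨v, hv⟩, rfl, hO, A, hA,
    fun w => ?_⟩
  change (O.ι ≫ V.hom).base w ∈ A
  rw [Scheme.Hom.comp_apply]
  exact hle w.2

theorem finite_fiber_of_good {W : X.Etale} (hW : IsGood W) {Ω : Type u} [Field Ω] [IsSepClosed Ω]
    (ξ : Spec (CommRingCat.of Ω) ⟶ X) : Finite ((Scheme.pointSmallEtale ξ).fiber.obj W) := by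
  obtain ⟨hW₁, A, hA, hle⟩ := hW
  haveI : IsAffine (A : Scheme.{u}) := hA
  haveI : IsAffine W.left := hW₁
  haveI : Etale W.hom := W.prop
  have hr : Set.range W.hom.base ⊆ Set.range A.ι.base := by
    rw [Scheme.Opens.range_ι]
    rintro _ ⟨w, rfl⟩
    exact hle w
  obtain ⟨j, hj⟩ : ∃ j : W.left ⟶ A, j ≫ A.ι = W.hom :=
    ⟨IsOpenImmersion.lift A.ι W.hom hr, IsOpenImmersion.lift_fac _ _ _⟩
  haveI : Etale (j ≫ A.ι) := hj ▸ W.prop
  haveI : Etale j := Etale.of_comp j A.ι
  by_cases hne : Nonempty ((Scheme.pointSmallEtale ξ).fiber.obj W)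
  · obtain ⟨q₀⟩ := hne
    haveI := PBCExtZero.finite_lifts j (fiberHom q₀ ≫ j)
    let F : (Scheme.pointSmallEtale ξ).fiber.obj W →
        Groth.Agent.Lib.EtJ.ExtStalk.Lifts j (fiberHom q₀ ≫ j) := fun q => ⟨fiberHom q, by
      rw [← cancel_mono A.ι, Category.assoc, Category.assoc, hj]
      exact (fiberHom_comp q).trans (fiberHom_comp q₀).symm⟩
    exact Finite.of_injective F fun q q' h => Over.OverMorphism.ext (congrArg Subtype.val h)
  · haveI := not_nonempty_iff.1 hne
    infer_instance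

variable {Ω Ω' : Type u} [Field Ω] [IsSepClosed Ω] [Field Ω'] [IsSepClosed Ω']
  {ξ : Spec (CommRingCat.of Ω) ⟶ X} {ξ' : Spec (CommRingCat.of Ω') ⟶ X} {U : X.Etale}
  (p : (Scheme.pointSmallEtale ξ).fiber.obj U) (p' : (Scheme.pointSmallEtale ξ').fiber.obj U)

/-- A neighbourhood of the geometric point over the given one. -/
abbrev Nhd := Over ((Scheme.pointSmallEtale ξ).fiber.elementsMk U p)

/-- The lifts of the generization to a neighbourhood. -/
def S (T : Nhd p) : Type u :=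
  {q : (Scheme.pointSmallEtale ξ').fiber.obj T.left.1 //
    fiberPt q ⤳ fiberPt T.left.2 ∧ (Scheme.pointSmallEtale ξ').fiber.map T.hom.1 q = p'}

/-- The functor of lifts of the generization. -/
def SF : Nhd p ⥤ Type u where
  obj T := S p p' T
  map {T T'} a := ↾fun q => ⟨(Scheme.pointSmallEtale ξ').fiber.map a.left.1 q.1, by
    constructor
    · have e : fiberPt T'.left.2 = a.left.1.left.base (fiberPt T.left.2) :=
        (congrArg fiberPt a.left.2).symm.trans (fiberPt_map _ _)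
      rw [e, fiberPt_map]
      exact q.2.1.map a.left.1.left.continuous
    · rw [← ConcreteCategory.comp_apply, ← Functor.map_comp]
      have h : a.left.1 ≫ T'.hom.1 = T.hom.1 := congrArg Subtype.val (Over.w a)
      rw [h]
      exact q.2.2⟩
  map_id T := by
    ext q
    exact Subtype.ext (by simp)
  map_comp a b := by
    ext q
    exact Subtype.ext (by simp)

theorem nonempty_S (h : fiberPt p' ⤳ fiberPt p) (T : Nhd p) : Nonempty (S p p' T) := by
  haveI : Etale T.hom.1.left := Fiber.etale_left T.hom.1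
  have hT : T.hom.1.left.base (fiberPt T.left.2) = fiberPt p :=
    (fiberPt_map _ _).symm.trans (congrArg fiberPt T.hom.2)
  obtain ⟨w', hw', hw''⟩ := exists_lift_specializes T.hom.1.left (fiberPt T.left.2) (fiberPt p')
    (hT.symm ▸ h)
  obtain ⟨q, hq, hqw⟩ := Fiber.exists_fiber_map ξ' T.hom.1 p' w' hw''
  exact ⟨⟨q, hqw.symm ▸ hw', hq⟩⟩

/-- The good neighbourhoods. -/
def good : ObjectProperty (Nhd p) := fun T => IsGood T.left.1

theorem exists_good_below (T : Nhd p) : ∃ T' : (good p).FullSubcategory, Nonempty (T'.obj ⟶ T) := by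
  obtain ⟨W, g, w, hw, hW⟩ := exists_good T.left.1 (fiberPt T.left.2)
  obtain ⟨q, hq, -⟩ := Fiber.exists_fiber_map ξ g T.left.2 w hw
  let a : (Scheme.pointSmallEtale ξ).fiber.elementsMk W q ⟶ T.left := ⟨g, hq⟩
  exact ⟨⟨Over.mk (a ≫ T.hom), hW⟩, ⟨Over.homMk a rfl⟩⟩

theorem exists_section (h : fiberPt p' ⤳ fiberPt p) :
    ∃ σ : ∀ T : (good p).FullSubcategory, S p p' T.obj,
      ∀ {T T' : (good p).FullSubcategory} (a : T.obj ⟶ T'.obj), (SF p p').map a (σ T) = σ T' := by
  haveI : IsCofiltered (Nhd p) := IsCofiltered.over _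
  haveI : IsCofilteredOrEmpty (good p).FullSubcategory :=
    IsCofilteredOrEmpty.of_exists_of_isCofiltered_of_fullyFaithful (good p).ι (exists_good_below p)
  haveI : ∀ T : (good p).FullSubcategory, Finite (((good p).ι ⋙ SF p p').obj T) := fun T => by
    haveI := finite_fiber_of_good T.property ξ'
    exact Finite.of_injective (fun q : S p p' T.obj => q.1) Subtype.val_injective
  haveI : ∀ T : (good p).FullSubcategory, Nonempty (((good p).ι ⋙ SF p p').obj T) := fun T =>
    nonempty_S p p' h T.obj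
  obtain ⟨σ, hσ⟩ := nonempty_sections_of_finite_cofiltered_system ((good p).ι ⋙ SF p p')
  exact ⟨σ, fun a => hσ (ObjectProperty.homMk a)⟩

/-- A specialization of points of étale schemes comes from an arrow between geometric points. -/
theorem exists_hom (h : fiberPt p' ⤳ fiberPt p) :
    ∃ φ : Scheme.pointSmallEtale ξ' ⟶ Scheme.pointSmallEtale ξ,
      φ.hom.app U p = p' := by
  classical
  obtain ⟨σ, hσ⟩ := exists_section p p' h
  haveI : IsCofiltered (Nhd p) := IsCofiltered.over _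
  let Φ := (Scheme.pointSmallEtale ξ).fiber
  let Φ' := (Scheme.pointSmallEtale ξ').fiber
  let e := Φ.elementsMk U p
  have hex : ∀ E : Φ.Elements, ∃ T : (good p).FullSubcategory, Nonempty (T.obj.left ⟶ E) := fun E => by
    obtain ⟨T, ⟨a⟩⟩ := exists_good_below p (Over.mk (IsCofiltered.minToLeft e E))
    exact ⟨T, ⟨a.left ≫ IsCofiltered.minToRight e E⟩⟩
  choose T a using hex
  let v : ∀ (T : (good p).FullSubcategory) {E : Φ.Elements}, (T.obj.left ⟶ E) → Φ'.obj E.1 :=
    fun T _ b => Φ'.map b.1 (σ T).1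
  have hv : ∀ (T₁ T₂ : (good p).FullSubcategory) {E : Φ.Elements} (b₁ : T₁.obj.left ⟶ E)
      (b₂ : T₂.obj.left ⟶ E), v T₁ b₁ = v T₂ b₂ := by
    intro T₁ T₂ E b₁ b₂
    let c₁ := (IsCofiltered.minToLeft T₁.obj T₂.obj).left
    let c₂ := (IsCofiltered.minToRight T₁.obj T₂.obj).left
    let r : IsCofiltered.eq (c₁ ≫ b₁) (c₂ ≫ b₂) ⟶ (IsCofiltered.min T₁.obj T₂.obj).left :=
      IsCofiltered.eqHom _ _
    have hr : r ≫ c₁ ≫ b₁ = r ≫ c₂ ≫ b₂ := IsCofiltered.eq_condition _ _
    obtain ⟨T₄, ⟨d⟩⟩ := exists_good_below p (Over.mk (r ≫ (IsCofiltered.min T₁.obj T₂.obj).hom))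
    let d' : T₄.obj ⟶ IsCofiltered.min T₁.obj T₂.obj := d ≫ Over.homMk r rfl
    have h₁ := congrArg Subtype.val (hσ (d' ≫ IsCofiltered.minToLeft T₁.obj T₂.obj))
    have h₂ := congrArg Subtype.val (hσ (d' ≫ IsCofiltered.minToRight T₁.obj T₂.obj))
    change Φ'.map b₁.1 (σ T₁).1 = Φ'.map b₂.1 (σ T₂).1
    rw [← h₁, ← h₂]
    change Φ'.map b₁.1 (Φ'.map (d' ≫ IsCofiltered.minToLeft T₁.obj T₂.obj).left.1 (σ T₄).1) =
      Φ'.map b₂.1 (Φ'.map (d' ≫ IsCofiltered.minToRight T₁.obj T₂.obj).left.1 (σ T₄).1)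
    rw [← ConcreteCategory.comp_apply, ← Functor.map_comp, ← ConcreteCategory.comp_apply,
      ← Functor.map_comp]
    exact congrArg (fun m : T₄.obj.left ⟶ E => Φ'.map m.1 (σ T₄).1) (show
      (d' ≫ IsCofiltered.minToLeft T₁.obj T₂.obj).left ≫ b₁ =
        (d' ≫ IsCofiltered.minToRight T₁.obj T₂.obj).left ≫ b₂ by
      simp only [d', Over.comp_left, Over.homMk_left, Category.assoc]
      exact congrArg (d.left ≫ ·) hr)
  refine ⟨⟨{ app := fun V => ↾fun q => v (T ⟨V, q⟩) (a ⟨V, q⟩).some, naturality := ?_ }⟩, ?_⟩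
  · intro V V' g
    ext q
    let E := Φ.elementsMk V q
    let g' : E ⟶ Φ.elementsMk V' (Φ.map g q) := ⟨g, rfl⟩
    refine (hv (T ⟨V', Φ.map g q⟩) (T E) (a _).some ((a E).some ≫ g')).trans ?_
    change Φ'.map ((a E).some.1 ≫ g) (σ (T E)).1 = Φ'.map g (Φ'.map (a E).some.1 (σ (T E)).1)
    rw [Functor.map_comp]
    rfl
  · obtain ⟨T₀, -⟩ := exists_good_below p (Over.mk (𝟙 e))
    refine (hv (T e) T₀ (a e).some T₀.obj.hom).trans ?_
    exact (σ T₀).2.2

/-- The effect of an arrow between geometric points on germs. -/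
theorem germ_sheafFiber {Λ : Type (u + 1)} [CommRing Λ] (F : EtModW.Mod Λ X)
    (φ : Scheme.pointSmallEtale ξ' ⟶ Scheme.pointSmallEtale ξ) (s : F.obj.obj (op U)) :
    (GrothendieckTopology.Point.Hom.sheafFiber (A := ModuleCat.{u + 1} Λ) φ).app F (germ F U ξ p s) =
      germ F U ξ' (φ.hom.app U p) s := by
  haveI : HasColimitsOfSize.{u, u} (ModuleCat.{u + 1} Λ) :=
    hasColimitsOfSizeShrink.{u, u, u + 1, u + 1} _
  exact ConcreteCategory.congr_hom ((Scheme.pointSmallEtale ξ).toPresheafFiber_presheafFiberDesc _ _ U p) s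

/-- An arrow between geometric points specializes points of étale schemes. -/
theorem specializes_app (φ : Scheme.pointSmallEtale ξ' ⟶ Scheme.pointSmallEtale ξ) :
    fiberPt (φ.hom.app U p) ⤳ fiberPt p := by
  refine specializes_iff_forall_open.2 fun O hO hp => ?_
  haveI : Etale U.hom := U.prop
  let O' : U.left.Opens := ⟨O, hO⟩
  let W : X.Etale := Scheme.Etale.mk (O'.ι ≫ U.hom)
  let g : W ⟶ U := MorphismProperty.Over.homMk O'.ι rfl
  obtain ⟨q, hq, -⟩ := Fiber.exists_fiber_map ξ g p ⟨fiberPt p, hp⟩ rfl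
  rw [← hq, NatTrans.naturality_apply, fiberPt_map]
  exact (fiberPt (φ.hom.app W q) : ↥(W.left)).2

end Groth.Agent.H88.EtMod.Specialize
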