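import Groth.Agent.H88.EtMod.ClosedDescend
import Groth.Agent.H75.Birat.GenFinite
import Mathlib.AlgebraicGeometry.Morphisms.FiniteType

/-!
Stratifications adapted to a family descend along surjections of finite type.
-/

set_option autoImplicit false
set_option linter.style.haveILetI false

universe u v

open CategoryTheory CategoryTheory.Limits AlgebraicGeometry Opposite Topology TopologicalSpace

noncomputable section

namespace Groth.Agent.H88.EtMod.StrataDescend

open Groth.Agent.H75.Birat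

theorem exists_isClosed_singleton_fiber {X Y : Scheme.{u}} (r : X ⟶ Y) [QuasiCompact r] (η : Y)
    (hne : (r.base ⁻¹' {η}).Nonempty) :
    ∃ x, r.base x = η ∧ IsClosed ({r.asFiber x} : Set ↑(r.fiber (r x))) := by
  haveI : Nonempty ↥(r.fiber η) := by
    obtain ⟨x, hx⟩ := hne
    obtain ⟨z, -⟩ : x ∈ Set.range (r.fiberι η) := by rw [r.range_fiberι]; exact hx
    exact ⟨z⟩
  obtain ⟨z, -, hz⟩ := (isClosed_univ (X := ↥(r.fiber η))).exists_closed_singleton Set.univ_nonempty
  have hzx : r.base (r.fiberι η z) = η := by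
    have : r.fiberι η z ∈ r.base ⁻¹' {η} := r.range_fiberι η ▸ ⟨z, rfl⟩
    exact this
  refine ⟨r.fiberι η z, hzx, ?_⟩
  generalize hx : r.fiberι η z = x at hzx
  subst hzx
  have : r.asFiber x = z := (r.fiberι (r x)).isEmbedding.injective (by rw [r.fiberι_asFiber, hx])
  rw [this]
  exact hz

variable {X' X : Scheme.{u}} [IsNoetherian X] [IsNoetherian X'] (q : X' ⟶ X) [Surjective q]
  [LocallyOfFiniteType q] {ι : Type v} (F : ι → EtCoh.Ab X) {n : ℕ} (T : Fin n → Scheme.{u})
  (g : ∀ i, T i ⟶ X') [∀ i, IsImmersion (g i)]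
  (hcov : (⋃ i, Set.range (g i).base) = Set.univ)
  (hF : ∀ k i, EtCoh.IsFiniteLocallyConstant ((EtCoh.pull (g i)).obj ((EtCoh.pull q).obj (F k))))

include hcov hF in
theorem exists_stratum (y : X) : ∃ (W : Scheme.{u}) (h : W ⟶ X), IsImmersion h ∧ y ∈ Set.range h.base ∧
    ∀ k, EtCoh.IsFiniteLocallyConstant ((EtCoh.pull h).obj (F k)) := by
  obtain ⟨Y, gY, hgY, hrY⟩ := Strata.exists_immersion_range (X := X) (isClosed_closure (s := {y})).isLocallyClosed
  haveI := hgY
  haveI : IsClosedImmersion gY := IsClosedImmersion.of_isPreimmersion gY (hrY ▸ isClosed_closure)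
  haveI : IsLocallyNoetherian Y := LocallyOfFiniteType.isLocallyNoetherian gY
  obtain ⟨η, hη⟩ : y ∈ Set.range gY.base := by rw [hrY]; exact subset_closure rfl
  have hspec : ∀ z : Y, η ⤳ z := fun z => by
    refine gY.isEmbedding.isInducing.specializes_iff.1 ?_
    rw [hη, specializes_iff_mem_closure, ← hrY]
    exact ⟨z, rfl⟩
  have hgen : IsGen η := Lib.SchTopo.Closure.maximal_of_forall_eq fun z hz => (hz.antisymm (hspec z)).eq
  haveI : QuasiCompact q := inferInstance
  let rP := pullback.snd q gY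
  obtain ⟨x, hx, hxcl⟩ := exists_isClosed_singleton_fiber rP η (by
    obtain ⟨a, ha⟩ := rP.surjective η
    exact ⟨a, ha⟩)
  obtain ⟨i, hi⟩ := Set.mem_iUnion.1
    (hcov.symm ▸ Set.mem_univ ((pullback.fst q gY).base x) : (pullback.fst q gY).base x ∈ ⋃ i, Set.range (g i).base)
  obtain ⟨S, hS, hS', hrS⟩ := Strata.exists_immersion_range (X := pullback q gY)
    (isClosed_closure (s := {x})).isLocallyClosed
  haveI := hS'
  haveI : IsClosedImmersion hS := IsClosedImmersion.of_isPreimmersion hS (hrS ▸ isClosed_closure)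
  haveI : NoetherianSpace ↥(T i) := (g i).isEmbedding.isInducing.noetherianSpace
  haveI : QuasiCompact (g i) := ⟨fun _ _ _ => NoetherianSpace.isCompact _⟩
  let b := hS ≫ pullback.fst q gY
  let r : pullback b (g i) ⟶ Y := pullback.fst b (g i) ≫ hS ≫ rP
  haveI : IsLocallyNoetherian (pullback q gY) := LocallyOfFiniteType.isLocallyNoetherian (pullback.fst q gY)
  haveI : CompactSpace ↥(pullback q gY) := QuasiCompact.compactSpace_of_compactSpace (pullback.fst q gY)
  haveI : IsNoetherian (pullback q gY) := {}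
  haveI : IsLocallyNoetherian S := LocallyOfFiniteType.isLocallyNoetherian hS
  haveI : CompactSpace ↥S := QuasiCompact.compactSpace_of_compactSpace hS
  haveI : IsNoetherian S := {}
  have hfib : (r.base ⁻¹' {η}).Finite := by
    refine Set.Subsingleton.finite fun a ha a' ha' => ?_
    have key : ∀ a, r.base a = η → (pullback.fst b (g i) ≫ hS).base a = x := fun a ha => by
      have h1 : hS.base ((pullback.fst b (g i)).base a) ∈ closure {x} := hrS ▸ ⟨_, rfl⟩
      have h2 : rP.base (hS.base ((pullback.fst b (g i)).base a)) = η := by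
        rw [← ha]; simp [r]
      rw [Scheme.Hom.comp_apply]
      exact eq_of_isClosed_asFiber_specialization rP hxcl (h2.trans hx.symm) (specializes_iff_mem_closure.2 h1)
    have h3 := (key a ha).trans (key a' ha').symm
    exact (pullback.fst b (g i) ≫ hS).isEmbedding.injective h3
  obtain ⟨_, ⟨(A : Y.Opens), hA, rfl⟩, hηA, -⟩ :=
    Y.isBasis_affineOpens.exists_subset_of_mem_open (Set.mem_univ η) isOpen_univ
  obtain ⟨O, hO, hηO, -, hfinO⟩ := exists_isFinite_restrict r hgen hfib hA hηA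
    (fun W hW _ => exists_nhd_of_quasiCompact r hgen W hW)
    (fun U U' hU hU' h h' hne => exists_sep_of_quasiSeparated r hgen hA hηA U U' hU hU' h h' hne)
  haveI := hfinO
  haveI : IsAffine (O : Scheme.{u}) := hO
  haveI : IsAffine (r ⁻¹ᵁ O : Scheme.{u}) := isAffine_of_isAffineHom (r ∣_ O)
  have hpre : ∃ a, r.base a = η := by
    obtain ⟨s, hs⟩ : x ∈ Set.range hS.base := by rw [hrS]; exact subset_closure rfl
    obtain ⟨t, ht⟩ := hi
    obtain ⟨a, ha, -⟩ := Scheme.Pullback.exists_preimage_pullback (f := b) (g := g i) s t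
      ((Scheme.Hom.comp_apply _ _ _).trans ((congrArg _ hs).trans ht.symm))
    refine ⟨a, ?_⟩
    simp only [r, Scheme.Hom.comp_apply, ha, hs]
    exact hx
  haveI : Surjective (r ∣_ O) := ⟨fun z => by
    obtain ⟨a, ha⟩ := hpre
    have hsp : (⟨η, hηO⟩ : ↥(O : Scheme.{u})) ⤳ z :=
      O.ι.isEmbedding.isInducing.specializes_iff.1 (hspec (O.ι.base z))
    have hmem : (⟨η, hηO⟩ : ↥(O : Scheme.{u})) ∈ Set.range (r ∣_ O).base :=
      ⟨⟨a, show r.base a ∈ O from ha.symm ▸ hηO⟩, Subtype.ext (by simpa [morphismRestrict_base] using ha)⟩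
    exact hsp.mem_closed (r ∣_ O).isClosedMap.isClosed_range hmem⟩
  refine ⟨O, O.ι ≫ gY, inferInstance, ⟨⟨η, hηO⟩, (Scheme.Hom.comp_apply _ _ _).trans hη⟩, fun k => ?_⟩
  refine ClosedDescend.isFiniteLC_of_pull (r ∣_ O) _ ?_
  have e : (r ∣_ O) ≫ O.ι ≫ gY = ((r ⁻¹ᵁ O).ι ≫ pullback.snd b (g i)) ≫ g i ≫ q := by
    rw [morphismRestrict_ι_assoc]
    simp only [r, Category.assoc]
    rw [← pullback.condition_assoc]
    simp only [b, rP, Category.assoc, pullback.condition]
  have h0 : EtCoh.IsFiniteLocallyConstant ((EtCoh.pull (g i ≫ q)).obj (F k)) :=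
    AbBridge.isFiniteLC_of_iso ((EtCore.pullComp (g i) q).app (F k)).symm (hF k i)
  exact AbBridge.isFiniteLC_of_iso ((EtCore.pullCongr e.symm).app (F k) ≪≫
    (EtCore.pullComp (r ∣_ O) (O.ι ≫ gY)).app (F k)) (Filtration.isFiniteLC_pull _ (g i ≫ q) h0)

include hcov hF in
theorem exists_strata : ∃ (m : ℕ) (T₀ : Fin m → Scheme.{u}) (g₀ : ∀ j, T₀ j ⟶ X),
      (∀ j, IsImmersion (g₀ j)) ∧
      Pairwise (fun j j' => Disjoint (Set.range (g₀ j).base) (Set.range (g₀ j').base)) ∧
      (⋃ j, Set.range (g₀ j).base) = Set.univ ∧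
      ∀ k j, EtCoh.IsFiniteLocallyConstant ((EtCoh.pull (g₀ j)).obj (F k)) := by
  haveI : CompactSpace ((⊤ : X.Opens) : Scheme.{u}) := isCompact_iff_compactSpace.1 isCompact_univ
  haveI : QuasiSeparatedSpace ((⊤ : X.Opens) : Scheme.{u}) :=
    (⊤ : X.Opens).ι.isOpenEmbedding.quasiSeparatedSpace
  haveI : NoetherianSpace ↥((⊤ : X.Opens) : Set X) := inferInstance
  obtain ⟨m, T₀, g₀, h1, -, h3, h4, h5⟩ := Strata.exists_partition (⊤ : X.Opens)
    (fun {_} h => ∀ k, EtCoh.IsFiniteLocallyConstant ((EtCoh.pull h).obj (F k)))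
    (fun k g _ hg j => Filtration.isFiniteLC_pull k g (hg j)) fun y => by
      obtain ⟨W, h, hh, hyW, hlc⟩ := exists_stratum q F T g hcov hF y.1
      refine ⟨Subtype.val ⁻¹' Set.range h.base, W, h, ?_, hyW, hh, Set.image_preimage_subset _ _, hlc⟩
      obtain ⟨A, B, hA, hB, hAB⟩ := h.isLocallyClosed_range
      rw [hAB, Set.preimage_inter]
      exact (((NoetherianSpace.isCompact _).isRetrocompact (hA.preimage continuous_subtype_val)).isConstructible
        (hA.preimage continuous_subtype_val)).inter (isConstructible_compl.1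
          ((((NoetherianSpace.isCompact _).isRetrocompact (hB.isOpen_compl.preimage continuous_subtype_val)).isConstructible
            (hB.isOpen_compl.preimage continuous_subtype_val))))
  exact ⟨m, T₀, g₀, h1, h3, by rwa [TopologicalSpace.Opens.coe_top] at h4, fun k j => h5 j k⟩

end Groth.Agent.H88.EtMod.StrataDescend
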