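import Groth.Agent.H88.EtMod.TensorStalk
import Groth.Agent.H88.EtMod.LTensor
import Groth.Agent.Lib.DerivedOX.StalkCx
import Groth.Agent.Lib.TensorCx.Vanish
import Mathlib.RingTheory.Flat.Basic

/-!
Stalks of tensor products of complexes of étale sheaves of modules; bounded above complexes with
flat stalks preserve quasi-isomorphisms.
-/

set_option autoImplicit false
set_option linter.style.haveILetI false

universe u

open CategoryTheory CategoryTheory.Limits MonoidalCategory AlgebraicGeometry Opposite TensorProduct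
open Groth.Agent.Lib.DerivedOX

attribute [local instance] preservesBinaryBiproducts_of_preservesBinaryCoproducts

noncomputable section

namespace Groth.Agent.H88.EtMod.TensorCxStalk

open Groth.Agent.Lib.EtSite Groth.Agent.Lib.EtSite.Basic LCChart TensorStalk

variable {Λ : Type (u + 1)} [CommRing Λ] {X : Scheme.{u}}
variable {Ω : Type u} [Field Ω] [IsSepClosed Ω] (ξ : Spec (CommRingCat.of Ω) ⟶ X)

/-- The stalk functor. -/
abbrev S : EtModW.Mod Λ X ⥤ ModuleCat.{u + 1} Λ := (Scheme.pointSmallEtale ξ).sheafFiber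

instance preservesColimitsOfSize_zero : PreservesColimitsOfSize.{0, 0} (S (Λ := Λ) ξ) :=
  haveI := LCOps.hasLimits_small (Λ := Λ)
  haveI : HasColimitsOfSize.{u, u} (ModuleCat.{u + 1} Λ) :=
    hasColimitsOfSizeShrink.{u, u, u + 1, u + 1} _
  haveI : PreservesColimitsOfSize.{u, u} (S (Λ := Λ) ξ) := inferInstance
  preservesColimitsOfSize_shrink.{0, u, 0, u} _

instance additive_S : (S (Λ := Λ) ξ).Additive :=
  haveI : PreservesBinaryBiproducts (S (Λ := Λ) ξ) :=
    preservesBinaryBiproducts_of_preservesBinaryCoproducts _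
  Functor.additive_of_preservesBinaryBiproducts _

theorem exists_common_germ {F G : EtModW.Mod Λ X} (a : ↥((S ξ).obj F)) (b : ↥((S ξ).obj G)) :
    ∃ (U : X.Etale) (p : (Scheme.pointSmallEtale ξ).fiber.obj U) (s : F.obj.obj (op U))
      (t : G.obj.obj (op U)), germ F U ξ p s = a ∧ germ G U ξ p t = b := by
  obtain ⟨V, q, s, rfl⟩ := (Scheme.pointSmallEtale ξ).toPresheafFiber_jointly_surjective a
  obtain ⟨V', q', t, rfl⟩ := (Scheme.pointSmallEtale ξ).toPresheafFiber_jointly_surjective b
  obtain ⟨W, c, c', w, hc, hc'⟩ := LocConst.exists_min q q'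
  refine ⟨W, w, F.obj.map c.op s, G.obj.map c'.op t, ?_, ?_⟩
  · rw [germ_map, hc]; rfl
  · rw [germ_map, hc']; rfl

theorem stalkHom_natural₁ {F F' : EtModW.Mod Λ X} (f : F ⟶ F') (G : EtModW.Mod Λ X) :
    ((S ξ).map f ▷ (S ξ).obj G) ≫ stalkHom ξ F' G =
      stalkHom ξ F G ≫ (S ξ).map (((EtModD.tensorBi Λ X).map f).app G) := by
  refine ModuleCat.hom_ext (TensorProduct.ext' fun a b => ?_)
  obtain ⟨U, p, s, t, rfl, rfl⟩ := exists_common_germ ξ a b
  change stalkHom ξ F' G ((S ξ).map f (germ F U ξ p s) ⊗ₜ germ G U ξ p t) =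
    (S ξ).map _ (stalkHom ξ F G (germ F U ξ p s ⊗ₜ germ G U ξ p t))
  rw [stalkHom_germ, germ_naturality, germ_naturality, stalkHom_germ, TensorCxPair.pairing_naturality₁]

theorem stalkHom_natural₂ (F : EtModW.Mod Λ X) {G G' : EtModW.Mod Λ X} (g : G ⟶ G') :
    ((S ξ).obj F ◁ (S ξ).map g) ≫ stalkHom ξ F G' =
      stalkHom ξ F G ≫ (S ξ).map (((EtModD.tensorBi Λ X).obj F).map g) := by
  refine ModuleCat.hom_ext (TensorProduct.ext' fun a b => ?_)
  obtain ⟨U, p, s, t, rfl, rfl⟩ := exists_common_germ ξ a b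
  change stalkHom ξ F G' (germ F U ξ p s ⊗ₜ (S ξ).map g (germ G U ξ p t)) =
    (S ξ).map _ (stalkHom ξ F G (germ F U ξ p s ⊗ₜ germ G U ξ p t))
  rw [stalkHom_germ, germ_naturality, germ_naturality, stalkHom_germ, TensorCxPair.pairing_naturality₂]

/-- Stalks commute with tensor products, as a comparison of bifunctors. -/
def stalkComparison :
    BifunctorMap.Comparison (EtModD.tensorBi Λ X) (curriedTensor (ModuleCat.{u + 1} Λ))
      (S ξ) (S ξ) (S ξ) where
  iso F G := @asIso _ _ _ _ (stalkHom ξ F G)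
    ((ConcreteCategory.isIso_iff_bijective _).2 (bijective_stalkHom ξ F G))
  natural₁ f G := stalkHom_natural₁ ξ f G
  natural₂ F _ _ g := stalkHom_natural₂ ξ F g

/-- The stalk of a tensor product of complexes. -/
def tensorIso (K L : CochainComplex (EtModW.Mod Λ X) ℤ) :
    HomologicalComplex.tensorObj (((S ξ).mapHomologicalComplex (.up ℤ)).obj K)
        (((S ξ).mapHomologicalComplex (.up ℤ)).obj L) ≅
      ((S ξ).mapHomologicalComplex (.up ℤ)).obj
        (((EtModD.tensorBi Λ X).map₂CochainComplex.obj K).obj L) :=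
  BifunctorMap.totalIso (stalkComparison ξ) K L

omit ξ in
theorem isZero_of_stalks (F : EtModW.Mod Λ X)
    (h : ∀ x : X, IsZero ((S (geomPoint X x)).obj F)) : IsZero F := by
  haveI := LCOps.hasLimits_small (Λ := Λ)
  rw [IsZero.iff_id_eq_zero]
  haveI : IsIso (0 : F ⟶ F) := (Stalk.isIso_iff_stalks _).2 fun x =>
    have hs : Subsingleton ↥((S (geomPoint X x)).obj F) := ModuleCat.subsingleton_of_isZero (h x)
    ⟨fun a b _ => @Subsingleton.elim _ hs a b, fun b => ⟨b, @Subsingleton.elim _ hs _ _⟩⟩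
  exact (IsIso.hom_inv_id (0 : F ⟶ F)).symm.trans zero_comp

omit ξ in
/-- Exactness is detected on stalks. -/
theorem exactAt_of_stalks (Z : CochainComplex (EtModW.Mod Λ X) ℤ) (i : ℤ)
    (h : ∀ x : X, (((S (geomPoint X x)).mapHomologicalComplex (.up ℤ)).obj Z).ExactAt i) :
    Z.ExactAt i := by
  haveI := LCOps.hasLimits_small (Λ := Λ)
  haveI : HasColimitsOfSize.{u, u} (ModuleCat.{u + 1} Λ) :=
    hasColimitsOfSizeShrink.{u, u, u + 1, u + 1} _
  rw [HomologicalComplex.exactAt_iff_isZero_homology]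
  refine isZero_of_stalks _ fun x => ?_
  exact ((h x).isZero_homology).of_iso ((Z.sc i).mapHomologyIso (S (geomPoint X x))).symm

omit ξ in
theorem exactAt_stalk (Z : CochainComplex (EtModW.Mod Λ X) ℤ) (i : ℤ) (h : Z.ExactAt i)
    {Ω : Type u} [Field Ω] [IsSepClosed Ω] (ξ : Spec (CommRingCat.of Ω) ⟶ X) :
    (((S ξ).mapHomologicalComplex (.up ℤ)).obj Z).ExactAt i := by
  haveI := LCOps.hasLimits_small (Λ := Λ)
  haveI : HasColimitsOfSize.{u, u} (ModuleCat.{u + 1} Λ) :=
    hasColimitsOfSizeShrink.{u, u, u + 1, u + 1} _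
  exact h.map (S ξ)

omit ξ in
/-- Flat stalks at all geometric points. -/
def FlatStalks (F : EtModW.Mod Λ X) : Prop :=
  ∀ (Ω : Type u) [Field Ω] [IsSepClosed Ω] (ξ : Spec (CommRingCat.of Ω) ⟶ X),
    Module.Flat Λ ↥((S ξ).obj F)

omit ξ in
theorem mono_map_of_flatStalks {F : EtModW.Mod Λ X} (hF : FlatStalks F) {A B : EtModW.Mod Λ X}
    (g : A ⟶ B) [Mono g] : Mono (((EtModD.tensorBi Λ X).obj F).map g) := by
  haveI := LCOps.hasLimits_small (Λ := Λ)
  refine Stalk.mono_of_stalks _ (Stalk.enoughPts_pt fun x => ?_)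
  haveI := hF _ (geomPoint X x)
  have h := Module.Flat.lTensor_preserves_injective_linearMap
    (M := ↥((S (geomPoint X x)).obj F)) ((S (geomPoint X x)).map g).hom
    (LCOps.stalk_map_injective (geomPoint X x) g)
  have hcomp := (bijective_stalkHom (geomPoint X x) F B).injective.comp h
  have e := congrArg (fun k => (ConcreteCategory.hom k : _ → _)) (stalkHom_natural₂ (geomPoint X x) F g)
  change Function.Injective ⇑((S (geomPoint X x)).map (((EtModD.tensorBi Λ X).obj F).map g))
  refine Function.Injective.of_comp_right ?_ (bijective_stalkHom (geomPoint X x) F A).surjective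
  change Function.Injective ⇑(stalkHom (geomPoint X x) F A ≫ _)
  rw [← stalkHom_natural₂]
  exact hcomp

omit ξ in
theorem mono_map_app_of_flatStalks {F : EtModW.Mod Λ X} (hF : FlatStalks F) {A B : EtModW.Mod Λ X}
    (g : A ⟶ B) [Mono g] : Mono (((EtModD.tensorBi Λ X).map g).app F) := by
  haveI := mono_map_of_flatStalks hF g
  let e := (Tensor.flipIso (Λ := Λ) (X := X)).app F
  change Mono (((EtModD.tensorBi Λ X).flip.obj F).map g)
  haveI : Mono (((EtModD.tensorBi Λ X).flip.obj F).map g ≫ e.hom.app B) := by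
    rw [e.hom.naturality g]
    infer_instance
  exact mono_of_mono _ (e.hom.app B)

omit ξ in
/-- Bounded above complexes with flat stalks preserve acyclicity on both sides. -/
theorem acyclic_tensor {P : CochainComplex (EtModW.Mod Λ X) ℤ} (b : ℤ)
    (hb : ∀ i, b < i → IsZero (P.X i)) (hflat : ∀ i, FlatStalks (P.X i))
    {L : CochainComplex (EtModW.Mod Λ X) ℤ} (hL : L.Acyclic) :
    (((EtModD.tensorBi Λ X).map₂CochainComplex.obj P).obj L).Acyclic ∧
      (((EtModD.tensorBi Λ X).map₂CochainComplex.obj L).obj P).Acyclic := by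
  haveI := LCOps.hasLimits_small (Λ := Λ)
  have key : ∀ x : X, HomologicalComplex.Acyclic (HomologicalComplex.tensorObj
      (((S (geomPoint X x)).mapHomologicalComplex (.up ℤ)).obj P)
      (((S (geomPoint X x)).mapHomologicalComplex (.up ℤ)).obj L)) := fun x q => by
    rw [HomologicalComplex.exactAt_iff_isZero_homology]
    exact Groth.Agent.Lib.TensorCx.Vanish.isZero_homology_of_acyclic (fun i => hflat i _ _) b
      (fun i hi => (S (geomPoint X x)).map_isZero (hb i hi)) (fun j => exactAt_stalk L j (hL j) _) q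
  refine ⟨fun i => exactAt_of_stalks _ i fun x => ?_, fun i => exactAt_of_stalks _ i fun x => ?_⟩
  · exact (key x i).of_iso (tensorIso (geomPoint X x) P L)
  · exact (key x i).of_iso (StalkCx.commCx _ _ ≪≫ tensorIso (geomPoint X x) L P)

omit ξ in
/-- `P ⊗ -` preserves quasi-isomorphisms. -/
theorem isKFlat {P : CochainComplex (EtModW.Mod Λ X) ℤ} (b : ℤ)
    (hb : ∀ i, b < i → IsZero (P.X i)) (hflat : ∀ i, FlatStalks (P.X i)) : LTensor.IsKFlat P := by
  intro A B f hf
  haveI := hf
  exact Hom.QuasiIsoMap.quasiIso_map ((EtModD.tensorBi Λ X).map₂CochainComplex.obj P)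
    (fun g hg => Bifunctor.mono_obj_map _ P g fun p q => haveI := hg q; mono_map_of_flatStalks (hflat p) _)
    (fun _ hL => (acyclic_tensor b hb hflat hL).1) f

omit ξ in
/-- `- ⊗ P` preserves quasi-isomorphisms. -/
theorem quasiIso_map_app {P : CochainComplex (EtModW.Mod Λ X) ℤ} (b : ℤ)
    (hb : ∀ i, b < i → IsZero (P.X i)) (hflat : ∀ i, FlatStalks (P.X i))
    {A B : CochainComplex (EtModW.Mod Λ X) ℤ} (f : A ⟶ B) [QuasiIso f] :
    QuasiIso (((EtModD.tensorBi Λ X).map₂CochainComplex.map f).app P) :=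
  Hom.QuasiIsoMap.quasiIso_map ((EtModD.tensorBi Λ X).map₂CochainComplex.flip.obj P)
    (fun g hg => Bifunctor.mono_map_app _ g P fun p q => haveI := hg p; mono_map_app_of_flatStalks (hflat q) _)
    (fun _ hL => (acyclic_tensor b hb hflat hL).2) f

end Groth.Agent.H88.EtMod.TensorCxStalk
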