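import Groth.Agent.H88.EtMod.Tensor
import Groth.Agent.H88.EtMod.LCOps
import Groth.Agent.H88.EtMod.Constr
import Groth.Agent.Lib.EtSite.Stalk
import Mathlib.CategoryTheory.Sites.Point.Monoidal
import Mathlib.Algebra.Category.ModuleCat.Monoidal.Closed
import Mathlib.CategoryTheory.Monoidal.Braided.Basic

/-!
Stalks of tensor products of étale sheaves of modules; tensor products of charts; inverse images.
-/

set_option autoImplicit false
set_option linter.style.haveILetI false

universe u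

open CategoryTheory CategoryTheory.Limits MonoidalCategory AlgebraicGeometry Opposite TensorProduct

noncomputable section

namespace Groth.Agent.H88.EtMod.TensorStalk

open Groth.Agent.Lib.EtSite Groth.Agent.Lib.EtSite.Basic LCChart

variable {Λ : Type (u + 1)} [CommRing Λ] {X Y : Scheme.{u}}

/-- The tensor product. -/
abbrev T (F G : EtModW.Mod Λ X) : EtModW.Mod Λ X := ((EtModD.tensorBi Λ X).obj F).obj G

/-- The product of two sections. -/
def pairing (F G : EtModW.Mod Λ X) (U : X.Etale) :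
    ↥(F.obj.obj (op U)) ⊗[Λ] ↥(G.obj.obj (op U)) →ₗ[Λ] ↥((T F G).obj.obj (op U)) :=
  ((toSheafify X.smallEtaleTopology (F.obj ⊗ G.obj)).app (op U)).hom

theorem pairing_map (F G : EtModW.Mod Λ X) {U V : X.Etale} (g : V ⟶ U) (s : F.obj.obj (op U))
    (t : G.obj.obj (op U)) :
    (T F G).obj.map g.op (pairing F G U (s ⊗ₜ t)) =
      pairing F G V (F.obj.map g.op s ⊗ₜ G.obj.map g.op t) :=
  (NatTrans.naturality_apply (toSheafify X.smallEtaleTopology (F.obj ⊗ G.obj)) g.op (s ⊗ₜ t)).symm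

instance preservesColimits_tensorLeft (M : ModuleCat.{u + 1} Λ) :
    PreservesColimitsOfSize.{u, u} (tensorLeft M) :=
  (ihom.adjunction M).leftAdjoint_preservesColimits

instance preservesFilteredColimits_tensorLeft (M : ModuleCat.{u + 1} Λ) :
    PreservesFilteredColimitsOfSize.{u, u} (tensorLeft M) := ⟨fun _ _ _ => inferInstance⟩

instance preservesFilteredColimits_tensorRight (M : ModuleCat.{u + 1} Λ) :
    PreservesFilteredColimitsOfSize.{u, u} (tensorRight M) :=
  haveI : PreservesColimitsOfSize.{u, u} (tensorRight M) :=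
    preservesColimits_of_natIso (BraidedCategory.tensorLeftIsoTensorRight M)
  ⟨fun _ _ _ => inferInstance⟩

variable {Ω : Type u} [Field Ω] [IsSepClosed Ω] (ξ : Spec (CommRingCat.of Ω) ⟶ X)

/-- The stalk of the tensor product. -/
def stalkHom (F G : EtModW.Mod Λ X) :
    (Scheme.pointSmallEtale ξ).sheafFiber.obj F ⊗ (Scheme.pointSmallEtale ξ).sheafFiber.obj G ⟶
      (Scheme.pointSmallEtale ξ).sheafFiber.obj (T F G) :=
  haveI := LCOps.hasLimits_small (Λ := Λ)
  haveI : HasColimitsOfSize.{u, u} (ModuleCat.{u + 1} Λ) :=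
    hasColimitsOfSizeShrink.{u, u, u + 1, u + 1} _
  Functor.LaxMonoidal.μ (Scheme.pointSmallEtale ξ).presheafFiber F.obj G.obj ≫
    (Scheme.pointSmallEtale ξ).presheafFiber.map (toSheafify X.smallEtaleTopology (F.obj ⊗ G.obj))

theorem bijective_stalkHom (F G : EtModW.Mod Λ X) : Function.Bijective (stalkHom ξ F G) := by
  haveI := LCOps.hasLimits_small (Λ := Λ)
  haveI : HasColimitsOfSize.{u, u} (ModuleCat.{u + 1} Λ) :=
    hasColimitsOfSizeShrink.{u, u, u + 1, u + 1} _
  have hW : IsIso ((Scheme.pointSmallEtale ξ).presheafFiber.map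
      (toSheafify X.smallEtaleTopology (F.obj ⊗ G.obj))) :=
    (Scheme.pointSmallEtale ξ).W_isInvertedBy_presheafFiber _
      (X.smallEtaleTopology.W_toSheafify _)
  haveI : IsIso (stalkHom ξ F G) := IsIso.comp_isIso' (Functor.Monoidal.μIso (Scheme.pointSmallEtale ξ).presheafFiber F.obj G.obj).isIso_hom hW
  exact (ConcreteCategory.isIso_iff_bijective _).1 inferInstance

theorem stalkHom_germ (F G : EtModW.Mod Λ X) (U : X.Etale)
    (p : (Scheme.pointSmallEtale ξ).fiber.obj U) (s : F.obj.obj (op U)) (t : G.obj.obj (op U)) :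
    stalkHom ξ F G (germ F U ξ p s ⊗ₜ germ G U ξ p t) = germ (T F G) U ξ p (pairing F G U (s ⊗ₜ t)) := by
  haveI := LCOps.hasLimits_small (Λ := Λ)
  haveI : HasColimitsOfSize.{u, u} (ModuleCat.{u + 1} Λ) :=
    hasColimitsOfSizeShrink.{u, u, u + 1, u + 1} _
  refine Eq.trans ?_ ((Scheme.pointSmallEtale ξ).toPresheafFiber_naturality_apply
    (toSheafify X.smallEtaleTopology (F.obj ⊗ G.obj)) U p (s ⊗ₜ t))
  refine congrArg (fun z => (Scheme.pointSmallEtale ξ).presheafFiber.map (toSheafify X.smallEtaleTopology (F.obj ⊗ G.obj)) z) ?_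
  exact ConcreteCategory.congr_hom
    ((Scheme.pointSmallEtale ξ).tensorHom_comp_toPresheafFiber_μ U p F.obj G.obj) (s ⊗ₜ t)

/-- Charts multiply. -/
theorem isChart_tensor {F G : EtModW.Mod Λ X} {U : X.Etale} {M N : Type (u + 1)} [AddCommGroup M]
    [Module Λ M] [AddCommGroup N] [Module Λ N] {φ : M →ₗ[Λ] F.obj.obj (op U)}
    {ψ : N →ₗ[Λ] G.obj.obj (op U)} (hφ : IsChart F U φ) (hψ : IsChart G U ψ) :
    IsChart (T F G) U (pairing F G U ∘ₗ TensorProduct.map φ ψ) := by
  intro Ω _ _ ξ p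
  let e := TensorProduct.congr (LinearEquiv.ofBijective (germ F U ξ p ∘ₗ φ) (hφ Ω ξ p))
    (LinearEquiv.ofBijective (germ G U ξ p ∘ₗ ψ) (hψ Ω ξ p))
  have : (germ (T F G) U ξ p ∘ₗ pairing F G U ∘ₗ TensorProduct.map φ ψ) =
      (stalkHom ξ F G).hom ∘ₗ e.toLinearMap :=
    TensorProduct.ext' fun m n => (stalkHom_germ ξ F G U p (φ m) (ψ n)).symm
  change Function.Bijective (germ (T F G) U ξ p ∘ₗ pairing F G U ∘ₗ TensorProduct.map φ ψ)
  rw [this]
  exact (bijective_stalkHom ξ F G).comp e.bijective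

/-- Tensor products of locally constant sheaves of finite type. -/
theorem isFTLocConst_tensor {F G : EtModW.Mod Λ X} (hF : EtModW.IsFTLocConst Λ F)
    (hG : EtModW.IsFTLocConst Λ G) : EtModW.IsFTLocConst Λ (T F G) := by
  refine isFTLocConst_iff.2 fun x => ?_
  obtain ⟨U, ⟨v, hv⟩, M, _, _, _, φ, hφ⟩ := isFTLocConst_iff.1 hF x
  obtain ⟨U', ⟨v', hv'⟩, N, _, _, _, ψ, hψ⟩ := isFTLocConst_iff.1 hG x
  let ξ := geomPoint X x
  obtain ⟨p, -⟩ := exists_fiber ξ U v (hv.trans (geomPoint_apply x default).symm)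
  obtain ⟨p', -⟩ := exists_fiber ξ U' v' (hv'.trans (geomPoint_apply x default).symm)
  obtain ⟨W, b, b', w, -, -⟩ := LocConst.exists_min p p'
  exact ⟨W, ⟨fiberPt w, (hom_fiberPt w).trans (geomPoint_apply x default)⟩, M ⊗[Λ] N, inferInstance,
    inferInstance, inferInstance, _, isChart_tensor (hφ.restrict b) (hψ.restrict b')⟩

section Pull

variable (f : X ⟶ Y) (F G : EtModW.Mod Λ Y)

/-- The unit of the pullback adjunction, on presheaves. -/
abbrev η (F : EtModW.Mod Λ Y) : F.obj ⟶ (EtCoh.bc f).op ⋙ ((EtModW.pull Λ f).obj F).obj :=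
  ((EtSix.pullPushModAdj Λ f).unit.app F).hom

/-- The product of pulled back sections. -/
def γ : F.obj ⊗ G.obj ⟶
    ((EtModW.push Λ f).obj (T ((EtModW.pull Λ f).obj F) ((EtModW.pull Λ f).obj G))).obj :=
  (η f F ⊗ₘ η f G) ≫ Functor.whiskerLeft (EtCoh.bc f).op
    (toSheafify X.smallEtaleTopology (((EtModW.pull Λ f).obj F).obj ⊗ ((EtModW.pull Λ f).obj G).obj))

/-- The comparison map. -/
def comparison : (EtModW.pull Λ f).obj (T F G) ⟶ T ((EtModW.pull Λ f).obj F) ((EtModW.pull Λ f).obj G) :=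
  ((EtSix.pullPushModAdj Λ f).homEquiv _ _).symm
    (((sheafificationAdjunction Y.smallEtaleTopology (ModuleCat.{u + 1} Λ)).homEquiv (F.obj ⊗ G.obj)
      ((EtModW.push Λ f).obj (T ((EtModW.pull Λ f).obj F) ((EtModW.pull Λ f).obj G)))).symm (γ f F G))

theorem comparison_unit (U : Y.Etale) (s : F.obj.obj (op U)) (t : G.obj.obj (op U)) :
    (comparison f F G).hom.app (op ((EtCoh.bc f).obj U))
      ((η f (T F G)).app (op U) (pairing F G U (s ⊗ₜ t))) =
    pairing _ _ ((EtCoh.bc f).obj U) ((η f F).app (op U) s ⊗ₜ (η f G).app (op U) t) := by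
  let A := sheafificationAdjunction Y.smallEtaleTopology (ModuleCat.{u + 1} Λ)
  let γ' : T F G ⟶ (EtModW.push Λ f).obj (T ((EtModW.pull Λ f).obj F) ((EtModW.pull Λ f).obj G)) :=
    (A.homEquiv (F.obj ⊗ G.obj)
    ((EtModW.push Λ f).obj (T ((EtModW.pull Λ f).obj F) ((EtModW.pull Λ f).obj G)))).symm (γ f F G)
  have h1 : (EtSix.pullPushModAdj Λ f).unit.app (T F G) ≫ (EtModW.push Λ f).map (comparison f F G) = γ' := by
    exact (Adjunction.homEquiv_unit _ _ _ (comparison f F G)).symm.trans (Equiv.apply_symm_apply _ _)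
  have h2 : toSheafify Y.smallEtaleTopology (F.obj ⊗ G.obj) ≫ γ'.hom = γ f F G :=
    (A.homEquiv_unit _ _ γ').symm.trans (Equiv.apply_symm_apply _ _)
  refine (ConcreteCategory.congr_hom (congrArg (fun k => k.hom.app (op U)) h1) _).trans ?_
  exact ConcreteCategory.congr_hom (congr_app h2 (op U)) (s ⊗ₜ[Λ] t)

theorem unitStalk_germ {Ω : Type u} [Field Ω] [IsSepClosed Ω] (ξ : Spec (CommRingCat.of Ω) ⟶ X)
    (F : EtModW.Mod Λ Y) (U : Y.Etale) (p : (Scheme.pointSmallEtale (ξ ≫ f)).fiber.obj U)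
    (s : F.obj.obj (op U)) :
    haveI := LCOps.hasLimits_small (Λ := Λ)
    UnitStalk.unitStalk.{u} f ξ (ModuleCat.{u + 1} Λ) F (germ F U (ξ ≫ f) p s) =
      germ ((EtModW.pull Λ f).obj F) _ ξ (PushStalk.liftPt f rfl U p) ((η f F).app (op U) s) := by
  haveI := LCOps.hasLimits_small (Λ := Λ)
  refine (ConcreteCategory.comp_apply _ _ _).trans ?_
  refine (congrArg _ ((Scheme.pointSmallEtale (ξ ≫ f)).toPresheafFiber_naturality_apply
    ((EtSix.pullPushModAdj Λ f).unit.app F).hom U p s)).trans ?_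
  exact PushStalk.germTo_toPresheafFiber f (rfl : ξ ≫ f = ξ ≫ f) ((EtModW.pull Λ f).obj F) U p _

theorem bijective_comparison {Ω : Type u} [Field Ω] [IsSepClosed Ω] (ξ : Spec (CommRingCat.of Ω) ⟶ X) :
    Function.Bijective ((Scheme.pointSmallEtale ξ).sheafFiber.map (comparison f F G)) := by
  haveI := LCOps.hasLimits_small (Λ := Λ)
  let η' := ξ ≫ f
  let k : ∀ E : EtModW.Mod Λ Y, ↥((Scheme.pointSmallEtale η').sheafFiber.obj E) ≃ₗ[Λ]
      ↥((Scheme.pointSmallEtale ξ).sheafFiber.obj ((EtModW.pull Λ f).obj E)) := fun E =>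
    LinearEquiv.ofBijective (UnitStalk.unitStalk.{u} f ξ (ModuleCat.{u + 1} Λ) E).hom
      ((ConcreteCategory.isIso_iff_bijective _).1
        (UnitStalk.isIso_unitStalk.{u} f ξ (ModuleCat.{u + 1} Λ) E))
  let L := ((Scheme.pointSmallEtale ξ).sheafFiber.map (comparison f F G)).hom ∘ₗ
    (k (T F G)).toLinearMap ∘ₗ (stalkHom η' F G).hom
  let R := (stalkHom ξ ((EtModW.pull Λ f).obj F) ((EtModW.pull Λ f).obj G)).hom ∘ₗ
    (TensorProduct.congr (k F) (k G)).toLinearMap
  have h : L = R := by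
    refine TensorProduct.ext' fun a b => ?_
    obtain ⟨V, q, s, rfl⟩ := (Scheme.pointSmallEtale η').toPresheafFiber_jointly_surjective a
    obtain ⟨V', q', t, rfl⟩ := (Scheme.pointSmallEtale η').toPresheafFiber_jointly_surjective b
    obtain ⟨W, c, c', w, hc, hc'⟩ := LocConst.exists_min q q'
    change L (germ F V η' q s ⊗ₜ germ G V' η' q' t) = R (germ F V η' q s ⊗ₜ germ G V' η' q' t)
    rw [← hc, ← hc', ← germ_map, ← germ_map]
    generalize F.obj.map c.op s = s₁
    generalize G.obj.map c'.op t = t₁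
    change (Scheme.pointSmallEtale ξ).sheafFiber.map (comparison f F G)
      (UnitStalk.unitStalk.{u} f ξ (ModuleCat.{u + 1} Λ) (T F G)
        (stalkHom η' F G (germ F W η' w s₁ ⊗ₜ germ G W η' w t₁))) =
      stalkHom ξ ((EtModW.pull Λ f).obj F) ((EtModW.pull Λ f).obj G)
        (UnitStalk.unitStalk.{u} f ξ (ModuleCat.{u + 1} Λ) F (germ F W η' w s₁) ⊗ₜ
          UnitStalk.unitStalk.{u} f ξ (ModuleCat.{u + 1} Λ) G (germ G W η' w t₁))
    rw [stalkHom_germ, unitStalk_germ, unitStalk_germ, unitStalk_germ, germ_naturality, comparison_unit,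
      stalkHom_germ]
  have hR : Function.Bijective R := (bijective_stalkHom ξ _ _).comp
    (TensorProduct.congr (k F) (k G)).bijective
  exact (Function.Bijective.of_comp_iff _ ((k (T F G)).bijective.comp (bijective_stalkHom η' F G))).1
    (show Function.Bijective L from h ▸ hR)

theorem isIso_comparison : IsIso (comparison f F G) := by
  haveI := LCOps.hasLimits_small (Λ := Λ)
  exact (Stalk.isIso_iff_stalks _).2 fun x => bijective_comparison f F G _

/-- Inverse images commute with tensor products. -/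
def pullTensorIso :
    (EtModW.pull Λ f).obj (T F G) ≅ T ((EtModW.pull Λ f).obj F) ((EtModW.pull Λ f).obj G) :=
  haveI := isIso_comparison f F G
  asIso (comparison f F G)

end Pull

/-- Tensor products of constructible sheaves are constructible. -/
theorem isConstructible_tensor {F G : EtModW.Mod Λ X} (hF : EtModW.IsConstructible Λ F)
    (hG : EtModW.IsConstructible Λ G) : EtModW.IsConstructible Λ (T F G) := by
  refine Constr.isConstructible_iff.2 fun U hU y => ?_
  obtain ⟨C, S, g, hC, hy, hg, hr, hl₁, hl₂⟩ := Constr.exists_common hF hG hU y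
  exact ⟨C, S, g, hC, hy, hg, hr, Constructible.isFTLocConst_of_iso (pullTensorIso g F G).symm
    (isFTLocConst_tensor hl₁ hl₂)⟩

end Groth.Agent.H88.EtMod.TensorStalk

namespace Groth.Agent.H88.EtMod.TensorCxPair

open TensorStalk

variable {Λ : Type (u + 1)} [CommRing Λ] {X : Scheme.{u}}

theorem pairing_naturality₁ {F F' : EtModW.Mod Λ X} (f : F ⟶ F') (G : EtModW.Mod Λ X) (U : X.Etale)
    (s : F.obj.obj (op U)) (t : G.obj.obj (op U)) :
    (((EtModD.tensorBi Λ X).map f).app G).hom.app (op U) (pairing F G U (s ⊗ₜ t)) =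
      pairing F' G U (f.hom.app (op U) s ⊗ₜ t) :=
  (ConcreteCategory.congr_hom
    (congr_app (toSheafify_naturality X.smallEtaleTopology (f.hom ▷ G.obj)) (op U)) (s ⊗ₜ[Λ] t)).symm

theorem pairing_naturality₂ (F : EtModW.Mod Λ X) {G G' : EtModW.Mod Λ X} (g : G ⟶ G') (U : X.Etale)
    (s : F.obj.obj (op U)) (t : G.obj.obj (op U)) :
    (((EtModD.tensorBi Λ X).obj F).map g).hom.app (op U) (pairing F G U (s ⊗ₜ t)) =
      pairing F G' U (s ⊗ₜ g.hom.app (op U) t) :=
  (ConcreteCategory.congr_hom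
    (congr_app (toSheafify_naturality X.smallEtaleTopology (F.obj ◁ g.hom)) (op U)) (s ⊗ₜ[Λ] t)).symm

end Groth.Agent.H88.EtMod.TensorCxPair
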