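import Groth.Agent.H88.EtMod.TorsionColimit
import Groth.Agent.H88.EtMod.Support
import Groth.Agent.H88.EtMod.Quotient
import Groth.Agent.Lib.SchTopo.Closure
import Mathlib.CategoryTheory.Filtered.Final

/-!
Torsion sheaves with support conditions as colimits of constructible sheaves with closed support.
-/

set_option autoImplicit false
set_option linter.style.haveILetI false

universe u

open CategoryTheory CategoryTheory.Limits AlgebraicGeometry Opposite

noncomputable section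

namespace Groth.Agent.H88.EtMod.TorsionSupp

open Groth.Agent.Lib.EtSite Groth.Agent.Lib.EtSite.Basic LCChart AbBridge TorsionColimit Support

variable {X : Scheme.{u}} [CompactSpace X] [QuasiSeparatedSpace X]

/-- A property which every map from a constructible sheaf can be factored through is cofinal. -/
theorem exists_colimit (P : EtModW.Mod Zl.{u} X → Prop)
    (hiso : ∀ {G H : EtModW.Mod Zl.{u} X}, (G ≅ H) → P G → P H) (F : EtModW.Mod Zl.{u} X)
    (hF : EtCoh.IsTorsion ((fg X).obj F))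
    (h : ∀ (G : EtModW.Mod Zl.{u} X), Cst G → ∀ a : G ⟶ F,
      ∃ (H : EtModW.Mod Zl.{u} X) (b : G ⟶ H) (c : H ⟶ F), Cst H ∧ P H ∧ b ≫ c = a) :
    ∃ (J : Type (u + 1)) (_ : SmallCategory J) (_ : IsFiltered J) (D : J ⥤ EtCoh.Ab X)
      (c : Cocone D) (_ : IsColimit c), Nonempty (c.pt ≅ (fg X).obj F) ∧
      ∀ j, EtPBC.IsConstructible (D.obj j) ∧ ∃ G, P G ∧ D.obj j = (fg X).obj G := by
  let Q : ObjectProperty (Idx F) := fun i => P i.left.val
  have hQ : ∀ i : Idx F, ∃ j : Q.FullSubcategory, Nonempty (i ⟶ Q.ι.obj j) := by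
    intro i
    obtain ⟨H, b, c, hH, hP, hbc⟩ := h i.left.val i.left.2 i.hom
    obtain ⟨j, e, hj⟩ := exists_idx F hH c
    refine ⟨⟨j, hiso e.symm hP⟩, ⟨CostructuredArrow.homMk (InducedCategory.homMk (b ≫ e.inv)) ?_⟩⟩
    change (b ≫ e.inv) ≫ j.hom = i.hom
    rw [hj, Category.assoc, e.inv_hom_id_assoc, hbc]
  haveI : IsFiltered Q.FullSubcategory := IsFiltered.of_exists_of_isFiltered_of_fullyFaithful Q.ι hQ
  haveI : Q.ι.Final := Functor.final_of_exists_of_isFiltered_of_fullyFaithful Q.ι hQ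
  obtain ⟨hc⟩ := nonempty_isColimit F hF
  exact ⟨Q.FullSubcategory, inferInstance, inferInstance, Q.ι ⋙ (diag F ⋙ fg X),
    ((fg X).mapCocone (cocone F)).whisker Q.ι,
    (Functor.Final.isColimitWhiskerEquiv Q.ι _).symm (isColimitOfPreserves _ hc), ⟨Iso.refl _⟩,
    fun j => ⟨(cst_iff _).2 j.obj.left.2, _, j.property, rfl⟩⟩

omit [CompactSpace X] [QuasiSeparatedSpace X] in
theorem Nz_subset_of_iso {G H : EtModW.Mod Zl.{u} X} (e : G ≅ H) : Nz H ⊆ Nz G := by
  rw [← supp_fg, ← supp_fg]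
  rintro x ⟨Ω, _, _, ξ, hξ, hn⟩
  exact ⟨Ω, inferInstance, inferInstance, ξ, hξ, fun hz => hn (hz.of_iso ((EtCoh.stalk ξ).mapIso ((fg X).mapIso e)).symm)⟩

omit [CompactSpace X] [QuasiSeparatedSpace X] in
theorem Nz_image {G F : EtModW.Mod Zl.{u} X} (a : G ⟶ F) : Nz (Limits.image a) ⊆ Nz F := by
  haveI := LCOps.hasLimits_small (Λ := Zl.{u})
  rintro x ⟨Ω, _, _, ξ, hξ, hn⟩
  exact ⟨Ω, inferInstance, inferInstance, ξ, hξ,
    (LCOps.stalk_map_injective ξ (image.ι a)).nontrivial⟩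

/-- Noetherian case: images are constructible. -/
theorem exists_of_noetherian [IsNoetherian X] (E : Set X) (hE : StableUnderSpecialization E)
    (F : EtModW.Mod Zl.{u} X) (hsupp : Nz F ⊆ E) (G : EtModW.Mod Zl.{u} X) (hG : Cst G) (a : G ⟶ F) :
    ∃ (H : EtModW.Mod Zl.{u} X) (b : G ⟶ H) (c : H ⟶ F), Cst H ∧
      (∃ Z : Set X, IsClosed Z ∧ Z ⊆ E ∧ Nz H ⊆ Z) ∧ b ≫ c = a := by
  haveI : IsLocallyNoetherian X := inferInstance
  haveI : TopologicalSpace.NoetherianSpace ↥X := inferInstance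
  haveI : Epi (factorThruImage a) := inferInstance
  have hI : Cst (Limits.image a) := ⟨Quotient.isConstructible_of_epi (factorThruImage a) hG.1,
    fun Ω _ _ ξ => haveI := hG.2 Ω ξ
      Finite.of_surjective _ (LCOps.stalk_map_surjective ξ (factorThruImage a))⟩
  refine ⟨_, factorThruImage a, image.ι a, hI,
    ⟨closure (Nz (Limits.image a)), isClosed_closure, fun x hx => ?_, subset_closure⟩, image.fac a⟩
  have hc : Topology.IsConstructible (Nz (Limits.image a)) := by
    rw [← supp_fg]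
    exact (isLocallyConstructible_supp ((cst_iff _).2 hI)).isConstructible
  haveI : SpectralSpace ↥X := {}
  obtain ⟨e, he, hex⟩ := Lib.Spectral.Basic.exists_specializes_of_mem_closure
    (Lib.Spectral.Basic.isConstructible_iff_isClopen_cons.1 hc).1 hx
  exact hE hex (hsupp (Nz_image a he))

omit [CompactSpace X] in
/-- A section vanishing at a point with no points above it in the support vanishes nearby. -/
theorem exists_open_vanish (η : X) (hη : ∀ y : X, y ⤳ η → y = η) {F : EtModW.Mod Zl.{u} X} (hF : η ∉ Nz F)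
    (W : X.Etale) [IsAffine W.left] (t : F.obj.obj (op W)) :
    ∃ O : X.Opens, η ∈ O ∧ ∀ (W' : X.Etale) (g : W' ⟶ W), (∀ w, W'.hom.base w ∈ O) →
      F.obj.map g.op t = 0 := by
  let Zs : Set W.left := ⋃ (V : X.Etale) (g : V ⟶ W) (_ : F.obj.map g.op t = 0), Set.range g.left.base
  have hopen : IsOpen Zs := isOpen_iUnion fun V => isOpen_iUnion fun g => isOpen_iUnion fun _ => by
    haveI : Etale g.left := Fiber.etale_left g
    exact g.left.isOpenMap.isOpen_range
  have hmem : ∀ w, W.hom.base w = η → w ∈ Zs := by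
    intro w hw
    let ξ := geomPoint X η
    haveI : Subsingleton ↥((Scheme.pointSmallEtale ξ).sheafFiber.obj F) := by
      rw [← not_nontrivial_iff_subsingleton]
      intro hn
      refine hF ⟨_, inferInstance, inferInstance, ξ, ?_, hn⟩
      ext y
      exact ⟨fun ⟨z, hz⟩ => hz ▸ geomPoint_apply η z, fun hy => ⟨default, (geomPoint_apply η default).trans hy.symm⟩⟩
    obtain ⟨p, rfl⟩ := exists_fiber ξ W w (hw.trans (geomPoint_apply η default).symm)
    obtain ⟨V, g, q, hq, hV⟩ := ((Scheme.pointSmallEtale ξ).toPresheafFiber_eq_iff' (P := F.obj) W p t 0).1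
      (Subsingleton.elim (α := ↥((Scheme.pointSmallEtale ξ).sheafFiber.obj F)) _ _)
    refine Set.mem_iUnion.2 ⟨V, Set.mem_iUnion.2 ⟨g, Set.mem_iUnion.2 ⟨hV.trans (map_zero _), fiberPt q, ?_⟩⟩⟩
    rw [← fiberPt_map g q, hq]
  obtain ⟨T', g', hg', hr'⟩ := Strata.exists_immersion_range (X := W.left) hopen.isClosed_compl.isLocallyClosed
  haveI := hg'
  haveI : CompactSpace T' := by
    rw [← isCompact_univ_iff, g'.isEmbedding.isCompact_iff, Set.image_univ, hr']
    exact hopen.isClosed_compl.isCompact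
  let hom : W.left ⟶ X := W.hom
  haveI : QuasiCompact (g' ≫ hom) := quasiCompact_of_compactSpace _
  have hη' : η ∈ (closure (Set.range (g' ≫ hom).base))ᶜ := fun hcl => by
    obtain ⟨x, hx⟩ := Lib.SchTopo.Closure.exists_specializes_of_mem_closure_range (g' ≫ hom) hcl
    have hxZ : g'.base x ∈ Zsᶜ := hr' ▸ ⟨x, rfl⟩
    exact hxZ (hmem _ (hη _ hx))
  refine ⟨⟨_, isClosed_closure.isOpen_compl⟩, hη', fun W' g hW' => ?_⟩
  refine Stalk.sections_ext_of_germ F (U := W') _ _ (Stalk.enoughPts_pt fun x p => ?_)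
  have hw : g.left.base (fiberPt p) ∈ Zs := by
    by_contra hn
    obtain ⟨a, ha⟩ : g.left.base (fiberPt p) ∈ Set.range g'.base := hr'.symm ▸ hn
    refine hW' (fiberPt p) (subset_closure ⟨a, ?_⟩)
    rw [Scheme.Hom.comp_apply, ha, ← MorphismProperty.Over.w g]
    rfl
  simp only [Zs, Set.mem_iUnion] at hw
  obtain ⟨V, k, hk, v, hv⟩ := hw
  obtain ⟨r, hr, -⟩ := Fiber.exists_fiber_map (geomPoint X x) k
    ((Scheme.pointSmallEtale (geomPoint X x)).fiber.map g p) v (hv.trans (fiberPt_map g p).symm)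
  change germ F W' (geomPoint X x) p (F.obj.map g.op t) = germ F W' (geomPoint X x) p 0
  rw [germ_map, ← hr, ← germ_map, hk, map_zero, map_zero]

/-- Irreducible case: a constructible sheaf mapping to `F` may be killed near the generic point. -/
theorem exists_of_generic (η : X) (hη : ∀ y : X, y ⤳ η → y = η) (F : EtModW.Mod Zl.{u} X) (hF : η ∉ Nz F)
    (G : EtModW.Mod Zl.{u} X) (hG : Cst G) (a : G ⟶ F) :
    ∃ (H : EtModW.Mod Zl.{u} X) (b : G ⟶ H) (c : H ⟶ F), Cst H ∧
      (∃ Z : Set X, IsClosed Z ∧ η ∉ Z ∧ Nz H ⊆ Z) ∧ b ≫ c = a := by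
  classical
  haveI := LCOps.hasLimits_small (Λ := Zl.{u})
  obtain ⟨m, L, hL⟩ := FiniteGen.exists_gen hG.1
  choose O hηO hO using fun k => haveI := (L k).isAffine
    exists_open_vanish η hη hF (L k).V (Free.ev ((L k).θ ≫ a))
  obtain ⟨_, ⟨(U : X.Opens), hU, rfl⟩, hηU, hUO⟩ :=
    X.isBasis_affineOpens.exists_subset_of_mem_open (show η ∈ ⋂ k, (O k : Set X) from Set.mem_iInter.2 hηO)
      (isOpen_iInter_of_finite fun k => (O k).2)
  let hom : ∀ k, (L k).V.left ⟶ X := fun k => (L k).V.hom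
  let WO : Fin m → X.Etale := fun k => Quotient.openSub (L k).V (hom k ⁻¹ᵁ U)
  let g : ∀ k, WO k ⟶ (L k).V := fun k => Quotient.openSubHom (L k).V (hom k ⁻¹ᵁ U)
  haveI hcWO : ∀ k, CompactSpace (WO k).left := fun k => by
    haveI := (L k).isAffine
    haveI : QuasiCompact (hom k) := quasiCompact_of_compactSpace _
    exact isCompact_iff_compactSpace.1 ((hom k).isCompact_preimage hU.isCompact)
  haveI hqWO : ∀ k, QuasiSeparatedSpace (WO k).left := fun k => by
    haveI := (L k).isAffine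
    exact (hom k ⁻¹ᵁ U).ι.isOpenEmbedding.quasiSeparatedSpace
  have hmemU : ∀ k w, (WO k).hom.base w ∈ U := fun k w => w.2
  let u : (∐ fun k => Free.free Zl.{u} (WO k)) ⟶ G := Sigma.desc fun k => Free.freeMap (g k) ≫ (L k).θ
  have hu : u ≫ a = 0 := Sigma.hom_ext _ _ fun k => by
    rw [comp_zero, colimit.ι_desc_assoc]
    apply Free.ev.injective
    refine ((congrArg Free.ev (Category.assoc _ _ _)).trans (Free.ev_freeMap (g k) _)).trans
      ((hO k (WO k) (g k) fun w => Set.mem_iInter.1 (hUO (hmemU k w)) k).trans Free.ev_zero.symm)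
  have hA : EtModW.IsConstructible Zl.{u} (∐ fun k => Free.free Zl.{u} (WO k)) :=
    FreeConstr.isConstructible_sigma _ fun k => by
      haveI : QuasiSeparatedSpace ↥((Functor.fromPUnit X).obj (WO k).right) := ‹QuasiSeparatedSpace X›
      haveI : CompactSpace ↥((𝟭 Scheme).obj (WO k).left) := hcWO k
      haveI : QuasiSeparatedSpace ↥((𝟭 Scheme).obj (WO k).left) := hqWO k
      haveI : QuasiCompact (WO k).hom := quasiCompact_of_compactSpace _
      haveI : QuasiSeparated (WO k).hom := QuasiSeparated.of_quasiSeparatedSpace _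
      exact FreeConstr.isConstructible_free (WO k)
  refine ⟨cokernel u, cokernel.π u, cokernel.desc u a hu, cst_cokernel u hA hG,
    ⟨(U : Set X)ᶜ, U.2.isClosed_compl, fun h => h hηU, ?_⟩, cokernel.π_desc _ _ _⟩
  rintro x ⟨Ω, _, _, ξ, hξ, hn⟩ hxU
  have hx : ξ.base default = x := by
    have : ξ.base default ∈ Set.range ξ.base := ⟨default, rfl⟩
    rwa [hξ] at this
  let Φ := Scheme.pointSmallEtale ξ
  have hz : Φ.sheafFiber.map (FiniteGen.desc L ≫ cokernel.π u) = 0 := by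
    refine (isColimitOfPreserves Φ.sheafFiber
      (coproductIsCoproduct fun k => Free.free Zl.{u} (L k).V)).hom_ext fun ⟨k⟩ => ?_
    change Φ.sheafFiber.map (Sigma.ι (fun k => Free.free Zl.{u} (L k).V) k) ≫ _ = _ ≫ 0
    rw [comp_zero, ← Functor.map_comp, FiniteGen.desc, Sigma.ι_desc_assoc]
    refine ModuleCat.hom_ext (LinearMap.ext fun z => ?_)
    obtain ⟨c, rfl⟩ := (FreeStalk.bijective_germ_gen (L k).V ξ).2 z
    let b := fun q : Φ.fiber.obj (L k).V =>
      germ (Free.free Zl.{u} (L k).V) (L k).V ξ q (FreeStalk.gen Zl.{u} (L k).V)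
    suffices hb : ∀ q, (Φ.sheafFiber.map ((L k).θ ≫ cokernel.π u)).hom (b q) = 0 by
      have hle : LinearMap.range (Finsupp.linearCombination Zl.{u} b) ≤
          LinearMap.ker (Φ.sheafFiber.map ((L k).θ ≫ cokernel.π u)).hom := by
        rw [Finsupp.range_linearCombination, Submodule.span_le]
        rintro _ ⟨q, rfl⟩
        exact hb q
      exact hle ⟨c, rfl⟩
    intro q
    refine (germ_naturality _ (L k).V ξ q _).trans ?_
    have hq : fiberPt q ∈ hom k ⁻¹ᵁ U := by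
      change (L k).V.hom.base (fiberPt q) ∈ U
      rw [hom_fiberPt, hx]
      exact hxU
    obtain ⟨r, hr, -⟩ := Fiber.exists_fiber_map ξ (g k) q (⟨fiberPt q, hq⟩ : (WO k).left) rfl
    rw [← hr, ← germ_map, ← FreeStalk.ev_eq, ← Free.ev_freeMap]
    have : Free.freeMap (g k) ≫ (L k).θ ≫ cokernel.π u =
        Sigma.ι (fun k => Free.free Zl.{u} (WO k)) k ≫ u ≫ cokernel.π u :=
      ((Category.assoc _ _ _).symm.trans ((congrArg (· ≫ cokernel.π u)
        (Sigma.ι_desc (fun k => Free.freeMap (Λ := Zl.{u}) (g k) ≫ (L k).θ) k)).trans (Category.assoc _ _ _))).symm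
    rw [this, cokernel.condition, comp_zero, Free.ev_zero, map_zero]
  haveI := hL
  have hs := LCOps.stalk_map_surjective ξ (FiniteGen.desc L ≫ cokernel.π u)
  haveI : Subsingleton ↥(Φ.sheafFiber.obj (cokernel u)) := ⟨fun y y' => by
    obtain ⟨z, rfl⟩ := hs y
    obtain ⟨z', rfl⟩ := hs y'
    exact (congrArg (fun f => f.hom z) hz).trans (congrArg (fun f => f.hom z') hz).symm⟩
  exact not_nontrivial _ hn

theorem exists_colimit_supp (F : EtCoh.Ab X) (hF : EtCoh.IsTorsion F) (R : Set X → Prop)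
    (h : ∀ F' : EtModW.Mod Zl.{u} X, Nz F' = EtPBC.supp F → ∀ (G : EtModW.Mod Zl.{u} X), Cst G →
      ∀ a : G ⟶ F', ∃ (H : EtModW.Mod Zl.{u} X) (b : G ⟶ H) (c : H ⟶ F'), Cst H ∧
        (∃ Z : Set X, IsClosed Z ∧ R Z ∧ Nz H ⊆ Z) ∧ b ≫ c = a) :
    ∃ (J : Type (u + 1)) (_ : SmallCategory J) (_ : IsFiltered J) (D : J ⥤ EtCoh.Ab X)
      (c : Cocone D) (_ : IsColimit c), Nonempty (c.pt ≅ F) ∧
      ∀ j, EtPBC.IsConstructible (D.obj j) ∧ ∃ Z : Set X, IsClosed Z ∧ R Z ∧ EtPBC.supp (D.obj j) ⊆ Z := by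
  obtain ⟨F', ⟨e⟩⟩ := exists_lift F
  have hF' : EtCoh.IsTorsion ((fg X).obj F') := fun U s x => by
    obtain ⟨V, g, hv, hg⟩ := hF U (e.hom.hom.app (op U) s) x
    refine ⟨V, g, hv, ?_⟩
    have := (e.inv.hom.app (op V)).hom.isOfFinAddOrder hg
    rwa [← NatTrans.naturality_apply e.hom.hom g.op s, ← ConcreteCategory.comp_apply, ← NatTrans.comp_app,
      ← ObjectProperty.FullSubcategory.comp_hom, e.hom_inv_id] at this
  have hsupp : Nz F' = EtPBC.supp F := by
    rw [← supp_fg]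
    ext x
    exact exists_congr fun Ω => exists_congr fun i₁ => exists_congr fun i₂ => exists_congr fun ξ =>
      and_congr_right fun _ => not_congr (((EtCoh.stalk ξ).mapIso e).isZero_iff)
  obtain ⟨J, _, _, D, c, hc, ⟨e'⟩, hD⟩ := exists_colimit (fun H => ∃ Z, IsClosed Z ∧ R Z ∧ Nz H ⊆ Z)
    (fun ε ⟨Z, hZ, hR, hs⟩ => ⟨Z, hZ, hR, (Nz_subset_of_iso ε).trans hs⟩) F' hF' (h F' hsupp)
  refine ⟨J, inferInstance, inferInstance, D, c, hc, ⟨e' ≪≫ e⟩, fun j => ?_⟩
  obtain ⟨h₁, G, ⟨Z, hZ, hR, hs⟩, hG⟩ := hD j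
  exact ⟨h₁, Z, hZ, hR, by rw [hG, supp_fg]; exact hs⟩

end Groth.Agent.H88.EtMod.TorsionSupp
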